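import Mathlib
import Groth.Agent.Lib.Helper16.QCohPullback2
import Groth.Agent.Lib.Helper16.QCohEpi

/-!
# The unit of the pullback-pushforward adjunction on affine opens is a base change (helper8)

For `g : Y ⟶ X`, `A` a quasi-coherent `O_X`-module, `U ⊆ X` and `V ⊆ g⁻¹ U` affine opens, the map
`ρ : Γ(A, U) → Γ(g^* A, V)`, `a ↦ (unit a)|_V` exhibits `Γ(g^* A, V)` as the base change of
`Γ(A, U)` along `Γ(X, U) → Γ(Y, V)`.
-/

set_option autoImplicit false
universe u
open CategoryTheory AlgebraicGeometry TopologicalSpace Opposite TensorProduct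

namespace Groth.Agent.Lib.helper8.PullbackUnit

section Abstract

variable {C D : Type*} [Category C] [Category D] {L : C ⥤ D} {Γ' : D ⥤ C} (adj : L ⊣ Γ')

/-- For an adjunction with invertible unit, the right adjoint is fully faithful on the objects
where the counit is invertible. -/
theorem map_bijective_of_isIso_counit [IsIso adj.unit] (G Q : D) [IsIso (adj.counit.app G)]
    [IsIso (adj.counit.app Q)] : Function.Bijective (fun h : G ⟶ Q => Γ'.map h) := by
  constructor
  · intro h₁ h₂ hh
    have hh' : Γ'.map h₁ = Γ'.map h₂ := hh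
    have n₁ := adj.counit.naturality h₁
    have n₂ := adj.counit.naturality h₂
    simp only [Functor.comp_map, Functor.id_map] at n₁ n₂
    rw [hh'] at n₁
    exact (cancel_epi (adj.counit.app G)).mp (n₁.symm.trans n₂)
  · intro k
    refine ⟨inv (adj.counit.app G) ≫ L.map k ≫ adj.counit.app Q, ?_⟩
    have t₁ : Γ'.map (adj.counit.app Q) = inv (adj.unit.app (Γ'.obj Q)) :=
      IsIso.eq_inv_of_hom_inv_id (adj.right_triangle_components Q)
    have t₂ : Γ'.map (inv (adj.counit.app G)) = adj.unit.app (Γ'.obj G) := by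
      rw [Functor.map_inv]
      exact IsIso.inv_eq_of_inv_hom_id (adj.right_triangle_components G)
    have n := adj.unit.naturality k
    simp only [Functor.comp_map, Functor.id_map] at n
    show Γ'.map (inv (adj.counit.app G) ≫ L.map k ≫ adj.counit.app Q) = k
    rw [Functor.map_comp, Functor.map_comp, t₁, t₂, ← Category.assoc, ← n, Category.assoc,
      IsIso.hom_inv_id, Category.comp_id]

end Abstract

section Smul
open Scheme.Modules

theorem smul_pushforward_spec {R R' : CommRingCat.{u}} (φ : R ⟶ R') (Q : (Spec R').Modules) (r : R)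
    (x : Γ(Q, ⊤)) :
    (r • (show ↑(moduleSpecΓFunctor.obj ((pushforward (Spec.map φ)).obj Q)) from x) : Γ(Q, ⊤)) =
      (φ.hom r • (show ↑(moduleSpecΓFunctor.obj Q) from x) : Γ(Q, ⊤)) := by
  have h := Scheme.ΓSpecIso_inv_naturality φ
  have h' := congr($(h).hom r)
  change ((Spec.map φ).app ⊤ ((Spec R).presheaf.map (⊤ : (Spec R).Opens).leTop.op ((Scheme.ΓSpecIso R).inv r))) • (show Γ(Q, Spec.map φ ⁻¹ᵁ ⊤) from x) =
    ((Spec R').presheaf.map (⊤ : (Spec R').Opens).leTop.op ((Scheme.ΓSpecIso R').inv (φ r))) • (x : Γ(Q, ⊤))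
  have e1 : (Spec R).presheaf.map (⊤ : (Spec R).Opens).leTop.op = 𝟙 _ :=
    (Spec R).presheaf.map_id _
  have e2 : (Spec R').presheaf.map (⊤ : (Spec R').Opens).leTop.op = 𝟙 _ :=
    (Spec R').presheaf.map_id _
  rw [e1, e2]
  simp only [CommRingCat.comp_apply] at h'
  have h'' : (Scheme.ΓSpecIso R').inv (φ r) = (Spec.map φ).app ⊤ ((Scheme.ΓSpecIso R).inv r) := h'
  simp only [CommRingCat.id_apply]
  rw [h'']
  rfl


end Smul

section Main

open Scheme.Modules Groth.Agent.Lib.helper7

variable {X Y : Scheme.{u}} (g : Y ⟶ X) {U : X.Opens} (hU : IsAffineOpen U) {V : Y.Opens}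
  (hV : IsAffineOpen V) (e : V ≤ g ⁻¹ᵁ U) (A : X.Modules)

include e in
theorem V₀_le : hV.fromSpec ''ᵁ ⊤ ≤ g ⁻¹ᵁ (hU.fromSpec ''ᵁ ⊤) := by
  rw [image_top_eq hV, image_top_eq hU]; exact e

/-- unit of the pullback-pushforward adjunction followed by restriction, on `Spec`-level opens -/
noncomputable def ρ₀ : Γ(A, hU.fromSpec ''ᵁ ⊤) →+ Γ((pullback g).obj A, hV.fromSpec ''ᵁ ⊤) :=
  (((pullback g).obj A).presheaf.map (homOfLE (V₀_le g hU hV e)).op).hom.comp
    (((pullbackPushforwardAdjunction g).unit.app A).app (hU.fromSpec ''ᵁ ⊤)).hom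

/-- comparison of the two composite pushforwards -/
noncomputable def r2 : pushforward hV.fromSpec ⋙ pushforward g ≅
    pushforward (Spec.map (g.appLE U V e)) ⋙ pushforward hU.fromSpec :=
  pushforwardComp hV.fromSpec g ≪≫
    pushforwardCongr (IsAffineOpen.SpecMap_appLE_fromSpec g hU hV e).symm ≪≫
    (pushforwardComp (Spec.map (g.appLE U V e)) hU.fromSpec).symm

variable (Q : (Spec Γ(Y, V)).Modules)

noncomputable def evY (c : (pullback g).obj A ⟶ (pushforward hV.fromSpec).obj Q) :
    moduleSpecΓFunctor.obj (((pullback g).obj A).restrict hV.fromSpec) ⟶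
      moduleSpecΓFunctor.obj Q :=
  moduleSpecΓFunctor.map (((restrictAdjunction hV.fromSpec).homEquiv _ _).symm c)

noncomputable def evX (c : (pullback g).obj A ⟶ (pushforward hV.fromSpec).obj Q) :
    moduleSpecΓFunctor.obj (A.restrict hU.fromSpec) ⟶
      moduleSpecΓFunctor.obj ((pushforward (Spec.map (g.appLE U V e))).obj Q) :=
  moduleSpecΓFunctor.map (((restrictAdjunction hU.fromSpec).homEquiv _ _).symm
    ((pullbackPushforwardAdjunction g).homEquiv _ _ c ≫ (r2 g hU hV e).hom.app Q))

theorem evX_apply (c : (pullback g).obj A ⟶ (pushforward hV.fromSpec).obj Q)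
    (a : Γ(A, hU.fromSpec ''ᵁ ⊤)) :
    ((evX g hU hV e A Q c).hom a : Γ(Q, ⊤)) = (evY g hV A Q c).hom (ρ₀ g hU hV e A a) := by
  change (Q.presheaf.map _) ((Q.presheaf.map _) ((c.app (g ⁻¹ᵁ (hU.fromSpec ''ᵁ ⊤))).hom
      ((((pullbackPushforwardAdjunction g).unit.app A).app (hU.fromSpec ''ᵁ ⊤)).hom a))) =
    (Q.presheaf.map _) ((c.app (hV.fromSpec ''ᵁ ⊤)).hom (ρ₀ g hU hV e A a))
  have hρ : ρ₀ g hU hV e A a = ((pullback g).obj A).presheaf.map (homOfLE (V₀_le g hU hV e)).op
      ((((pullbackPushforwardAdjunction g).unit.app A).app (hU.fromSpec ''ᵁ ⊤)).hom a) := rfl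
  rw [hρ, Groth.Agent.Lib.helper16.QCohEpi.app_map c (V₀_le g hU hV e)]
  generalize (c.app (g ⁻¹ᵁ (hU.fromSpec ''ᵁ ⊤))).hom
      ((((pullbackPushforwardAdjunction g).unit.app A).app (hU.fromSpec ''ᵁ ⊤)).hom a) = x
  change (Q.presheaf.map _) ((Q.presheaf.map _) x) = (Q.presheaf.map _) ((Q.presheaf.map _) x)
  rw [← ConcreteCategory.comp_apply, ← ConcreteCategory.comp_apply, ← Functor.map_comp,
    ← Functor.map_comp]
  rfl


variable [A.IsQuasicoherent] [Q.IsQuasicoherent]

theorem evY_bijective : Function.Bijective (evY g hV A Q) := by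
  haveI : ((pullback g).obj A).IsQuasicoherent :=
    Groth.Agent.Lib.helper16.QCohPullback.isQuasicoherent_pullback g A
  haveI : IsIso (tilde.adjunction.counit.app (((pullback g).obj A).restrict hV.fromSpec)) :=
    inferInstanceAs (IsIso (((pullback g).obj A).restrict hV.fromSpec).fromTildeΓ)
  haveI : IsIso (tilde.adjunction.counit.app Q) := inferInstanceAs (IsIso Q.fromTildeΓ)
  exact (map_bijective_of_isIso_counit tilde.adjunction _ Q).comp
    ((restrictAdjunction hV.fromSpec).homEquiv _ _).symm.bijective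

theorem evX_bijective : Function.Bijective (evX g hU hV e A Q) := by
  haveI : IsIso (tilde.adjunction.counit.app (A.restrict hU.fromSpec)) :=
    inferInstanceAs (IsIso (A.restrict hU.fromSpec).fromTildeΓ)
  haveI : IsIso Q.fromTildeΓ := inferInstance
  haveI : IsIso (tilde.adjunction.counit.app
      ((pushforward (Spec.map (g.appLE U V e))).obj Q)) :=
    isIso_fromTildeΓ_pushforward (g.appLE U V e) Q
  have h1 := map_bijective_of_isIso_counit tilde.adjunction (A.restrict hU.fromSpec)
    ((pushforward (Spec.map (g.appLE U V e))).obj Q)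
  have h2 := ((restrictAdjunction hU.fromSpec).homEquiv A
    ((pushforward (Spec.map (g.appLE U V e))).obj Q)).symm.bijective
  have h3 : Function.Bijective (fun h : A ⟶ (pushforward g).obj ((pushforward hV.fromSpec).obj Q) =>
      h ≫ (r2 g hU hV e).hom.app Q) := by
    constructor
    · intro a b hab
      exact (cancel_mono ((r2 g hU hV e).hom.app Q)).mp hab
    · intro b
      exact ⟨b ≫ (r2 g hU hV e).inv.app Q, by simp⟩
  have h4 := ((pullbackPushforwardAdjunction g).homEquiv A
    ((pushforward hV.fromSpec).obj Q)).bijective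
  exact h1.comp (h2.comp (h3.comp h4))

theorem existsUnique_lift₀
    (k₀ : moduleSpecΓFunctor.obj (A.restrict hU.fromSpec) ⟶
      moduleSpecΓFunctor.obj ((pushforward (Spec.map (g.appLE U V e))).obj Q)) :
    ∃! k' : moduleSpecΓFunctor.obj (((pullback g).obj A).restrict hV.fromSpec) ⟶
        moduleSpecΓFunctor.obj Q,
      ∀ a : Γ(A, hU.fromSpec ''ᵁ ⊤), (k'.hom (ρ₀ g hU hV e A a) : Γ(Q, ⊤)) = k₀.hom a := by
  obtain ⟨c, rfl⟩ := (evX_bijective g hU hV e A Q).2 k₀
  refine ⟨evY g hV A Q c, fun a => (evX_apply g hU hV e A Q c a).symm, ?_⟩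
  intro k' hk'
  obtain ⟨c', rfl⟩ := (evY_bijective g hV A Q).2 k'
  have : evX g hU hV e A Q c' = evX g hU hV e A Q c := by
    ext a
    exact (evX_apply g hU hV e A Q c' a).trans (hk' a)
  rw [(evX_bijective g hU hV e A Q).1 this]

end Main

/-! ### Base change in universal-property form -/

/-- `k : N →+ P` exhibits the `R'`-module `P` as the base change of the `R`-module `N` along
`φ : R →+* R'` (universal property form, with explicit ring homomorphism). -/
structure IsBC {R R' : Type u} [CommRing R] [CommRing R'] (φ : R →+* R') {N P : Type u}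
    [AddCommGroup N] [Module R N] [AddCommGroup P] [Module R' P] (k : N →+ P) : Prop where
  map_smul : ∀ (r : R) (n : N), k (r • n) = φ r • k n
  existsUnique_lift : ∀ (T : Type u) [AddCommGroup T] [Module R' T] (h : N →+ T),
    (∀ (r : R) (n : N), h (r • n) = φ r • h n) → ∃! h' : P →ₗ[R'] T, ∀ n, h' (k n) = h n

section Algebra

variable {R R' : Type u} [CommRing R] [CommRing R'] {φ : R →+* R'} {N P : Type u}
    [AddCommGroup N] [Module R N] [AddCommGroup P] [Module R' P] {k : N →+ P}

theorem IsBC.of_equiv (hk : IsBC φ k) {N' P' : Type u} [AddCommGroup N'] [Module R N']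
    [AddCommGroup P'] [Module R' P'] (eN : N' ≃ₗ[R] N) (eP : P' ≃ₗ[R'] P) (k' : N' →+ P')
    (hcomm : ∀ n, eP (k' n) = k (eN n)) : IsBC φ k' := by
  constructor
  · intro r n
    apply eP.injective
    rw [hcomm, _root_.map_smul, hk.map_smul, _root_.map_smul, hcomm]
  · intro T _ _ h hh
    obtain ⟨h', hh', hu⟩ := hk.existsUnique_lift T (h.comp eN.symm.toLinearMap.toAddMonoidHom)
      (by
        intro r n
        show h (eN.symm (r • n)) = φ r • h (eN.symm n)
        rw [_root_.map_smul, hh])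
    refine ⟨h' ∘ₗ eP.toLinearMap, ?_, ?_⟩
    · intro n
      show h' (eP (k' n)) = h n
      rw [hcomm, hh']
      show h (eN.symm (eN n)) = h n
      rw [LinearEquiv.symm_apply_apply]
    · intro h'' hh''
      have h3 := hu (h'' ∘ₗ eP.symm.toLinearMap) (by
        intro n
        show h'' (eP.symm (k n)) = h (eN.symm n)
        rw [← hh'' (eN.symm n)]
        congr 1
        apply eP.injective
        rw [LinearEquiv.apply_symm_apply, hcomm, LinearEquiv.apply_symm_apply])
      rw [← h3]
      ext x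
      show h'' x = h'' (eP.symm (eP x))
      rw [LinearEquiv.symm_apply_apply]

theorem IsBC.bijective_of_comp (hk : IsBC φ k) {P' : Type u} [AddCommGroup P'] [Module R' P']
    {k' : N →+ P'} (hk' : IsBC φ k') (w : P →ₗ[R'] P') (hw : ∀ n, w (k n) = k' n) :
    Function.Bijective w := by
  obtain ⟨w', hw', -⟩ := hk'.existsUnique_lift P k hk.map_smul
  have h1 : w' ∘ₗ w = LinearMap.id := by
    obtain ⟨z, -, hz⟩ := hk.existsUnique_lift P k hk.map_smul
    rw [hz (w' ∘ₗ w) (by intro n; show w' (w (k n)) = k n; rw [hw, hw']),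
      hz LinearMap.id (by intro n; rfl)]
  have h2 : w ∘ₗ w' = LinearMap.id := by
    obtain ⟨z, -, hz⟩ := hk'.existsUnique_lift P' k' hk'.map_smul
    rw [hz (w ∘ₗ w') (by intro n; show w (w' (k' n)) = k' n; rw [hw', hw]),
      hz LinearMap.id (by intro n; rfl)]
  refine ⟨Function.LeftInverse.injective (g := w') fun x => ?_,
    Function.RightInverse.surjective (g := w') fun x => ?_⟩
  · exact congr($h1 x)
  · exact congr($h2 x)

end Algebra

section Mathlib

variable {R R' N P : Type u} [CommRing R] [CommRing R'] [Algebra R R'] [AddCommGroup N]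
  [Module R N] [AddCommGroup P] [Module R P] [Module R' P] [IsScalarTower R R' P]

theorem IsBC.isBaseChange (k : N →ₗ[R] P) (hk : IsBC (algebraMap R R') k.toAddMonoidHom) :
    IsBaseChange R' k := by
  apply IsBaseChange.of_lift_unique
  intro Q _ _ _ _ q
  letI : AddCommGroup Q := Module.addCommMonoidToAddCommGroup R'
  obtain ⟨h', hh', hu⟩ := hk.existsUnique_lift Q q.toAddMonoidHom (by
    intro r n
    show q (r • n) = algebraMap R R' r • q n
    rw [_root_.map_smul, algebraMap_smul])
  refine ⟨h', ?_, ?_⟩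
  · ext n
    exact hh' n
  · intro h'' hh''
    apply hu
    intro n
    exact congr($hh'' n)

theorem IsBC.of_isBaseChange (k : N →ₗ[R] P) (hk : IsBaseChange R' k) :
    IsBC (algebraMap R R') k.toAddMonoidHom := by
  constructor
  · intro r n
    show k (r • n) = algebraMap R R' r • k n
    rw [_root_.map_smul, algebraMap_smul]
  · intro T _ _ h hh
    letI : Module R T := Module.compHom T (algebraMap R R')
    haveI : IsScalarTower R R' T := IsScalarTower.of_algebraMap_smul (fun r x => rfl)
    let hl : N →ₗ[R] T := { toFun := h, map_add' := h.map_add, map_smul' := fun r n => hh r n }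
    refine ⟨hk.lift hl, fun n => hk.lift_eq hl n, fun h'' hh'' => ?_⟩
    apply hk.algHom_ext
    intro n
    rw [hk.lift_eq]
    exact hh'' n

end Mathlib

section Cancel

theorem IsBC.cancel {R R' B₀ B₀' : Type u} [CommRing R] [CommRing R'] [CommRing B₀] [CommRing B₀']
    {φ : R →+* R'} {α : R →+* B₀} {β : R' →+* B₀'} {ψ : B₀ →+* B₀'}
    (hpo : IsPushout (CommRingCat.ofHom φ) (CommRingCat.ofHom α) (CommRingCat.ofHom β)
      (CommRingCat.ofHom ψ))
    {N P : Type u} [AddCommGroup N] [Module B₀ N] [AddCommGroup P] [Module B₀' P] {k : N →+ P}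
    (hk : IsBC ψ k) :
    letI := Module.compHom N α
    letI := Module.compHom P β
    IsBC φ k := by
  letI : Algebra R R' := φ.toAlgebra
  letI : Algebra R B₀ := α.toAlgebra
  letI : Algebra R' B₀' := β.toAlgebra
  letI : Algebra B₀ B₀' := ψ.toAlgebra
  letI : Algebra R B₀' := (β.comp φ).toAlgebra
  haveI : IsScalarTower R R' B₀' := IsScalarTower.of_algebraMap_eq' rfl
  have hw : ψ.comp α = β.comp φ := by
    have := hpo.w
    exact congr($(this).hom).symm
  haveI : IsScalarTower R B₀ B₀' := IsScalarTower.of_algebraMap_eq' hw.symm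
  haveI : Algebra.IsPushout R R' B₀ B₀' := CommRingCat.isPushout_iff_isPushout.mp hpo
  letI : Module R N := Module.compHom N α
  haveI : IsScalarTower R B₀ N := ⟨fun r b n => by
    show (α r * b) • n = α r • (b • n)
    rw [mul_smul]⟩
  letI : Module R' P := Module.compHom P β
  haveI : IsScalarTower R' B₀' P := ⟨fun r b n => by
    show (β r * b) • n = β r • (b • n)
    rw [mul_smul]⟩
  letI : Module B₀ P := Module.compHom P ψ
  haveI : IsScalarTower B₀ B₀' P := ⟨fun r b n => by
    show (ψ r * b) • n = ψ r • (b • n)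
    rw [mul_smul]⟩
  letI : Module R P := Module.compHom P (β.comp φ)
  haveI : IsScalarTower R R' P := ⟨fun r b n => by
    show β (φ r * b) • n = β (φ r) • (β b • n)
    rw [map_mul, mul_smul]⟩
  let kl : N →ₗ[B₀] P :=
    { toFun := k, map_add' := k.map_add, map_smul' := fun b n => hk.map_smul b n }
  have hkl : IsBaseChange B₀' kl := IsBC.isBaseChange kl hk
  let E : R' ⊗[R] N ≃ₗ[R'] P :=
    (Algebra.IsPushout.cancelBaseChange R R' B₀ B₀' N).symm ≪≫ₗ (hkl.equiv.restrictScalars R')
  let kR : N →ₗ[R] P :=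
    { toFun := k
      map_add' := k.map_add
      map_smul' := fun r n => by
        show k (α r • n) = (β (φ r)) • k n
        rw [hk.map_smul]
        congr 1
        exact congr($hw r) }
  have hkR : IsBaseChange R' kR := IsBaseChange.of_equiv E (fun n => by
    show hkl.equiv ((Algebra.IsPushout.cancelBaseChange R R' B₀ B₀' N).symm (1 ⊗ₜ n)) = k n
    rw [Algebra.IsPushout.cancelBaseChange_symm_tmul, map_one, hkl.equiv_tmul, one_smul]
    rfl)
  exact IsBC.of_isBaseChange kR hkR

end Cancel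


section K0

open Scheme.Modules Groth.Agent.Lib.helper7

variable {X Y : Scheme.{u}} (g : Y ⟶ X) {U : X.Opens} (hU : IsAffineOpen U) {V : Y.Opens}
  (hV : IsAffineOpen V) (e : V ≤ g ⁻¹ᵁ U) (A : X.Modules) [A.IsQuasicoherent]

omit [A.IsQuasicoherent] in
theorem ρ₀_smul (r : Γ(X, U)) (a : ↑(moduleSpecΓFunctor.obj (A.restrict hU.fromSpec))) :
    (show ↑(moduleSpecΓFunctor.obj (((pullback g).obj A).restrict hV.fromSpec)) from
      ρ₀ g hU hV e A (r • a)) = (g.appLE U V e).hom r •
        (show ↑(moduleSpecΓFunctor.obj (((pullback g).obj A).restrict hV.fromSpec)) from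
          ρ₀ g hU hV e A a) := by
  let Q := ((pullback g).obj A).restrict hV.fromSpec
  let c : (pullback g).obj A ⟶ (pushforward hV.fromSpec).obj Q :=
    (restrictAdjunction hV.fromSpec).homEquiv _ _ (𝟙 Q)
  have hY : evY g hV A Q c = 𝟙 _ := by
    simp only [evY, c, Equiv.symm_apply_apply]
    exact moduleSpecΓFunctor.map_id _
  have h1 : ∀ a, ((evX g hU hV e A Q c).hom a : Γ(Q, ⊤)) = ρ₀ g hU hV e A a := by
    intro a
    rw [evX_apply, hY]
    rfl
  have h2 := (evX g hU hV e A Q c).hom.map_smul r a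
  rw [← h1, ← h1]
  exact h2.trans (smul_pushforward_spec (g.appLE U V e) Q r ((evX g hU hV e A Q c).hom a))

theorem existsUnique_lift_ρ₀ (T : Type u) [AddCommGroup T] [Module Γ(Y, V) T]
    (h : ↑(moduleSpecΓFunctor.obj (A.restrict hU.fromSpec)) →+ T)
    (hh : ∀ (r : Γ(X, U)) n, h (r • n) = (g.appLE U V e).hom r • h n) :
    ∃! h' : ↑(moduleSpecΓFunctor.obj (((pullback g).obj A).restrict hV.fromSpec)) →ₗ[Γ(Y, V)] T,
      ∀ n, h' (ρ₀ g hU hV e A n) = h n := by
  let MT : ModuleCat.{u} Γ(Y, V) := ModuleCat.of Γ(Y, V) T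
  let Q := tilde MT
  haveI : Q.IsQuasicoherent := inferInstance
  let θ : MT ≅ moduleSpecΓFunctor.obj Q := tilde.isoTop MT
  let k₀lin : ↑(moduleSpecΓFunctor.obj (A.restrict hU.fromSpec)) →ₗ[Γ(X, U)]
      ↑(moduleSpecΓFunctor.obj ((pushforward (Spec.map (g.appLE U V e))).obj Q)) :=
      { toFun := fun n => (show Γ(Q, ⊤) from θ.hom.hom (h n))
        map_add' := fun a b => by
          show θ.hom.hom (h (a + b)) = θ.hom.hom (h a) + θ.hom.hom (h b)
          rw [map_add, map_add]
        map_smul' := fun r a => by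
          have h1 : θ.hom.hom (h (r • a)) = (g.appLE U V e).hom r • θ.hom.hom (h a) := by
            rw [hh, _root_.map_smul]
          exact h1.trans (smul_pushforward_spec (g.appLE U V e) Q r (θ.hom.hom (h a))).symm }
  let k₀' := ModuleCat.ofHom k₀lin
  let k₀ : moduleSpecΓFunctor.obj (A.restrict hU.fromSpec) ⟶
      moduleSpecΓFunctor.obj ((pushforward (Spec.map (g.appLE U V e))).obj Q) := k₀'
  have hk₀ : ∀ n, k₀.hom n = k₀lin n := fun n => rfl
  obtain ⟨k', hk', hu⟩ := existsUnique_lift₀ g hU hV e A Q k₀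
  refine ⟨(k' ≫ θ.inv).hom, ?_, ?_⟩
  · intro n
    show θ.inv.hom (k'.hom (ρ₀ g hU hV e A n)) = h n
    have h1 : (k'.hom (ρ₀ g hU hV e A n) : Γ(Q, ⊤)) = θ.hom.hom (h n) := hk' n
    have h2 : k'.hom (ρ₀ g hU hV e A n) = θ.hom.hom (h n) := h1
    rw [h2]
    exact congr($(θ.hom_inv_id).hom (h n))
  · intro h'' hh''
    have h3 : ModuleCat.ofHom h'' ≫ θ.hom = k' := by
      apply hu
      intro a
      show (θ.hom.hom (h'' (ρ₀ g hU hV e A a)) : Γ(Q, ⊤)) = k₀.hom a
      rw [hh'' a]
      rfl
    rw [← h3, Category.assoc, θ.hom_inv_id, Category.comp_id]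
    rfl

theorem isBC_ρ₀ : IsBC (N := ↑(moduleSpecΓFunctor.obj (A.restrict hU.fromSpec)))
    (P := ↑(moduleSpecΓFunctor.obj (((pullback g).obj A).restrict hV.fromSpec)))
    (g.appLE U V e).hom (ρ₀ g hU hV e A) :=
  ⟨ρ₀_smul g hU hV e A, fun T _ _ h hh => existsUnique_lift_ρ₀ g hU hV e A T h hh⟩

/-- the unit of the pullback-pushforward adjunction followed by restriction to `V ≤ g ⁻¹ᵁ U` -/
noncomputable def ρ (A : X.Modules) : Γ(A, U) →+ Γ((pullback g).obj A, V) :=
  (((pullback g).obj A).presheaf.map (homOfLE e).op).hom.comp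
    (((pullbackPushforwardAdjunction g).unit.app A).app U).hom

omit [A.IsQuasicoherent] in
theorem ρ_apply (a : Γ(A, U)) : ρ g e A a = ((pullback g).obj A).presheaf.map (homOfLE e).op
    ((((pullbackPushforwardAdjunction g).unit.app A).app U).hom a) := rfl

open Groth.Agent.Lib.helper16.QCohPullback Groth.Agent.Lib.helper16.CohFinite in
omit [A.IsQuasicoherent] in
theorem secEquiv_ρ (a : Γ(A, U)) :
    (secEquiv ((pullback g).obj A) hV (ρ g e A a) : Γ((pullback g).obj A, hV.fromSpec ''ᵁ ⊤)) =
      ρ₀ g hU hV e A (secEquiv A hU a) := by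
  change ((pullback g).obj A).presheaf.map (homOfLE (image_top_eq hV).le).op
      (((pullback g).obj A).presheaf.map (homOfLE e).op
        ((((pullbackPushforwardAdjunction g).unit.app A).app U).hom a)) =
    ((pullback g).obj A).presheaf.map (homOfLE (V₀_le g hU hV e)).op
      ((((pullbackPushforwardAdjunction g).unit.app A).app (hU.fromSpec ''ᵁ ⊤)).hom
        (A.presheaf.map (homOfLE (image_top_eq hU).le).op a))
  have h1 := Groth.Agent.Lib.helper16.QCohEpi.app_map
    ((pullbackPushforwardAdjunction g).unit.app A) (image_top_eq hU).le a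
  refine Eq.trans ?_ (congrArg
    (((pullback g).obj A).presheaf.map (homOfLE (V₀_le g hU hV e)).op) h1.symm)
  generalize (((pullbackPushforwardAdjunction g).unit.app A).app U).hom a = x
  change ((pullback g).obj A).presheaf.map _ (((pullback g).obj A).presheaf.map _ x) =
    ((pullback g).obj A).presheaf.map _ (((pullback g).obj A).presheaf.map _ x)
  rw [← ConcreteCategory.comp_apply, ← ConcreteCategory.comp_apply, ← Functor.map_comp,
    ← Functor.map_comp]
  rfl

open Groth.Agent.Lib.helper16.QCohPullback in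
include hU hV in
/-- **Key lemma**: for `A` quasi-coherent, `U`, `V ≤ g ⁻¹ᵁ U` affine, `ρ : Γ(A, U) → Γ(g^* A, V)` is
a base change along `Γ(X, U) → Γ(Y, V)`. -/
theorem isBC_ρ : IsBC (g.appLE U V e).hom (ρ g e A) :=
  (isBC_ρ₀ g hU hV e A).of_equiv (secEquiv A hU) (secEquiv ((pullback g).obj A) hV) (ρ g e A)
    (secEquiv_ρ g hU hV e A)

end K0

end Groth.Agent.Lib.helper8.PullbackUnit
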