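import Mathlib
import Groth.Agent.Lib.Helper12.Milnor

/-!
# Descent of flatness along a Milnor square, Tor-free (helper8)
-/

set_option autoImplicit false
set_option linter.unusedSectionVars false
universe u

open TensorProduct

namespace Groth.Agent.Lib.helper8.Mil

section BaseChangeFlat

variable {R S : Type*} [CommRing R] [CommRing S] [Algebra R S]
  (L : Type*) [AddCommGroup L] [Module R L]

/-- If `S ⊗[R] L` is `S`-flat, then `- ⊗[R] L` preserves injectivity of `S`-linear maps. -/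
theorem rTensor_injective_of_flat_baseChange [Module.Flat S (S ⊗[R] L)]
    {Q₁ Q₂ : Type*} [AddCommGroup Q₁] [Module R Q₁] [Module S Q₁] [IsScalarTower R S Q₁]
    [AddCommGroup Q₂] [Module R Q₂] [Module S Q₂] [IsScalarTower R S Q₂]
    (g : Q₁ →ₗ[S] Q₂) (hg : Function.Injective g) :
    Function.Injective ((g.restrictScalars R).rTensor L) := by
  have h1 : Function.Injective (g.rTensor (S ⊗[R] L)) :=
    Module.Flat.rTensor_preserves_injective_linearMap g hg
  let e₁ := AlgebraTensorModule.cancelBaseChange R S S Q₁ L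
  let e₂ := AlgebraTensorModule.cancelBaseChange R S S Q₂ L
  have h2 : ∀ z, (g.restrictScalars R).rTensor L (e₁ z) = e₂ (g.rTensor (S ⊗[R] L) z) := by
    intro z
    induction z using TensorProduct.induction_on with
    | zero => simp
    | add x y hx hy => simp only [map_add, hx, hy]
    | tmul q w =>
      induction w using TensorProduct.induction_on with
      | zero => simp
      | add x y hx hy => simp only [tmul_add, map_add, hx, hy]
      | tmul s l => simp [e₁, e₂]
  intro x y hxy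
  obtain ⟨x, rfl⟩ := e₁.surjective x
  obtain ⟨y, rfl⟩ := e₁.surjective y
  rw [h2, h2] at hxy
  rw [h1 (e₂.injective hxy)]

end BaseChangeFlat

section Torsion

variable {R : Type*} [CommRing R] (J : Ideal R) (L : Type*) [AddCommGroup L] [Module R L]

/-- If `(R ⧸ J) ⊗[R] L` is `R ⧸ J`-flat, then `- ⊗[R] L` preserves injectivity of linear maps
between `R`-modules killed by `J`. -/
theorem rTensor_injective_of_torsion [Module.Flat (R ⧸ J) ((R ⧸ J) ⊗[R] L)]
    {Q₁ Q₂ : Type*} [AddCommGroup Q₁] [Module R Q₁] [AddCommGroup Q₂] [Module R Q₂]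
    (h₁ : ∀ j ∈ J, ∀ q : Q₁, j • q = 0) (h₂ : ∀ j ∈ J, ∀ q : Q₂, j • q = 0)
    (g : Q₁ →ₗ[R] Q₂) (hg : Function.Injective g) : Function.Injective (g.rTensor L) := by
  have hQ₁ : Module.IsTorsionBySet R Q₁ J := fun q j => h₁ j.1 j.2 q
  have hQ₂ : Module.IsTorsionBySet R Q₂ J := fun q j => h₂ j.1 j.2 q
  letI := hQ₁.module
  letI := hQ₂.module
  haveI : IsScalarTower R (R ⧸ J) Q₁ := hQ₁.isScalarTower
  haveI : IsScalarTower R (R ⧸ J) Q₂ := hQ₂.isScalarTower
  let g' : Q₁ →ₗ[R ⧸ J] Q₂ :=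
    { toFun := g
      map_add' := g.map_add
      map_smul' := by
        intro c q
        obtain ⟨c, rfl⟩ := Ideal.Quotient.mk_surjective c
        change g (Ideal.Quotient.mk J c • q) = Ideal.Quotient.mk J c • g q
        rw [hQ₁.mk_smul, hQ₂.mk_smul, map_smul] }
  have := rTensor_injective_of_flat_baseChange (R := R) (S := R ⧸ J) L g' hg
  have hgg : g = g'.restrictScalars R := LinearMap.ext fun _ => rfl
  rw [hgg]
  exact this

end Torsion

section Chase

variable {R : Type*} [CommRing R] (L : Type*) [AddCommGroup L] [Module R L]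

/-- First abstract chase. -/
theorem rTensor_injective_of_chase₁
    {G P F Q₁ Q₂ : Type*} [AddCommGroup G] [Module R G] [AddCommGroup P] [Module R P]
    [AddCommGroup F] [Module R F] [AddCommGroup Q₁] [Module R Q₁] [AddCommGroup Q₂] [Module R Q₂]
    (μ : G →ₗ[R] P) (ι : P →ₗ[R] F) (q₁ : P →ₗ[R] Q₁) (q₂ : F →ₗ[R] Q₂) (g : Q₁ →ₗ[R] Q₂)
    (hex : Function.Exact μ q₁) (hq₁ : Function.Surjective q₁)
    (hcomm : g ∘ₗ q₁ = q₂ ∘ₗ ι)
    (h1 : Function.Injective ((ι ∘ₗ μ).rTensor L)) (h2 : Function.Injective (g.rTensor L)) :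
    Function.Injective (ι.rTensor L) := by
  rw [injective_iff_map_eq_zero]
  intro x hx
  have h3 : g.rTensor L (q₁.rTensor L x) = 0 := by
    rw [← LinearMap.comp_apply, ← LinearMap.rTensor_comp, hcomm, LinearMap.rTensor_comp,
      LinearMap.comp_apply, hx, map_zero]
  have h4 : q₁.rTensor L x = 0 := h2 (by rw [h3, map_zero])
  obtain ⟨y, rfl⟩ := (rTensor_exact L hex hq₁ x).1 h4
  have h5 : (ι ∘ₗ μ).rTensor L y = 0 := by
    rw [LinearMap.rTensor_comp, LinearMap.comp_apply, hx]
  have h6 : y = 0 := h1 (by rw [h5, map_zero])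
  rw [h6, map_zero]

/-- Second abstract chase. -/
theorem rTensor_injective_of_chase₂
    {K P₀ P F P' : Type*} [AddCommGroup K] [Module R K] [AddCommGroup P₀] [Module R P₀]
    [AddCommGroup P] [Module R P] [AddCommGroup F] [Module R F] [AddCommGroup P'] [Module R P']
    (κ : K →ₗ[R] P₀) (π' : P₀ →ₗ[R] P) (ι : P₀ →ₗ[R] F) (π : F →ₗ[R] P') (f : P →ₗ[R] P')
    (hπ' : Function.Surjective π') (hκ : π' ∘ₗ κ = 0)
    (hex : Function.Exact (ι ∘ₗ κ) π) (hπ : Function.Surjective π)
    (hcomm : f ∘ₗ π' = π ∘ₗ ι)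
    (h1 : Function.Injective (ι.rTensor L)) :
    Function.Injective (f.rTensor L) := by
  rw [injective_iff_map_eq_zero]
  intro x hx
  obtain ⟨x, rfl⟩ := LinearMap.rTensor_surjective L hπ' x
  have h3 : π.rTensor L (ι.rTensor L x) = 0 := by
    rw [← LinearMap.comp_apply, ← LinearMap.rTensor_comp, ← hcomm, LinearMap.rTensor_comp,
      LinearMap.comp_apply, hx]
  obtain ⟨k, hk⟩ := (rTensor_exact L hex hπ _).1 h3
  rw [LinearMap.rTensor_comp, LinearMap.comp_apply] at hk
  have h4 : κ.rTensor L k = x := h1 hk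
  rw [← h4, ← LinearMap.comp_apply, ← LinearMap.rTensor_comp, hκ, LinearMap.rTensor_zero,
    LinearMap.zero_apply]

end Chase

section LemmaA

variable {R : Type*} [CommRing R] (J : Ideal R) (L : Type*) [AddCommGroup L] [Module R L]

/-- The multiplication map `J ⊗ F → F`. -/
noncomputable def smulMap (F : Type*) [AddCommGroup F] [Module R F] : J ⊗[R] F →ₗ[R] F :=
  TensorProduct.lift ((LinearMap.lsmul R F).comp J.subtype)

@[simp] theorem smulMap_tmul (F : Type*) [AddCommGroup F] [Module R F] (a : J) (x : F) :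
    smulMap J F (a ⊗ₜ[R] x) = (a : R) • x := by
  simp [smulMap]

/-- If `J ⊗ L → L` is injective and `F` is flat then `(J ⊗ F) ⊗ L → F ⊗ L` is injective. -/
theorem smulMap_rTensor_injective (h1 : Function.Injective (J.subtype.rTensor L))
    (F : Type*) [AddCommGroup F] [Module R F] [Module.Flat R F] :
    Function.Injective ((smulMap J F).rTensor L) := by
  let e : F ⊗[R] (J ⊗[R] L) ≃ₗ[R] (J ⊗[R] F) ⊗[R] L :=
    (TensorProduct.leftComm R F J L) ≪≫ₗ (TensorProduct.assoc R J F L).symm
  have h2 : Function.Injective ((J.subtype.rTensor L).lTensor F) :=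
    Module.Flat.lTensor_preserves_injective_linearMap _ h1
  have h3 : ∀ z, (smulMap J F).rTensor L (e z) =
      (TensorProduct.lid R L).toLinearMap.lTensor F ((J.subtype.rTensor L).lTensor F z) := by
    intro z
    induction z using TensorProduct.induction_on with
    | zero => simp
    | add x y hx hy => simp only [map_add, hx, hy]
    | tmul x w =>
      induction w using TensorProduct.induction_on with
      | zero => simp
      | add x y hx hy => simp only [tmul_add, map_add, hx, hy]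
      | tmul a l => simp [e, TensorProduct.smul_tmul]
  have h4 : Function.Injective ((TensorProduct.lid R L).toLinearMap.lTensor F) := by
    have : Function.Bijective ((TensorProduct.lid R L).toLinearMap.lTensor F) :=
      (LinearEquiv.lTensor F (TensorProduct.lid R L)).bijective
    exact this.1
  intro x y hxy
  obtain ⟨x, rfl⟩ := e.surjective x
  obtain ⟨y, rfl⟩ := e.surjective y
  rw [h3, h3] at hxy
  rw [h2 (h4 hxy)]

/-- Free (flat) case of the key lemma: if `J ⊗ L → L` is injective, `L / J L` is flat over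
`R / J`, `F` is flat and `P₀ ⊆ F` contains `J F`, then `P₀ ⊗ L → F ⊗ L` is injective. -/
theorem subtype_rTensor_injective_of_flat [Module.Flat (R ⧸ J) ((R ⧸ J) ⊗[R] L)]
    (h1 : Function.Injective (J.subtype.rTensor L))
    (F : Type*) [AddCommGroup F] [Module R F] [Module.Flat R F] (P₀ : Submodule R F)
    (hP₀ : ∀ j ∈ J, ∀ x : F, j • x ∈ P₀) :
    Function.Injective (P₀.subtype.rTensor L) := by
  have hmem : ∀ z, smulMap J F z ∈ P₀ := by
    intro z
    induction z using TensorProduct.induction_on with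
    | zero => simp
    | add x y hx hy => rw [map_add]; exact P₀.add_mem hx hy
    | tmul a x => rw [smulMap_tmul]; exact hP₀ a.1 a.2 x
  let μ : J ⊗[R] F →ₗ[R] P₀ := (smulMap J F).codRestrict P₀ hmem
  have hμ : P₀.subtype ∘ₗ μ = smulMap J F := LinearMap.ext fun _ => rfl
  have hle : LinearMap.range μ ≤ (LinearMap.range (smulMap J F)).comap P₀.subtype := by
    rintro _ ⟨z, rfl⟩
    exact ⟨z, rfl⟩
  let g : (P₀ ⧸ LinearMap.range μ) →ₗ[R] (F ⧸ LinearMap.range (smulMap J F)) :=
    Submodule.mapQ _ _ P₀.subtype hle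
  have hg : Function.Injective g := by
    rw [injective_iff_map_eq_zero]
    intro x hx
    obtain ⟨p, rfl⟩ := Submodule.mkQ_surjective _ x
    rw [Submodule.mkQ_apply, Submodule.mapQ_apply, Submodule.Quotient.mk_eq_zero] at hx
    obtain ⟨z, hz⟩ := hx
    rw [Submodule.mkQ_apply, Submodule.Quotient.mk_eq_zero]
    exact ⟨z, Subtype.ext hz⟩
  have hQ₁ : ∀ j ∈ J, ∀ q : P₀ ⧸ LinearMap.range μ, j • q = 0 := by
    intro j hj q
    obtain ⟨p, rfl⟩ := Submodule.mkQ_surjective _ q
    rw [← map_smul, Submodule.mkQ_apply, Submodule.Quotient.mk_eq_zero]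
    exact ⟨(⟨j, hj⟩ : J) ⊗ₜ[R] (p : F), Subtype.ext (by simp [μ])⟩
  have hQ₂ : ∀ j ∈ J, ∀ q : F ⧸ LinearMap.range (smulMap J F), j • q = 0 := by
    intro j hj q
    obtain ⟨x, rfl⟩ := Submodule.mkQ_surjective _ q
    rw [← map_smul, Submodule.mkQ_apply, Submodule.Quotient.mk_eq_zero]
    exact ⟨(⟨j, hj⟩ : J) ⊗ₜ[R] x, by simp⟩
  refine rTensor_injective_of_chase₁ L μ P₀.subtype (LinearMap.range μ).mkQ
    (LinearMap.range (smulMap J F)).mkQ g (LinearMap.exact_map_mkQ_range μ)
    (Submodule.mkQ_surjective _) ?_ ?_ (rTensor_injective_of_torsion J L hQ₁ hQ₂ g hg)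
  · ext p
    rfl
  · rw [hμ]
    exact smulMap_rTensor_injective J L h1 F

/-- Key lemma with a chosen flat cover `π : F → P'`. -/
theorem rTensor_injective_of_smul_mem_range_aux [Module.Flat (R ⧸ J) ((R ⧸ J) ⊗[R] L)]
    (h1 : Function.Injective (J.subtype.rTensor L))
    {P P' F : Type*} [AddCommGroup P] [Module R P] [AddCommGroup P'] [Module R P']
    [AddCommGroup F] [Module R F] [Module.Flat R F]
    (π : F →ₗ[R] P') (hπ : Function.Surjective π)
    (f : P →ₗ[R] P') (hf : Function.Injective f)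
    (hJ : ∀ j ∈ J, ∀ x : P', j • x ∈ LinearMap.range f) :
    Function.Injective (f.rTensor L) := by
  have hP₀ : Function.Injective (((LinearMap.range f).comap π).subtype.rTensor L) := by
    apply subtype_rTensor_injective_of_flat J L h1 F
    intro j hj x
    change π (j • x) ∈ LinearMap.range f
    rw [map_smul]
    exact hJ j hj _
  have hex : ∀ x : (LinearMap.range f).comap π, ∃ p : P, f p = π x := fun x => x.2
  choose π'fun hπ'fun using hex
  let π' : ((LinearMap.range f).comap π) →ₗ[R] P :=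
    { toFun := π'fun
      map_add' := fun x y => hf (by rw [map_add, hπ'fun, hπ'fun, hπ'fun]; simp)
      map_smul' := fun c x => hf (by rw [map_smul, hπ'fun, hπ'fun]; simp) }
  have hfπ' : ∀ x, f (π' x) = π x := hπ'fun
  have hK : LinearMap.ker π ≤ (LinearMap.range f).comap π := by
    intro x hx
    change π x ∈ LinearMap.range f
    rw [LinearMap.mem_ker.mp hx]
    exact Submodule.zero_mem _
  have hπ's : Function.Surjective π' := by
    intro p
    obtain ⟨x, hx⟩ := hπ (f p)
    refine ⟨⟨x, ?_⟩, ?_⟩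
    · change π x ∈ LinearMap.range f
      rw [hx]
      exact ⟨p, rfl⟩
    · apply hf
      rw [hfπ']
      exact hx
  have hκ : π' ∘ₗ Submodule.inclusion hK = 0 := by
    ext k
    apply hf
    rw [LinearMap.comp_apply, hfπ', LinearMap.zero_apply, map_zero]
    exact k.2
  have hex2 : Function.Exact
      (((LinearMap.range f).comap π).subtype ∘ₗ Submodule.inclusion hK) π := by
    have : ((LinearMap.range f).comap π).subtype ∘ₗ Submodule.inclusion hK =
        (LinearMap.ker π).subtype := LinearMap.ext fun _ => rfl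
    rw [this]
    exact LinearMap.exact_subtype_ker_map π
  have hcomm : f ∘ₗ π' = π ∘ₗ ((LinearMap.range f).comap π).subtype := by
    ext x
    exact hfπ' x
  exact rTensor_injective_of_chase₂ L (Submodule.inclusion hK) π'
    ((LinearMap.range f).comap π).subtype π f hπ's hκ hex2 hπ hcomm hP₀

/-- Key lemma (Tor-free form of `Tor₁(Q, L) = 0` for `R/J`-modules `Q`): if `J ⊗ L → L` is
injective and `L / J L` is flat over `R / J`, then for every injective `f : P → P'` whose
cokernel is killed by `J`, the map `P ⊗ L → P' ⊗ L` is injective. -/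
theorem rTensor_injective_of_smul_mem_range [Module.Flat (R ⧸ J) ((R ⧸ J) ⊗[R] L)]
    (h1 : Function.Injective (J.subtype.rTensor L))
    {P P' : Type*} [AddCommGroup P] [Module R P] [AddCommGroup P'] [Module R P']
    (f : P →ₗ[R] P') (hf : Function.Injective f)
    (hJ : ∀ j ∈ J, ∀ x : P', j • x ∈ LinearMap.range f) :
    Function.Injective (f.rTensor L) :=
  rTensor_injective_of_smul_mem_range_aux J L h1
    (Finsupp.linearCombination R (fun a : P' ↦ a))
    (Finsupp.linearCombination_surjective _ Function.surjective_id) f hf hJ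

end LemmaA

section Milnor

open Groth.Agent.Lib.helper12

variable {B' B A' A : Type u} [CommRing B'] [CommRing B] [CommRing A'] [CommRing A]
  [Algebra B' B] [Algebra B' A'] [Algebra B A] [Algebra A' A] [Algebra B' A]
  [IsScalarTower B' B A] [IsScalarTower B' A' A]

/-- Transport of flatness of `B ⊗ L'` over `B` to the quotient presentation `B' ⧸ J`. -/
theorem flat_quotient_ker (hsq : EtMil.IsFibreSquare B' B A' A)
    (L' : Type*) [AddCommGroup L'] [Module B' L'] [Module.Flat B (B ⊗[B'] L')] :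
    Module.Flat (B' ⧸ RingHom.ker (algebraMap B' B))
      ((B' ⧸ RingHom.ker (algebraMap B' B)) ⊗[B'] L') := by
  have hsurj : Function.Surjective (algebraMap B' B) := milnor_surjective hsq
  let e := RingHom.quotientKerEquivOfSurjective hsurj
  letI : Algebra B (B' ⧸ RingHom.ker (algebraMap B' B)) := e.symm.toRingHom.toAlgebra
  haveI : IsScalarTower B' B (B' ⧸ RingHom.ker (algebraMap B' B)) :=
    IsScalarTower.of_algebraMap_eq (fun x => by
      change _ = e.symm (algebraMap B' B x)
      rw [RingHom.quotientKerEquivOfSurjective_symm_apply]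
      rfl)
  have h1 : Module.Flat (B' ⧸ RingHom.ker (algebraMap B' B))
      ((B' ⧸ RingHom.ker (algebraMap B' B)) ⊗[B] (B ⊗[B'] L')) := inferInstance
  exact Module.Flat.of_linearEquiv
    (AlgebraTensorModule.cancelBaseChange B' B (B' ⧸ RingHom.ker (algebraMap B' B))
      (B' ⧸ RingHom.ker (algebraMap B' B)) L').symm

/-- `J = ker (B' → B)` maps into `I = ker (A' → A)`. -/
theorem algebraMap_mem_ker_of_mem_ker {j : B'} (hj : j ∈ RingHom.ker (algebraMap B' B)) :
    algebraMap B' A' j ∈ RingHom.ker (algebraMap A' A) := by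
  rw [RingHom.mem_ker] at hj ⊢
  rw [← IsScalarTower.algebraMap_apply, IsScalarTower.algebraMap_apply B' B A, hj, map_zero]

/-- Elements of `I = ker (A' → A)` lift uniquely to `J = ker (B' → B)`. -/
theorem exists_mem_ker_algebraMap_eq (hsq : EtMil.IsFibreSquare B' B A' A) {i : A'}
    (hi : i ∈ RingHom.ker (algebraMap A' A)) :
    ∃ j ∈ RingHom.ker (algebraMap B' B), algebraMap B' A' j = i := by
  obtain ⟨b', ⟨h1, h2⟩, -⟩ := hsq.2 0 i (by rw [map_zero, RingHom.mem_ker.mp hi])
  exact ⟨b', h1, h2⟩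

/-- For an ideal `𝔠'` of `A'` inside `I = ker (A' → A)`, the ideal `𝔠'' = 𝔠' ∩ J` of `B'`
(`J = ker (B' → B) ≅ I`) satisfies: `𝔠'' ⊗ L' → L'` is injective if `A' ⊗ L'` is `A'`-flat. -/
theorem subtype_rTensor_injective_of_stable (hsq : EtMil.IsFibreSquare B' B A' A)
    (L' : Type*) [AddCommGroup L'] [Module B' L'] [Module.Flat A' (A' ⊗[B'] L')]
    (𝔠' : Ideal A') (h𝔠' : 𝔠' ≤ RingHom.ker (algebraMap A' A)) :
    Function.Injective
      ((𝔠'.comap (algebraMap B' A') ⊓ RingHom.ker (algebraMap B' B)).subtype.rTensor L') := by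
  set 𝔠'' : Ideal B' := 𝔠'.comap (algebraMap B' A') ⊓ RingHom.ker (algebraMap B' B) with h𝔠''
  have hmem : ∀ x : 𝔠'', algebraMap B' A' x.1 ∈ 𝔠' := fun x => x.2.1
  let ρ : 𝔠'' →ₗ[B'] 𝔠' :=
    { toFun := fun x => ⟨algebraMap B' A' x.1, hmem x⟩
      map_add' := fun x y => Subtype.ext (by simp)
      map_smul' := fun c x => Subtype.ext (by
        change algebraMap B' A' (c * x.1) = c • algebraMap B' A' x.1
        rw [map_mul, Algebra.smul_def]) }
  have hρi : Function.Injective ρ := by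
    intro x y hxy
    have h1 : algebraMap B' A' x.1 = algebraMap B' A' y.1 := congrArg Subtype.val hxy
    have hx : algebraMap B' B x.1 = 0 := x.2.2
    have hy : algebraMap B' B y.1 = 0 := y.2.2
    exact Subtype.ext (milnor_ext hsq (by rw [hx, hy]) h1)
  have hρs : Function.Surjective ρ := by
    intro i
    obtain ⟨j, hj, hji⟩ := exists_mem_ker_algebraMap_eq hsq (h𝔠' i.2)
    refine ⟨⟨j, ?_, hj⟩, Subtype.ext hji⟩
    change algebraMap B' A' j ∈ 𝔠'
    rw [hji]
    exact i.2
  let ρe : 𝔠'' ≃ₗ[B'] 𝔠' := LinearEquiv.ofBijective ρ ⟨hρi, hρs⟩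
  have h1 : Function.Injective ((𝔠'.subtype.restrictScalars B').rTensor L') :=
    rTensor_injective_of_flat_baseChange (R := B') (S := A') L' 𝔠'.subtype
      𝔠'.injective_subtype
  have h2 : (𝔠'.subtype.restrictScalars B') ∘ₗ ρ = (Algebra.linearMap B' A') ∘ₗ 𝔠''.subtype :=
    LinearMap.ext fun _ => rfl
  have h3 : Function.Injective (((𝔠'.subtype.restrictScalars B') ∘ₗ ρ).rTensor L') := by
    rw [LinearMap.rTensor_comp]
    exact h1.comp (LinearEquiv.rTensor L' ρe).injective
  rw [h2, LinearMap.rTensor_comp] at h3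
  exact Function.Injective.of_comp h3

/-- `J ⊗ L' → L'` is injective if `A' ⊗ L'` is flat over `A'`. -/
theorem ker_subtype_rTensor_injective (hsq : EtMil.IsFibreSquare B' B A' A)
    (L' : Type*) [AddCommGroup L'] [Module B' L'] [Module.Flat A' (A' ⊗[B'] L')] :
    Function.Injective ((RingHom.ker (algebraMap B' B)).subtype.rTensor L') := by
  have h := subtype_rTensor_injective_of_stable hsq L' (RingHom.ker (algebraMap A' A)) le_rfl
  have h2 : (RingHom.ker (algebraMap A' A)).comap (algebraMap B' A') ⊓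
      RingHom.ker (algebraMap B' B) = RingHom.ker (algebraMap B' B) :=
    inf_eq_right.mpr fun j hj => algebraMap_mem_ker_of_mem_ker hj
  rwa [h2] at h

/-- Products `j * x` with `j ∈ J`, `algebraMap x ∈ 𝔠 A'`, `𝔠 ⊆ J`, lie in `𝔠`. -/
theorem mul_mem_of_mem_map (hsq : EtMil.IsFibreSquare B' B A' A) (𝔠 : Ideal B')
    (h𝔠 : 𝔠 ≤ RingHom.ker (algebraMap B' B)) {j x : B'}
    (hj : j ∈ RingHom.ker (algebraMap B' B)) (hxJ : x ∈ RingHom.ker (algebraMap B' B))
    (hx : algebraMap B' A' x ∈ 𝔠.map (algebraMap B' A')) : j * x ∈ 𝔠 := by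
  have key : ∀ y ∈ 𝔠.map (algebraMap B' A'), ∀ j ∈ RingHom.ker (algebraMap B' B),
      ∃ c ∈ 𝔠, algebraMap B' A' c = algebraMap B' A' j * y := by
    intro y hy
    refine Submodule.span_induction (p := fun y _ => ∀ j ∈ RingHom.ker (algebraMap B' B),
      ∃ c ∈ 𝔠, algebraMap B' A' c = algebraMap B' A' j * y) ?_ ?_ ?_ ?_ hy
    · rintro _ ⟨c₀, hc₀, rfl⟩ j _
      exact ⟨j * c₀, 𝔠.mul_mem_left _ hc₀, by rw [map_mul]⟩
    · intro j _
      exact ⟨0, 𝔠.zero_mem, by simp⟩
    · intro y z _ _ hy hz j hj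
      obtain ⟨c₁, hc₁, e₁⟩ := hy j hj
      obtain ⟨c₂, hc₂, e₂⟩ := hz j hj
      exact ⟨c₁ + c₂, 𝔠.add_mem hc₁ hc₂, by rw [map_add, e₁, e₂, mul_add]⟩
    · intro a' y _ hy j hj
      have hI : algebraMap B' A' j * a' ∈ RingHom.ker (algebraMap A' A) :=
        Ideal.mul_mem_right _ _ (algebraMap_mem_ker_of_mem_ker hj)
      obtain ⟨j', hj', e'⟩ := exists_mem_ker_algebraMap_eq hsq hI
      obtain ⟨c, hc, e⟩ := hy j' hj'
      exact ⟨c, hc, by rw [e, e', smul_eq_mul, mul_assoc]⟩
  obtain ⟨c, hc, e⟩ := key _ hx j hj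
  have h1 : algebraMap B' B c = algebraMap B' B (j * x) := by
    rw [RingHom.mem_ker.mp (h𝔠 hc), map_mul, RingHom.mem_ker.mp hj, zero_mul]
  have h2 : algebraMap B' A' c = algebraMap B' A' (j * x) := by rw [e, map_mul]
  rw [← milnor_ext hsq h1 h2]
  exact hc

/-- Ideals inside `J`. -/
theorem subtype_rTensor_injective_of_le_ker (hsq : EtMil.IsFibreSquare B' B A' A)
    (L' : Type*) [AddCommGroup L'] [Module B' L']
    [Module.Flat B (B ⊗[B'] L')] [Module.Flat A' (A' ⊗[B'] L')]
    (𝔠 : Ideal B') (h𝔠 : 𝔠 ≤ RingHom.ker (algebraMap B' B)) :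
    Function.Injective (𝔠.subtype.rTensor L') := by
  haveI := flat_quotient_ker hsq L'
  have hJ := ker_subtype_rTensor_injective hsq L'
  have h𝔠' : 𝔠.map (algebraMap B' A') ≤ RingHom.ker (algebraMap A' A) := by
    rw [Ideal.map_le_iff_le_comap]
    intro c hc
    exact algebraMap_mem_ker_of_mem_ker (h𝔠 hc)
  have hle : 𝔠 ≤ (𝔠.map (algebraMap B' A')).comap (algebraMap B' A') ⊓
      RingHom.ker (algebraMap B' B) := le_inf Ideal.le_comap_map h𝔠
  have h1 := subtype_rTensor_injective_of_stable hsq L' _ h𝔠'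
  have h2 : Function.Injective ((Submodule.inclusion hle).rTensor L') := by
    apply rTensor_injective_of_smul_mem_range _ L' hJ _ (Submodule.inclusion_injective hle)
    intro j hj x
    refine ⟨⟨j * x.1, mul_mem_of_mem_map hsq 𝔠 h𝔠 hj x.2.2 x.2.1⟩, ?_⟩
    apply Subtype.ext
    rfl
  have h3 : 𝔠.subtype = Submodule.subtype _ ∘ₗ Submodule.inclusion hle :=
    LinearMap.ext fun _ => rfl
  rw [h3, LinearMap.rTensor_comp]
  exact h1.comp h2

/-- **Descent of flatness along a Milnor square.** -/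
theorem flat_of_flat_baseChangePair (hsq : EtMil.IsFibreSquare B' B A' A)
    (L' : Type*) [AddCommGroup L'] [Module B' L']
    [Module.Flat B (B ⊗[B'] L')] [Module.Flat A' (A' ⊗[B'] L')] : Module.Flat B' L' := by
  haveI := flat_quotient_ker hsq L'
  rw [Module.Flat.iff_rTensor_injective']
  intro 𝔟
  set J : Ideal B' := RingHom.ker (algebraMap B' B) with hJdef
  have hle : 𝔟 ⊓ J ≤ 𝔟 := inf_le_left
  let μ : ↥(𝔟 ⊓ J) →ₗ[B'] 𝔟 := Submodule.inclusion hle
  have hrange : ∀ b : 𝔟, b ∈ LinearMap.range μ ↔ b.1 ∈ J := by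
    intro b
    constructor
    · rintro ⟨z, rfl⟩
      exact z.2.2
    · intro hb
      exact ⟨⟨b.1, b.2, hb⟩, Subtype.ext rfl⟩
  have hle2 : LinearMap.range μ ≤ Submodule.comap 𝔟.subtype J := by
    intro b hb
    exact (hrange b).mp hb
  let g : (𝔟 ⧸ LinearMap.range μ) →ₗ[B'] (B' ⧸ J) := Submodule.mapQ _ J 𝔟.subtype hle2
  have hg : Function.Injective g := by
    rw [injective_iff_map_eq_zero]
    intro x hx
    obtain ⟨b, rfl⟩ := Submodule.mkQ_surjective _ x
    rw [Submodule.mkQ_apply, Submodule.mapQ_apply, Submodule.Quotient.mk_eq_zero] at hx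
    rw [Submodule.mkQ_apply, Submodule.Quotient.mk_eq_zero]
    exact (hrange b).mpr hx
  have hQ₁ : ∀ j ∈ J, ∀ q : 𝔟 ⧸ LinearMap.range μ, j • q = 0 := by
    intro j hj q
    obtain ⟨b, rfl⟩ := Submodule.mkQ_surjective _ q
    rw [← map_smul, Submodule.mkQ_apply, Submodule.Quotient.mk_eq_zero, hrange]
    exact J.mul_mem_right _ hj
  have hQ₂ : ∀ j ∈ J, ∀ q : B' ⧸ J, j • q = 0 := by
    intro j hj q
    obtain ⟨x, rfl⟩ := Submodule.mkQ_surjective _ q
    rw [← map_smul, Submodule.mkQ_apply, Submodule.Quotient.mk_eq_zero]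
    exact J.mul_mem_right _ hj
  refine rTensor_injective_of_chase₁ L' μ 𝔟.subtype (LinearMap.range μ).mkQ
    (Submodule.mkQ J) g (LinearMap.exact_map_mkQ_range μ)
    (Submodule.mkQ_surjective _) ?_ ?_ (rTensor_injective_of_torsion J L' hQ₁ hQ₂ g hg)
  · ext b
    rfl
  · have : 𝔟.subtype ∘ₗ μ = (𝔟 ⊓ J).subtype := LinearMap.ext fun _ => rfl
    rw [this]
    exact subtype_rTensor_injective_of_le_ker hsq L' (𝔟 ⊓ J) inf_le_right

end Milnor

end Groth.Agent.Lib.helper8.Mil
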