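import Mathlib
import Groth.Agent.Lib.Helper8.MilnorFlat

/-!
# Local criterion of flatness, Tor-free (helper8)

`J` an ideal of `R`, `L` an `R`-module with
* (H1) `J ⊗ L → L` injective (i.e. `Tor₁(R/J, L) = 0`),
* (H2) `L / J L` flat over `R / J`.
Then `P ⊗ L → P' ⊗ L` is injective whenever `P ⊆ P'` with `Jⁿ P' ⊆ P`; hence `L / Jⁿ L` is flat
over `R / Jⁿ`, and `L` is flat if `J` is nilpotent, or in the Noetherian "idealwise separated"
situation.
-/

set_option autoImplicit false
set_option linter.unusedSectionVars false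
universe u

open TensorProduct

namespace Groth.Agent.Lib.helper8.LocalFlat

open Groth.Agent.Lib.helper8.Mil

section BaseChange

variable {R S : Type*} [CommRing R] [CommRing S] [Algebra R S]
  (L : Type*) [AddCommGroup L] [Module R L]

/-- Naturality of `cancelBaseChange`. -/
theorem cancelBaseChange_rTensor
    {Q₁ Q₂ : Type*} [AddCommGroup Q₁] [Module R Q₁] [Module S Q₁] [IsScalarTower R S Q₁]
    [AddCommGroup Q₂] [Module R Q₂] [Module S Q₂] [IsScalarTower R S Q₂]
    (g : Q₁ →ₗ[S] Q₂) (z : Q₁ ⊗[S] (S ⊗[R] L)) :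
    (g.restrictScalars R).rTensor L (AlgebraTensorModule.cancelBaseChange R S S Q₁ L z) =
      AlgebraTensorModule.cancelBaseChange R S S Q₂ L (g.rTensor (S ⊗[R] L) z) := by
  induction z using TensorProduct.induction_on with
  | zero => simp
  | add x y hx hy => simp only [map_add, hx, hy]
  | tmul q w =>
    induction w using TensorProduct.induction_on with
    | zero => simp
    | add x y hx hy => simp only [tmul_add, map_add, hx, hy]
    | tmul s l => simp

/-- `S ⊗[R] L` is `S`-flat as soon as `- ⊗[R] L` preserves the injectivity of the inclusions of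
the ideals of `S`. -/
theorem flat_baseChange_of_forall_ideal
    (h : ∀ 𝔟 : Ideal S, Function.Injective ((𝔟.subtype.restrictScalars R).rTensor L)) :
    Module.Flat S (S ⊗[R] L) := by
  rw [Module.Flat.iff_rTensor_injective']
  intro 𝔟
  intro x y hxy
  apply (AlgebraTensorModule.cancelBaseChange R S S 𝔟 L).injective
  apply h 𝔟
  rw [cancelBaseChange_rTensor, cancelBaseChange_rTensor, hxy]

end BaseChange

section Pow

variable {R : Type u} [CommRing R] (J : Ideal R) (L : Type*) [AddCommGroup L] [Module R L]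

/-- **Key lemma, power version.** -/
theorem rTensor_injective_of_pow_smul_mem_range [Module.Flat (R ⧸ J) ((R ⧸ J) ⊗[R] L)]
    (h1 : Function.Injective (J.subtype.rTensor L)) (n : ℕ)
    {P P' : Type u} [AddCommGroup P] [Module R P] [AddCommGroup P'] [Module R P']
    (f : P →ₗ[R] P') (hf : Function.Injective f)
    (hJ : ∀ j ∈ J ^ n, ∀ x : P', j • x ∈ LinearMap.range f) :
    Function.Injective (f.rTensor L) := by
  induction n generalizing P with
  | zero =>
    have hsurj : Function.Surjective f := by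
      intro x
      have := hJ 1 (by simp) x
      rwa [one_smul] at this
    exact (LinearEquiv.rTensor L (LinearEquiv.ofBijective f ⟨hf, hsurj⟩)).injective
  | succ n ih =>
    let P₁ : Submodule R P' := LinearMap.range f ⊔ (J ^ n) • (⊤ : Submodule R P')
    have hfP₁ : ∀ p, f p ∈ P₁ := fun p => Submodule.mem_sup_left ⟨p, rfl⟩
    let f₁ : P →ₗ[R] P₁ := f.codRestrict P₁ hfP₁
    have hf₁ : Function.Injective f₁ := fun x y hxy => hf (congrArg Subtype.val hxy)
    have h2 : Function.Injective (P₁.subtype.rTensor L) := by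
      apply ih P₁.subtype P₁.injective_subtype
      intro j hj x
      rw [Submodule.range_subtype]
      exact Submodule.mem_sup_right (Submodule.smul_mem_smul hj Submodule.mem_top)
    have h3 : Function.Injective (f₁.rTensor L) := by
      apply rTensor_injective_of_smul_mem_range J L h1 f₁ hf₁
      intro j hj y
      have key : ∀ z ∈ P₁, j • z ∈ LinearMap.range f := by
        intro z hz
        obtain ⟨a, ⟨p, rfl⟩, b, hb, rfl⟩ := Submodule.mem_sup.mp hz
        rw [smul_add]
        refine Submodule.add_mem _ ⟨j • p, by rw [map_smul]⟩ ?_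
        refine Submodule.smul_induction_on hb ?_ ?_
        · intro a ha x _
          rw [smul_smul]
          exact hJ (j * a) (by rw [pow_succ']; exact Ideal.mul_mem_mul hj ha) x
        · intro x y hx hy
          rw [smul_add]
          exact Submodule.add_mem _ hx hy
      obtain ⟨p, hp⟩ := key y.1 y.2
      exact ⟨p, Subtype.ext hp⟩
    have h4 : f = P₁.subtype ∘ₗ f₁ := LinearMap.ext fun _ => rfl
    rw [h4, LinearMap.rTensor_comp]
    exact h2.comp h3

/-- If `J` is nilpotent, (H1) and (H2) imply flatness. -/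
theorem flat_of_isNilpotent [Module.Flat (R ⧸ J) ((R ⧸ J) ⊗[R] L)]
    (h1 : Function.Injective (J.subtype.rTensor L)) (hJ : IsNilpotent J) : Module.Flat R L := by
  obtain ⟨n, hn⟩ := hJ
  rw [Module.Flat.iff_rTensor_injective']
  intro 𝔟
  apply rTensor_injective_of_pow_smul_mem_range J L h1 n 𝔟.subtype 𝔟.injective_subtype
  intro j hj x
  rw [hn] at hj
  rw [(Submodule.mem_bot R).mp hj, zero_smul]
  exact Submodule.zero_mem _

/-- (H1) and (H2) imply that `L / Jⁿ L` is flat over `R / Jⁿ`. -/
theorem flat_quotient_pow [Module.Flat (R ⧸ J) ((R ⧸ J) ⊗[R] L)]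
    (h1 : Function.Injective (J.subtype.rTensor L)) (n : ℕ) :
    Module.Flat (R ⧸ J ^ n) ((R ⧸ J ^ n) ⊗[R] L) := by
  apply flat_baseChange_of_forall_ideal
  intro 𝔟'
  -- the preimage ideal of `R`
  let 𝔟 : Ideal R := 𝔟'.comap (Ideal.Quotient.mk (J ^ n))
  have hle : J ^ n ≤ 𝔟 := by
    intro x hx
    change Ideal.Quotient.mk (J ^ n) x ∈ 𝔟'
    rw [Ideal.Quotient.eq_zero_iff_mem.mpr hx]
    exact 𝔟'.zero_mem
  have h𝔟 : Function.Injective (𝔟.subtype.rTensor L) := by
    apply rTensor_injective_of_pow_smul_mem_range J L h1 n 𝔟.subtype 𝔟.injective_subtype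
    intro j hj x
    rw [Submodule.range_subtype]
    exact 𝔟.mul_mem_right _ (hle hj)
  let π : R →ₗ[R] (R ⧸ J ^ n) := (Submodule.mkQ (J ^ n))
  let π' : 𝔟 →ₗ[R] 𝔟' :=
    { toFun := fun x => ⟨Ideal.Quotient.mk (J ^ n) x.1, x.2⟩
      map_add' := fun x y => Subtype.ext (by simp)
      map_smul' := fun c x => Subtype.ext (by
        change Ideal.Quotient.mk (J ^ n) (c * x.1) = c • Ideal.Quotient.mk (J ^ n) x.1
        rw [map_mul, Algebra.smul_def]
        rfl) }
  refine rTensor_injective_of_chase₂ L (K := (J ^ n : Ideal R)) (P₀ := 𝔟) (P := 𝔟') (F := R)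
    (P' := R ⧸ J ^ n) (Submodule.inclusion hle) π' 𝔟.subtype π
    (𝔟'.subtype.restrictScalars R) ?_ ?_ ?_ (Submodule.mkQ_surjective _) ?_ h𝔟
  · rintro ⟨y, hy⟩
    obtain ⟨x, rfl⟩ := Ideal.Quotient.mk_surjective y
    exact ⟨⟨x, hy⟩, rfl⟩
  · ext k
    change Ideal.Quotient.mk (J ^ n) k.1 = 0
    exact Ideal.Quotient.eq_zero_iff_mem.mpr k.2
  · have : 𝔟.subtype ∘ₗ Submodule.inclusion hle = (J ^ n : Ideal R).subtype :=
      LinearMap.ext fun _ => rfl
    rw [this]
    intro x
    constructor
    · intro hx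
      exact ⟨⟨x, (Submodule.Quotient.mk_eq_zero _).mp hx⟩, rfl⟩
    · rintro ⟨k, rfl⟩
      exact (Submodule.Quotient.mk_eq_zero _).mpr k.2
  · ext x
    rfl

end Pow

section MapIdeal

variable {R S : Type*} [CommRing R] [CommRing S] [Algebra R S] (I : Ideal R)
  (M : Type*) [AddCommGroup M] [Module S M] [Module R M] [IsScalarTower R S M]

/-- The additive map `I → IS`. -/
noncomputable def mapIdeal : I →+ I.map (algebraMap R S) where
  toFun := fun i => ⟨algebraMap R S i.1, Ideal.mem_map_of_mem _ i.2⟩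
  map_zero' := Subtype.ext (by simp)
  map_add' := fun x y => Subtype.ext (by simp)

theorem mapIdeal_smul (r : R) (i : I) :
    mapIdeal (S := S) I (r • i) = algebraMap R S r • mapIdeal I i := by
  apply Subtype.ext
  change algebraMap R S (r * i.1) = algebraMap R S r * algebraMap R S i.1
  rw [map_mul]

/-- The additive map `I ⊗[R] M → IS ⊗[S] M`. -/
noncomputable def mapTensor : I ⊗[R] M →+ (I.map (algebraMap R S)) ⊗[S] M :=
  TensorProduct.liftAddHom
    (AddMonoidHom.mk' (fun i => AddMonoidHom.mk' (fun m => mapIdeal I i ⊗ₜ[S] m)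
        (fun x y => TensorProduct.tmul_add _ x y))
      (fun x y => by
        ext m
        simp only [AddMonoidHom.mk'_apply, AddMonoidHom.add_apply, map_add,
          TensorProduct.add_tmul]))
    (by
      intro r i m
      simp only [AddMonoidHom.mk'_apply]
      rw [mapIdeal_smul, TensorProduct.smul_tmul, algebraMap_smul])

@[simp] theorem mapTensor_tmul (i : I) (m : M) :
    mapTensor I M (i ⊗ₜ[R] m) = mapIdeal (S := S) I i ⊗ₜ[S] m := rfl

theorem mapTensor_surjective : Function.Surjective (mapTensor (S := S) I M) := by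
  intro y
  induction y using TensorProduct.induction_on with
  | zero => exact ⟨0, map_zero _⟩
  | add x y hx hy =>
    obtain ⟨a, rfl⟩ := hx
    obtain ⟨b, rfl⟩ := hy
    exact ⟨a + b, map_add _ _ _⟩
  | tmul j m =>
    obtain ⟨j, hj⟩ := j
    revert m
    refine Submodule.span_induction (p := fun j hj => ∀ m : M,
      ∃ a, mapTensor I M a = (⟨j, hj⟩ : I.map (algebraMap R S)) ⊗ₜ[S] m) ?_ ?_ ?_ ?_ hj
    · rintro _ ⟨i, hi, rfl⟩ m
      exact ⟨(⟨i, hi⟩ : I) ⊗ₜ[R] m, rfl⟩
    · intro m
      refine ⟨0, ?_⟩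
      rw [map_zero]
      have : (⟨(0 : S), (I.map (algebraMap R S)).zero_mem⟩ : I.map (algebraMap R S)) = 0 := rfl
      rw [this, TensorProduct.zero_tmul]
    · intro x y hx hy ihx ihy m
      obtain ⟨a, ha⟩ := ihx m
      obtain ⟨b, hb⟩ := ihy m
      refine ⟨a + b, ?_⟩
      rw [map_add, ha, hb, ← TensorProduct.add_tmul]
      rfl
    · intro s x hx ihx m
      obtain ⟨a, ha⟩ := ihx (s • m)
      refine ⟨a, ?_⟩
      rw [ha, ← TensorProduct.smul_tmul]
      rfl

theorem lid_rTensor_mapTensor (x : I ⊗[R] M) :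
    TensorProduct.lid S M ((I.map (algebraMap R S)).subtype.rTensor M (mapTensor I M x)) =
      TensorProduct.lid R M (I.subtype.rTensor M x) := by
  induction x using TensorProduct.induction_on with
  | zero => simp
  | add x y hx hy => simp only [map_add, hx, hy]
  | tmul i m =>
    rw [mapTensor_tmul, LinearMap.rTensor_tmul, LinearMap.rTensor_tmul, TensorProduct.lid_tmul,
      TensorProduct.lid_tmul]
    change algebraMap R S i.1 • m = i.1 • m
    rw [algebraMap_smul]

/-- (H1) over `R` implies (H1) over `S` for the extended ideal. -/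
theorem map_subtype_rTensor_injective (h : Function.Injective (I.subtype.rTensor M)) :
    Function.Injective ((I.map (algebraMap R S)).subtype.rTensor M) := by
  rw [injective_iff_map_eq_zero]
  intro y hy
  obtain ⟨x, rfl⟩ := mapTensor_surjective (S := S) I M y
  have h2 := lid_rTensor_mapTensor (S := S) I M x
  rw [hy, map_zero] at h2
  have h3 : I.subtype.rTensor M x = 0 := (TensorProduct.lid R M).injective (by rw [← h2, map_zero])
  have h4 : x = 0 := h (by rw [h3, map_zero])
  rw [h4, map_zero]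

end MapIdeal

section Noeth

/-- Partial conclusion of the first chase: an element of `P ⊗ L` dying in `F ⊗ L` comes from
`G ⊗ L`. -/
theorem exists_rTensor_eq_of_chase₁ {R : Type*} [CommRing R] (L : Type*) [AddCommGroup L]
    [Module R L]
    {G P F Q₁ Q₂ : Type*} [AddCommGroup G] [Module R G] [AddCommGroup P] [Module R P]
    [AddCommGroup F] [Module R F] [AddCommGroup Q₁] [Module R Q₁] [AddCommGroup Q₂] [Module R Q₂]
    (μ : G →ₗ[R] P) (ι : P →ₗ[R] F) (q₁ : P →ₗ[R] Q₁) (q₂ : F →ₗ[R] Q₂) (g : Q₁ →ₗ[R] Q₂)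
    (hex : Function.Exact μ q₁) (hq₁ : Function.Surjective q₁)
    (hcomm : g ∘ₗ q₁ = q₂ ∘ₗ ι) (h2 : Function.Injective (g.rTensor L))
    (x : P ⊗[R] L) (hx : ι.rTensor L x = 0) : ∃ y, μ.rTensor L y = x := by
  have h3 : g.rTensor L (q₁.rTensor L x) = 0 := by
    rw [← LinearMap.comp_apply, ← LinearMap.rTensor_comp, hcomm, LinearMap.rTensor_comp,
      LinearMap.comp_apply, hx, map_zero]
  have h4 : q₁.rTensor L x = 0 := h2 (by rw [h3, map_zero])
  exact (rTensor_exact L hex hq₁ x).1 h4

/-- Finiteness of `M ⊗[R] N` over `S` for `M` finite over `S` and `N` finite over `R`. -/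
theorem finite_tensor_left {R S : Type*} [CommRing R] [CommRing S] [Algebra R S]
    (M N : Type*) [AddCommGroup M] [Module R M] [Module S M] [IsScalarTower R S M]
    [AddCommGroup N] [Module R N] [Module.Finite S M] [Module.Finite R N] :
    Module.Finite S (M ⊗[R] N) := by
  obtain ⟨n, f, hf⟩ := Module.Finite.exists_fin' R N
  have h1 : Function.Surjective (AlgebraTensorModule.lTensor S M f) := by
    have : Function.Surjective (f.lTensor M) := LinearMap.lTensor_surjective M hf
    exact this
  haveI : Module.Finite S (M ⊗[R] (Fin n → R)) :=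
    Module.Finite.equiv (TensorProduct.piScalarRight R S M (Fin n)).symm
  exact Module.Finite.of_surjective _ h1

/-- `(inclusion 𝔠 ≤ 𝔟) ⊗ M` has range in `𝔞 • ⊤` when `𝔠 ≤ 𝔞 * 𝔟`. -/
theorem range_inclusion_rTensor_le {R : Type*} [CommRing R] (M : Type*) [AddCommGroup M]
    [Module R M] (𝔞 𝔟 𝔠 : Ideal R) (h𝔠 : 𝔠 ≤ 𝔟) (h : 𝔠 ≤ 𝔞 * 𝔟) (y : 𝔠 ⊗[R] M) :
    (Submodule.inclusion h𝔠).rTensor M y ∈ 𝔞 • (⊤ : Submodule R (𝔟 ⊗[R] M)) := by
  have key : ∀ c ∈ 𝔞 * 𝔟, ∃ hc : c ∈ 𝔟, ∀ m : M,
      (⟨c, hc⟩ : 𝔟) ⊗ₜ[R] m ∈ 𝔞 • (⊤ : Submodule R (𝔟 ⊗[R] M)) := by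
    intro c hc
    refine Submodule.mul_induction_on hc ?_ ?_
    · intro a ha b hb
      refine ⟨𝔟.mul_mem_left a hb, fun m => ?_⟩
      have : (⟨a * b, 𝔟.mul_mem_left a hb⟩ : 𝔟) = a • (⟨b, hb⟩ : 𝔟) := rfl
      rw [this, ← TensorProduct.smul_tmul']
      exact Submodule.smul_mem_smul ha Submodule.mem_top
    · rintro c₁ c₂ ⟨hc₁, h₁⟩ ⟨hc₂, h₂⟩
      refine ⟨𝔟.add_mem hc₁ hc₂, fun m => ?_⟩
      have : (⟨c₁ + c₂, 𝔟.add_mem hc₁ hc₂⟩ : 𝔟) = ⟨c₁, hc₁⟩ + ⟨c₂, hc₂⟩ := rfl
      rw [this, TensorProduct.add_tmul]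
      exact Submodule.add_mem _ (h₁ m) (h₂ m)
  induction y using TensorProduct.induction_on with
  | zero => simp
  | add x y hx hy => rw [map_add]; exact Submodule.add_mem _ hx hy
  | tmul c m =>
    obtain ⟨hc, hk⟩ := key c.1 (h c.2)
    exact hk m

/-- **Local criterion of flatness, idealwise-separated Noetherian form.** If `M` is a finite
module over a Noetherian `R`-algebra `S`, `I S` lies in the Jacobson radical of `S`, and
`M / Iᵏ M` is flat over `R / Iᵏ` for all `k ≥ 1`, then `M` is flat over `R`. -/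
theorem flat_of_forall_flat_quotient_pow {R S M : Type u} [CommRing R] [CommRing S]
    [IsNoetherianRing R] [IsNoetherianRing S] [Algebra R S]
    [AddCommGroup M] [Module R M] [Module S M] [IsScalarTower R S M] [Module.Finite S M]
    (I : Ideal R) (hI : I.map (algebraMap R S) ≤ Ideal.jacobson ⊥)
    (h : ∀ k : ℕ, 0 < k → Module.Flat (R ⧸ I ^ k) ((R ⧸ I ^ k) ⊗[R] M)) : Module.Flat R M := by
  rw [Module.Flat.iff_rTensor_injective']
  intro 𝔟
  rw [injective_iff_map_eq_zero]
  intro x hx
  -- Step 1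
  have step1 : ∀ k : ℕ, 0 < k →
      ∃ y, (Submodule.inclusion (inf_le_right : I ^ k ⊓ 𝔟 ≤ 𝔟)).rTensor M y = x := by
    intro k hk
    haveI := h k hk
    let μ : ↥(I ^ k ⊓ 𝔟) →ₗ[R] 𝔟 := Submodule.inclusion inf_le_right
    have hrange : ∀ b : 𝔟, b ∈ LinearMap.range μ ↔ b.1 ∈ I ^ k := by
      intro b
      constructor
      · rintro ⟨z, rfl⟩
        exact z.2.1
      · intro hb
        exact ⟨⟨b.1, hb, b.2⟩, Subtype.ext rfl⟩
    have hle2 : LinearMap.range μ ≤ Submodule.comap 𝔟.subtype (I ^ k) := fun b hb =>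
      (hrange b).mp hb
    let g : (𝔟 ⧸ LinearMap.range μ) →ₗ[R] (R ⧸ I ^ k) := Submodule.mapQ _ (I ^ k) 𝔟.subtype hle2
    have hg : Function.Injective g := by
      rw [injective_iff_map_eq_zero]
      intro z hz
      obtain ⟨b, rfl⟩ := Submodule.mkQ_surjective _ z
      rw [Submodule.mkQ_apply, Submodule.mapQ_apply, Submodule.Quotient.mk_eq_zero] at hz
      rw [Submodule.mkQ_apply, Submodule.Quotient.mk_eq_zero]
      exact (hrange b).mpr hz
    have hQ₁ : ∀ j ∈ I ^ k, ∀ q : 𝔟 ⧸ LinearMap.range μ, j • q = 0 := by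
      intro j hj q
      obtain ⟨b, rfl⟩ := Submodule.mkQ_surjective _ q
      rw [← map_smul, Submodule.mkQ_apply, Submodule.Quotient.mk_eq_zero, hrange]
      exact (I ^ k).mul_mem_right _ hj
    have hQ₂ : ∀ j ∈ I ^ k, ∀ q : R ⧸ I ^ k, j • q = 0 := by
      intro j hj q
      obtain ⟨r, rfl⟩ := Submodule.mkQ_surjective _ q
      rw [← map_smul, Submodule.mkQ_apply, Submodule.Quotient.mk_eq_zero]
      exact (I ^ k).mul_mem_right _ hj
    exact exists_rTensor_eq_of_chase₁ M μ 𝔟.subtype (LinearMap.range μ).mkQ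
      (Submodule.mkQ (I ^ k)) g (LinearMap.exact_map_mkQ_range μ) (Submodule.mkQ_surjective _)
      (by ext b; rfl) (rTensor_injective_of_torsion (I ^ k) M hQ₁ hQ₂ g hg) x hx
  -- Step 2: Artin–Rees
  obtain ⟨k₀, hk₀⟩ := Ideal.exists_pow_inf_eq_pow_smul I (𝔟 : Submodule R R)
  have step2 : ∀ m : ℕ, x ∈ (I ^ m) • (⊤ : Submodule R (𝔟 ⊗[R] M)) := by
    intro m
    obtain ⟨y, rfl⟩ := step1 (m + k₀ + 1) (Nat.succ_pos _)
    apply range_inclusion_rTensor_le M (I ^ m) 𝔟 _ inf_le_right
    intro c hc
    have h1 := hk₀ (m + k₀ + 1) (by omega)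
    have h2 : c ∈ I ^ (m + k₀ + 1) • (⊤ : Submodule R R) ⊓ 𝔟 := by
      refine ⟨?_, hc.2⟩
      rw [smul_eq_mul, Ideal.mul_top]
      exact hc.1
    rw [h1] at h2
    have h3 : m + k₀ + 1 - k₀ = m + 1 := by omega
    rw [h3] at h2
    have h4 : I ^ (m + 1) • (I ^ k₀ • (⊤ : Submodule R R) ⊓ 𝔟) ≤ I ^ m * 𝔟 := by
      rw [smul_eq_mul]
      exact Ideal.mul_mono (Ideal.pow_le_pow_right (Nat.le_succ m)) inf_le_right
    exact h4 h2
  -- Step 3: Krull
  haveI : Module.Finite S (M ⊗[R] 𝔟) := finite_tensor_left M 𝔟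
  have step3 : TensorProduct.comm R 𝔟 M x ∈
      (⨅ i : ℕ, (I.map (algebraMap R S)) ^ i • ⊤ : Submodule S (M ⊗[R] 𝔟)) := by
    rw [Submodule.mem_iInf]
    intro m
    have hm := step2 m
    refine Submodule.smul_induction_on hm ?_ ?_
    · intro i hi z _
      rw [map_smul, ← algebraMap_smul S i]
      refine Submodule.smul_mem_smul ?_ Submodule.mem_top
      rw [← Ideal.map_pow]
      exact Ideal.mem_map_of_mem _ hi
    · intro a b ha hb
      rw [map_add]
      exact Submodule.add_mem _ ha hb
  rw [Ideal.iInf_pow_smul_eq_bot_of_le_jacobson _ hI, Submodule.mem_bot] at step3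
  exact (TensorProduct.comm R 𝔟 M).injective (by rw [step3, map_zero])

end Noeth

section Descent

/-- Naturality of `cancelBaseChange` in the last variable. -/
theorem cancelBaseChange_lTensor {R S : Type*} [CommRing R] [CommRing S] [Algebra R S]
    (M : Type*) [AddCommGroup M] [Module R M] [Module S M] [IsScalarTower R S M]
    {N N' : Type*} [AddCommGroup N] [Module R N] [AddCommGroup N'] [Module R N']
    (f : N →ₗ[R] N') (z : M ⊗[S] (S ⊗[R] N)) :
    AlgebraTensorModule.cancelBaseChange R S S M N' ((f.baseChange S).lTensor M z) =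
      f.lTensor M (AlgebraTensorModule.cancelBaseChange R S S M N z) := by
  induction z using TensorProduct.induction_on with
  | zero => simp
  | add x y hx hy => simp only [map_add, hx, hy]
  | tmul q w =>
    induction w using TensorProduct.induction_on with
    | zero => simp
    | add x y hx hy => simp only [tmul_add, map_add, hx, hy]
    | tmul s l => simp

/-- If `M` is faithfully flat over `S` and flat over `R`, then `S` is flat over `R`. -/
theorem flat_of_faithfullyFlat_of_flat {R S : Type*} [CommRing R] [CommRing S] [Algebra R S]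
    (M : Type*) [AddCommGroup M] [Module R M] [Module S M] [IsScalarTower R S M]
    [Module.Flat R M] [Module.FaithfullyFlat S M] : Module.Flat R S := by
  rw [Module.Flat.iff_lTensor_injective']
  intro I
  have h1 : Function.Injective ((I.subtype.baseChange S).lTensor M) := by
    intro x y hxy
    apply (AlgebraTensorModule.cancelBaseChange R S S M I).injective
    apply Module.Flat.lTensor_preserves_injective_linearMap (M := M) I.subtype
      Subtype.val_injective
    rw [← cancelBaseChange_lTensor, ← cancelBaseChange_lTensor, hxy]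
  exact (Module.FaithfullyFlat.lTensor_injective_iff_injective S M _).mp h1

/-- A nonzero finite module over a local ring `S'` which is flat over a local ring `S` mapping
locally to `S'` is faithfully flat over `S`. -/
theorem faithfullyFlat_of_isLocalHom {S S' : Type*} [CommRing S] [CommRing S'] [IsLocalRing S]
    [IsLocalRing S'] [Algebra S S'] [IsLocalHom (algebraMap S S')]
    (M : Type*) [AddCommGroup M] [Module S M] [Module S' M] [IsScalarTower S S' M]
    [Module.Finite S' M] [Nontrivial M] [Module.Flat S M] : Module.FaithfullyFlat S M := by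
  refine ⟨fun m hm htop => ?_⟩
  have hm' : m = IsLocalRing.maximalIdeal S := IsLocalRing.eq_maximalIdeal hm
  subst hm'
  have hle : (⊤ : Submodule S' M) ≤ IsLocalRing.maximalIdeal S' • ⊤ := by
    intro x _
    have hx : x ∈ IsLocalRing.maximalIdeal S • (⊤ : Submodule S M) := by rw [htop]; trivial
    refine Submodule.smul_induction_on hx ?_ ?_
    · intro s hs y _
      rw [← algebraMap_smul S' s y]
      exact Submodule.smul_mem_smul (IsLocalRing.map_maximalIdeal_le (algebraMap S S')
        (Ideal.mem_map_of_mem _ hs)) Submodule.mem_top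
    · intro a b ha hb
      exact Submodule.add_mem _ ha hb
  have hbot := Submodule.eq_bot_of_le_smul_of_le_jacobson_bot (IsLocalRing.maximalIdeal S')
    (⊤ : Submodule S' M) Module.Finite.fg_top hle (IsLocalRing.maximalIdeal_le_jacobson ⊥)
  exact top_ne_bot hbot

end Descent

section Transport

/-- Transport of flatness between two quotients of the same ring (via the equational
criterion). -/
theorem flat_of_linearEquiv_of_surjective {R R₁ R₂ : Type*} [CommRing R] [CommRing R₁]
    [CommRing R₂] [Algebra R R₁] [Algebra R R₂]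
    (h₁ : Function.Surjective (algebraMap R R₁)) (h₂ : Function.Surjective (algebraMap R R₂))
    (hker : RingHom.ker (algebraMap R R₁) ≤ RingHom.ker (algebraMap R R₂))
    {M₁ M₂ : Type*} [AddCommGroup M₁] [Module R M₁] [Module R₁ M₁] [IsScalarTower R R₁ M₁]
    [AddCommGroup M₂] [Module R M₂] [Module R₂ M₂] [IsScalarTower R R₂ M₂]
    (f : M₁ ≃ₗ[R] M₂) [Module.Flat R₁ M₁] : Module.Flat R₂ M₂ := by
  rw [Module.Flat.iff_forall_isTrivialRelation]
  intro l g x hgx
  choose r hr using fun i => h₂ (g i)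
  have h0 : ∑ i, algebraMap R R₁ (r i) • f.symm (x i) = 0 := by
    apply f.injective
    rw [map_sum, map_zero, ← hgx]
    refine Finset.sum_congr rfl fun i _ => ?_
    rw [algebraMap_smul, map_smul, f.apply_symm_apply, ← hr i, algebraMap_smul]
  obtain ⟨k, a, y, hxy, hay⟩ := Module.Flat.isTrivialRelation_of_sum_smul_eq_zero h0
  choose s hs using fun i j => h₁ (a i j)
  refine ⟨k, fun i j => algebraMap R R₂ (s i j), fun j => f (y j), ?_, ?_⟩
  · intro i
    have h3 := congrArg f (hxy i)
    rw [f.apply_symm_apply, map_sum] at h3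
    rw [h3]
    refine Finset.sum_congr rfl fun j _ => ?_
    rw [← hs i j, algebraMap_smul, map_smul, algebraMap_smul]
  · intro j
    have h4 := hay j
    simp only [← hs, ← map_mul, ← map_sum] at h4
    have h5 : (∑ i, r i * s i j) ∈ RingHom.ker (algebraMap R R₂) := hker h4
    rw [RingHom.mem_ker] at h5
    simp only [← hr, ← map_mul, ← map_sum]
    exact h5

/-- If `A' → A` is surjective with kernel `I`, `B' → B` is surjective with kernel `I B'`, and
`B` is flat over `A`, then `(A'/I) ⊗ B'` is flat over `A'/I`. -/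
theorem flat_quotient_of_surjective {A' A B' B : Type*} [CommRing A'] [CommRing A] [CommRing B']
    [CommRing B] [Algebra A' A] [Algebra A' B'] [Algebra B' B] [Algebra A B] [Algebra A' B]
    [IsScalarTower A' A B] [IsScalarTower A' B' B]
    (hA : Function.Surjective (algebraMap A' A)) (hB : Function.Surjective (algebraMap B' B))
    (hJI : RingHom.ker (algebraMap B' B) = (RingHom.ker (algebraMap A' A)).map (algebraMap A' B'))
    [Module.Flat A B] :
    Module.Flat (A' ⧸ RingHom.ker (algebraMap A' A))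
      ((A' ⧸ RingHom.ker (algebraMap A' A)) ⊗[A'] B') := by
  let π : B' →ₗ[A'] B := (IsScalarTower.toAlgHom A' B' B).toLinearMap
  have hπ : Function.Surjective π := hB
  have hk : (RingHom.ker (algebraMap A' A) • ⊤ : Submodule A' B') = LinearMap.ker π := by
    rw [Ideal.smul_top_eq_map, ← hJI]
    ext x
    simp only [Submodule.restrictScalars_mem, RingHom.mem_ker, LinearMap.mem_ker]
    rfl
  let f : B ≃ₗ[A'] (A' ⧸ RingHom.ker (algebraMap A' A)) ⊗[A'] B' :=
    ((TensorProduct.quotTensorEquivQuotSMul B' (RingHom.ker (algebraMap A' A))) ≪≫ₗ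
      (Submodule.quotEquivOfEq _ _ hk) ≪≫ₗ (π.quotKerEquivOfSurjective hπ)).symm
  refine flat_of_linearEquiv_of_surjective (R := A') (R₁ := A)
    (R₂ := A' ⧸ RingHom.ker (algebraMap A' A)) hA Ideal.Quotient.mk_surjective ?_ f
  intro x hx
  rw [RingHom.mem_ker] at hx ⊢
  exact Ideal.Quotient.eq_zero_iff_mem.mpr hx

/-- Flatness lifts along nilpotent thickenings (`Tor`-free form). -/
theorem flat_of_surjective_of_isNilpotent {A' A B' B : Type u} [CommRing A'] [CommRing A]
    [CommRing B'] [CommRing B] [Algebra A' A] [Algebra A' B'] [Algebra B' B] [Algebra A B]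
    [Algebra A' B] [IsScalarTower A' A B] [IsScalarTower A' B' B]
    (hA : Function.Surjective (algebraMap A' A)) (hB : Function.Surjective (algebraMap B' B))
    (hJI : RingHom.ker (algebraMap B' B) = (RingHom.ker (algebraMap A' A)).map (algebraMap A' B'))
    [Module.Flat A B] (hI : IsNilpotent (RingHom.ker (algebraMap A' A)))
    (hinj : Function.Injective ((RingHom.ker (algebraMap A' A)).subtype.baseChange B')) :
    Module.Flat A' B' := by
  haveI := flat_quotient_of_surjective hA hB hJI
  have h1 : Function.Injective ((RingHom.ker (algebraMap A' A)).subtype.rTensor B') := by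
    rw [← LinearMap.lTensor_inj_iff_rTensor_inj, ← LinearMap.baseChange_eq_ltensor]
    exact hinj
  exact flat_of_isNilpotent _ B' h1 hI

end Transport

end Groth.Agent.Lib.helper8.LocalFlat
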