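import Mathlib
import Groth.Agent.Lib.Helper16.CohStalk

set_option autoImplicit false
universe u
open CategoryTheory AlgebraicGeometry TopologicalSpace Opposite

namespace Groth.Agent.Lib.helper8.FlatSections

open Scheme.Modules Groth.Agent.Lib.helper16.CohStalk

variable {X : Scheme.{u}} (F : X.Modules) [F.IsQuasicoherent] {U : X.Opens}

/-- flat sections over an affine open give flat stalks at its points -/
theorem flat_stalk_of_flat_sections (hU : IsAffineOpen U) [Module.Flat Γ(X, U) Γ(F, U)] (x : X)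
    (hx : x ∈ U) : Module.Flat (X.presheaf.stalk x) (F.presheaf.stalk x) := by
  letI := TopCat.Presheaf.algebra_section_stalk X.presheaf (⟨x, hx⟩ : U)
  letI := modStalk F x hx
  haveI := isScalarTower_stalk F x hx
  haveI : IsLocalization.AtPrime (X.presheaf.stalk x) (hU.primeIdealOf ⟨x, hx⟩).asIdeal :=
    hU.isLocalization_stalk ⟨x, hx⟩
  haveI := isLocalizedModule_stalk F hU x hx
  exact Module.Flat.of_isLocalizedModule (X.presheaf.stalk x)
    (hU.primeIdealOf ⟨x, hx⟩).asIdeal.primeCompl (germLin F x hx)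

/-- flat stalks give flat sections over affine opens -/
theorem flat_sections_of_flat_stalks (hU : IsAffineOpen U)
    (h : ∀ x ∈ U, Module.Flat (X.presheaf.stalk x) (F.presheaf.stalk x)) :
    Module.Flat Γ(X, U) Γ(F, U) := by
  apply Module.flat_of_localized_maximal
  intro P hP
  haveI : P.IsPrime := hP.isPrime
  set p : Spec Γ(X, U) := ⟨P, inferInstance⟩ with hp
  set x : X := hU.fromSpec p with hxdef
  have hx : x ∈ U := by
    have : x ∈ hU.fromSpec.opensRange := ⟨p, rfl⟩
    rwa [hU.opensRange_fromSpec] at this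
  have hpx : hU.primeIdealOf ⟨x, hx⟩ = p := by
    apply hU.fromSpec.isOpenEmbedding.injective
    exact hU.fromSpec_primeIdealOf ⟨x, hx⟩
  letI := TopCat.Presheaf.algebra_section_stalk X.presheaf (⟨x, hx⟩ : U)
  letI := modStalk F x hx
  haveI := isScalarTower_stalk F x hx
  haveI : IsLocalization.AtPrime (X.presheaf.stalk x) (hU.primeIdealOf ⟨x, hx⟩).asIdeal :=
    hU.isLocalization_stalk ⟨x, hx⟩
  haveI hloc := isLocalizedModule_stalk F hU x hx
  haveI : Module.Flat (X.presheaf.stalk x) (F.presheaf.stalk x) := h x hx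
  haveI : Module.Flat Γ(X, U) (X.presheaf.stalk x) :=
    IsLocalization.flat _ (hU.primeIdealOf ⟨x, hx⟩).asIdeal.primeCompl
  haveI : Module.Flat Γ(X, U) (F.presheaf.stalk x) :=
    Module.Flat.trans Γ(X, U) (X.presheaf.stalk x) (F.presheaf.stalk x)
  have hP' : (hU.primeIdealOf ⟨x, hx⟩).asIdeal.primeCompl = P.primeCompl := by rw [hpx]
  rw [hP'] at hloc
  exact Module.Flat.of_linearEquiv
    (IsLocalizedModule.linearEquiv P.primeCompl (LocalizedModule.mkLinearMap P.primeCompl Γ(F, U))
      (germLin F x hx))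

theorem isFlat_iff_flat_sections :
    FlatMod.IsFlat F ↔ ∀ U : X.Opens, IsAffineOpen U → Module.Flat Γ(X, U) Γ(F, U) := by
  constructor
  · intro h U hU
    exact flat_sections_of_flat_stalks F hU (fun x _ => h x)
  · intro h x
    obtain ⟨U, hU, hxU, -⟩ := Opens.isBasis_iff_nbhd.mp X.isBasis_affineOpens
      (show x ∈ (⊤ : X.Opens) from trivial)
    haveI := h U hU
    exact flat_stalk_of_flat_sections F hU x hxU

end Groth.Agent.Lib.helper8.FlatSections
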