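import Mathlib
import Groth.Prelude.Def_AssocGrMod

/-!
# Successive approximation in filtered modules over a precomplete ring

Helper library for the rows on associated graded modules (generators of `gr M` lift to
generators of `M`).
-/

set_option autoImplicit false
universe u

open AssocGr

namespace Groth.Agent.Lib.Helper8.GrApprox

variable {A : Type u} [CommRing A] {I : Ideal A} {M : Type u} [AddCommGroup M] [Module A M]
  (F : I.Filtration M)

theorem antidiag_sum (c : ℕ → A) (d n : ℕ) (x : M) :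
    ∑ p ∈ Finset.HasAntidiagonal.antidiagonal n, c p.1 • (if d = p.2 then x else 0) =
      if d ≤ n then c (n - d) • x else 0 := by
  classical
  by_cases h : d ≤ n
  · rw [if_pos h, Finset.sum_eq_single (n - d, d)]
    · simp
    · rintro ⟨p, q⟩ hp hne
      rw [Finset.HasAntidiagonal.mem_antidiagonal] at hp
      simp only at hp
      by_cases hq : d = q
      · exfalso
        apply hne
        subst hq
        congr 1
        omega
      · simp [hq]
    · intro hn
      exfalso
      apply hn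
      rw [Finset.HasAntidiagonal.mem_antidiagonal]
      simp only
      omega
  · rw [if_neg h]
    refine Finset.sum_eq_zero ?_
    rintro ⟨p, q⟩ hp
    rw [Finset.HasAntidiagonal.mem_antidiagonal] at hp
    simp only at hp
    have : ¬ d = q := by omega
    simp [this]

/-- Key step: if the class of `y ∈ Nₙ` in degree `n` lies in the `gr A`-span of the classes of the
`x i ∈ N_{d i}`, then `y` is congruent modulo `Nₙ₊₁` to a combination `∑ aᵢ xᵢ` with
`aᵢ ∈ I ^ (n - d i)`. -/
theorem key {k : ℕ} (d : Fin k → ℕ) (x : (i : Fin k) → ↥(F.N (d i))) (n : ℕ) (y : ↥(F.N n))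
    (hy : (inDegM F n y : GrMod F) ∈
      Submodule.span (GrRing (FiltBl.IdealFiltration.adic I))
        (Set.range fun i => (inDegM F (d i) (x i) : GrMod F))) :
    ∃ a : Fin k → A, (∀ i, a i ∈ I ^ (n - d i)) ∧
      ((y : M) - ∑ i, a i • ((x i : ↥(F.N (d i))) : M)) ∈ F.N (n + 1) := by
  classical
  obtain ⟨g, hg⟩ := (Submodule.mem_span_range_iff_exists_fun _).mp hy
  choose f hf using fun i => mkG_surjective (FiltBl.IdealFiltration.adic I) (g i)
  have h0 : mkGM F (monomM F n y - ∑ i, f i • monomM F (d i) (x i)) = 0 := by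
    rw [map_sub, map_sum, sub_eq_zero, ← coe_inDegM, ← hg]
    refine Finset.sum_congr rfl fun i _ => ?_
    rw [← mkG_smul_mkGM, hf i, coe_inDegM]
  rw [mkGM_eq_zero_iff, mem_succMod_iff] at h0
  have h1 := h0 n
  rw [← ReesM.coeffHom_apply, map_sub, map_sum] at h1
  simp only [ReesM.coeffHom_apply, ReesM.coeff_smul, ReesM.coeff_monomM, if_true] at h1
  refine ⟨fun i => if d i ≤ n then ((f i : ↥(FiltBl.IdealFiltration.adic I).rees) :
    Polynomial A).coeff (n - d i) else 0, fun i => ?_, ?_⟩
  · dsimp only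
    split_ifs with h
    · exact (f i).2 (n - d i)
    · exact Ideal.zero_mem _
  · convert h1 using 3
    rename_i i _
    rw [antidiag_sum]
    dsimp only
    by_cases h : d i ≤ n
    · rw [if_pos h, if_pos h]
    · rw [if_neg h, if_neg h, zero_smul]

/-- Successive approximation: let `P` be a submodule containing the `x i ∈ N_{d i}` such that every
`y ∈ P ∩ Nₙ` is congruent modulo `Nₙ₊₁` to a combination `∑ aᵢ xᵢ` with `aᵢ ∈ I ^ (n - d i)`.
If `A` is `I`-adically precomplete and the filtration is exhaustive and separated, then `P` is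
contained in the span of the `x i`. -/
theorem approx [IsPrecomplete I A] (h0 : F.N 0 = ⊤) (hsep : ⨅ n, F.N n = ⊥) {k : ℕ}
    (d : Fin k → ℕ) (x : (i : Fin k) → ↥(F.N (d i))) (P : Submodule A M)
    (hx : ∀ i, ((x i : ↥(F.N (d i))) : M) ∈ P)
    (hP : ∀ (n : ℕ) (y : M), y ∈ P → y ∈ F.N n → ∃ a : Fin k → A, (∀ i, a i ∈ I ^ (n - d i)) ∧
      (y - ∑ i, a i • ((x i : ↥(F.N (d i))) : M)) ∈ F.N (n + 1)) :
    P ≤ Submodule.span A (Set.range fun i => ((x i : ↥(F.N (d i))) : M)) := by
  classical
  intro y hyP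
  choose step hstep1 hstep2 using hP
  -- the sequence of remainders
  let Y : (n : ℕ) → {z : M // z ∈ P ∧ z ∈ F.N n} := fun n =>
    Nat.rec (motive := fun n => {z : M // z ∈ P ∧ z ∈ F.N n})
      ⟨y, hyP, by rw [h0]; trivial⟩
      (fun n z => ⟨z.1 - ∑ i, step n z.1 z.2.1 z.2.2 i • ((x i : ↥(F.N (d i))) : M),
        P.sub_mem z.2.1 (P.sum_mem fun i _ => P.smul_mem _ (hx i)), hstep2 n z.1 z.2.1 z.2.2⟩) n
  let a : ℕ → Fin k → A := fun n => step n (Y n).1 (Y n).2.1 (Y n).2.2
  have ha : ∀ n i, a n i ∈ I ^ (n - d i) := fun n => hstep1 n (Y n).1 (Y n).2.1 (Y n).2.2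
  have hY0 : (Y 0).1 = y := rfl
  have hYs : ∀ n, (Y (n + 1)).1 = (Y n).1 - ∑ i, a n i • ((x i : ↥(F.N (d i))) : M) := fun n => rfl
  let s : Fin k → ℕ → A := fun i n => ∑ m ∈ Finset.range n, a m i
  have hYn : ∀ n, (Y n).1 = y - ∑ i, s i n • ((x i : ↥(F.N (d i))) : M) := by
    intro n
    induction n with
    | zero => simp [s, hY0]
    | succ n ih =>
      rw [hYs, ih, sub_sub, ← Finset.sum_add_distrib]
      congr 2
      funext i
      simp only [s]
      rw [Finset.sum_range_succ, add_smul]
  -- limits of the coefficient sequences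
  have hlim : ∀ i, ∃ b : A, ∀ m, b - s i (m + d i) ∈ I ^ m := by
    intro i
    obtain ⟨b, hb⟩ := IsPrecomplete.prec (I := I) (M := A) inferInstance
      (f := fun m => s i (m + d i)) (by
        intro m n hmn
        rw [SModEq.sub_mem, smul_eq_mul, Ideal.mul_top]
        have : s i (m + d i) - s i (n + d i) =
            - ∑ j ∈ Finset.Ico (m + d i) (n + d i), a j i := by
          rw [Finset.sum_Ico_eq_sub _ (by omega)]
          simp only [s]
          ring
        rw [this]
        refine Ideal.neg_mem_iff _ |>.mpr (Ideal.sum_mem _ fun j hj => ?_)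
        rw [Finset.mem_Ico] at hj
        exact Ideal.pow_le_pow_right (by omega) (ha j i))
    refine ⟨b, fun m => ?_⟩
    have := hb m
    rw [SModEq.sub_mem, smul_eq_mul, Ideal.mul_top] at this
    rw [← neg_sub]
    exact (Ideal.neg_mem_iff _).mpr this
  choose b hb using hlim
  have hbx : ∀ i n, (b i - s i n) • ((x i : ↥(F.N (d i))) : M) ∈ F.N n := by
    intro i n
    by_cases h : d i ≤ n
    · obtain ⟨m, rfl⟩ : ∃ m, n = m + d i := ⟨n - d i, by omega⟩
      exact F.pow_smul_le m (d i) (Submodule.smul_mem_smul (hb i m) (x i).2)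
    · exact F.antitone (by omega : n ≤ d i) ((F.N (d i)).smul_mem _ (x i).2)
  have hfin : y - ∑ i, b i • ((x i : ↥(F.N (d i))) : M) = 0 := by
    have hmem : y - ∑ i, b i • ((x i : ↥(F.N (d i))) : M) ∈ ⨅ n, F.N n := by
      rw [Submodule.mem_iInf]
      intro n
      have : y - ∑ i, b i • ((x i : ↥(F.N (d i))) : M) =
          (Y n).1 - ∑ i, (b i - s i n) • ((x i : ↥(F.N (d i))) : M) := by
        rw [hYn n]
        simp only [sub_smul, Finset.sum_sub_distrib]
        abel
      rw [this]
      exact (F.N n).sub_mem (Y n).2.2 ((F.N n).sum_mem fun i _ => hbx i n)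
    rwa [hsep, Submodule.mem_bot] at hmem
  rw [sub_eq_zero] at hfin
  rw [hfin]
  exact Submodule.sum_mem _ fun i _ => Submodule.smul_mem _ _ (Submodule.subset_span ⟨i, rfl⟩)

/-- The homogeneous element of `gr M` attached to a pair `(n, x ∈ Nₙ)`. -/
noncomputable def homog (t : Σ n : ℕ, ↥(F.N n)) : GrMod F := (inDegM F t.1 t.2 : GrMod F)

/-- Every element of `gr M` is a sum of homogeneous elements. -/
theorem span_homog_eq_top :
    Submodule.span (GrRing (FiltBl.IdealFiltration.adic I)) (Set.range (homog F)) = ⊤ := by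
  classical
  rw [eq_top_iff]
  intro z _
  obtain ⟨Y, rfl⟩ := mkGM_surjective F z
  rw [← sum_termM F Y, map_sum]
  refine Submodule.sum_mem _ fun n _ => Submodule.subset_span ?_
  exact ⟨⟨n, ⟨ReesM.coeff F Y n, ReesM.coeff_mem F Y n⟩⟩, rfl⟩

/-- A finitely generated span of homogeneous elements taken from a set `S` of pairs is spanned by
a finite subfamily indexed by `Fin k`. -/
theorem exists_fin_family (S : Set (Σ n : ℕ, ↥(F.N n)))
    (hfg : (Submodule.span (GrRing (FiltBl.IdealFiltration.adic I)) (homog F '' S)).FG) :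
    ∃ (k : ℕ) (d : Fin k → ℕ) (x : (i : Fin k) → ↥(F.N (d i))),
      (∀ i, (⟨d i, x i⟩ : Σ n : ℕ, ↥(F.N n)) ∈ S) ∧
      Submodule.span (GrRing (FiltBl.IdealFiltration.adic I))
        (Set.range fun i => (inDegM F (d i) (x i) : GrMod F)) =
      Submodule.span (GrRing (FiltBl.IdealFiltration.adic I)) (homog F '' S) := by
  classical
  obtain ⟨s', hs'sub, hs'⟩ := (Submodule.fg_span_iff_fg_span_finset_subset _).mp hfg
  have hch : ∀ e : s', ∃ t : Σ n : ℕ, ↥(F.N n), t ∈ S ∧ homog F t = e.1 := fun e => hs'sub e.2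
  choose t ht1 ht2 using hch
  refine ⟨s'.card, fun i => (t (s'.equivFin.symm i)).1, fun i => (t (s'.equivFin.symm i)).2,
    fun i => ht1 _, ?_⟩
  rw [hs']
  congr 1
  ext z
  constructor
  · rintro ⟨i, rfl⟩
    have := ht2 (s'.equivFin.symm i)
    change homog F (t (s'.equivFin.symm i)) ∈ _
    rw [this]
    exact (s'.equivFin.symm i).2
  · intro hz
    refine ⟨s'.equivFin ⟨z, hz⟩, ?_⟩
    change homog F (t (s'.equivFin.symm (s'.equivFin ⟨z, hz⟩))) = z
    rw [Equiv.symm_apply_apply, ht2]

end Groth.Agent.Lib.Helper8.GrApprox
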