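import Mathlib
import Groth.Agent.Lib.Helper8.GrApprox

/-!
# A ring complete and separated for the `J`-adic topology with `A/J²` noetherian is noetherian
-/

set_option autoImplicit false
universe u

open Polynomial

namespace Groth.Agent.Lib.Helper8.CompleteNoeth

open Groth.Agent.Lib.Helper8.GrApprox

variable {A : Type u} [CommRing A] (J : Ideal A)

/-- the `J`-adic filtration of `A` -/
def adicFilt : J.Filtration A := J.stableFiltration ⊤

theorem adicFilt_N (n : ℕ) : (adicFilt J).N n = J ^ n := by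
  show J ^ n • (⊤ : Submodule A A) = J ^ n
  rw [smul_eq_mul, Ideal.mul_top]

theorem adicFilt_zero : (adicFilt J).N 0 = ⊤ := by
  rw [adicFilt_N, pow_zero, Ideal.one_eq_top]

theorem adicFilt_sep [IsHausdorff J A] : ⨅ n, (adicFilt J).N n = ⊥ := by
  have h := IsHausdorff.iInf_pow_smul (I := J) (M := A) inferInstance
  rw [← h]
  congr 1

/-- successive approximation for ideals of a complete separated ring -/
theorem ideal_le_span [IsPrecomplete J A] [IsHausdorff J A] {k : ℕ} (d : Fin k → ℕ)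
    (x : Fin k → A) (hxd : ∀ i, x i ∈ J ^ d i) (P : Ideal A) (hx : ∀ i, x i ∈ P)
    (hP : ∀ (n : ℕ) (y : A), y ∈ P → y ∈ J ^ n → ∃ a : Fin k → A, (∀ i, a i ∈ J ^ (n - d i)) ∧
      (y - ∑ i, a i * x i) ∈ J ^ (n + 1)) :
    P ≤ Ideal.span (Set.range x) := by
  have := approx (adicFilt J) (adicFilt_zero J) (adicFilt_sep J) d
    (fun i => ⟨x i, by rw [adicFilt_N]; exact hxd i⟩) P hx (by
      intro n y hy hyn
      rw [adicFilt_N] at hyn
      obtain ⟨a, ha, h⟩ := hP n y hy hyn
      refine ⟨a, ha, ?_⟩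
      rw [adicFilt_N]
      simpa [smul_eq_mul] using h)
  exact this

/-- the same with a finite index type -/
theorem ideal_le_span' [IsPrecomplete J A] [IsHausdorff J A] {ι : Type*} [Fintype ι] (d : ι → ℕ)
    (x : ι → A) (hxd : ∀ i, x i ∈ J ^ d i) (P : Ideal A) (hx : ∀ i, x i ∈ P)
    (hP : ∀ (n : ℕ) (y : A), y ∈ P → y ∈ J ^ n → ∃ a : ι → A, (∀ i, a i ∈ J ^ (n - d i)) ∧
      (y - ∑ i, a i * x i) ∈ J ^ (n + 1)) :
    P ≤ Ideal.span (Set.range x) := by
  classical
  let e : ι ≃ Fin (Fintype.card ι) := Fintype.equivFin ι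
  have := ideal_le_span J (d ∘ e.symm) (x ∘ e.symm) (fun i => hxd _) P (fun i => hx _) (by
    intro n y hy hyn
    obtain ⟨a, ha, h⟩ := hP n y hy hyn
    refine ⟨a ∘ e.symm, fun i => ha _, ?_⟩
    have := Equiv.sum_comp e.symm (fun i => a i * x i)
    simp only [Function.comp_apply]
    rw [this]
    exact h)
  rwa [Set.range_comp, Equiv.range_eq_univ, Set.image_univ] at this

/-- finitely generated ideals: `J` is finitely generated as soon as `J/J²` is. -/
theorem fg_of_quot_sq [IsPrecomplete J A] [IsHausdorff J A]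
    (h : (J.map (Ideal.Quotient.mk (J ^ 2))).FG) : J.FG := by
  classical
  obtain ⟨k, s, hs⟩ := (Submodule.fg_iff_exists_fin_generating_family).mp h
  have hmem : ∀ i, ∃ t : A, t ∈ J ∧ Ideal.Quotient.mk (J ^ 2) t = s i := by
    intro i
    have : s i ∈ J.map (Ideal.Quotient.mk (J ^ 2)) := by
      rw [← hs]; exact Submodule.subset_span ⟨i, rfl⟩
    exact (Ideal.mem_map_iff_of_surjective _ Ideal.Quotient.mk_surjective).mp this
  choose t ht1 ht2 using hmem
  have hle : J ≤ Ideal.span (Set.range t) ⊔ J ^ 2 := by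
    have h1 : (Ideal.span (Set.range t)).map (Ideal.Quotient.mk (J ^ 2)) =
        J.map (Ideal.Quotient.mk (J ^ 2)) := by
      rw [Ideal.map_span, ← hs]
      congr 1
      ext z
      constructor
      · rintro ⟨_, ⟨i, rfl⟩, rfl⟩
        exact ⟨i, (ht2 i).symm⟩
      · rintro ⟨i, rfl⟩
        exact ⟨t i, ⟨i, rfl⟩, ht2 i⟩
    have h2 := Ideal.comap_map_of_surjective (Ideal.Quotient.mk (J ^ 2))
      Ideal.Quotient.mk_surjective (Ideal.span (Set.range t))
    rw [h1] at h2
    have h3 : J ≤ Ideal.comap (Ideal.Quotient.mk (J ^ 2)) (J.map (Ideal.Quotient.mk (J ^ 2))) :=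
      Ideal.le_comap_map
    rw [h2] at h3
    refine h3.trans (sup_le_sup_left ?_ _)
    rw [← RingHom.ker_eq_comap_bot, Ideal.mk_ker]
  have hfin : J ≤ Ideal.span (Set.range t) := by
    refine ideal_le_span J (fun _ => 1) t (fun i => by rw [pow_one]; exact ht1 i) J ht1 ?_
    intro n y hyJ hyn
    rcases n with _ | n
    · refine ⟨fun _ => 0, fun i => Ideal.zero_mem _, ?_⟩
      simpa using hyJ
    · have h1 : J ^ (n + 1) ≤ J ^ n • Ideal.span (Set.range t) ⊔ J ^ (n + 2) := by
        calc J ^ (n + 1) = J ^ n * J := pow_succ J n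
          _ ≤ J ^ n * (Ideal.span (Set.range t) ⊔ J ^ 2) := Ideal.mul_mono_right hle
          _ = J ^ n * Ideal.span (Set.range t) ⊔ J ^ n * J ^ 2 := Ideal.mul_sup _ _ _
          _ = _ := by rw [← pow_add, smul_eq_mul]
      obtain ⟨u, hu, w, hw, rfl⟩ := Submodule.mem_sup.mp (h1 hyn)
      obtain ⟨a, ha, rfl⟩ := (Submodule.mem_ideal_smul_span_iff_exists_sum _ _ _).mp hu
      classical
      refine ⟨fun i => a i, fun i => by simpa using ha i, ?_⟩
      have : (a.sum fun i c => c • t i) = ∑ i, a i * t i := by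
        rw [Finsupp.sum_fintype _ _ (fun i => by simp)]
        simp [smul_eq_mul]
      rw [this, add_sub_cancel_left]
      exact hw
  exact ⟨Finset.univ.image t, by
    rw [Finset.coe_image, Finset.coe_univ, Set.image_univ]
    refine le_antisymm (Ideal.span_le.mpr ?_) hfin
    rintro _ ⟨i, rfl⟩
    exact ht1 i⟩

/-! ## The Rees algebra -/

/-- ideals of the Rees algebra defined by conditions on the coefficients -/
def coeffIdeal (K : ℕ → Ideal A) (hK : ∀ i j, J ^ i * K j ≤ K (i + j)) :
    Ideal ↥(reesAlgebra J) where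
  carrier := {f | ∀ d, (f : A[X]).coeff d ∈ K d}
  add_mem' := by
    intro f g hf hg d
    rw [Subalgebra.coe_add, coeff_add]
    exact (K d).add_mem (hf d) (hg d)
  zero_mem' := by
    intro d
    simp
  smul_mem' := by
    intro c f hf d
    rw [smul_eq_mul, Subalgebra.coe_mul, coeff_mul]
    refine Ideal.sum_mem _ fun p hp => ?_
    rw [Finset.HasAntidiagonal.mem_antidiagonal] at hp
    rw [← hp]
    exact hK _ _ (Ideal.mul_mem_mul (c.2 p.1) (hf p.2))

theorem mem_coeffIdeal (K : ℕ → Ideal A) (hK : ∀ i j, J ^ i * K j ≤ K (i + j))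
    (f : ↥(reesAlgebra J)) : f ∈ coeffIdeal J K hK ↔ ∀ d, (f : A[X]).coeff d ∈ K d := Iff.rfl

theorem succ_cond (i j : ℕ) : J ^ i * J ^ (j + 1) ≤ J ^ (i + j + 1) := by
  rw [← pow_add, add_assoc]

theorem sup_cond (𝔞 : Ideal A) (i j : ℕ) :
    J ^ i * (𝔞 ⊔ J ^ (j + 1)) ≤ 𝔞 ⊔ J ^ (i + j + 1) := by
  rw [Ideal.mul_sup]
  exact sup_le_sup Ideal.mul_le_right (succ_cond J i j)

theorem map_le_succ : J.map (algebraMap A ↥(reesAlgebra J)) ≤
    coeffIdeal J (fun d => J ^ (d + 1)) (succ_cond J) := by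
  rw [Ideal.map_le_iff_le_comap]
  intro a ha
  rw [Ideal.mem_comap, mem_coeffIdeal]
  intro d
  show (C a).coeff d ∈ _
  rw [coeff_C]
  split_ifs with h
  · subst h
    simpa using ha
  · exact Ideal.zero_mem _

/-- the monomial `y Tⁿ` of the Rees algebra -/
noncomputable def mon (n : ℕ) (y : A) (hy : y ∈ J ^ n) : ↥(reesAlgebra J) :=
  ⟨monomial n y, reesAlgebra.monomial_mem.mpr hy⟩

theorem eq_sum_mon (f : ↥(reesAlgebra J)) :
    f = ∑ i ∈ (f : A[X]).support, mon J i ((f : A[X]).coeff i) (f.2 i) := by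
  apply Subtype.ext
  rw [AddSubmonoidClass.coe_finsetSum]
  exact (f : A[X]).as_sum_support

theorem coeff_mul_mon (c : A[X]) (m n : ℕ) (z : A) :
    (c * monomial m z).coeff n = if m ≤ n then c.coeff (n - m) * z else 0 := by
  rw [← C_mul_X_pow_eq_monomial, ← mul_assoc, coeff_mul_X_pow', coeff_mul_C]

/-- If `A` is `J`-adically complete and separated and the associated graded ring (the Rees algebra
modulo `J`) is noetherian, then every ideal of `A` is finitely generated. -/
theorem fg_of_isNoetherianRing_gr [IsPrecomplete J A] [IsHausdorff J A]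
    (hG : IsNoetherianRing (↥(reesAlgebra J) ⧸ J.map (algebraMap A ↥(reesAlgebra J))))
    (𝔞 : Ideal A) : 𝔞.FG := by
  classical
  set JR := J.map (algebraMap A ↥(reesAlgebra J)) with hJR
  let mk := Ideal.Quotient.mk JR
  let 𝔄 := coeffIdeal J (fun d => 𝔞 ⊔ J ^ (d + 1)) (sup_cond J 𝔞)
  -- the set of monomials of 𝔄
  let S : Set ↥(reesAlgebra J) := {F | F ∈ 𝔄 ∧ ∃ n y, (F : A[X]) = monomial n y}
  have hS : Ideal.span S = 𝔄 := by
    refine le_antisymm (Ideal.span_le.mpr fun F hF => hF.1) ?_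
    intro f hf
    rw [eq_sum_mon J f]
    refine Ideal.sum_mem _ fun i _ => Ideal.subset_span ⟨?_, i, _, rfl⟩
    intro d
    show (monomial i ((f : A[X]).coeff i)).coeff d ∈ _
    rw [coeff_monomial]
    split_ifs with h
    · subst h
      exact hf i
    · exact Ideal.zero_mem _
  have hfg : (Ideal.span (mk '' S)).FG := (isNoetherianRing_iff_ideal_fg _).mp hG _
  obtain ⟨s', hs'sub, hs'⟩ := (Submodule.fg_span_iff_fg_span_finset_subset _).mp hfg
  have hch : ∀ e : s', ∃ F : ↥(reesAlgebra J), F ∈ S ∧ mk F = e.1 := fun e => hs'sub e.2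
  choose F hF1 hF2 using hch
  have hle : 𝔄 ≤ Ideal.span (Set.range F) ⊔ JR := by
    have h1 : (Ideal.span (Set.range F)).map mk = 𝔄.map mk := by
      rw [← hS, Ideal.map_span, Ideal.map_span]
      show Ideal.span _ = Ideal.span _
      rw [show Ideal.span (mk '' S) = Ideal.span (s' : Set _) from hs']
      congr 1
      ext z
      constructor
      · rintro ⟨_, ⟨e, rfl⟩, rfl⟩
        rw [hF2]
        exact e.2
      · intro hz
        exact ⟨F ⟨z, hz⟩, ⟨_, rfl⟩, hF2 _⟩
    have h2 := Ideal.comap_map_of_surjective mk Ideal.Quotient.mk_surjective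
      (Ideal.span (Set.range F))
    rw [h1] at h2
    have h3 : 𝔄 ≤ Ideal.comap mk (𝔄.map mk) := Ideal.le_comap_map
    rw [h2] at h3
    refine h3.trans (sup_le_sup_left ?_ _)
    rw [← RingHom.ker_eq_comap_bot, Ideal.mk_ker]
  -- the generators
  have hmon : ∀ e : s', ∃ (n : ℕ) (z : A), ((F e : ↥(reesAlgebra J)) : A[X]) = monomial n z :=
    fun e => (hF1 e).2
  choose dg z hz using hmon
  have hzJ : ∀ e, z e ∈ J ^ dg e := by
    intro e
    have := (F e).2 (dg e)
    rwa [hz, coeff_monomial, if_pos rfl] at this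
  have hzsup : ∀ e, z e ∈ 𝔞 ⊔ J ^ (dg e + 1) := by
    intro e
    have := (hF1 e).1 (dg e)
    rwa [hz, coeff_monomial, if_pos rfl] at this
  have hdec : ∀ e, ∃ x ∈ 𝔞, ∃ r ∈ J ^ (dg e + 1), x + r = z e :=
    fun e => Submodule.mem_sup.mp (hzsup e)
  choose x hx𝔞 r hr hxr using hdec
  have hxJ : ∀ e, x e ∈ J ^ dg e := by
    intro e
    have : x e = z e - r e := by rw [← hxr e]; ring
    rw [this]
    exact Ideal.sub_mem _ (hzJ e) (Ideal.pow_le_pow_right (Nat.le_succ _) (hr e))
  have hfin : 𝔞 ≤ Ideal.span (Set.range x) := by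
    refine ideal_le_span' J dg x hxJ 𝔞 hx𝔞 ?_
    intro n y hy hyn
    have hmem : mon J n y hyn ∈ 𝔄 := by
      intro d
      show (monomial n y).coeff d ∈ _
      rw [coeff_monomial]
      split_ifs with h
      · exact Ideal.mem_sup_left hy
      · exact Ideal.zero_mem _
    obtain ⟨g, hg, h, hh, hsum⟩ := Submodule.mem_sup.mp (hle hmem)
    obtain ⟨c, rfl⟩ := (Submodule.mem_span_range_iff_exists_fun _).mp hg
    have hh' := map_le_succ J hh n
    have hcoef : y = ∑ e, (if dg e ≤ n then
        ((c e : ↥(reesAlgebra J)) : A[X]).coeff (n - dg e) * z e else 0)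
        + ((h : ↥(reesAlgebra J)) : A[X]).coeff n := by
      have h1 := congrArg (fun f : ↥(reesAlgebra J) => (f : A[X]).coeff n) hsum
      simp only [mon, Subalgebra.coe_add, coeff_add, AddSubmonoidClass.coe_finsetSum,
        finsetSum_coeff, smul_eq_mul, Subalgebra.coe_mul, hz, coeff_mul_mon, coeff_monomial,
        if_pos] at h1
      exact h1.symm
    refine ⟨fun e => if dg e ≤ n then ((c e : ↥(reesAlgebra J)) : A[X]).coeff (n - dg e) else 0,
      fun e => ?_, ?_⟩
    · dsimp only
      split_ifs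
      · exact (c e).2 _
      · exact Ideal.zero_mem _
    · have h2 : y - ∑ e, (if dg e ≤ n then ((c e : ↥(reesAlgebra J)) : A[X]).coeff (n - dg e)
          else 0) * x e =
          ∑ e, (if dg e ≤ n then ((c e : ↥(reesAlgebra J)) : A[X]).coeff (n - dg e) * r e else 0)
          + ((h : ↥(reesAlgebra J)) : A[X]).coeff n := by
        nth_rw 1 [hcoef]
        rw [add_sub_right_comm, ← Finset.sum_sub_distrib]
        congr 1
        refine Finset.sum_congr rfl fun e _ => ?_
        split_ifs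
        · rw [← hxr e]
          ring
        · simp
      rw [h2]
      refine Ideal.add_mem _ (Ideal.sum_mem _ fun e _ => ?_) hh'
      split_ifs with hle
      · have : n + 1 = (n - dg e) + (dg e + 1) := by omega
        rw [this, pow_add]
        exact Ideal.mul_mem_mul ((c e).2 _) (hr e)
      · exact Ideal.zero_mem _
  exact ⟨Finset.univ.image x, by
    rw [Finset.coe_image, Finset.coe_univ, Set.image_univ]
    refine le_antisymm (Ideal.span_le.mpr ?_) hfin
    rintro _ ⟨i, rfl⟩
    exact hx𝔞 i⟩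

/-- the associated graded ring is noetherian when `J` is finitely generated and `A/J` is
noetherian -/
theorem isNoetherianRing_gr (hJ : J.FG) [IsNoetherianRing (A ⧸ J)] :
    IsNoetherianRing (↥(reesAlgebra J) ⧸ J.map (algebraMap A ↥(reesAlgebra J))) := by
  have h1 : Algebra.FiniteType A ↥(reesAlgebra J) :=
    (Subalgebra.fg_iff_finiteType _).mp (reesAlgebra.fg hJ)
  have h2 : Algebra.FiniteType A (↥(reesAlgebra J) ⧸ J.map (algebraMap A ↥(reesAlgebra J))) :=
    h1.of_surjective (Ideal.Quotient.mkₐ A _) Ideal.Quotient.mk_surjective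
  have h3 : Algebra.FiniteType (A ⧸ J)
      (↥(reesAlgebra J) ⧸ J.map (algebraMap A ↥(reesAlgebra J))) :=
    Algebra.FiniteType.of_restrictScalars_finiteType A (A ⧸ J) _
  exact Algebra.FiniteType.isNoetherianRing (A ⧸ J)
    (↥(reesAlgebra J) ⧸ J.map (algebraMap A ↥(reesAlgebra J)))

/-- **Theorem**: a ring which is complete and separated for the `J`-adic topology, with `J`
finitely generated and `A/J` noetherian, is noetherian. -/
theorem isNoetherianRing_of_fg [IsPrecomplete J A] [IsHausdorff J A] (hJ : J.FG)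
    [IsNoetherianRing (A ⧸ J)] : IsNoetherianRing A :=
  (isNoetherianRing_iff_ideal_fg A).mpr
    (fg_of_isNoetherianRing_gr J (isNoetherianRing_gr J hJ))

/-- **Theorem**: a ring which is complete and separated for the `J`-adic topology, with `A/J²`
noetherian, is noetherian. -/
theorem isNoetherianRing_of_sq [IsPrecomplete J A] [IsHausdorff J A]
    [IsNoetherianRing (A ⧸ J ^ 2)] : IsNoetherianRing A := by
  have hJ : J.FG := fg_of_quot_sq J ((isNoetherianRing_iff_ideal_fg _).mp inferInstance _)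
  have : IsNoetherianRing (A ⧸ J) :=
    isNoetherianRing_of_surjective (A ⧸ J ^ 2) (A ⧸ J)
      (Ideal.Quotient.factor (Ideal.pow_le_self two_ne_zero))
      (Ideal.Quotient.factor_surjective _)
  exact isNoetherianRing_of_fg J hJ

end Groth.Agent.Lib.Helper8.CompleteNoeth
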