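import Mathlib

/-!
# Azumaya algebras: basic lemmas (helper8)
-/

open TensorProduct

namespace Groth.Agent.Lib.helper8.Az

section Trace

variable (R : Type*) [CommRing R] (P : Type*) [AddCommGroup P] [Module R P]

/-- A faithful finitely generated projective module has trace ideal `⊤`: some element of
`P* ⊗ P` contracts to `1`. -/
theorem exists_contract_eq_one [Module.Finite R P] [Module.Projective R P] [FaithfulSMul R P] :
    ∃ t : Module.Dual R P ⊗[R] P, contractLeft R P t = 1 := by
  classical
  obtain ⟨n, g, f, -, -, hgf⟩ := Module.Finite.exists_comp_eq_id_of_projective R P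
  let T : Ideal R := LinearMap.range (contractLeft R P)
  have hle : (⊤ : Submodule R P) ≤ T • ⊤ := by
    intro x _
    have hx : x = ∑ i, (f x i) • g (Pi.single i 1) := by
      have h1 : x = g (f x) := by
        have := congrArg (fun h => h x) hgf
        simpa using this.symm
      conv_lhs => rw [h1, pi_eq_sum_univ (f x)]
      simp only [map_sum, map_smul]
      refine Finset.sum_congr rfl fun i _ => ?_
      congr 2
      ext j
      simp [Pi.single_apply, eq_comm]
    rw [hx]
    refine Submodule.sum_mem _ fun i _ => Submodule.smul_mem_smul ?_ Submodule.mem_top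
    exact ⟨((LinearMap.proj i).comp f) ⊗ₜ x, by simp [contractLeft_apply]⟩
  obtain ⟨r, hr, hr0⟩ := Submodule.exists_sub_one_mem_and_smul_eq_zero_of_fg_of_le_smul T ⊤
    Module.Finite.fg_top hle
  have hr' : r = 0 := by
    apply FaithfulSMul.eq_of_smul_eq_smul (α := P)
    intro a
    rw [hr0 a Submodule.mem_top, zero_smul]
  rw [hr', zero_sub] at hr
  have h1 : (1 : R) ∈ T := by simpa using T.neg_mem hr
  exact h1

/-- `P` faithful f.g. projective and `N` faithful: `P ⊗ N` is faithful. -/
theorem faithfulSMul_tensor [Module.Finite R P] [Module.Projective R P] [FaithfulSMul R P]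
    (N : Type*) [AddCommGroup N] [Module R N] [FaithfulSMul R N] :
    FaithfulSMul R (P ⊗[R] N) := by
  refine ⟨fun {r s} h => ?_⟩
  obtain ⟨t, ht⟩ := exists_contract_eq_one R P
  apply FaithfulSMul.eq_of_smul_eq_smul (α := N)
  intro n
  have key : ∀ t : Module.Dual R P ⊗[R] P,
      (r * contractLeft R P t) • n = (s * contractLeft R P t) • n := by
    intro t
    induction t using TensorProduct.induction_on with
    | zero => simp
    | add a b ha hb => simp only [map_add, mul_add, add_smul, ha, hb]
    | tmul φ x =>
      have := congrArg (fun z => TensorProduct.lid R N (LinearMap.rTensor N φ z)) (h (x ⊗ₜ[R] n))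
      simpa [contractLeft_apply, mul_smul, smul_tmul', mul_comm] using this
  simpa [ht] using key t

/-- `P` faithful f.g. projective over `R`: `S ⊗ P` is faithful over `S`. -/
theorem faithfulSMul_baseChange [Module.Finite R P] [Module.Projective R P] [FaithfulSMul R P]
    (S : Type*) [CommRing S] [Algebra R S] :
    FaithfulSMul S (S ⊗[R] P) := by
  refine ⟨fun {r s} h => ?_⟩
  obtain ⟨t, ht⟩ := exists_contract_eq_one R P
  have key : ∀ t : Module.Dual R P ⊗[R] P,
      r * algebraMap R S (contractLeft R P t) = s * algebraMap R S (contractLeft R P t) := by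
    intro t
    induction t using TensorProduct.induction_on with
    | zero => simp
    | add a b ha hb => simp only [map_add, mul_add, ha, hb]
    | tmul φ x =>
      have := congrArg (fun z => Module.Dual.baseChange S φ z) (h ((1 : S) ⊗ₜ[R] x))
      simpa [contractLeft_apply, smul_tmul', Algebra.smul_def, mul_comm] using this
  simpa [ht] using key t

end Trace

section MulLR

variable (R : Type*) [CommRing R] (A : Type*) [Ring A] [Algebra R A]

/-- The linear map `A ⊗ A → End_R A`, `a ⊗ b ↦ (x ↦ a * x * b)` (no opposite). -/
noncomputable def mulLR : A ⊗[R] A →ₗ[R] Module.End R A :=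
  (AlgHom.mulLeftRight R A).toLinearMap ∘ₗ
    (TensorProduct.congr (LinearEquiv.refl R A) (MulOpposite.opLinearEquiv R)).toLinearMap

@[simp] theorem mulLR_tmul (a b x : A) : mulLR R A (a ⊗ₜ[R] b) x = a * x * b := by
  simp [mulLR]

theorem bijective_mulLeftRight_iff :
    Function.Bijective (AlgHom.mulLeftRight R A) ↔ Function.Bijective (mulLR R A) := by
  have : ⇑(mulLR R A) = ⇑(AlgHom.mulLeftRight R A) ∘
      ⇑(TensorProduct.congr (LinearEquiv.refl R A) (MulOpposite.opLinearEquiv R (M := A))) := by
    ext z; rfl
  rw [this]
  exact (Function.Bijective.of_comp_iff _ (LinearEquiv.bijective _)).symm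

theorem isAzumaya_iff :
    IsAzumaya R A ↔ Module.Projective R A ∧ FaithfulSMul R A ∧ Module.Finite R A ∧
      Function.Bijective (mulLR R A) := by
  constructor
  · intro h
    exact ⟨h.toProjective, h.toFaithfulSMul, h.toFinite, (bijective_mulLeftRight_iff R A).mp h.bij⟩
  · rintro ⟨h1, h2, h3, h4⟩
    exact { bij := (bijective_mulLeftRight_iff R A).mpr h4 }

end MulLR

section Tensor

variable (R : Type*) [CommRing R] (A : Type*) [Ring A] [Algebra R A]
  (B : Type*) [Ring B] [Algebra R B]

theorem mulLR_tensor_comm (z : (A ⊗[R] A) ⊗[R] (B ⊗[R] B)) :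
    mulLR R (A ⊗[R] B) (TensorProduct.tensorTensorTensorComm R A A B B z) =
      homTensorHomMap (.id R) A B A B (TensorProduct.map (mulLR R A) (mulLR R B) z) := by
  induction z using TensorProduct.induction_on with
  | zero => simp
  | add a b ha hb => simp only [map_add, ha, hb]
  | tmul x y =>
    induction x using TensorProduct.induction_on with
    | zero => simp
    | add a b ha hb => simp only [map_add, add_tmul, ha, hb]
    | tmul a a' =>
      induction y using TensorProduct.induction_on with
      | zero => simp
      | add a b ha hb => simp only [map_add, tmul_add, ha, hb]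
      | tmul b b' =>
        apply TensorProduct.ext'
        intro u v
        simp [homTensorHomMap_apply]

theorem isAzumaya_tensorProduct [IsAzumaya R A] [IsAzumaya R B] : IsAzumaya R (A ⊗[R] B) := by
  rw [isAzumaya_iff]
  refine ⟨inferInstance, faithfulSMul_tensor R A B, inferInstance, ?_⟩
  have hA := (bijective_mulLeftRight_iff R A).mp IsAzumaya.bij
  have hB := (bijective_mulLeftRight_iff R B).mp IsAzumaya.bij
  have h1 : Function.Bijective (TensorProduct.map (mulLR R A) (mulLR R B)) := by
    have : TensorProduct.map (mulLR R A) (mulLR R B) =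
        (TensorProduct.congr (LinearEquiv.ofBijective _ hA) (LinearEquiv.ofBijective _ hB)).toLinearMap := by
      ext; rfl
    rw [this]; exact LinearEquiv.bijective _
  have h2 : Function.Bijective (homTensorHomMap (.id R) A B A B) := by
    rw [← homTensorHomEquiv_toLinearMap]; exact LinearEquiv.bijective _
  have h3 : ⇑(mulLR R (A ⊗[R] B)) ∘ ⇑(TensorProduct.tensorTensorTensorComm R A A B B) =
      ⇑(homTensorHomMap (.id R) A B A B) ∘ ⇑(TensorProduct.map (mulLR R A) (mulLR R B)) := by
    ext z : 1
    exact mulLR_tensor_comm R A B z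
  have h4 : Function.Bijective (⇑(mulLR R (A ⊗[R] B)) ∘
      ⇑(TensorProduct.tensorTensorTensorComm R A A B B)) := by
    rw [h3]; exact h2.comp h1
  exact (Function.Bijective.of_comp_iff _ (LinearEquiv.bijective _)).mp h4

end Tensor

theorem bijective_of_retract {X X' Y Y' : Type*} (h : X → Y) (h' : X' → Y') (a : X → X')
    (b : X' → X) (c : Y → Y') (d : Y' → Y) (hba : ∀ x, b (a x) = x) (hdc : ∀ y, d (c y) = y)
    (h1 : ∀ x, h' (a x) = c (h x)) (h2 : ∀ x', h (b x') = d (h' x'))
    (hb : Function.Bijective h') : Function.Bijective h := by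
  constructor
  · intro x1 x2 hx
    have : a x1 = a x2 := hb.1 (by rw [h1, h1, hx])
    rw [← hba x1, ← hba x2, this]
  · intro y
    obtain ⟨x', hx'⟩ := hb.2 (c y)
    exact ⟨b x', by rw [h2, hx', hdc]⟩

section BaseChangeHom

variable (R : Type*) [CommRing R] (S : Type*) [CommRing S] [Algebra R S]
  (M : Type*) [AddCommGroup M] [Module R M] (N : Type*) [AddCommGroup N] [Module R N]

/-- `S ⊗ Hom_R(M, N) ≅ Hom_S(S ⊗ M, S ⊗ N)` for `M` finitely generated projective. -/
theorem isBaseChange_baseChangeHom [Module.Finite R M] [Module.Projective R M] :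
    IsBaseChange S (LinearMap.baseChangeHom R S M N) := by
  obtain ⟨n, g, f, -, -, hgf⟩ := Module.Finite.exists_comp_eq_id_of_projective R M
  have hfree := Module.isBaseChange_map_of_finite_free (R := R) N S (Fin n)
  unfold IsBaseChange at hfree ⊢
  refine bijective_of_retract _ _
    (LinearMap.lTensor S (LinearMap.lcomp R N g))
    (LinearMap.lTensor S (LinearMap.lcomp R N f))
    (fun y => y ∘ₗ g.baseChange S) (fun y => y ∘ₗ f.baseChange S) ?_ ?_ ?_ ?_ hfree
  · intro x
    rw [← LinearMap.comp_apply, ← LinearMap.lTensor_comp]
    have : LinearMap.lcomp R N f ∘ₗ LinearMap.lcomp R N g = LinearMap.id := by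
      ext φ m
      simp only [LinearMap.comp_apply, LinearMap.lcomp_apply, LinearMap.id_apply]
      have := congrArg (fun h => h m) hgf
      simp only [LinearMap.comp_apply, LinearMap.id_apply] at this
      rw [this]
    rw [this, LinearMap.lTensor_id, LinearMap.id_apply]
  · intro y
    rw [LinearMap.comp_assoc, ← LinearMap.baseChange_comp, hgf, LinearMap.baseChange_id,
      LinearMap.comp_id]
  · intro x
    induction x using TensorProduct.induction_on with
    | zero => simp
    | add a b ha hb => simp only [map_add, ha, hb, LinearMap.add_comp]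
    | tmul s φ =>
      ext m
      simp
  · intro x
    induction x using TensorProduct.induction_on with
    | zero => simp
    | add a b ha hb => simp only [map_add, ha, hb, LinearMap.add_comp]
    | tmul s φ =>
      ext m
      simp

end BaseChangeHom

section BaseChange

variable (R : Type*) [CommRing R] (S : Type*) [CommRing S] [Algebra R S]
  (A : Type*) [Ring A] [Algebra R A]

theorem mulLR_baseChange_comm (z : S ⊗[R] (A ⊗[R] A)) :
    mulLR S (S ⊗[R] A) (AlgebraTensorModule.distribBaseChange R S A A z) =
      (LinearMap.baseChangeHom R S A A).liftBaseChange S (LinearMap.lTensor S (mulLR R A) z) := by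
  induction z using TensorProduct.induction_on with
  | zero => simp
  | add a b ha hb => simp only [map_add, ha, hb]
  | tmul s y =>
    induction y using TensorProduct.induction_on with
    | zero => simp
    | add a b ha hb => simp only [map_add, tmul_add, ha, hb]
    | tmul a b =>
      ext x
      simp [AlgebraTensorModule.distribBaseChange_tmul, smul_tmul']

theorem isAzumaya_baseChange [IsAzumaya R A] : IsAzumaya S (S ⊗[R] A) := by
  rw [isAzumaya_iff]
  refine ⟨inferInstance, faithfulSMul_baseChange R A S, inferInstance, ?_⟩
  have hA := (bijective_mulLeftRight_iff R A).mp IsAzumaya.bij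
  have h1 : Function.Bijective (LinearMap.lTensor S (mulLR R A)) := by
    have : LinearMap.lTensor S (mulLR R A) =
        (LinearEquiv.lTensor S (LinearEquiv.ofBijective _ hA)).toLinearMap := by
      ext; rfl
    rw [this]; exact LinearEquiv.bijective _
  have h2 : Function.Bijective ((LinearMap.baseChangeHom R S A A).liftBaseChange S) :=
    isBaseChange_baseChangeHom R S A A
  have h3 : ⇑(mulLR S (S ⊗[R] A)) ∘ ⇑(AlgebraTensorModule.distribBaseChange R S A A) =
      ⇑((LinearMap.baseChangeHom R S A A).liftBaseChange S) ∘
        ⇑(LinearMap.lTensor S (mulLR R A)) := by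
    ext z : 1
    exact mulLR_baseChange_comm R S A z
  have h4 : Function.Bijective (⇑(mulLR S (S ⊗[R] A)) ∘
      ⇑(AlgebraTensorModule.distribBaseChange R S A A)) := by
    rw [h3]; exact h2.comp h1
  exact (Function.Bijective.of_comp_iff _ (LinearEquiv.bijective _)).mp h4

end BaseChange

section Retract

variable (R : Type*) [CommRing R] (A : Type*) [Ring A] [Algebra R A]
  (A' : Type*) [Ring A'] [Algebra R A']

/-- Bijectivity of `a ⊗ b ↦ (x ↦ a x b)` passes to a (non-unital) retract. -/
theorem bijective_mulLR_of_retract (i : A →ₗ[R] A') (r : A' →ₗ[R] A)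
    (hri : ∀ x, r (i x) = x)
    (h2 : ∀ a x b, r a * x * r b = r (a * i x * b))
    (h3 : ∀ a y b, i a * y * i b = i (a * r y * b))
    (hb : Function.Bijective (mulLR R A')) : Function.Bijective (mulLR R A) := by
  have k2 : ∀ (z' : A' ⊗[R] A') (x : A),
      mulLR R A (TensorProduct.map r r z') x = r (mulLR R A' z' (i x)) := by
    intro z' x
    induction z' using TensorProduct.induction_on with
    | zero => simp
    | add a b ha hb => simp only [map_add, LinearMap.add_apply, ha, hb]
    | tmul a b => simp [h2]
  have k3 : ∀ (z : A ⊗[R] A) (y : A'),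
      mulLR R A' (TensorProduct.map i i z) y = i (mulLR R A z (r y)) := by
    intro z y
    induction z using TensorProduct.induction_on with
    | zero => simp
    | add a b ha hb => simp only [map_add, LinearMap.add_apply, ha, hb]
    | tmul a b => simp [h3]
  have k1 : ∀ z : A ⊗[R] A, TensorProduct.map r r (TensorProduct.map i i z) = z := by
    intro z
    rw [← LinearMap.comp_apply, ← TensorProduct.map_comp]
    have : r ∘ₗ i = LinearMap.id := LinearMap.ext hri
    rw [this, TensorProduct.map_id, LinearMap.id_apply]
  constructor
  · rw [injective_iff_map_eq_zero]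
    intro z hz
    have : mulLR R A' (TensorProduct.map i i z) = 0 := by
      ext y
      rw [k3, hz]; simp
    have h0 : TensorProduct.map i i z = 0 := by
      apply hb.1
      rw [this, map_zero]
    rw [← k1 z, h0, map_zero]
  · intro T
    obtain ⟨z', hz'⟩ := hb.2 (i ∘ₗ T ∘ₗ r)
    refine ⟨TensorProduct.map r r z', ?_⟩
    ext x
    rw [k2, hz']
    simp [hri]

end Retract

section EndP

variable (R : Type*) [CommRing R]

theorem isAzumaya_of_subsingleton [Subsingleton R] (A : Type*) [Ring A] [Algebra R A] :
    IsAzumaya R A := by
  haveI : Subsingleton A := Module.subsingleton R A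
  haveI : Subsingleton (Module.End R A) := ⟨fun a b => by ext x; exact Subsingleton.elim _ _⟩
  haveI : Subsingleton (A ⊗[R] Aᵐᵒᵖ) := Module.subsingleton R _
  exact
    { out := (Module.Projective.of_free (R := R) (P := A)).out
      eq_of_smul_eq_smul := fun _ => Subsingleton.elim _ _
      fg_top := (Module.Finite.of_finite (R := R) (M := A)).fg_top
      bij := ⟨fun _ _ _ => Subsingleton.elim _ _, fun y => ⟨0, Subsingleton.elim _ _⟩⟩ }

variable (P : Type*) [AddCommGroup P] [Module R P]
  [Module.Finite R P] [Module.Projective R P]

theorem isAzumaya_end_fun (n : ℕ) [NeZero n] : IsAzumaya R (Module.End R (Fin n → R)) := by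
  haveI : Nonempty (Fin n) := ⟨⟨0, Nat.pos_of_ne_zero (NeZero.ne n)⟩⟩
  haveI : IsAzumaya R (Matrix (Fin n) (Fin n) R) := IsAzumaya.matrix R (Fin n)
  exact IsAzumaya.of_AlgEquiv R _ _ (LinearMap.toMatrixAlgEquiv' (R := R) (n := Fin n)).symm

theorem isAzumaya_end [FaithfulSMul R P] : IsAzumaya R (Module.End R P) := by
  rcases subsingleton_or_nontrivial R with hR | hR
  · exact isAzumaya_of_subsingleton R _
  obtain ⟨n, g, f, -, -, hgf⟩ := Module.Finite.exists_comp_eq_id_of_projective R P
  have hgf' : ∀ x, g (f x) = x := fun x => by
    have := congrArg (fun h => h x) hgf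
    simpa using this
  have hn : n ≠ 0 := by
    rintro rfl
    have h0 : ∀ x : P, x = 0 := fun x => by
      rw [← hgf' x, Subsingleton.elim (f x) 0, map_zero]
    have : (1 : R) = 0 := by
      apply FaithfulSMul.eq_of_smul_eq_smul (α := P)
      intro a
      rw [h0 a, smul_zero, smul_zero]
    exact one_ne_zero this
  haveI : NeZero n := ⟨hn⟩
  haveI hF := isAzumaya_end_fun R n
  -- retraction data
  let i : Module.End R P →ₗ[R] Module.End R (Fin n → R) :=
    (LinearMap.lcomp R _ g) ∘ₗ (LinearMap.llcomp R P P (Fin n → R) f)
  let r : Module.End R (Fin n → R) →ₗ[R] Module.End R P :=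
    (LinearMap.lcomp R _ f) ∘ₗ (LinearMap.llcomp R (Fin n → R) (Fin n → R) P g)
  have hi : ∀ a, i a = f ∘ₗ a ∘ₗ g := fun a => rfl
  have hr : ∀ c, r c = g ∘ₗ c ∘ₗ f := fun c => rfl
  have hri : ∀ x, r (i x) = x := by
    intro x
    ext p
    simp [hi, hr, hgf']
  rw [isAzumaya_iff]
  refine ⟨Module.Projective.of_split i r (LinearMap.ext hri), ?_,
    Module.Finite.of_surjective r (fun x => ⟨i x, hri x⟩), ?_⟩
  · refine ⟨fun {a b} h => ?_⟩
    apply FaithfulSMul.eq_of_smul_eq_smul (α := P)
    intro x
    have := congrArg (fun t : Module.End R P => t x) (h 1)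
    simpa using this
  · refine bijective_mulLR_of_retract R _ _ i r hri ?_ ?_
      ((bijective_mulLeftRight_iff R _).mp hF.bij)
    · intro a x b
      ext p
      simp [hi, hr, Module.End.mul_apply]
    · intro a y b
      ext p
      simp [hi, hr, Module.End.mul_apply]

end EndP

section Descent

variable (R : Type*) [CommRing R] (S : Type*) [CommRing S] [Algebra R S]

/-- Finite presentation of modules descends along faithfully flat maps. -/
theorem finitePresentation_of_faithfullyFlat [Module.FaithfullyFlat R S]
    (M : Type*) [AddCommGroup M] [Module R M] [Module.FinitePresentation S (S ⊗[R] M)] :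
    Module.FinitePresentation R M := by
  haveI : Module.Finite R M := Module.Finite.of_finite_tensorProduct_of_faithfullyFlat S
  obtain ⟨n, π, hπ⟩ := Module.Finite.exists_fin' R M
  refine Module.finitePresentation_of_surjective π hπ ?_
  set K := LinearMap.ker π with hK
  have hsurj : Function.Surjective (π.baseChange S) := by
    rw [LinearMap.baseChange_eq_ltensor]
    exact LinearMap.lTensor_surjective S hπ
  have hfgker : (LinearMap.ker (π.baseChange S)).FG :=
    Module.FinitePresentation.fg_ker (π.baseChange S) hsurj
  have hex : Function.Exact (K.subtype.baseChange S) (π.baseChange S) := by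
    have := lTensor_exact S (LinearMap.exact_subtype_ker_map π) hπ
    simpa only [LinearMap.baseChange_eq_ltensor] using this
  have hinj : Function.Injective (K.subtype.baseChange S) := by
    rw [LinearMap.baseChange_eq_ltensor]
    exact Module.Flat.lTensor_preserves_injective_linearMap _ (Submodule.injective_subtype K)
  have hrange : LinearMap.range (K.subtype.baseChange S) = LinearMap.ker (π.baseChange S) :=
    ((LinearMap.exact_iff).mp hex).symm
  haveI : Module.Finite S (S ⊗[R] K) := by
    have h1 : Module.Finite S (LinearMap.range (K.subtype.baseChange S)) := by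
      rw [hrange]; exact Module.Finite.iff_fg.mpr hfgker
    exact Module.Finite.equiv (LinearEquiv.ofInjective _ hinj).symm
  haveI : Module.Finite R K := Module.Finite.of_finite_tensorProduct_of_faithfullyFlat S
  exact Module.Finite.iff_fg.mp this

/-- Finite projective modules descend along faithfully flat maps. -/
theorem projective_of_faithfullyFlat [Module.FaithfullyFlat R S]
    (M : Type*) [AddCommGroup M] [Module R M] [Module.Finite S (S ⊗[R] M)]
    [Module.Projective S (S ⊗[R] M)] : Module.Projective R M := by
  haveI : Module.FinitePresentation S (S ⊗[R] M) := Module.finitePresentation_of_projective _ _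
  haveI := finitePresentation_of_faithfullyFlat R S M
  haveI : Module.Flat R M := Module.Flat.of_flat_tensorProduct R M S
  exact Module.Flat.projective_of_finitePresentation

theorem isAzumaya_of_faithfullyFlat [Module.FaithfullyFlat R S]
    (B : Type*) [Ring B] [Algebra R B] [hS : IsAzumaya S (S ⊗[R] B)] : IsAzumaya R B := by
  haveI : Module.Finite R B := Module.Finite.of_finite_tensorProduct_of_faithfullyFlat S
  haveI : Module.Projective R B := projective_of_faithfullyFlat R S B
  rw [isAzumaya_iff]
  refine ⟨inferInstance, ?_, inferInstance, ?_⟩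
  · refine ⟨fun {r s} h => ?_⟩
    apply FaithfulSMul.algebraMap_injective R S
    apply FaithfulSMul.eq_of_smul_eq_smul (α := S ⊗[R] B)
    intro z
    induction z using TensorProduct.induction_on with
    | zero => simp
    | add a b ha hb => simp only [smul_add, ha, hb]
    | tmul t b =>
      rw [smul_tmul', smul_tmul', smul_eq_mul, smul_eq_mul,
        ← Algebra.smul_def, ← Algebra.smul_def, smul_tmul, smul_tmul, h b]
  · have hSB := (bijective_mulLeftRight_iff S (S ⊗[R] B)).mp hS.bij
    have h2 : Function.Bijective ((LinearMap.baseChangeHom R S B B).liftBaseChange S) :=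
      isBaseChange_baseChangeHom R S B B
    have h3 : ⇑(mulLR S (S ⊗[R] B)) ∘ ⇑(AlgebraTensorModule.distribBaseChange R S B B) =
        ⇑((LinearMap.baseChangeHom R S B B).liftBaseChange S) ∘
          ⇑(LinearMap.lTensor S (mulLR R B)) := by
      ext z : 1
      exact mulLR_baseChange_comm R S B z
    have h4 : Function.Bijective (⇑((LinearMap.baseChangeHom R S B B).liftBaseChange S) ∘
          ⇑(LinearMap.lTensor S (mulLR R B))) := by
      rw [← h3]; exact hSB.comp (LinearEquiv.bijective _)
    have h5 : Function.Bijective (LinearMap.lTensor S (mulLR R B)) :=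
      (Function.Bijective.of_comp_iff' h2 _).mp h4
    exact (Module.FaithfullyFlat.lTensor_bijective_iff_bijective R S _).mp h5

end Descent

section SpecSurj

variable (R : Type*) [CommRing R] (S : Type*) [CommRing S] [Algebra R S]

/-- A finite module killed by base change along a map surjective on spectra is zero. -/
theorem subsingleton_of_baseChange
    (hS : Function.Surjective (PrimeSpectrum.comap (algebraMap R S)))
    (M : Type*) [AddCommGroup M] [Module R M] [Module.Finite R M] [Subsingleton (S ⊗[R] M)] :
    Subsingleton M := by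
  by_contra h
  rw [not_subsingleton_iff_nontrivial] at h
  obtain ⟨p, hp⟩ := Module.nonempty_support_of_nontrivial (R := R) (M := M)
  let K := p.asIdeal.ResidueField
  have h1 : Nontrivial (K ⊗[R] M) :=
    (Module.mem_support_iff_nontrivial_residueField_tensorProduct p).mp hp
  have h2 : Nontrivial (K ⊗[R] S) := (PrimeSpectrum.nontrivial_iff_mem_rangeComap p).mpr (hS p)
  have h3 : Nontrivial ((K ⊗[R] M) ⊗[K] (K ⊗[R] S)) := inferInstance
  let e1 := AlgebraTensorModule.cancelBaseChange R K K (K ⊗[R] M) S
  let e2 := TensorProduct.assoc R K M S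
  haveI : Subsingleton (M ⊗[R] S) := (TensorProduct.comm R M S).toEquiv.subsingleton
  haveI : Subsingleton (K ⊗[R] (M ⊗[R] S)) := inferInstance
  haveI : Subsingleton ((K ⊗[R] M) ⊗[R] S) := e2.toEquiv.subsingleton
  haveI : Subsingleton ((K ⊗[R] M) ⊗[K] (K ⊗[R] S)) := e1.toEquiv.subsingleton
  exact not_subsingleton _ ‹_›

end SpecSurj

section EndFP

variable (R : Type*) [CommRing R] (P : Type*) [AddCommGroup P] [Module R P]
  [Module.Finite R P] [Module.Projective R P]

theorem exists_end_retract : ∃ (n : ℕ) (i : Module.End R P →ₗ[R] Module.End R (Fin n → R))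
    (r : Module.End R (Fin n → R) →ₗ[R] Module.End R P), ∀ x, r (i x) = x := by
  obtain ⟨n, g, f, -, -, hgf⟩ := Module.Finite.exists_comp_eq_id_of_projective R P
  have hgf' : ∀ x, g (f x) = x := fun x => by
    have := congrArg (fun h => h x) hgf
    simpa using this
  refine ⟨n, (LinearMap.lcomp R _ g) ∘ₗ (LinearMap.llcomp R P P (Fin n → R) f),
    (LinearMap.lcomp R _ f) ∘ₗ (LinearMap.llcomp R (Fin n → R) (Fin n → R) P g), ?_⟩
  intro x
  ext p
  simp [hgf']

theorem finite_end : Module.Finite R (Module.End R P) := by
  obtain ⟨n, i, r, hri⟩ := exists_end_retract R P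
  exact Module.Finite.of_surjective r (fun x => ⟨i x, hri x⟩)

theorem projective_end : Module.Projective R (Module.End R P) := by
  obtain ⟨n, i, r, hri⟩ := exists_end_retract R P
  exact Module.Projective.of_split i r (LinearMap.ext hri)

end EndFP

section SpecSurj2

variable (R : Type*) [CommRing R] (S : Type*) [CommRing S] [Algebra R S]

/-- A linear map from a finite module to a finite projective module which becomes bijective
after a base change surjective on spectra is bijective. -/
theorem bijective_of_lTensor_bijective
    (hS : Function.Surjective (PrimeSpectrum.comap (algebraMap R S)))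
    {P Q : Type*} [AddCommGroup P] [Module R P] [AddCommGroup Q] [Module R Q]
    [Module.Finite R P] [Module.Finite R Q] [Module.Projective R Q] (f : P →ₗ[R] Q)
    (hf : Function.Bijective (LinearMap.lTensor S f)) : Function.Bijective f := by
  have hsurj : Function.Surjective f := by
    haveI : Subsingleton (S ⊗[R] (Q ⧸ LinearMap.range f)) := by
      refine ⟨fun a b => ?_⟩
      have h0 : ∀ z : S ⊗[R] (Q ⧸ LinearMap.range f), z = 0 := by
        intro z
        obtain ⟨y, rfl⟩ := LinearMap.lTensor_surjective S
          (Submodule.mkQ_surjective (LinearMap.range f)) z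
        obtain ⟨x, rfl⟩ := hf.2 y
        rw [← LinearMap.comp_apply, ← LinearMap.lTensor_comp]
        have : (LinearMap.range f).mkQ ∘ₗ f = 0 := by
          ext p
          simp
        rw [this, LinearMap.lTensor_zero, LinearMap.zero_apply]
      rw [h0 a, h0 b]
    haveI := subsingleton_of_baseChange R S hS (Q ⧸ LinearMap.range f)
    rw [← LinearMap.range_eq_top]
    exact Submodule.Quotient.subsingleton_iff.mp ‹_›
  refine ⟨?_, hsurj⟩
  obtain ⟨σ, hσ⟩ := Module.projective_lifting_property f LinearMap.id hsurj
  have hσ' : ∀ q, f (σ q) = q := fun q => by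
    have := congrArg (fun h => h q) hσ
    simpa using this
  set K := LinearMap.ker f with hK
  let π : P →ₗ[R] K := LinearMap.codRestrict K (LinearMap.id - σ ∘ₗ f) (fun x => by
    simp [hK, LinearMap.mem_ker, hσ'])
  have hπ : ∀ k : K, π (K.subtype k) = k := by
    intro k
    apply Subtype.ext
    have : f (k : P) = 0 := k.2
    simp [π, this]
  haveI : Module.Finite R K := Module.Finite.of_surjective π (fun k => ⟨K.subtype k, hπ k⟩)
  haveI : Subsingleton (S ⊗[R] K) := by
    refine ⟨fun a b => ?_⟩
    have h0 : ∀ z : S ⊗[R] K, z = 0 := by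
      intro z
      have h1 : LinearMap.lTensor S f (LinearMap.lTensor S K.subtype z) = 0 := by
        rw [← LinearMap.comp_apply, ← LinearMap.lTensor_comp]
        have : f ∘ₗ K.subtype = 0 := by
          ext k
          exact k.2
        rw [this, LinearMap.lTensor_zero, LinearMap.zero_apply]
      have h2 : LinearMap.lTensor S K.subtype z = 0 := hf.1 (by rw [h1, map_zero])
      have h3 : LinearMap.lTensor S π (LinearMap.lTensor S K.subtype z) = z := by
        rw [← LinearMap.comp_apply, ← LinearMap.lTensor_comp]
        have : π ∘ₗ K.subtype = LinearMap.id := LinearMap.ext hπ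
        rw [this, LinearMap.lTensor_id, LinearMap.id_apply]
      rw [← h3, h2, map_zero]
    rw [h0 a, h0 b]
  haveI := subsingleton_of_baseChange R S hS K
  rw [← LinearMap.ker_eq_bot]
  exact Submodule.eq_bot_of_subsingleton

/-- Azumaya descends along ring maps surjective on spectra, for finite projective algebras. -/
theorem isAzumaya_of_comap_surjective
    (hS : Function.Surjective (PrimeSpectrum.comap (algebraMap R S)))
    (B : Type*) [Ring B] [Algebra R B] [Module.Finite R B] [Module.Projective R B]
    [hSB : IsAzumaya S (S ⊗[R] B)] : IsAzumaya R B := by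
  rw [isAzumaya_iff]
  refine ⟨inferInstance, ?_, inferInstance, ?_⟩
  · -- faithfulness
    -- the trace ideal `T` of `B` and an idempotent `e` with `e • B = 0`, `e - 1 ∈ T`
    obtain ⟨n, g, f, -, -, hgf⟩ := Module.Finite.exists_comp_eq_id_of_projective R B
    let T : Ideal R := LinearMap.range (contractLeft R B)
    have hle : (⊤ : Submodule R B) ≤ T • ⊤ := by
      intro x _
      have hx : x = ∑ i, (f x i) • g (Pi.single i 1) := by
        have h1 : x = g (f x) := by
          have := congrArg (fun h => h x) hgf
          simpa using this.symm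
        conv_lhs => rw [h1, pi_eq_sum_univ (f x)]
        simp only [map_sum, map_smul]
        refine Finset.sum_congr rfl fun i _ => ?_
        congr 2
        ext j
        simp [Pi.single_apply, eq_comm]
      rw [hx]
      refine Submodule.sum_mem _ fun i _ => Submodule.smul_mem_smul ?_ Submodule.mem_top
      exact ⟨((LinearMap.proj i).comp f) ⊗ₜ x, by simp [contractLeft_apply]⟩
    obtain ⟨e, he, he0⟩ := Submodule.exists_sub_one_mem_and_smul_eq_zero_of_fg_of_le_smul T ⊤
      Module.Finite.fg_top hle
    -- anything killing `B` kills `T`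
    have hkill : ∀ d : R, (∀ b : B, d • b = 0) → ∀ t ∈ T, d * t = 0 := by
      intro d hd t ht
      obtain ⟨z, rfl⟩ := ht
      induction z using TensorProduct.induction_on with
      | zero => simp
      | add a b ha hb => rw [map_add, mul_add, ha, hb, add_zero]
      | tmul φ x => rw [contractLeft_apply, ← smul_eq_mul, ← map_smul, hd x, map_zero]
    have he0' : ∀ b : B, e • b = 0 := fun b => he0 b Submodule.mem_top
    -- `e` maps to zero in `S`
    have heS : algebraMap R S e = 0 := by
      haveI := hSB.toFaithfulSMul
      apply FaithfulSMul.eq_of_smul_eq_smul (α := S ⊗[R] B)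
      intro z
      rw [zero_smul]
      induction z using TensorProduct.induction_on with
      | zero => simp
      | add a b ha hb => rw [smul_add, ha, hb, add_zero]
      | tmul t b =>
        rw [smul_tmul', smul_eq_mul, ← Algebra.smul_def, smul_tmul, he0' b, tmul_zero]
    -- `e` is idempotent
    have hidem : e * e = e := by
      have := hkill e he0' (e - 1) he
      linear_combination this
    -- hence nilpotent, hence zero
    have hnil : IsNilpotent e := by
      rw [nilpotent_iff_mem_prime]
      intro J hJ
      obtain ⟨q, hq⟩ := hS ⟨J, hJ⟩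
      have : e ∈ (PrimeSpectrum.comap (algebraMap R S) q).asIdeal := by
        change algebraMap R S e ∈ q.asIdeal
        rw [heS]; exact q.asIdeal.zero_mem
      rw [hq] at this
      exact this
    have he00 : e = 0 := by
      obtain ⟨k, hk⟩ := hnil
      have hpow : ∀ m : ℕ, e ^ (m + 1) = e := by
        intro m
        induction m with
        | zero => simp
        | succ m ih => rw [pow_succ, ih, hidem]
      rcases k with _ | k
      · have h1 : (1 : R) = 0 := by simpa using hk
        rw [← mul_one e, h1, mul_zero]
      · rw [← hpow k, hk]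
    refine ⟨fun {r s} h => ?_⟩
    have hd : ∀ b : B, (r - s) • b = 0 := fun b => by rw [sub_smul, h b, sub_self]
    have h1 := hkill (r - s) hd (e - 1) he
    rw [he00, zero_sub, mul_neg, mul_one, neg_eq_zero] at h1
    exact sub_eq_zero.mp h1
  · have hSB' := (bijective_mulLeftRight_iff S (S ⊗[R] B)).mp hSB.bij
    have h2 : Function.Bijective ((LinearMap.baseChangeHom R S B B).liftBaseChange S) :=
      isBaseChange_baseChangeHom R S B B
    have h3 : ⇑(mulLR S (S ⊗[R] B)) ∘ ⇑(AlgebraTensorModule.distribBaseChange R S B B) =
        ⇑((LinearMap.baseChangeHom R S B B).liftBaseChange S) ∘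
          ⇑(LinearMap.lTensor S (mulLR R B)) := by
      ext z : 1
      exact mulLR_baseChange_comm R S B z
    have h4 : Function.Bijective (⇑((LinearMap.baseChangeHom R S B B).liftBaseChange S) ∘
          ⇑(LinearMap.lTensor S (mulLR R B))) := by
      rw [← h3]; exact hSB'.comp (LinearEquiv.bijective _)
    have h5 : Function.Bijective (LinearMap.lTensor S (mulLR R B)) :=
      (Function.Bijective.of_comp_iff' h2 _).mp h4
    haveI := finite_end R B
    haveI := projective_end R B
    exact bijective_of_lTensor_bijective R S hS (mulLR R B) h5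

end SpecSurj2

section Detect

variable {R : Type*} [CommRing R] {P Q : Type*} [AddCommGroup P] [Module R P]
  [AddCommGroup Q] [Module R Q] (f : P →ₗ[R] Q)

theorem subsingleton_lTensor_coker (S : Type*) [CommRing S] [Algebra R S]
    (hf : Function.Surjective (LinearMap.lTensor S f)) :
    Subsingleton (S ⊗[R] (Q ⧸ LinearMap.range f)) := by
  refine ⟨fun a b => ?_⟩
  have h0 : ∀ z : S ⊗[R] (Q ⧸ LinearMap.range f), z = 0 := by
    intro z
    obtain ⟨y, rfl⟩ := LinearMap.lTensor_surjective S
      (Submodule.mkQ_surjective (LinearMap.range f)) z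
    obtain ⟨x, rfl⟩ := hf y
    rw [← LinearMap.comp_apply, ← LinearMap.lTensor_comp]
    have : (LinearMap.range f).mkQ ∘ₗ f = 0 := by
      ext p
      simp
    rw [this, LinearMap.lTensor_zero, LinearMap.zero_apply]
  rw [h0 a, h0 b]

theorem exists_retraction_ker [Module.Projective R Q] (hf : Function.Surjective f) :
    ∃ π : P →ₗ[R] LinearMap.ker f, ∀ k, π ((LinearMap.ker f).subtype k) = k := by
  obtain ⟨σ, hσ⟩ := Module.projective_lifting_property f LinearMap.id hf
  have hσ' : ∀ q, f (σ q) = q := fun q => by
    have := congrArg (fun h => h q) hσ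
    simpa using this
  refine ⟨LinearMap.codRestrict (LinearMap.ker f) (LinearMap.id - σ ∘ₗ f) (fun x => by
    simp [LinearMap.mem_ker, hσ']), ?_⟩
  intro k
  apply Subtype.ext
  have : f (k : P) = 0 := k.2
  simp [this]

theorem finite_ker_of_surjective [Module.Finite R P] [Module.Projective R Q]
    (hf : Function.Surjective f) : Module.Finite R (LinearMap.ker f) := by
  obtain ⟨π, hπ⟩ := exists_retraction_ker f hf
  exact Module.Finite.of_surjective π (fun k => ⟨(LinearMap.ker f).subtype k, hπ k⟩)

theorem subsingleton_lTensor_ker [Module.Projective R Q] (hf : Function.Surjective f)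
    (S : Type*) [CommRing S] [Algebra R S]
    (hinj : Function.Injective (LinearMap.lTensor S f)) :
    Subsingleton (S ⊗[R] LinearMap.ker f) := by
  obtain ⟨π, hπ⟩ := exists_retraction_ker f hf
  refine ⟨fun a b => ?_⟩
  have h0 : ∀ z : S ⊗[R] LinearMap.ker f, z = 0 := by
    intro z
    have h1 : LinearMap.lTensor S f (LinearMap.lTensor S (LinearMap.ker f).subtype z) = 0 := by
      rw [← LinearMap.comp_apply, ← LinearMap.lTensor_comp]
      have : f ∘ₗ (LinearMap.ker f).subtype = 0 := by
        ext k
        exact k.2
      rw [this, LinearMap.lTensor_zero, LinearMap.zero_apply]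
    have h2 : LinearMap.lTensor S (LinearMap.ker f).subtype z = 0 := hinj (by rw [h1, map_zero])
    have h3 : LinearMap.lTensor S π (LinearMap.lTensor S (LinearMap.ker f).subtype z) = z := by
      rw [← LinearMap.comp_apply, ← LinearMap.lTensor_comp]
      have : π ∘ₗ (LinearMap.ker f).subtype = LinearMap.id := LinearMap.ext hπ
      rw [this, LinearMap.lTensor_id, LinearMap.id_apply]
    rw [← h3, h2, map_zero]
  rw [h0 a, h0 b]

/-- Bijectivity of a map from a finite module to a finite projective module is detected by a
family of base changes which detects vanishing of the (finite) cokernel and kernel. -/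
theorem bijective_of_detect [Module.Finite R P] [Module.Finite R Q] [Module.Projective R Q]
    {ι : Type*} (S : ι → Type*) [∀ i, CommRing (S i)] [∀ i, Algebra R (S i)]
    (h1 : (∀ i, Subsingleton (S i ⊗[R] (Q ⧸ LinearMap.range f))) →
      Subsingleton (Q ⧸ LinearMap.range f))
    (h2 : Module.Finite R (LinearMap.ker f) → (∀ i, Subsingleton (S i ⊗[R] LinearMap.ker f)) →
      Subsingleton (LinearMap.ker f))
    (hf : ∀ i, Function.Bijective (LinearMap.lTensor (S i) f)) : Function.Bijective f := by
  have hsurj : Function.Surjective f := by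
    haveI := h1 (fun i => subsingleton_lTensor_coker f (S i) (hf i).2)
    rw [← LinearMap.range_eq_top]
    exact Submodule.Quotient.subsingleton_iff.mp ‹_›
  refine ⟨?_, hsurj⟩
  haveI := h2 (finite_ker_of_surjective f hsurj)
    (fun i => subsingleton_lTensor_ker f hsurj (S i) (hf i).1)
  rw [← LinearMap.ker_eq_bot]
  exact Submodule.eq_bot_of_subsingleton

end Detect

section Faithful

variable (R : Type*) [CommRing R] (B : Type*) [AddCommGroup B] [Module R B]
  [Module.Finite R B] [Module.Projective R B]

/-- A finite projective module is faithful as soon as no nonzero idempotent kills it. -/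
theorem faithfulSMul_of_idempotent
    (h : ∀ e : R, e * e = e → (∀ b : B, e • b = 0) → e = 0) : FaithfulSMul R B := by
  obtain ⟨n, g, f, -, -, hgf⟩ := Module.Finite.exists_comp_eq_id_of_projective R B
  let T : Ideal R := LinearMap.range (contractLeft R B)
  have hle : (⊤ : Submodule R B) ≤ T • ⊤ := by
    intro x _
    have hx : x = ∑ i, (f x i) • g (Pi.single i 1) := by
      have h1 : x = g (f x) := by
        have := congrArg (fun h => h x) hgf
        simpa using this.symm
      conv_lhs => rw [h1, pi_eq_sum_univ (f x)]
      simp only [map_sum, map_smul]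
      refine Finset.sum_congr rfl fun i _ => ?_
      congr 2
      ext j
      simp [Pi.single_apply, eq_comm]
    rw [hx]
    refine Submodule.sum_mem _ fun i _ => Submodule.smul_mem_smul ?_ Submodule.mem_top
    exact ⟨((LinearMap.proj i).comp f) ⊗ₜ x, by simp [contractLeft_apply]⟩
  obtain ⟨e, he, he0⟩ := Submodule.exists_sub_one_mem_and_smul_eq_zero_of_fg_of_le_smul T ⊤
    Module.Finite.fg_top hle
  have hkill : ∀ d : R, (∀ b : B, d • b = 0) → ∀ t ∈ T, d * t = 0 := by
    intro d hd t ht
    obtain ⟨z, rfl⟩ := ht
    induction z using TensorProduct.induction_on with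
    | zero => simp
    | add a b ha hb => rw [map_add, mul_add, ha, hb, add_zero]
    | tmul φ x => rw [contractLeft_apply, ← smul_eq_mul, ← map_smul, hd x, map_zero]
  have he0' : ∀ b : B, e • b = 0 := fun b => he0 b Submodule.mem_top
  have hidem : e * e = e := by
    have := hkill e he0' (e - 1) he
    linear_combination this
  have he00 : e = 0 := h e hidem he0'
  refine ⟨fun {r s} h => ?_⟩
  have hd : ∀ b : B, (r - s) • b = 0 := fun b => by rw [sub_smul, h b, sub_self]
  have h1 := hkill (r - s) hd (e - 1) he
  rw [he00, zero_sub, mul_neg, mul_one, neg_eq_zero] at h1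
  exact sub_eq_zero.mp h1

theorem eq_zero_of_idempotent_of_forall_mem_prime (e : R) (he : e * e = e)
    (h : ∀ J : Ideal R, J.IsPrime → e ∈ J) : e = 0 := by
  have hnil : IsNilpotent e := nilpotent_iff_mem_prime.mpr h
  obtain ⟨k, hk⟩ := hnil
  have hpow : ∀ m : ℕ, e ^ (m + 1) = e := by
    intro m
    induction m with
    | zero => simp
    | succ m ih => rw [pow_succ, ih, he]
  rcases k with _ | k
  · have h1 : (1 : R) = 0 := by simpa using hk
    rw [← mul_one e, h1, mul_zero]
  · rw [← hpow k, hk]

end Faithful

section Field

variable (k : Type*) [Field k] (A : Type*) [Ring A] [Algebra k A]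

theorem isSimpleRing_of_isAzumaya_field [IsAzumaya k A] : IsSimpleRing A := by
  haveI : Nontrivial A := by
    by_contra hA
    rw [not_nontrivial_iff_subsingleton] at hA
    have : (1 : k) = 0 := by
      apply FaithfulSMul.eq_of_smul_eq_smul (α := A)
      intro a
      exact Subsingleton.elim _ _
    exact one_ne_zero this
  have hsurj : Function.Surjective (mulLR k A) :=
    ((bijective_mulLeftRight_iff k A).mp IsAzumaya.bij).2
  -- a two-sided ideal is stable under all `k`-linear endomorphisms
  have hstab : ∀ (I : TwoSidedIdeal A) (T : Module.End k A) (x : A), x ∈ I → T x ∈ I := by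
    intro I T x hx
    obtain ⟨z, rfl⟩ := hsurj T
    induction z using TensorProduct.induction_on with
    | zero => simp [I.zero_mem]
    | add a b ha hb => rw [map_add, LinearMap.add_apply]; exact I.add_mem ha hb
    | tmul a b => rw [mulLR_tmul]; exact I.mul_mem_right _ _ (I.mul_mem_left _ _ hx)
  refine ⟨⟨fun I => ?_⟩⟩
  by_cases hI : I = ⊥
  · exact Or.inl hI
  · right
    rw [eq_top_iff]
    intro y _
    obtain ⟨x, hxI, hx0⟩ : ∃ x ∈ I, x ≠ 0 := by
      by_contra hcon
      push Not at hcon
      apply hI
      rw [eq_bot_iff]
      intro x hx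
      rw [hcon x hx]
      exact (⊥ : TwoSidedIdeal A).zero_mem
    obtain ⟨φ, hφ⟩ : ∃ φ : Module.Dual k A, φ x = 1 := Module.Projective.exists_dual_eq_one k hx0
    have := hstab I (LinearMap.smulRight φ y) x hxI
    simpa [hφ] using this

end Field

end Groth.Agent.Lib.helper8.Az
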