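import Mathlib
import Groth.Agent.Lib.Helper8.Azumaya
import Groth.Agent.S7722

open TensorProduct

namespace Groth.Agent.Lib.helper8.Az

section Square

variable (R : Type*) [CommRing R] (S : Type*) [CommRing S] [Algebra R S]
  (A : Type*) [Ring A] [Algebra R A] [Module.Finite R A] [Module.Projective R A]

theorem lTensor_mulLR_bijective_iff :
    Function.Bijective (LinearMap.lTensor S (mulLR R A)) ↔
      Function.Bijective (mulLR S (S ⊗[R] A)) := by
  have h2 : Function.Bijective ((LinearMap.baseChangeHom R S A A).liftBaseChange S) :=
    isBaseChange_baseChangeHom R S A A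
  have h3 : ⇑(mulLR S (S ⊗[R] A)) ∘ ⇑(AlgebraTensorModule.distribBaseChange R S A A) =
      ⇑((LinearMap.baseChangeHom R S A A).liftBaseChange S) ∘
        ⇑(LinearMap.lTensor S (mulLR R A)) := by
    ext z : 1
    exact mulLR_baseChange_comm R S A z
  constructor
  · intro h
    have h4 : Function.Bijective (⇑(mulLR S (S ⊗[R] A)) ∘
        ⇑(AlgebraTensorModule.distribBaseChange R S A A)) := by
      rw [h3]; exact h2.comp h
    exact (Function.Bijective.of_comp_iff _ (LinearEquiv.bijective _)).mp h4
  · intro h
    have h4 : Function.Bijective (⇑((LinearMap.baseChangeHom R S A A).liftBaseChange S) ∘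
          ⇑(LinearMap.lTensor S (mulLR R A))) := by
      rw [← h3]; exact h.comp (LinearEquiv.bijective _)
    exact (Function.Bijective.of_comp_iff' h2 _).mp h4

end Square

section Field2

variable (k : Type*) [Field k] (A : Type*) [Ring A] [Algebra k A]

theorem isAzumaya_of_isCentral_of_isSimpleRing [Algebra.IsCentral k A] [IsSimpleRing A]
    [FiniteDimensional k A] : IsAzumaya k A :=
  { out := (Module.Projective.of_free (R := k) (P := A)).out
    eq_of_smul_eq_smul := fun {r s} h => by
      have := h 1
      exact FaithfulSMul.algebraMap_injective k A (by simpa [Algebra.algebraMap_eq_smul_one] using this)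
    fg_top := Module.Finite.fg_top
    bij := Groth.Agent.S7722.result k A }

theorem isAzumaya_field_iff [FiniteDimensional k A] :
    IsAzumaya k A ↔ Algebra.IsCentral k A ∧ IsSimpleRing A := by
  constructor
  · intro h
    exact ⟨inferInstance, isSimpleRing_of_isAzumaya_field k A⟩
  · rintro ⟨h1, h2⟩
    exact isAzumaya_of_isCentral_of_isSimpleRing k A

end Field2

section Fibres

variable (R : Type*) [CommRing R] (A : Type*) [Ring A] [Algebra R A]
  [Module.Finite R A] [Module.Projective R A]

theorem subsingleton_of_forall_residueField (M : Type*) [AddCommGroup M] [Module R M]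
    [Module.Finite R M]
    (h : ∀ p : PrimeSpectrum R, Subsingleton (p.asIdeal.ResidueField ⊗[R] M)) :
    Subsingleton M := by
  rw [← Module.support_eq_empty_iff (R := R)]
  ext p
  simp only [Set.mem_empty_iff_false, iff_false]
  rw [Module.mem_support_iff_nontrivial_residueField_tensorProduct]
  exact not_nontrivial_iff_subsingleton.mpr (h p)

theorem isAzumaya_iff_fibres :
    IsAzumaya R A ↔ ∀ (p : Ideal R) [p.IsPrime],
      Algebra.IsCentral p.ResidueField (p.ResidueField ⊗[R] A) ∧
        IsSimpleRing (p.ResidueField ⊗[R] A) := by
  constructor
  · intro h p _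
    haveI := isAzumaya_baseChange R p.ResidueField A
    exact (isAzumaya_field_iff _ _).mp this
  · intro h
    rw [isAzumaya_iff]
    refine ⟨inferInstance, ?_, inferInstance, ?_⟩
    · apply faithfulSMul_of_idempotent R A
      intro e he hkill
      apply eq_zero_of_idempotent_of_forall_mem_prime R e he
      intro J hJ
      obtain ⟨hc, hs⟩ := h J
      rw [← Ideal.algebraMap_residueField_eq_zero]
      by_contra hne
      have h0 : (algebraMap R J.ResidueField e) • (1 : J.ResidueField ⊗[R] A) = 0 := by
        rw [Algebra.TensorProduct.one_def, smul_tmul', smul_eq_mul, mul_one,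
          ← mul_one (algebraMap R J.ResidueField e), ← Algebra.smul_def, smul_tmul, hkill,
          tmul_zero]
      have h1 : (1 : J.ResidueField ⊗[R] A) = 0 := by
        rw [← one_smul J.ResidueField (1 : J.ResidueField ⊗[R] A), ← inv_mul_cancel₀ hne,
          mul_smul, h0, smul_zero]
      exact one_ne_zero h1
    · haveI := finite_end R A
      haveI := projective_end R A
      refine bijective_of_detect (mulLR R A) (ι := PrimeSpectrum R)
        (fun p => p.asIdeal.ResidueField) ?_ ?_ ?_
      · intro hsub
        exact subsingleton_of_forall_residueField R _ hsub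
      · intro hfin hsub
        exact subsingleton_of_forall_residueField R _ hsub
      · intro p
        rw [lTensor_mulLR_bijective_iff]
        obtain ⟨hc, hs⟩ := h p.asIdeal
        have := isAzumaya_of_isCentral_of_isSimpleRing p.asIdeal.ResidueField
          (p.asIdeal.ResidueField ⊗[R] A)
        exact (bijective_mulLeftRight_iff _ _).mp this.bij

end Fibres

section LocalFibre

variable (R : Type*) [CommRing R] [IsLocalRing R] (A : Type*) [Ring A] [Algebra R A]
  [Module.Finite R A] [Module.Free R A] [Nontrivial A]

theorem isAzumaya_iff_closedFibre :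
    IsAzumaya R A ↔
      (Algebra.IsCentral (IsLocalRing.ResidueField R) ((IsLocalRing.ResidueField R) ⊗[R] A) ∧
        IsSimpleRing ((IsLocalRing.ResidueField R) ⊗[R] A)) := by
  constructor
  · intro h
    haveI := isAzumaya_baseChange R (IsLocalRing.ResidueField R) A
    exact (isAzumaya_field_iff _ _).mp this
  · rintro ⟨hc, hs⟩
    rw [isAzumaya_iff]
    refine ⟨inferInstance, ?_, inferInstance, ?_⟩
    · haveI : Nontrivial R := inferInstance
      let b := Module.Free.chooseBasis R A
      haveI : Nonempty (Module.Free.ChooseBasisIndex R A) := by
        by_contra hne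
        rw [not_nonempty_iff] at hne
        have : Subsingleton A := b.repr.toEquiv.subsingleton
        exact not_subsingleton A this
      obtain ⟨i⟩ := ‹Nonempty (Module.Free.ChooseBasisIndex R A)›
      refine ⟨fun {r s} h => ?_⟩
      have := congrArg (fun z => b.repr z i) (h (b i))
      simpa using this
    · haveI := finite_end R A
      haveI := projective_end R A
      refine bijective_of_detect (mulLR R A) (ι := Unit)
        (fun _ => IsLocalRing.ResidueField R) ?_ ?_ ?_
      · intro hsub
        exact IsLocalRing.subsingleton_tensorProduct.mp (hsub ())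
      · intro hfin hsub
        exact IsLocalRing.subsingleton_tensorProduct.mp (hsub ())
      · intro _
        rw [lTensor_mulLR_bijective_iff]
        have := isAzumaya_of_isCentral_of_isSimpleRing (IsLocalRing.ResidueField R)
          ((IsLocalRing.ResidueField R) ⊗[R] A)
        exact (bijective_mulLeftRight_iff _ _).mp this.bij

end LocalFibre

end Groth.Agent.Lib.helper8.Az
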