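import Mathlib
import Groth.Agent.S0190

/-!
# Central simple algebras: Skolem–Noether and the centralizer theorem
-/

set_option autoImplicit false
universe u v w
open scoped TensorProduct

namespace Groth.Agent.Lib.Helper8.CSA

section SimpleArtinian

variable (k : Type*) [Field k] (R : Type*) [Ring R] [Algebra k R] [IsSimpleRing R] [IsArtinianRing R]
  [Module.Finite k R]

omit [Module.Finite k R] in
/-- all simple modules over a simple artinian ring are isomorphic -/
theorem nonempty_linearEquiv_of_isSimpleModule (S S' : Type*) [AddCommGroup S] [Module R S]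
    [AddCommGroup S'] [Module R S'] [IsSimpleModule R S] [IsSimpleModule R S'] :
    Nonempty (S ≃ₗ[R] S') := by
  have h := IsSimpleRing.isIsotypic R (S × S')
  let m : Submodule R (S × S') := LinearMap.range (LinearMap.inl R S S')
  let m' : Submodule R (S × S') := LinearMap.range (LinearMap.inr R S S')
  let e : S ≃ₗ[R] m := LinearEquiv.ofInjective (LinearMap.inl R S S') LinearMap.inl_injective
  let e' : S' ≃ₗ[R] m' := LinearEquiv.ofInjective (LinearMap.inr R S S') LinearMap.inr_injective
  haveI : IsSimpleModule R m := IsSimpleModule.congr e.symm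
  haveI : IsSimpleModule R m' := IsSimpleModule.congr e'.symm
  obtain ⟨f⟩ := h m' m
  exact ⟨e.trans (f.trans e'.symm)⟩

omit [Module.Finite k R] in
/-- every finite module over a simple artinian ring is a power of a given simple module -/
theorem exists_linearEquiv_fun (S : Type*) [AddCommGroup S] [Module R S] [IsSimpleModule R S]
    (M : Type*) [AddCommGroup M] [Module R M] [Module.Finite R M] :
    ∃ n : ℕ, Nonempty (M ≃ₗ[R] (Fin n → S)) := by
  rcases subsingleton_or_nontrivial M with hM | hM
  · refine ⟨0, ⟨?_⟩⟩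
    exact
      { toFun := fun _ => 0
        map_add' := fun _ _ => by simp
        map_smul' := fun _ _ => by simp
        invFun := fun _ => 0
        left_inv := fun x => Subsingleton.elim _ _
        right_inv := fun x => Subsingleton.elim _ _ }
  · obtain ⟨n, _, T, hT, ⟨e⟩⟩ := (IsSimpleRing.isIsotypic R M).linearEquiv_fun
    obtain ⟨f⟩ := nonempty_linearEquiv_of_isSimpleModule R T S
    exact ⟨n, ⟨e.trans (LinearEquiv.piCongrRight fun _ => f)⟩⟩

omit [IsSimpleRing R] [IsArtinianRing R] [Module.Finite k R] in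
theorem finrank_fun_eq (S : Type*) [AddCommGroup S] [Module k S] [Module R S]
    [IsScalarTower k R S] [Module.Finite k S] (M : Type*) [AddCommGroup M] [Module k M] [Module R M]
    [IsScalarTower k R M] (n : ℕ) (e : M ≃ₗ[R] (Fin n → S)) :
    Module.finrank k M = n * Module.finrank k S := by
  rw [(e.restrictScalars k).finrank_eq, Module.finrank_pi_fintype]
  simp

/-- finite modules over a simple artinian `k`-algebra with the same `k`-dimension are isomorphic -/
theorem nonempty_linearEquiv_of_finrank_eq (M N : Type*) [AddCommGroup M] [Module k M] [Module R M]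
    [IsScalarTower k R M] [AddCommGroup N] [Module k N] [Module R N] [IsScalarTower k R N]
    [Module.Finite k M] [Module.Finite k N] (h : Module.finrank k M = Module.finrank k N) :
    Nonempty (M ≃ₗ[R] N) := by
  haveI : Module.Finite R M := Module.Finite.of_restrictScalars_finite k R M
  haveI : Module.Finite R N := Module.Finite.of_restrictScalars_finite k R N
  obtain ⟨I, hI⟩ : ∃ I : Ideal R, IsAtom I := IsAtomic.exists_atom _
  haveI : IsSimpleModule R I := isSimpleModule_iff_isAtom.mpr hI
  haveI : Module.Finite k I := Module.Finite.of_injective (I.subtype.restrictScalars k)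
    Subtype.val_injective
  obtain ⟨n, ⟨e⟩⟩ := exists_linearEquiv_fun R I M
  obtain ⟨n', ⟨e'⟩⟩ := exists_linearEquiv_fun R I N
  have h1 := finrank_fun_eq k R I M n e
  have h2 := finrank_fun_eq k R I N n' e'
  by_cases h0 : Module.finrank k I = 0
  · -- impossible if `k`-finite... but `I` might be infinite-dimensional a priori; handle via `M`
    rw [h0, mul_zero] at h1 h2
    haveI : Subsingleton M := Module.finrank_zero_iff.mp h1
    haveI : Subsingleton N := Module.finrank_zero_iff.mp h2
    exact ⟨
      { toFun := fun _ => 0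
        map_add' := fun _ _ => by simp
        map_smul' := fun _ _ => by simp
        invFun := fun _ => 0
        left_inv := fun x => Subsingleton.elim _ _
        right_inv := fun x => Subsingleton.elim _ _ }⟩
  · have hn : n = n' := by
      rw [h1, h2] at h
      exact Nat.eq_of_mul_eq_mul_right (Nat.pos_of_ne_zero h0) h
    subst hn
    exact ⟨e.trans e'.symm⟩

/-- structure of the endomorphism ring of a finite module over a simple finite-dimensional algebra:
it is simple, and `(dim M)^2 = dim R * dim End_R(M)`. -/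
theorem end_structure (M : Type*) [AddCommGroup M] [Module k M] [Module R M]
    [IsScalarTower k R M] [Module.Finite k M] [Nontrivial M] :
    IsSimpleRing (Module.End R M) ∧
      Module.finrank k M ^ 2 = Module.finrank k R * Module.finrank k (Module.End R M) := by
  classical
  haveI : Module.Finite R M := Module.Finite.of_restrictScalars_finite k R M
  obtain ⟨I, hI⟩ : ∃ I : Ideal R, IsAtom I := IsAtomic.exists_atom _
  haveI : IsSimpleModule R I := isSimpleModule_iff_isAtom.mpr hI
  haveI : Module.Finite k I := Module.Finite.of_injective (I.subtype.restrictScalars k)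
    Subtype.val_injective
  obtain ⟨n, ⟨eM⟩⟩ := exists_linearEquiv_fun R I M
  obtain ⟨m, ⟨eR⟩⟩ := exists_linearEquiv_fun R I R
  have hM := finrank_fun_eq k R I M n eM
  have hR := finrank_fun_eq k R I R m eR
  -- `End_R(M) ≃ Mat_n(End_R I)`
  let φM : Module.End R M ≃ₐ[k] Matrix (Fin n) (Fin n) (Module.End R I) :=
    (eM.conjAlgEquiv k).trans (endVecAlgEquivMatrixEnd (Fin n) k R I)
  let φR : Rᵐᵒᵖ ≃ₐ[k] Matrix (Fin m) (Fin m) (Module.End R I) :=
    (AlgEquiv.moduleEndSelf k).trans
      ((eR.conjAlgEquiv k).trans (endVecAlgEquivMatrixEnd (Fin m) k R I))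
  have hE : Module.finrank k (Module.End R M) = n * n * Module.finrank k (Module.End R I) := by
    rw [φM.toLinearEquiv.finrank_eq, Module.finrank_matrix]
    simp
  have hR' : Module.finrank k R = m * m * Module.finrank k (Module.End R I) := by
    rw [(MulOpposite.opLinearEquiv k : R ≃ₗ[k] Rᵐᵒᵖ).finrank_eq, φR.toLinearEquiv.finrank_eq,
      Module.finrank_matrix]
    simp
  have hn : n ≠ 0 := by
    rintro rfl
    have : Module.finrank k M = 0 := by rw [hM, zero_mul]
    have hpos : 0 < Module.finrank k M := Module.finrank_pos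
    omega
  have hm : m ≠ 0 := by
    rintro rfl
    have : Module.finrank k R = 0 := by rw [hR, zero_mul]
    have hpos : 0 < Module.finrank k R := Module.finrank_pos
    omega
  constructor
  · haveI : NeZero n := ⟨hn⟩
    haveI : IsSimpleRing (Matrix (Fin n) (Fin n) (Module.End R I)) := inferInstance
    exact IsSimpleRing.of_ringEquiv φM.symm.toRingEquiv inferInstance
  · set d := Module.finrank k (Module.End R I) with hd
    set i := Module.finrank k I with hi
    have h1 : i = m * d := by
      have : m * i = m * (m * d) := by rw [← hR, hR']; ring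
      exact Nat.eq_of_mul_eq_mul_left (Nat.pos_of_ne_zero hm) this
    rw [hM, hR', hE, h1]
    ring

end SimpleArtinian

section Bimod

variable (k : Type u) [Field k] (A : Type v) [Ring A] [Algebra k A] (B : Type w) [Ring B]
  [Algebra k B]

/-- the action of `B ⊗ Aᵐᵒᵖ` on `A` through `f : B → A`: `(b ⊗ op a) x = f b * x * a` -/
noncomputable def actHom (f : B →ₐ[k] A) : B ⊗[k] Aᵐᵒᵖ →ₐ[k] Module.End k A :=
  (AlgHom.mulLeftRight k A).comp (Algebra.TensorProduct.map f (AlgHom.id k Aᵐᵒᵖ))

variable {k A B}

theorem actHom_tmul (f : B →ₐ[k] A) (b : B) (a : Aᵐᵒᵖ) (x : A) :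
    actHom k A B f (b ⊗ₜ[k] a) x = f b * x * a.unop := by
  simp [actHom, AlgHom.mulLeftRight_apply]

/-- `A` as a `B ⊗ Aᵐᵒᵖ`-module through `f` -/
def Mod (_f : B →ₐ[k] A) : Type v := A

namespace Mod
variable (f : B →ₐ[k] A)

instance : AddCommGroup (Mod f) := inferInstanceAs (AddCommGroup A)
instance : Module k (Mod f) := inferInstanceAs (Module k A)
noncomputable instance : Module (B ⊗[k] Aᵐᵒᵖ) (Mod f) :=
  Module.compHom A (actHom k A B f).toRingHom

/-- the identity map `A → Mod f` -/
def of : A ≃ₗ[k] Mod f := LinearEquiv.refl k A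

theorem smul_def (r : B ⊗[k] Aᵐᵒᵖ) (x : Mod f) :
    r • x = of f (actHom k A B f r ((of f).symm x)) := rfl

theorem tmul_smul (b : B) (a : Aᵐᵒᵖ) (x : A) :
    (b ⊗ₜ[k] a) • of f x = of f (f b * x * a.unop) := by
  rw [smul_def]
  congr 1
  exact actHom_tmul f b a x

instance : IsScalarTower k (B ⊗[k] Aᵐᵒᵖ) (Mod f) where
  smul_assoc c r x := by
    rw [smul_def, smul_def, map_smul, LinearMap.smul_apply, map_smul]

instance [Module.Finite k A] : Module.Finite k (Mod f) := inferInstanceAs (Module.Finite k A)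

/-- construct module homomorphisms from `k`-linear maps compatible with both multiplications -/
noncomputable def mkHom (g : B →ₐ[k] A) (φ : A →ₗ[k] A)
    (h : ∀ (b : B) (a x : A), φ (f b * x * a) = g b * φ x * a) :
    Mod f →ₗ[B ⊗[k] Aᵐᵒᵖ] Mod g where
  toFun x := of g (φ ((of f).symm x))
  map_add' x y := by simp
  map_smul' r x := by
    simp only [RingHom.id_apply]
    induction r using TensorProduct.induction_on with
    | zero =>
      have h0 : ∀ y : Mod f, (0 : B ⊗[k] Aᵐᵒᵖ) • y = 0 := fun y => zero_smul (B ⊗[k] Aᵐᵒᵖ) y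
      have h0' : ∀ y : Mod g, (0 : B ⊗[k] Aᵐᵒᵖ) • y = 0 := fun y => zero_smul (B ⊗[k] Aᵐᵒᵖ) y
      rw [h0, h0', map_zero, map_zero, map_zero]
    | tmul b a =>
      obtain ⟨x, rfl⟩ := (of f).surjective x
      rw [tmul_smul, LinearEquiv.symm_apply_apply, LinearEquiv.symm_apply_apply, h, tmul_smul]
    | add r s hr hs => rw [add_smul, add_smul, ← hr, ← hs, map_add, map_add, map_add]

theorem mkHom_apply (g : B →ₐ[k] A) (φ : A →ₗ[k] A)
    (h : ∀ (b : B) (a x : A), φ (f b * x * a) = g b * φ x * a) (x : A) :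
    mkHom f g φ h (of f x) = of g (φ x) := rfl

/-- module homomorphisms are determined by the image of `1` -/
theorem hom_apply (g : B →ₐ[k] A) (ψ : Mod f →ₗ[B ⊗[k] Aᵐᵒᵖ] Mod g) (x : A) :
    ψ (of f x) = of g ((of g).symm (ψ (of f 1)) * x) := by
  have h1 : ((1 : B) ⊗ₜ[k] MulOpposite.op x) • of f (1 : A) = of f x := by
    rw [tmul_smul]; simp
  rw [← h1, map_smul]
  obtain ⟨u, hu⟩ := (of g).surjective (ψ (of f 1))
  rw [← hu, tmul_smul]
  simp

theorem hom_apply_left (g : B →ₐ[k] A) (ψ : Mod f →ₗ[B ⊗[k] Aᵐᵒᵖ] Mod g) (b : B) :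
    ψ (of f (f b)) = of g (g b * (of g).symm (ψ (of f 1))) := by
  have h1 : (b ⊗ₜ[k] (1 : Aᵐᵒᵖ)) • of f (1 : A) = of f (f b) := by
    rw [tmul_smul]; simp
  rw [← h1, map_smul]
  obtain ⟨u, hu⟩ := (of g).surjective (ψ (of f 1))
  rw [← hu, tmul_smul]
  simp

end Mod

/-- the centralizer of the image of `f` is the endomorphism algebra of `Mod f` -/
noncomputable def centEquiv (f : B →ₐ[k] A) :
    Subalgebra.centralizer k (Set.range f) ≃ₐ[k] Module.End (B ⊗[k] Aᵐᵒᵖ) (Mod f) where
  toFun c := Mod.mkHom f f (LinearMap.mulLeft k (c : A)) (by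
    intro b a x
    have hc := c.2
    rw [Subalgebra.mem_centralizer_iff] at hc
    have hcb : f b * (c : A) = (c : A) * f b := hc (f b) ⟨b, rfl⟩
    simp only [LinearMap.mulLeft_apply]
    rw [← mul_assoc, ← mul_assoc, ← hcb]
    simp only [mul_assoc])
  invFun ψ := ⟨(Mod.of f).symm (ψ (Mod.of f 1)), by
    rw [Subalgebra.mem_centralizer_iff]
    rintro _ ⟨b, rfl⟩
    have h1 := Mod.hom_apply f f ψ (f b)
    have h2 := Mod.hom_apply_left f f ψ b
    rw [h1] at h2
    exact ((Mod.of f).injective h2).symm⟩
  left_inv c := by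
    apply Subtype.ext
    show (Mod.of f).symm (Mod.mkHom f f _ _ (Mod.of f 1)) = _
    rw [Mod.mkHom_apply]
    simp
  right_inv ψ := by
    apply LinearMap.ext
    intro x
    obtain ⟨x, rfl⟩ := (Mod.of f).surjective x
    rw [Mod.mkHom_apply, Mod.hom_apply f f ψ x]
    rfl
  map_mul' c c' := by
    apply LinearMap.ext
    intro x
    obtain ⟨x, rfl⟩ := (Mod.of f).surjective x
    rw [Module.End.mul_apply, Mod.mkHom_apply, Mod.mkHom_apply, Mod.mkHom_apply]
    simp
  map_add' c c' := by
    apply LinearMap.ext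
    intro x
    obtain ⟨x, rfl⟩ := (Mod.of f).surjective x
    rw [LinearMap.add_apply, Mod.mkHom_apply, Mod.mkHom_apply, Mod.mkHom_apply]
    simp [add_mul]
  commutes' r := by
    apply LinearMap.ext
    intro x
    obtain ⟨x, rfl⟩ := (Mod.of f).surjective x
    rw [Mod.mkHom_apply, Module.algebraMap_end_apply]
    show Mod.of f (algebraMap k A r * x) = r • Mod.of f x
    rw [← Algebra.smul_def, map_smul]

end Bimod

section SkolemNoether

variable (k : Type u) [Field k] (A : Type v) [Ring A] [Algebra k A] [Algebra.IsCentral k A]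
  [IsSimpleRing A] [FiniteDimensional k A] (B : Type w) [Ring B] [Algebra k B] [IsSimpleRing B]

include A in
omit [Algebra.IsCentral k A] in
theorem finite_of_algHom (f : B →ₐ[k] A) : Module.Finite k B :=
  Module.Finite.of_injective f.toLinearMap (RingHom.injective f.toRingHom)

instance : Module.Finite k Aᵐᵒᵖ := Module.Finite.equiv (MulOpposite.opLinearEquiv k)

instance isSimpleRing_tensor_op : IsSimpleRing (B ⊗[k] Aᵐᵒᵖ) :=
  Groth.Agent.S0190.result k B Aᵐᵒᵖ

/-- **Skolem–Noether** -/
theorem skolem_noether (f g : B →ₐ[k] A) :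
    ∃ x : Aˣ, ∀ b : B, f b = (x : A) * g b * (x⁻¹ : Aˣ) := by
  haveI : Module.Finite k B := finite_of_algHom k A B f
  haveI : IsArtinianRing (B ⊗[k] Aᵐᵒᵖ) := IsArtinianRing.of_finite k _
  haveI i1 : IsScalarTower k (B ⊗[k] Aᵐᵒᵖ) (Mod f) := inferInstance
  haveI i2 : IsScalarTower k (B ⊗[k] Aᵐᵒᵖ) (Mod g) := inferInstance
  haveI i3 : Module.Finite k (Mod f) := inferInstance
  haveI i4 : Module.Finite k (B ⊗[k] Aᵐᵒᵖ) := inferInstance
  have key := @nonempty_linearEquiv_of_finrank_eq k _ (B ⊗[k] Aᵐᵒᵖ) _ _ _ _ _ (Mod f) (Mod g)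
    _ _ _ _ _ _ _ _ _ _
  obtain ⟨φ⟩ := key rfl
  set u : A := (Mod.of g).symm (φ (Mod.of f 1)) with hu
  set u' : A := (Mod.of f).symm (φ.symm (Mod.of g 1)) with hu'
  have hφ : ∀ x : A, φ (Mod.of f x) = Mod.of g (u * x) := by
    intro x
    have h1 : ((1 : B) ⊗ₜ[k] MulOpposite.op x) • Mod.of f (1 : A) = Mod.of f x := by
      rw [Mod.tmul_smul]; simp
    rw [← h1, map_smul]
    have h2 : φ (Mod.of f 1) = Mod.of g u := by rw [hu]; simp
    rw [h2, Mod.tmul_smul]; simp
  have hφ' : ∀ x : A, φ.symm (Mod.of g x) = Mod.of f (u' * x) := by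
    intro x
    have h1 : ((1 : B) ⊗ₜ[k] MulOpposite.op x) • Mod.of g (1 : A) = Mod.of g x := by
      rw [Mod.tmul_smul]; simp
    rw [← h1, map_smul]
    have h2 : φ.symm (Mod.of g 1) = Mod.of f u' := by rw [hu']; simp
    rw [h2, Mod.tmul_smul]; simp
  have h1 : u * u' = 1 := by
    apply (Mod.of g).injective
    have e1 : Mod.of f u' = φ.symm (Mod.of g 1) := by rw [hφ' 1, mul_one]
    rw [← hφ, e1, LinearEquiv.apply_symm_apply]
  have h2 : u' * u = 1 := by
    apply (Mod.of f).injective
    have e1 : Mod.of g u = φ (Mod.of f 1) := by rw [hφ 1, mul_one]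
    rw [← hφ', e1, LinearEquiv.symm_apply_apply]
  have hcomm : ∀ b : B, u * f b = g b * u := by
    intro b
    apply (Mod.of g).injective
    rw [← hφ]
    have h3 : (b ⊗ₜ[k] (1 : Aᵐᵒᵖ)) • Mod.of f (1 : A) = Mod.of f (f b) := by
      rw [Mod.tmul_smul]; simp
    rw [← h3, map_smul]
    have h4 : φ (Mod.of f 1) = Mod.of g u := by rw [hu]; simp
    rw [h4, Mod.tmul_smul]; simp
  refine ⟨⟨u', u, h2, h1⟩, fun b => ?_⟩
  show f b = u' * g b * u
  rw [mul_assoc, ← hcomm, ← mul_assoc, h2, one_mul]

end SkolemNoether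

section Centralizer

variable (k : Type u) [Field k] (A : Type v) [Ring A] [Algebra k A] [Algebra.IsCentral k A]
  [IsSimpleRing A] [FiniteDimensional k A]

/-- centralizer theorem for the image of an algebra map from a simple algebra -/
theorem centralizer_range_structure (B : Type w) [Ring B] [Algebra k B] [IsSimpleRing B]
    (f : B →ₐ[k] A) :
    IsSimpleRing (Subalgebra.centralizer k (Set.range f)) ∧
      Module.finrank k A =
        Module.finrank k B * Module.finrank k (Subalgebra.centralizer k (Set.range f)) := by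
  haveI : Module.Finite k B := finite_of_algHom k A B f
  haveI : IsArtinianRing (B ⊗[k] Aᵐᵒᵖ) := IsArtinianRing.of_finite k _
  haveI : Nontrivial (Mod f) := inferInstanceAs (Nontrivial A)
  have key := @end_structure k _ (B ⊗[k] Aᵐᵒᵖ) _ _ _ _ _ (Mod f) _ _ _ _ _ _
  obtain ⟨h1, h2⟩ := key
  let e := centEquiv f
  refine ⟨IsSimpleRing.of_ringEquiv e.symm.toRingEquiv h1, ?_⟩
  have hR : Module.finrank k (B ⊗[k] Aᵐᵒᵖ) = Module.finrank k B * Module.finrank k A := by
    rw [Module.finrank_tensorProduct,
      ← (MulOpposite.opLinearEquiv k : A ≃ₗ[k] Aᵐᵒᵖ).finrank_eq]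
  have hM : Module.finrank k (Mod f) = Module.finrank k A := rfl
  rw [hR, hM, ← e.toLinearEquiv.finrank_eq] at h2
  have hpos : 0 < Module.finrank k A := Module.finrank_pos
  have h3 : Module.finrank k A * Module.finrank k A = Module.finrank k A *
      (Module.finrank k B * Module.finrank k (Subalgebra.centralizer k (Set.range f))) := by
    rw [← pow_two, h2]; ring
  exact Nat.eq_of_mul_eq_mul_left hpos h3

variable (B : Subalgebra k A) [IsSimpleRing B]

theorem centralizer_structure :
    IsSimpleRing (Subalgebra.centralizer k (B : Set A)) ∧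
      Module.finrank k A =
        Module.finrank k B * Module.finrank k (Subalgebra.centralizer k (B : Set A)) := by
  have h := centralizer_range_structure k A B B.val
  have hr : Set.range B.val = (B : Set A) := by
    ext x
    simp
  rw [hr] at h
  exact h

end Centralizer

end Groth.Agent.Lib.Helper8.CSA
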