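import Mathlib

/-!
# Contractibility of mapping cocones

`mappingCocone φ` is contractible when `φ` is an isomorphism, or when both source and target are
contractible.  Proved through the pretriangulated structure on the homotopy category.
-/

set_option autoImplicit false

open CategoryTheory Limits CochainComplex Pretriangulated

namespace Groth.Agent.Lib.Helper8.CoconeContr

universe v u

variable {C : Type u} [Category.{v} C] [Preadditive C] [HasBinaryBiproducts C] [HasZeroObject C]
  {K L : CochainComplex C ℤ} (φ : K ⟶ L)

lemma mappingCocone_triangleh_distinguished :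
    (HomotopyCategory.quotient C (ComplexShape.up ℤ)).mapTriangle.obj (mappingCocone.triangle φ) ∈
      distTriang _ := by
  rw [rotate_distinguished_triangle]
  exact isomorphic_distinguished _ (HomotopyCategory.mappingCone_triangleh_distinguished φ) _
    ((HomotopyCategory.quotient C (ComplexShape.up ℤ)).mapTriangleRotateIso.app _ ≪≫
    (HomotopyCategory.quotient C (ComplexShape.up ℤ)).mapTriangle.mapIso
      (mappingCocone.rotateTriangleIso φ))

/-- A cochain complex is contractible when its identity is null-homotopic. -/
def Contr (K : CochainComplex C ℤ) : Prop := Nonempty (Homotopy (𝟙 K) 0)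

lemma contr_iff (K : CochainComplex C ℤ) :
    Contr K ↔ IsZero ((HomotopyCategory.quotient C (ComplexShape.up ℤ)).obj K) :=
  (HomotopyCategory.isZero_quotient_obj_iff K).symm

lemma contr_mappingCocone_of_isIso [IsIso φ] : Contr (mappingCocone φ) := by
  rw [contr_iff]
  refine Triangle.isZero₁_of_isIso₂ _ (mappingCocone_triangleh_distinguished φ) ?_
  change IsIso ((HomotopyCategory.quotient C (ComplexShape.up ℤ)).map φ)
  infer_instance

lemma contr_mappingCocone (hK : Contr K) (hL : Contr L) : Contr (mappingCocone φ) := by
  rw [contr_iff] at hK hL ⊢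
  refine Triangle.isZero₁_of_isIso₂ _ (mappingCocone_triangleh_distinguished φ) ?_
  exact ⟨0, hK.eq_of_src _ _, hL.eq_of_src _ _⟩

lemma Contr.map {D : Type*} [Category D] [Preadditive D] (F : C ⥤ D) [F.Additive]
    {K : CochainComplex C ℤ} (hK : Nonempty (Homotopy (𝟙 K) 0)) :
    Nonempty (Homotopy (𝟙 ((F.mapHomologicalComplex (ComplexShape.up ℤ)).obj K)) 0) := by
  obtain ⟨h⟩ := hK
  have h' := F.mapHomotopy h
  rw [CategoryTheory.Functor.map_id, CategoryTheory.Functor.map_zero] at h'
  exact ⟨h'⟩

end Groth.Agent.Lib.Helper8.CoconeContr
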