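import Mathlib
import Groth.Prelude.Def_DerCA
import Groth.Agent.Lib.Helper8.CoconeContr

/-!
# The extended Čech complex is contractible when one of the elements acts bijectively
-/

set_option autoImplicit false

open CategoryTheory Limits DerCA Groth.Agent.Lib.Helper8.CoconeContr

namespace Groth.Agent.Lib.Helper8.ExtCechContr

universe u

variable {R : Type u} [CommRing R]

/-- `f` acts bijectively on the module `N`. -/
def SB (f : R) (N : ModuleCat.{u} R) : Prop := Function.Bijective (fun m : N => f • m)

lemma SB.of_iso {f : R} {N N' : ModuleCat.{u} R} (e : N ≅ N') (h : SB f N) : SB f N' := by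
  let l : N ≃ₗ[R] N' := e.toLinearEquiv
  have hl : (fun m : N' => f • m) = l ∘ (fun m : N => f • m) ∘ l.symm := by
    funext m
    simp
  rw [SB, hl]
  exact l.bijective.comp (h.comp l.symm.bijective)

lemma SB.of_isZero {f : R} {N : ModuleCat.{u} R} (h : IsZero N) : SB f N := by
  haveI : Subsingleton N := ModuleCat.subsingleton_of_isZero h
  exact ⟨fun a b _ => Subsingleton.elim a b, fun b => ⟨b, Subsingleton.elim _ _⟩⟩

lemma SB.biprod {f : R} {A B : ModuleCat.{u} R} (h1 : SB f A) (h2 : SB f B) : SB f (A ⊞ B) := by
  refine SB.of_iso (ModuleCat.biprodIsoProd A B).symm ?_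
  have : (fun p : (ModuleCat.of R (A × B)) => f • p) = Prod.map (fun m : A => f • m) (fun m : B => f • m) := by
    funext p
    rfl
  rw [SB, this]
  exact Function.Bijective.prodMap h1 h2

lemma SB.loc {f : R} {N : ModuleCat.{u} R} (S : Submonoid R) (h : SB f N) :
    SB f ((locFunctor S).obj N) := by
  change Function.Bijective (fun x : LocalizedModule S N => f • x)
  constructor
  · intro a b hab
    induction a using LocalizedModule.induction_on with
    | h m s =>
    induction b using LocalizedModule.induction_on with
    | h m' s' =>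
    simp only [LocalizedModule.smul'_mk] at hab
    rw [LocalizedModule.mk_eq] at hab ⊢
    obtain ⟨u, hu⟩ := hab
    refine ⟨u, h.1 ?_⟩
    simp only [Submonoid.smul_def] at hu ⊢
    rw [smul_comm f, smul_comm f, hu, smul_comm _ f, smul_comm _ f]
  · intro x
    induction x using LocalizedModule.induction_on with
    | h m s =>
    obtain ⟨m', hm'⟩ := h.2 m
    refine ⟨LocalizedModule.mk m' s, ?_⟩
    simp only [LocalizedModule.smul'_mk]
    rw [← hm']

lemma SB.pow {f : R} {N : ModuleCat.{u} R} (h : SB f N) (n : ℕ) :
    Function.Bijective (fun m : N => f ^ n • m) := by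
  induction n with
  | zero =>
    have : (fun m : N => f ^ 0 • m) = id := by funext m; simp
    rw [this]
    exact Function.bijective_id
  | succ n ih =>
    have : (fun m : N => f ^ (n + 1) • m) = (fun m : N => f • m) ∘ (fun m : N => f ^ n • m) := by
      funext m
      simp [pow_succ', mul_smul]
    rw [this]
    exact h.comp ih

lemma isIso_locUnit {f : R} {N : ModuleCat.{u} R} (h : SB f N) :
    IsIso ((locUnit (Submonoid.powers f)).app N) := by
  rw [ConcreteCategory.isIso_iff_bijective]
  change Function.Bijective (LocalizedModule.mkLinearMap (Submonoid.powers f) N)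
  constructor
  · intro a b hab
    change LocalizedModule.mk a 1 = LocalizedModule.mk b 1 at hab
    rw [LocalizedModule.mk_eq] at hab
    obtain ⟨⟨_, n, rfl⟩, hu⟩ := hab
    simp only [Submonoid.smul_def, OneMemClass.coe_one, one_smul] at hu
    exact (h.pow n).1 hu
  · intro x
    induction x using LocalizedModule.induction_on with
    | h m s =>
    obtain ⟨_, n, rfl⟩ := s
    obtain ⟨m', hm'⟩ := (h.pow n).2 m
    refine ⟨m', ?_⟩
    change LocalizedModule.mk m' 1 = _
    rw [LocalizedModule.mk_eq]
    refine ⟨1, ?_⟩
    simp only [Submonoid.smul_def, OneMemClass.coe_one, one_smul]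
    exact hm'

lemma SB_extCech {f : R} {M : ModuleCat.{u} R} (hM : SB f M) :
    ∀ (fs : List R) (i : ℤ), SB f ((extCech M fs).X i) := by
  intro fs
  induction fs with
  | nil =>
    intro i
    by_cases hi : i = 0
    · subst hi
      exact SB.of_iso (HomologicalComplex.singleObjXSelf (ComplexShape.up ℤ) 0 M).symm hM
    · exact SB.of_isZero (HomologicalComplex.isZero_single_obj_X (ComplexShape.up ℤ) 0 M i hi)
  | cons g gs ih =>
    intro i
    refine SB.of_iso (mappingCoconeXIso (locCxUnit (Submonoid.powers g) (extCech M gs)) i).symm ?_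
    exact SB.biprod (ih i) (SB.loc _ (ih (i - 1)))

theorem contr_extCech {f : R} {M : ModuleCat.{u} R} (hM : SB f M) :
    ∀ fs : List R, f ∈ fs → Nonempty (Homotopy (𝟙 (extCech M fs)) 0) := by
  intro fs
  induction fs with
  | nil => intro h; simp at h
  | cons g gs ih =>
    intro hf
    change Contr (CochainComplex.mappingCocone (locCxUnit (Submonoid.powers g) (extCech M gs)))
    by_cases hfg : f = g
    · subst hfg
      haveI : ∀ i, IsIso ((locCxUnit (Submonoid.powers f) (extCech M gs)).f i) := fun i =>
        isIso_locUnit (SB_extCech hM gs i)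
      haveI : IsIso (locCxUnit (Submonoid.powers f) (extCech M gs)) :=
        HomologicalComplex.Hom.isIso_of_components _
      exact contr_mappingCocone_of_isIso _
    · have hmem : f ∈ gs := by
        rcases List.mem_cons.mp hf with h | h
        · exact absurd h hfg
        · exact h
      exact contr_mappingCocone _ (ih hmem) (Contr.map (locFunctor (Submonoid.powers g)) (ih hmem))

theorem isZero_homology_of_contr {K : CochainComplex (ModuleCat.{u} R) ℤ}
    (h : Nonempty (Homotopy (𝟙 K) 0)) (q : ℤ) : IsZero (K.homology q) := by
  obtain ⟨h⟩ := h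
  rw [IsZero.iff_id_eq_zero]
  have := h.homologyMap_eq q
  rw [HomologicalComplex.homologyMap_id, HomologicalComplex.homologyMap_zero] at this
  exact this

end Groth.Agent.Lib.Helper8.ExtCechContr
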