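import Mathlib
import Groth.Prelude.Def_Formal
import Groth.Agent.Lib.Helper18.HHLES

/-!
# Formal functions: basic API (helper8)

* API for `Formal.smulModΓ`, `Formal.smulMod` (naturality, multiplicativity, action on cohomology).
* For an ideal `𝔞` of `A`: `Q 𝔞 M = M / 𝔞 M` (so that `Formal.modPow I n M = Q (I ^ n) M` by `rfl`),
  `Sb 𝔞 M = 𝔞 M` (kernel of the projection), the short exact sequence `ses 𝔞 M`, transition maps
  for `𝔞 ≤ 𝔟`, and the multiplication maps `sbMul : 𝔞 M ⟶ 𝔟 M` for `a • 𝔞 ≤ 𝔟`.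
* naturality of the connecting homomorphism `HH.δ`.
-/

set_option autoImplicit false
universe u
open CategoryTheory CategoryTheory.Limits AlgebraicGeometry Opposite TopologicalSpace

namespace Groth.Agent.Lib.helper8.FF

open Formal Groth.Agent.Lib.Helper18

section Gamma

variable {X : Scheme.{u}}

lemma abMap_smulModΓ (M : X.Modules) (r : Coh.Γtop X) :
    HH.abMap (smulModΓ M r) = Coh.smulAb M r := rfl

lemma abMap_comp {M N P : X.Modules} (f : M ⟶ N) (g : N ⟶ P) :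
    HH.abMap (f ≫ g) = HH.abMap f ≫ HH.abMap g := (HH.toAbF X).map_comp f g

lemma abMap_id (M : X.Modules) : HH.abMap (𝟙 M) = 𝟙 _ := (HH.toAbF X).map_id M

lemma abMap_zero (M N : X.Modules) : HH.abMap (0 : M ⟶ N) = 0 := (HH.toAbF X).map_zero M N

lemma abMap_add {M N : X.Modules} (f g : M ⟶ N) : HH.abMap (f + g) = HH.abMap f + HH.abMap g :=
  (HH.toAbF X).map_add

instance : (HH.toAbF X).Faithful :=
  inferInstanceAs (SheafOfModules.toSheaf.{u} X.ringCatSheaf).Faithful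

lemma abMap_injective {M N : X.Modules} {f g : M ⟶ N} (h : HH.abMap f = HH.abMap g) : f = g :=
  (HH.toAbF X).map_injective h

lemma smulModΓ_naturality {M N : X.Modules} (f : M ⟶ N) (r : Coh.Γtop X) :
    smulModΓ M r ≫ f = f ≫ smulModΓ N r := by
  apply abMap_injective
  rw [abMap_comp, abMap_comp]
  exact HH.smulAb_naturality f r

lemma smulModΓ_mul (M : X.Modules) (r s : Coh.Γtop X) :
    smulModΓ M (r * s) = smulModΓ M s ≫ smulModΓ M r := by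
  apply abMap_injective
  rw [abMap_comp]
  exact Coh.smulAb_mul M r s

lemma smulModΓ_one (M : X.Modules) : smulModΓ M 1 = 𝟙 M := by
  apply abMap_injective
  rw [abMap_id]
  exact Coh.smulAb_one M

lemma smulModΓ_zero (M : X.Modules) : smulModΓ M 0 = 0 := by
  apply abMap_injective
  rw [abMap_zero]
  exact Coh.smulAb_zero M

lemma smulModΓ_add (M : X.Modules) (r s : Coh.Γtop X) :
    smulModΓ M (r + s) = smulModΓ M r + smulModΓ M s := by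
  apply abMap_injective
  rw [abMap_add]
  exact Coh.smulAb_add M r s

end Gamma

variable {A : Type u} [CommRing A] {X : Scheme.{u}} [X.Over (Spec (CommRingCat.of A))]

lemma smulMod_naturality {M N : X.Modules} (f : M ⟶ N) (a : A) :
    smulMod A M a ≫ f = f ≫ smulMod A N a := smulModΓ_naturality f _

lemma smulMod_mul (M : X.Modules) (a b : A) :
    smulMod A M (a * b) = smulMod A M b ≫ smulMod A M a := by
  unfold smulMod
  rw [map_mul]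
  exact smulModΓ_mul M _ _

lemma smulMod_mul' (M : X.Modules) (a b : A) :
    smulMod A M (a * b) = smulMod A M a ≫ smulMod A M b := by
  rw [mul_comm, smulMod_mul]

lemma smulMod_one (M : X.Modules) : smulMod A M 1 = 𝟙 M := by
  unfold smulMod
  rw [map_one]
  exact smulModΓ_one M

lemma smulMod_zero (M : X.Modules) : smulMod A M 0 = 0 := by
  unfold smulMod
  rw [map_zero]
  exact smulModΓ_zero M

lemma smulMod_add (M : X.Modules) (a b : A) :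
    smulMod A M (a + b) = smulMod A M a + smulMod A M b := by
  unfold smulMod
  rw [map_add]
  exact smulModΓ_add M _ _

/-- the action of `a : A` on cohomology is induced by `smulMod`. -/
lemma map_smulMod (M : X.Modules) (a : A) (n : ℕ) (x : Coh.HH X M n) :
    HH.map (smulMod A M a) n x = a • x := rfl

/-- if `smulMod A M a = 0` then `a` kills the cohomology of `M`. -/
lemma smul_eq_zero_of_smulMod_eq_zero (M : X.Modules) (a : A) (h : smulMod A M a = 0) (n : ℕ)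
    (x : Coh.HH X M n) : a • x = 0 := by
  rw [← map_smulMod, h, HH.map_zero]
  rfl

/-! ### quotients by ideals -/

/-- `M / 𝔞 M`. -/
noncomputable abbrev Q (𝔞 : Ideal A) (M : X.Modules) : X.Modules := cokernel (smulFamily 𝔞 M)

/-- the projection `M ⟶ M / 𝔞 M`. -/
noncomputable abbrev qπ (𝔞 : Ideal A) (M : X.Modules) : M ⟶ Q 𝔞 M := cokernel.π (smulFamily 𝔞 M)

lemma ι_smulFamily (𝔞 : Ideal A) (M : X.Modules) (a : 𝔞) :
    Sigma.ι (fun _ : 𝔞 => M) a ≫ smulFamily 𝔞 M = smulMod A M (a : A) := by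
  simp [smulFamily]

lemma smulMod_qπ {𝔞 : Ideal A} (M : X.Modules) {a : A} (ha : a ∈ 𝔞) :
    smulMod A M a ≫ qπ 𝔞 M = 0 := by
  rw [← ι_smulFamily 𝔞 M ⟨a, ha⟩, Category.assoc, cokernel.condition, comp_zero]

lemma smulMod_Q {𝔞 : Ideal A} (M : X.Modules) {a : A} (ha : a ∈ 𝔞) :
    smulMod A (Q 𝔞 M) a = 0 := by
  rw [← cancel_epi (qπ 𝔞 M), ← smulMod_naturality, smulMod_qπ M ha, comp_zero]

/-- a morphism out of `M` killing all `a M`, `a ∈ 𝔞`, kills the family. -/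
lemma smulFamily_comp_eq_zero {𝔞 : Ideal A} {M T : X.Modules} (g : M ⟶ T)
    (h : ∀ a ∈ 𝔞, smulMod A M a ≫ g = 0) : smulFamily 𝔞 M ≫ g = 0 := by
  apply Sigma.hom_ext
  intro a
  rw [← Category.assoc, ι_smulFamily, comp_zero]
  exact h a a.2

/-- transition `M / 𝔞 M ⟶ M / 𝔟 M` for `𝔞 ≤ 𝔟`. -/
noncomputable def qTrans {𝔞 𝔟 : Ideal A} (h : 𝔞 ≤ 𝔟) (M : X.Modules) : Q 𝔞 M ⟶ Q 𝔟 M :=
  cokernel.desc _ (qπ 𝔟 M) (smulFamily_π_of_le h M)

@[reassoc (attr := simp)]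
lemma qπ_qTrans {𝔞 𝔟 : Ideal A} (h : 𝔞 ≤ 𝔟) (M : X.Modules) :
    qπ 𝔞 M ≫ qTrans h M = qπ 𝔟 M := cokernel.π_desc _ _ _

lemma qTrans_comp {𝔞 𝔟 𝔠 : Ideal A} (h : 𝔞 ≤ 𝔟) (h' : 𝔟 ≤ 𝔠) (M : X.Modules) :
    qTrans h M ≫ qTrans h' M = qTrans (h.trans h') M := by
  rw [← cancel_epi (qπ 𝔞 M)]
  simp

lemma qTrans_refl (𝔞 : Ideal A) (M : X.Modules) : qTrans (le_refl 𝔞) M = 𝟙 _ := by
  rw [← cancel_epi (qπ 𝔞 M)]
  simp

lemma modPowTrans_eq (I : Ideal A) (n : ℕ) (M : X.Modules) :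
    modPowTrans I n M = qTrans (Ideal.pow_le_pow_right (Nat.le_succ n)) M := rfl

/-- `𝔞 M`, the kernel of `M ⟶ M / 𝔞 M`. -/
noncomputable abbrev Sb (𝔞 : Ideal A) (M : X.Modules) : X.Modules := kernel (qπ 𝔞 M)

/-- the inclusion `𝔞 M ⟶ M`. -/
noncomputable abbrev sbι (𝔞 : Ideal A) (M : X.Modules) : Sb 𝔞 M ⟶ M := kernel.ι (qπ 𝔞 M)

/-- inclusion `𝔞 M ⟶ 𝔟 M` for `𝔞 ≤ 𝔟`. -/
noncomputable def sbIncl {𝔞 𝔟 : Ideal A} (h : 𝔞 ≤ 𝔟) (M : X.Modules) : Sb 𝔞 M ⟶ Sb 𝔟 M :=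
  kernel.lift _ (sbι 𝔞 M) (by
    rw [← qπ_qTrans h M, ← Category.assoc, kernel.condition, zero_comp])

@[reassoc (attr := simp)]
lemma sbIncl_ι {𝔞 𝔟 : Ideal A} (h : 𝔞 ≤ 𝔟) (M : X.Modules) :
    sbIncl h M ≫ sbι 𝔟 M = sbι 𝔞 M := kernel.lift_ι _ _ _

/-- the canonical epimorphism `∐ M ⟶ 𝔞 M`. -/
noncomputable def sbCover (𝔞 : Ideal A) (M : X.Modules) : (∐ fun _ : 𝔞 => M) ⟶ Sb 𝔞 M :=
  kernel.lift _ (smulFamily 𝔞 M) (cokernel.condition _)

@[reassoc (attr := simp)]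
lemma sbCover_ι (𝔞 : Ideal A) (M : X.Modules) : sbCover 𝔞 M ≫ sbι 𝔞 M = smulFamily 𝔞 M :=
  kernel.lift_ι _ _ _

instance (𝔞 : Ideal A) (M : X.Modules) : Epi (sbCover 𝔞 M) :=
  inferInstanceAs (Epi (Abelian.factorThruImage (smulFamily 𝔞 M)))

/-- a morphism out of `𝔞 M` vanishing on every `a M`, `a ∈ 𝔞`, is zero. -/
lemma sb_hom_ext {𝔞 : Ideal A} {M T : X.Modules} (g g' : Sb 𝔞 M ⟶ T)
    (h : ∀ a : 𝔞, Sigma.ι (fun _ : 𝔞 => M) a ≫ sbCover 𝔞 M ≫ g =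
      Sigma.ι (fun _ : 𝔞 => M) a ≫ sbCover 𝔞 M ≫ g') : g = g' := by
  rw [← cancel_epi (sbCover 𝔞 M)]
  apply Sigma.hom_ext
  intro a
  exact h a

/-- the lift of `smulMod a` to `𝔞 M` for `a ∈ 𝔞`. -/
noncomputable def sbLift {𝔞 : Ideal A} (M : X.Modules) {a : A} (ha : a ∈ 𝔞) : M ⟶ Sb 𝔞 M :=
  kernel.lift _ (smulMod A M a) (smulMod_qπ M ha)

@[reassoc (attr := simp)]
lemma sbLift_ι {𝔞 : Ideal A} (M : X.Modules) {a : A} (ha : a ∈ 𝔞) :
    sbLift M ha ≫ sbι 𝔞 M = smulMod A M a := kernel.lift_ι _ _ _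

lemma ι_sbCover {𝔞 : Ideal A} (M : X.Modules) (a : 𝔞) :
    Sigma.ι (fun _ : 𝔞 => M) a ≫ sbCover 𝔞 M = sbLift M a.2 := by
  rw [← cancel_mono (sbι 𝔞 M), Category.assoc, sbCover_ι, ι_smulFamily, sbLift_ι]

/-- multiplication `𝔞 M ⟶ 𝔟 M` by `a` when `a • 𝔞 ≤ 𝔟`. -/
noncomputable def sbMul {𝔞 𝔟 : Ideal A} (a : A) (h : ∀ c ∈ 𝔞, a * c ∈ 𝔟) (M : X.Modules) :
    Sb 𝔞 M ⟶ Sb 𝔟 M :=
  kernel.lift _ (sbι 𝔞 M ≫ smulMod A M a) (by
    rw [← cancel_epi (sbCover 𝔞 M)]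
    rw [comp_zero, ← Category.assoc, ← Category.assoc, sbCover_ι, Category.assoc]
    apply smulFamily_comp_eq_zero
    intro c hc
    rw [← Category.assoc, ← smulMod_mul]
    exact smulMod_qπ M (h c hc))

@[reassoc (attr := simp)]
lemma sbMul_ι {𝔞 𝔟 : Ideal A} (a : A) (h : ∀ c ∈ 𝔞, a * c ∈ 𝔟) (M : X.Modules) :
    sbMul a h M ≫ sbι 𝔟 M = sbι 𝔞 M ≫ smulMod A M a := kernel.lift_ι _ _ _

/-- the short exact sequence `0 → 𝔞 M → M → M / 𝔞 M → 0`. -/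
noncomputable def ses (𝔞 : Ideal A) (M : X.Modules) : ShortComplex X.Modules :=
  ShortComplex.mk (sbι 𝔞 M) (qπ 𝔞 M) (kernel.condition _)

lemma ses_shortExact (𝔞 : Ideal A) (M : X.Modules) : (ses 𝔞 M).ShortExact where
  exact := ShortComplex.exact_of_f_is_kernel _ (kernelIsKernel _)
  mono_f := inferInstanceAs (Mono (kernel.ι _))
  epi_g := inferInstanceAs (Epi (cokernel.π _))

/-- the morphism of short exact sequences for `𝔞 ≤ 𝔟`. -/
noncomputable def sesMap {𝔞 𝔟 : Ideal A} (h : 𝔞 ≤ 𝔟) (M : X.Modules) : ses 𝔞 M ⟶ ses 𝔟 M where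
  τ₁ := sbIncl h M
  τ₂ := 𝟙 M
  τ₃ := qTrans h M
  comm₁₂ := by simp [ses]
  comm₂₃ := by simp [ses]

/-! ### naturality of the connecting homomorphism -/

theorem δ_naturality {S₁ S₂ : ShortComplex X.Modules} (h₁ : S₁.ShortExact) (h₂ : S₂.ShortExact)
    (φ : S₁ ⟶ S₂) (n : ℕ) (x : Coh.HH X S₁.X₃ n) :
    HH.δ h₂ n (HH.map φ.τ₃ n x) = HH.map φ.τ₁ (n + 1) (HH.δ h₁ n x) := by
  have h := HH.comp_extClass_comp_mk₀.{u, u, u+1} (HH.toAb_shortExact h₁) (HH.toAb_shortExact h₂)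
    ((HH.toAbF X).mapShortComplex.map φ) x
  rw [HH.δ_apply, HH.δ_apply, HH.map_apply, HH.map_apply, Sheaf.H.map_apply, Sheaf.H.map_apply]
  exact h.symm

end Groth.Agent.Lib.helper8.FF
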