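import Mathlib
import Groth.Agent.Lib.Helper8.FormalBasic
import Groth.Agent.Lib.Helper16.QCohPullback2

/-!
# Pullback of coherent formal modules (helper8)

For `f : X ⟶ Y` over `Spec A`: pushforward and pullback of modules commute with multiplication by
elements of `A`; `f^*` commutes with `smulFamily`; the componentwise pullback of a coherent formal
module is a coherent formal module (`isCohFormal_pullback`).
-/

set_option autoImplicit false
universe u

namespace Groth.Agent.Lib.helper8.FPull

open CategoryTheory CategoryTheory.Limits AlgebraicGeometry Opposite TopologicalSpace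
open Formal Groth.Agent.Lib.Helper18 Groth.Agent.Lib.helper8.FF

variable {X Y : Scheme.{u}} (f : X ⟶ Y)

lemma resTop_appTop (U : (Opens Y)ᵒᵖ) (r : Coh.Γtop Y) :
    Coh.resTop X (op (f ⁻¹ᵁ U.unop)) (f.appTop.hom r) = (f.app U.unop).hom (Coh.resTop Y U r) := by
  have h := f.naturality (homOfLE (le_top (a := U.unop))).op
  have h2 := congrArg (fun φ => φ.hom r) h
  exact h2.symm

lemma pushforward_map_smulModΓ (N : X.Modules) (r : Coh.Γtop Y) :
    (Scheme.Modules.pushforward f).map (smulModΓ N (f.appTop.hom r)) =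
      smulModΓ ((Scheme.Modules.pushforward f).obj N) r := by
  apply abMap_injective
  ext U x
  change @HSMul.hSMul (X.ringCatSheaf.obj.obj (op (f ⁻¹ᵁ U.unop)))
      (N.val.obj (op (f ⁻¹ᵁ U.unop))) (N.val.obj (op (f ⁻¹ᵁ U.unop))) _
      (Coh.resTop X (op (f ⁻¹ᵁ U.unop)) (f.appTop.hom r)) x =
    @HSMul.hSMul (X.ringCatSheaf.obj.obj (op (f ⁻¹ᵁ U.unop)))
      (N.val.obj (op (f ⁻¹ᵁ U.unop))) (N.val.obj (op (f ⁻¹ᵁ U.unop))) _
      ((f.app U.unop).hom (Coh.resTop Y U r)) x
  rw [resTop_appTop]

variable {A : Type u} [CommRing A] [X.Over (Spec (CommRingCat.of A))]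
  [Y.Over (Spec (CommRingCat.of A))]
  (hf : f ≫ (Y ↘ Spec (CommRingCat.of A)) = X ↘ Spec (CommRingCat.of A))

include hf

lemma toGlobal_eq (a : A) :
    Coh.toGlobal (X ↘ Spec (CommRingCat.of A)) a =
      f.appTop.hom (Coh.toGlobal (Y ↘ Spec (CommRingCat.of A)) a) := by
  rw [← hf]
  unfold Coh.toGlobal
  rfl

lemma pushforward_map_smulMod (N : X.Modules) (a : A) :
    (Scheme.Modules.pushforward f).map (smulMod A N a) =
      smulMod A ((Scheme.Modules.pushforward f).obj N) a := by
  unfold smulMod
  rw [toGlobal_eq f hf]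
  exact pushforward_map_smulModΓ f N _

lemma pullback_map_smulMod (M : Y.Modules) (a : A) :
    (Scheme.Modules.pullback f).map (smulMod A M a) =
      smulMod A ((Scheme.Modules.pullback f).obj M) a := by
  apply ((Scheme.Modules.pullbackPushforwardAdjunction f).homEquiv _ _).injective
  rw [Adjunction.homEquiv_unit, Adjunction.homEquiv_unit, pushforward_map_smulMod f hf]
  have h1 := smulMod_naturality ((Scheme.Modules.pullbackPushforwardAdjunction f).unit.app M) a
  have h2 := (Scheme.Modules.pullbackPushforwardAdjunction f).unit.naturality (smulMod A M a)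
  exact h2.symm.trans h1

lemma sigmaComparison_smulFamily (J : Ideal A) (M : Y.Modules) :
    sigmaComparison (Scheme.Modules.pullback f) (fun _ : J => M) ≫
      (Scheme.Modules.pullback f).map (smulFamily J M) =
        smulFamily J ((Scheme.Modules.pullback f).obj M) := by
  apply Sigma.hom_ext
  intro a
  rw [← Category.assoc, ι_comp_sigmaComparison, ← Functor.map_comp, ι_smulFamily, ι_smulFamily,
    pullback_map_smulMod f hf]

omit hf in
/-- `cokernel.desc` is an isomorphism iff the cofork is a cokernel -/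
lemma isIso_cokernel_desc_of_isColimit {C : Type*} [Category C] [HasZeroMorphisms C]
    {P Q R : C} (φ : P ⟶ Q) [HasCokernel φ] (g : Q ⟶ R) (h : φ ≫ g = 0)
    (hc : IsColimit (CokernelCofork.ofπ g h)) : IsIso (cokernel.desc φ g h) := by
  have e : cokernel.desc φ g h =
      (IsColimit.coconePointUniqueUpToIso (cokernelIsCokernel φ) hc).hom := by
    apply coequalizer.hom_ext
    rw [cokernel.π_desc]
    exact (IsColimit.comp_coconePointUniqueUpToIso_hom (cokernelIsCokernel φ) hc
      WalkingParallelPair.one).symm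
  rw [e]
  infer_instance

omit hf in
noncomputable def isColimit_of_isIso_cokernel_desc {C : Type*} [Category C] [HasZeroMorphisms C]
    {P Q R : C} (φ : P ⟶ Q) [HasCokernel φ] (g : Q ⟶ R) (h : φ ≫ g = 0)
    [IsIso (cokernel.desc φ g h)] : IsColimit (CokernelCofork.ofπ g h) :=
  IsColimit.ofIsoColimit (cokernelIsCokernel φ)
    (Cofork.ext (asIso (cokernel.desc φ g h)) (by simp))

/-- the componentwise pullback of a coherent formal module is a coherent formal module -/
theorem isCohFormal_pullback (I : Ideal A) (G : ℕᵒᵖ ⥤ Y.Modules) (hG : IsCohFormal I G) :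
    IsCohFormal I (G ⋙ Scheme.Modules.pullback f) := by
  obtain ⟨h1, h2, h3⟩ := hG
  refine ⟨fun n => ?_, fun n a ha => ?_, fun n => ?_⟩
  · haveI : (G.obj (op n)).IsQuasicoherent := (h1 n).1
    exact ⟨Groth.Agent.Lib.helper16.QCohPullback.isQuasicoherent_pullback f _,
      Groth.Agent.Lib.helper16.QCohPullback2.isFiniteType_pullback f _ (h1 n).2⟩
  · change smulMod A ((Scheme.Modules.pullback f).obj (G.obj (op n))) a = 0
    rw [← pullback_map_smulMod f hf, h2 n a ha, Functor.map_zero]
  · obtain ⟨h0, hiso⟩ := h3 n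
    have hz : smulFamily (I ^ (n + 1)) ((G ⋙ Scheme.Modules.pullback f).obj (op (n + 1))) ≫
        (G ⋙ Scheme.Modules.pullback f).map (homOfLE (Nat.le_succ n)).op = 0 := by
      change smulFamily (I ^ (n + 1)) ((Scheme.Modules.pullback f).obj (G.obj (op (n + 1)))) ≫
        (Scheme.Modules.pullback f).map (G.map (homOfLE (Nat.le_succ n)).op) = 0
      rw [← sigmaComparison_smulFamily f hf, Category.assoc, ← Functor.map_comp, h0,
        Functor.map_zero, comp_zero]
    refine ⟨hz, ?_⟩
    have hc := isColimit_of_isIso_cokernel_desc _ _ h0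
    have hc' := CokernelCofork.mapIsColimit _ hc (Scheme.Modules.pullback f)
    have hc'' := isCokernelEpiComp hc'
      (sigmaComparison (Scheme.Modules.pullback f) (fun _ : ↥(I ^ (n + 1)) => G.obj (op (n + 1))))
      (sigmaComparison_smulFamily f hf (I ^ (n + 1)) (G.obj (op (n + 1)))).symm
    exact isIso_cokernel_desc_of_isColimit _ _ hz hc''

end Groth.Agent.Lib.helper8.FPull
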