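import Mathlib

set_option autoImplicit false
universe u

namespace Groth.Agent.Lib.helper8.Dev

section Alg

variable {A : Type*} [CommRing A] (S : Submonoid A) {M : Type*} [AddCommGroup M] [Module A M]

/-- uniform denominators: if every element of a finitely generated module is pushed into a
submodule `W` by some element of `S`, a single element of `S` works for all of them -/
theorem exists_forall_smul_mem_of_fg (N : Submodule A M) (hN : N.FG) (W : Submodule A M)
    (h : ∀ m ∈ N, ∃ b ∈ S, b • m ∈ W) : ∃ b ∈ S, ∀ m ∈ N, b • m ∈ W := by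
  classical
  obtain ⟨t, rfl⟩ := hN
  induction t using Finset.induction_on with
  | empty =>
    refine ⟨1, S.one_mem, fun m hm => ?_⟩
    rw [Finset.coe_empty, Submodule.span_empty, Submodule.mem_bot] at hm
    rw [hm, smul_zero]
    exact W.zero_mem
  | insert x t hx ih =>
    obtain ⟨b₁, hb₁, h₁⟩ := ih (fun m hm => h m (Submodule.span_mono (by
      rw [Finset.coe_insert]; exact Set.subset_insert _ _) hm))
    obtain ⟨b₂, hb₂, h₂⟩ := h x (Submodule.subset_span (by
      rw [Finset.coe_insert]; exact Set.mem_insert _ _))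
    refine ⟨b₁ * b₂, S.mul_mem hb₁ hb₂, fun m hm => ?_⟩
    rw [Finset.coe_insert, Submodule.mem_span_insert] at hm
    obtain ⟨a, z, hz, rfl⟩ := hm
    rw [smul_add]
    refine W.add_mem ?_ ?_
    · rw [smul_comm, mul_smul]
      exact W.smul_mem _ (W.smul_mem _ h₂)
    · rw [mul_comm, mul_smul]
      exact W.smul_mem _ (h₁ z hz)

end Alg

section RankOne

variable {A : Type*} [CommRing A] (𝔮 : Ideal A) [𝔮.IsPrime] {R : Type*} [CommRing R] [Algebra A R]
  [IsLocalization.AtPrime R 𝔮] [IsLocalRing R] {M : Type*} [AddCommGroup M] [Module A M]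
  {Mq : Type*} [AddCommGroup Mq] [Module A Mq] [Module R Mq] [IsScalarTower A R Mq]
  (g : M →ₗ[A] Mq) [IsLocalizedModule 𝔮.primeCompl g]
  (e : Mq ≃ₗ[R] IsLocalRing.ResidueField R)

include e in
theorem smul_eq_zero_of_mem_maximalIdeal (r : R) (hr : r ∈ IsLocalRing.maximalIdeal R) (x : Mq) :
    r • x = 0 := by
  apply e.injective
  rw [map_smul, map_zero]
  have h1 : r • e x = IsLocalRing.residue R r * e x := by
    rw [Algebra.smul_def]
    rfl
  rw [h1, (IsLocalRing.residue_eq_zero_iff r).mpr hr, zero_mul]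

omit [IsLocalizedModule 𝔮.primeCompl g] in
include e in
theorem map_smul_eq_zero_of_mem (a : A) (ha : a ∈ 𝔮) (m : M) : g (a • m) = 0 := by
  rw [map_smul, ← algebraMap_smul R a (g m)]
  exact smul_eq_zero_of_mem_maximalIdeal e _
    ((IsLocalization.AtPrime.to_map_mem_maximal_iff R 𝔮 a).mpr ha) _

include g e in
/-- if `M_𝔮` is isomorphic to the residue field, `𝔮 M` is killed by a single element outside `𝔮` -/
theorem exists_smul_smul_eq_zero [IsNoetherianRing A] [Module.Finite A M] :
    ∃ b : A, b ∉ 𝔮 ∧ ∀ x ∈ 𝔮 • (⊤ : Submodule A M), b • x = 0 := by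
  have hfg : (𝔮 • (⊤ : Submodule A M)).FG :=
    Submodule.FG.smul (IsNoetherian.noetherian 𝔮) Module.Finite.fg_top
  have hker : ∀ x ∈ 𝔮 • (⊤ : Submodule A M), g x = 0 := by
    intro x hx
    refine Submodule.smul_induction_on hx (fun a ha m _ => map_smul_eq_zero_of_mem 𝔮 g e a ha m)
      (fun x y hx hy => by rw [map_add, hx, hy, add_zero])
  obtain ⟨b, hb, h⟩ := exists_forall_smul_mem_of_fg 𝔮.primeCompl (𝔮 • (⊤ : Submodule A M)) hfg ⊥
    (fun x hx => by
      obtain ⟨c, hc⟩ := (IsLocalizedModule.eq_zero_iff 𝔮.primeCompl g).mp (hker x hx)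
      exact ⟨c.1, c.2, (Submodule.mem_bot A).mpr hc⟩)
  exact ⟨b, hb, fun x hx => (Submodule.mem_bot A).mp (h x hx)⟩

include g e in
/-- if `M_𝔮` is isomorphic to the residue field, `M` has a generic generator -/
theorem exists_generic_generator [Module.Finite A M] :
    ∃ s : M, (∀ a : A, a • s ∈ 𝔮 • (⊤ : Submodule A M) → a ∈ 𝔮) ∧
      ∃ b : A, b ∉ 𝔮 ∧ ∀ m : M, ∃ c : A, b • m = c • s := by
  have hker : ∀ x ∈ 𝔮 • (⊤ : Submodule A M), g x = 0 := by
    intro x hx
    refine Submodule.smul_induction_on hx (fun a ha m _ => map_smul_eq_zero_of_mem 𝔮 g e a ha m)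
      (fun x y hx hy => by rw [map_add, hx, hy, add_zero])
  obtain ⟨x₀, hx₀⟩ := e.surjective 1
  obtain ⟨⟨s, t⟩, hst⟩ := IsLocalizedModule.surj 𝔮.primeCompl g x₀
  have hst' : (t : A) • x₀ = g s := hst
  have hunit : IsUnit (algebraMap A R (t : A)) := IsLocalization.map_units R t
  have hegs : e (g s) = IsLocalRing.residue R (algebraMap A R (t : A)) := by
    rw [← hst', ← algebraMap_smul R (t : A) x₀, map_smul, hx₀, Algebra.smul_def, mul_one]
    rfl
  have hres : ∀ (a : A) (x : Mq), e (a • x) = IsLocalRing.residue R (algebraMap A R a) * e x := by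
    intro a x
    rw [← algebraMap_smul R a x, map_smul, Algebra.smul_def]
    rfl
  refine ⟨s, fun a ha => ?_, ?_⟩
  · have h1 : g (a • s) = 0 := hker _ ha
    rw [map_smul] at h1
    have h2 := congrArg e h1
    rw [hres, hegs, map_zero, ← map_mul] at h2
    have h3 : algebraMap A R a * algebraMap A R (t : A) ∈ IsLocalRing.maximalIdeal R :=
      (IsLocalRing.residue_eq_zero_iff _).mp h2
    have h4 : algebraMap A R a ∈ IsLocalRing.maximalIdeal R := by
      rcases (Ideal.IsPrime.mem_or_mem inferInstance h3) with h | h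
      · exact h
      · exact absurd hunit ((IsLocalRing.mem_maximalIdeal _).mp h)
    exact (IsLocalization.AtPrime.to_map_mem_maximal_iff R 𝔮 a).mp h4
  · have hpt : ∀ m ∈ (⊤ : Submodule A M), ∃ b ∈ 𝔮.primeCompl, b • m ∈ Submodule.span A {s} := by
      intro m _
      obtain ⟨r, hr⟩ := IsLocalRing.residue_surjective (R := R) (e (g m))
      obtain ⟨⟨c, d⟩, hcd⟩ := IsLocalization.surj 𝔮.primeCompl r
      have hcd' : r * algebraMap A R (d : A) = algebraMap A R c := hcd
      have h1 : e (g (((t : A) * (d : A)) • m - c • s)) = 0 := by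
        rw [map_sub, map_sub, LinearMap.map_smul g, LinearMap.map_smul g, hres, hres, hegs, ← hr,
          ← map_mul, ← map_mul, sub_eq_zero, map_mul (algebraMap A R), mul_assoc,
          mul_comm (algebraMap A R (d : A)) r, hcd', mul_comm]
      have h2 : g (((t : A) * (d : A)) • m - c • s) = 0 := by
        apply e.injective
        rw [h1, map_zero]
      obtain ⟨b', hb'⟩ := (IsLocalizedModule.eq_zero_iff 𝔮.primeCompl g).mp h2
      refine ⟨(b' : A) * ((t : A) * (d : A)), 𝔮.primeCompl.mul_mem b'.2 (𝔮.primeCompl.mul_mem t.2 d.2),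
        ?_⟩
      have hb'' : (b' : A) • (((t : A) * (d : A)) • m - c • s) = 0 := hb'
      rw [smul_sub, sub_eq_zero] at hb''
      rw [mul_smul, hb'', ← mul_smul]
      exact Submodule.smul_mem _ _ (Submodule.mem_span_singleton_self s)
    obtain ⟨b, hb, h⟩ := exists_forall_smul_mem_of_fg 𝔮.primeCompl (⊤ : Submodule A M)
      Module.Finite.fg_top (Submodule.span A {s}) hpt
    refine ⟨b, hb, fun m => ?_⟩
    obtain ⟨c, hc⟩ := Submodule.mem_span_singleton.mp (h m trivial)
    exact ⟨c, hc.symm⟩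

end RankOne

end Groth.Agent.Lib.helper8.Dev
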