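import Mathlib
import Groth.Agent.Lib.Helper8.PullbackUnit
import Groth.Agent.Lib.Helper16.QCohAffinePush

/-!
# Criterion for the adjoint of `v : A ⟶ g_* B` to be an isomorphism; affine base change (helper8)

* `IsBC.cancel'`: base change along a pushout square of rings
* `ρv g e v : Γ(A, U) →+ Γ(B, V)`, `app_ρ`
* `isIso_homEquiv_symm_of_isBC`: criterion for `g^* A ⟶ B` to be an isomorphism
* `isBasis_affine_preimage`
* `isIso_baseChange_of_isAffineHom`: affine base change (EGA II 1.5.2)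
-/

set_option autoImplicit false
universe u
open CategoryTheory AlgebraicGeometry TopologicalSpace Opposite TensorProduct

namespace Groth.Agent.Lib.helper8.PullbackUnit

section Cancel'

/-- variant of `IsBC.cancel` where the `R`- and `R'`-module structures are given, and known to be
induced from the `B₀`- and `B₀'`-module structures. -/
theorem IsBC.cancel' {R R' B₀ B₀' : Type u} [CommRing R] [CommRing R'] [CommRing B₀]
    [CommRing B₀']
    {φ : R →+* R'} {α : R →+* B₀} {β : R' →+* B₀'} {ψ : B₀ →+* B₀'}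
    (hpo : IsPushout (CommRingCat.ofHom φ) (CommRingCat.ofHom α) (CommRingCat.ofHom β)
      (CommRingCat.ofHom ψ))
    {N P : Type u} [AddCommGroup N] [Module B₀ N] [mN : Module R N] [AddCommGroup P]
    [Module B₀' P] [mP : Module R' P]
    (hN : ∀ (r : R) (n : N), r • n = α r • n) (hP : ∀ (r : R') (p : P), r • p = β r • p)
    {k : N →+ P} (hk : IsBC ψ k) : IsBC φ k := by
  have h1 : mN = Module.compHom N α := Module.ext' _ _ (fun r n => hN r n)
  have h2 : mP = Module.compHom P β := Module.ext' _ _ (fun r p => hP r p)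
  subst h1 h2
  exact IsBC.cancel hpo hk

end Cancel'

section Criterion

open Scheme.Modules

variable {X Y : Scheme.{u}} (g : Y ⟶ X) {U : X.Opens} {V : Y.Opens} (e : V ≤ g ⁻¹ᵁ U)
  {A : X.Modules} {B : Y.Modules}

/-- For `v : A ⟶ g_* B`, the map `Γ(A, U) → Γ(B, V)`, `a ↦ (v a)|_V`. -/
noncomputable def ρv (v : A ⟶ (pushforward g).obj B) : Γ(A, U) →+ Γ(B, V) :=
  (B.presheaf.map (homOfLE e).op).hom.comp (v.app U).hom

theorem ρv_apply (v : A ⟶ (pushforward g).obj B) (a : Γ(A, U)) :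
    ρv g e v a = B.presheaf.map (homOfLE e).op ((v.app U).hom a) := rfl

theorem app_ρ (v : A ⟶ (pushforward g).obj B) (a : Γ(A, U)) :
    ((((pullbackPushforwardAdjunction g).homEquiv A B).symm v).app V).hom (ρ g e A a) =
      ρv g e v a := by
  set u := ((pullbackPushforwardAdjunction g).homEquiv A B).symm v with hu
  have hv : v = (pullbackPushforwardAdjunction g).unit.app A ≫ (pushforward g).map u := by
    have := (pullbackPushforwardAdjunction g).homEquiv_unit (X := A) (Y := B) (f := u)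
    rw [← this, hu, Equiv.apply_symm_apply]
  rw [ρ_apply, ρv_apply, Groth.Agent.Lib.helper16.QCohEpi.app_map u e, hv]
  rfl

/-- **Criterion**: the adjoint `u : g^* A ⟶ B` of `v : A ⟶ g_* B` (`A` quasi-coherent) is an
isomorphism as soon as, on a basis of affine opens `V` of `Y` each mapping into some affine open
`U` of `X`, the map `Γ(A, U) → Γ(B, V)`, `a ↦ (v a)|_V` is a base change along
`Γ(X, U) → Γ(Y, V)`. -/
theorem isIso_homEquiv_symm_of_isBC [A.IsQuasicoherent] (v : A ⟶ (pushforward g).obj B)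
    (𝔅 : Set Y.Opens) (h𝔅 : Opens.IsBasis 𝔅)
    (H : ∀ V ∈ 𝔅, IsAffineOpen V ∧ ∃ (U : X.Opens) (_ : IsAffineOpen U) (e : V ≤ g ⁻¹ᵁ U),
      IsBC (g.appLE U V e).hom (ρv g e v)) :
    IsIso (((pullbackPushforwardAdjunction g).homEquiv A B).symm v) := by
  set u := ((pullbackPushforwardAdjunction g).homEquiv A B).symm v with hu
  have hbij : ∀ V ∈ 𝔅, Function.Bijective (u.app V).hom := by
    intro V hV
    obtain ⟨hVa, U, hU, e, hbc⟩ := H V hV
    let w : Γ((pullback g).obj A, V) →ₗ[Γ(Y, V)] Γ(B, V) :=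
      { toFun := (u.app V).hom
        map_add' := fun x y => map_add _ x y
        map_smul' := fun r x => Hom.app_smul u r x }
    exact (isBC_ρ g hU hVa e A).bijective_of_comp hbc w (app_ρ g e v)
  haveI := Groth.Agent.Lib.helper16.QCohEpi.mono_of_injective_on_basis u 𝔅 h𝔅
    (fun V hV => (hbij V hV).1)
  haveI := Groth.Agent.Lib.helper16.QCohEpi.epi_of_surjective_on_basis u 𝔅 h𝔅
    (fun V hV => (hbij V hV).2)
  exact isIso_of_mono_of_epi u

end Criterion

section AffineBaseChange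

open Scheme.Modules

theorem isBasis_affine_preimage {X Y : Scheme.{u}} (g : Y ⟶ X) :
    Opens.IsBasis {V : Y.Opens | IsAffineOpen V ∧ ∃ U : X.Opens, IsAffineOpen U ∧ V ≤ g ⁻¹ᵁ U} := by
  rw [Opens.isBasis_iff_nbhd]
  intro O x hx
  obtain ⟨U, hU, hxU, -⟩ := Opens.isBasis_iff_nbhd.mp X.isBasis_affineOpens
    (show g x ∈ (⊤ : X.Opens) from trivial)
  obtain ⟨V, hV, hxV, hVO⟩ := Opens.isBasis_iff_nbhd.mp Y.isBasis_affineOpens
    (show x ∈ g ⁻¹ᵁ U ⊓ O from ⟨hxU, hx⟩)
  exact ⟨V, ⟨hV, U, hU, hVO.trans inf_le_left⟩, hxV, hVO.trans inf_le_right⟩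

variable {X S X' S' : Scheme.{u}} (f : X ⟶ S) (g : S' ⟶ S)
    (g' : X' ⟶ X) (f' : X' ⟶ S') (h : IsPullback g' f' f g)

/-- **Affine base change** (EGA II 1.5.2): for `f` affine and `F` quasi-coherent, the base change
map `g^* f_* F ⟶ f'_* g'^* F` is an isomorphism. -/
theorem isIso_baseChange_of_isAffineHom [IsAffineHom f]
    (F : X.Modules) [F.IsQuasicoherent] :
    IsIso (((pullbackPushforwardAdjunction g).homEquiv ((pushforward f).obj F)
        ((pushforward f').obj ((pullback g').obj F))).symm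
      ((pushforward f).map ((pullbackPushforwardAdjunction g').unit.app F) ≫
        (pushforwardComp g' f).hom.app ((pullback g').obj F) ≫
        (pushforwardCongr h.w).hom.app ((pullback g').obj F) ≫
        (pushforwardComp f' g).inv.app ((pullback g').obj F))) := by
  haveI : IsAffineHom f' := MorphismProperty.of_isPullback h inferInstance
  haveI : ((pushforward f).obj F).IsQuasicoherent :=
    Groth.Agent.Lib.helper16.QCohAffinePush.isQuasicoherent_push f F
  refine isIso_homEquiv_symm_of_isBC g _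
    {V' | IsAffineOpen V' ∧ ∃ V : S.Opens, IsAffineOpen V ∧ V' ≤ g ⁻¹ᵁ V}
    (isBasis_affine_preimage g) ?_
  rintro V' ⟨hV', V, hV, e⟩
  refine ⟨hV', V, hV, e, ?_⟩
  have hW : IsAffineOpen (f ⁻¹ᵁ V) := hV.preimage f
  have hW' : IsAffineOpen (f' ⁻¹ᵁ V') := hV'.preimage f'
  have e' : f' ⁻¹ᵁ V' ≤ g' ⁻¹ᵁ (f ⁻¹ᵁ V) := by
    intro x hx
    show f (g' x) ∈ V
    have : f (g' x) = g (f' x) := by
      rw [← Scheme.Hom.comp_apply, ← Scheme.Hom.comp_apply, h.w]
    rw [this]
    exact e hx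
  have hK := isBC_ρ g' hW hW' e' F
  have hpo : IsPushout (CommRingCat.ofHom (g.appLE V V' e).hom)
      (CommRingCat.ofHom (f.appLE V (f ⁻¹ᵁ V) le_rfl).hom)
      (CommRingCat.ofHom (f'.appLE V' (f' ⁻¹ᵁ V') le_rfl).hom)
      (CommRingCat.ofHom (g'.appLE (f ⁻¹ᵁ V) (f' ⁻¹ᵁ V') e').hom) := by
    have hUY : f' ⁻¹ᵁ V' = g' ⁻¹ᵁ (f ⁻¹ᵁ V) ⊓ f' ⁻¹ᵁ V' := (inf_eq_right.mpr e').symm
    have := (isIso_pushoutSection_iff h e (le_refl _) hUY).mp
      (isIso_pushoutSection_of_isAffineOpen h e le_rfl hUY hV hV' hW)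
    exact this.flip
  letI : Module Γ(X, f ⁻¹ᵁ V) Γ((pushforward f).obj F, V) :=
    (inferInstance : Module Γ(X, f ⁻¹ᵁ V) Γ(F, f ⁻¹ᵁ V))
  letI : Module Γ(X', f' ⁻¹ᵁ V') Γ((pushforward f').obj ((pullback g').obj F), V') :=
    (inferInstance : Module Γ(X', f' ⁻¹ᵁ V') Γ((pullback g').obj F, f' ⁻¹ᵁ V'))
  refine IsBC.cancel' hpo (fun r n => ?_) (fun r p => ?_) ?_
  · have h1 : f.appLE V (f ⁻¹ᵁ V) le_rfl = f.app V := Scheme.Hom.appLE_eq_app f
    rw [h1]
    rfl
  · have h1 : f'.appLE V' (f' ⁻¹ᵁ V') le_rfl = f'.app V' := Scheme.Hom.appLE_eq_app f'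
    rw [h1]
    rfl
  · have hρ : ∀ a, ρv g e ((pushforward f).map ((pullbackPushforwardAdjunction g').unit.app F) ≫
        (pushforwardComp g' f).hom.app ((pullback g').obj F) ≫
        (pushforwardCongr h.w).hom.app ((pullback g').obj F) ≫
        (pushforwardComp f' g).inv.app ((pullback g').obj F)) a = ρ g' e' F a := by
      intro a
      rw [ρv_apply, ρ_apply]
      generalize hx : (((pullbackPushforwardAdjunction g').unit.app F).app (f ⁻¹ᵁ V)).hom a = x
      change ((pullback g').obj F).presheaf.map _ (((pullback g').obj F).presheaf.map _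
        ((((pullbackPushforwardAdjunction g').unit.app F).app (f ⁻¹ᵁ V)).hom a)) = _
      rw [hx, ← ConcreteCategory.comp_apply, ← Functor.map_comp]
      rfl
    have hρ' : ρv g e ((pushforward f).map ((pullbackPushforwardAdjunction g').unit.app F) ≫
        (pushforwardComp g' f).hom.app ((pullback g').obj F) ≫
        (pushforwardCongr h.w).hom.app ((pullback g').obj F) ≫
        (pushforwardComp f' g).inv.app ((pullback g').obj F)) = ρ g' e' F := AddMonoidHom.ext hρ
    rw [hρ']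
    exact hK

end AffineBaseChange

end Groth.Agent.Lib.helper8.PullbackUnit
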