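import Mathlib
import Groth.Agent.Lib.Helper8.PullbackUnit2

/-!
# The unit `G ⟶ i_* i^* G` for a closed immersion (helper8)

* `IsBC.bijective_iff_of_surjective`
* `isIso_iff_bijective_app_affine`
* `bijective_unit_app_iff`, `isIso_unit_iff_of_isClosedImmersion`
-/

set_option autoImplicit false
universe u
open CategoryTheory AlgebraicGeometry TopologicalSpace Opposite TensorProduct

namespace Groth.Agent.Lib.helper8.ClosedImmUnit

open Groth.Agent.Lib.helper8.PullbackUnit

section Algebra

variable {R R' : Type u} [CommRing R] [CommRing R'] {φ : R →+* R'} {N P : Type u}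
    [AddCommGroup N] [Module R N] [AddCommGroup P] [Module R' P] {k : N →+ P}

/-- A base change along a surjective ring homomorphism is bijective iff the kernel kills the
module. -/
theorem IsBC.bijective_iff_of_surjective (hk : IsBC φ k) (hφ : Function.Surjective φ) :
    Function.Bijective k ↔ ∀ a ∈ RingHom.ker φ, ∀ n : N, a • n = 0 := by
  constructor
  · intro hb a ha n
    apply hb.1
    rw [hk.map_smul, (RingHom.mem_ker).mp ha, zero_smul, map_zero]
  · intro H
    let σ : R' → R := Function.surjInv hφ
    have hσ : ∀ r', φ (σ r') = r' := Function.surjInv_eq hφ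
    have key : ∀ r₁ r₂ : R, φ r₁ = φ r₂ → ∀ n : N, r₁ • n = r₂ • n := by
      intro r₁ r₂ h n
      have : (r₁ - r₂) • n = 0 := H _ (by rw [RingHom.mem_ker, map_sub, h, sub_self]) n
      rwa [sub_smul, sub_eq_zero] at this
    letI : Module R' N :=
      { smul := fun r' n => σ r' • n
        one_smul := fun n => (key (σ 1) 1 (by rw [hσ, map_one]) n).trans (one_smul _ _)
        mul_smul := fun a b n =>
          (key (σ (a * b)) (σ a * σ b) (by rw [map_mul, hσ, hσ, hσ]) n).trans (mul_smul _ _ _)
        smul_zero := fun a => smul_zero _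
        smul_add := fun a x y => smul_add _ _ _
        add_smul := fun a b n =>
          (key (σ (a + b)) (σ a + σ b) (by rw [map_add, hσ, hσ, hσ]) n).trans (add_smul _ _ _)
        zero_smul := fun n => (key (σ 0) 0 (by rw [hσ, map_zero]) n).trans (zero_smul _ _) }
    have hsm : ∀ (r : R) (n : N), φ r • n = r • n := fun r n => key (σ (φ r)) r (hσ _) n
    have hid : IsBC φ (AddMonoidHom.id N) :=
      ⟨fun r n => (hsm r n).symm, fun T _ _ h hh =>
        ⟨{ toFun := h
           map_add' := h.map_add
           map_smul' := fun r' n => by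
            obtain ⟨r, rfl⟩ := hφ r'
            rw [hsm]
            exact hh r n }, fun n => rfl, fun h'' hh'' => by
          ext n
          exact hh'' n⟩⟩
    let w : N →ₗ[R'] P :=
      { toFun := k
        map_add' := k.map_add
        map_smul' := fun r' n => by
          obtain ⟨r, rfl⟩ := hφ r'
          rw [hsm]
          exact hk.map_smul r n }
    exact hid.bijective_of_comp hk w (fun n => rfl)

end Algebra

section Geometry

open Scheme.Modules

variable {X : Scheme.{u}}

/-- a morphism of `O_X`-modules is an isomorphism iff it is bijective on sections over affine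
opens -/
theorem isIso_iff_bijective_app_affine {F G : X.Modules} (u : F ⟶ G) :
    IsIso u ↔ ∀ U : X.Opens, IsAffineOpen U → Function.Bijective (u.app U).hom := by
  constructor
  · intro hu U _
    refine ⟨Function.LeftInverse.injective (g := ((inv u).app U).hom) fun x => ?_,
      Function.RightInverse.surjective (g := ((inv u).app U).hom) fun x => ?_⟩
    · have : (u ≫ inv u).app U = 𝟙 _ := by rw [IsIso.hom_inv_id]; rfl
      exact congr($(this).hom x)
    · have : (inv u ≫ u).app U = 𝟙 _ := by rw [IsIso.inv_hom_id]; rfl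
      exact congr($(this).hom x)
  · intro H
    haveI := Groth.Agent.Lib.helper16.QCohEpi.mono_of_injective_on_basis u {U | IsAffineOpen U}
      X.isBasis_affineOpens (fun U hU => (H U hU).1)
    haveI := Groth.Agent.Lib.helper16.QCohEpi.epi_of_surjective_on_basis u {U | IsAffineOpen U}
      X.isBasis_affineOpens (fun U hU => (H U hU).2)
    exact isIso_of_mono_of_epi u

end Geometry

section ClosedImm

open Scheme.Modules

variable {Z X : Scheme.{u}} (i : Z ⟶ X)

theorem ρ_self_apply (G : X.Modules) (U : X.Opens) (a : Γ(G, U)) :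
    ρ i (le_refl (i ⁻¹ᵁ U)) G a = (((pullbackPushforwardAdjunction i).unit.app G).app U).hom a := by
  rw [ρ_apply]
  exact Groth.Agent.Lib.helper7.map_self _ _ _

/-- for a closed immersion `i` and `G` quasi-coherent, on an affine open `U` the unit
`Γ(G, U) → Γ(i_* i^* G, U)` is bijective iff the ideal of `i` on `U` kills `Γ(G, U)`. -/
theorem bijective_unit_app_iff [IsClosedImmersion i] (G : X.Modules) [G.IsQuasicoherent]
    {U : X.Opens} (hU : IsAffineOpen U) :
    Function.Bijective (((pullbackPushforwardAdjunction i).unit.app G).app U).hom ↔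
      ∀ a ∈ RingHom.ker (i.app U).hom, ∀ s : Γ(G, U), a • s = 0 := by
  have hV : IsAffineOpen (i ⁻¹ᵁ U) := hU.preimage i
  have hbc := isBC_ρ i hU hV le_rfl G
  have hsurj : Function.Surjective (i.appLE U (i ⁻¹ᵁ U) le_rfl).hom := by
    rw [Scheme.Hom.appLE_eq_app]
    exact i.app_surjective U hU
  have h1 := IsBC.bijective_iff_of_surjective hbc hsurj
  rw [Scheme.Hom.appLE_eq_app] at h1
  rw [← h1]
  have : (⇑(ρ i (le_refl (i ⁻¹ᵁ U)) G) : Γ(G, U) → Γ((pullback i).obj G, i ⁻¹ᵁ U)) =
      ⇑(((pullbackPushforwardAdjunction i).unit.app G).app U).hom := funext (ρ_self_apply i G U)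
  rw [this]
  rfl

/-- **Unit of a closed immersion**: for `G` quasi-coherent, `G ⟶ i_* i^* G` is an isomorphism iff
the ideal sheaf of `i` kills `G`. -/
theorem isIso_unit_iff_of_isClosedImmersion [IsClosedImmersion i] (G : X.Modules)
    [G.IsQuasicoherent] :
    IsIso ((pullbackPushforwardAdjunction i).unit.app G) ↔
      ∀ (U : X.affineOpens) (a : Γ(X, U.1)), a ∈ i.ker.ideal U → ∀ s : Γ(G, U.1), a • s = 0 := by
  rw [isIso_iff_bijective_app_affine]
  constructor
  · intro H U a ha s
    rw [Scheme.Hom.ker_apply] at ha
    exact (bijective_unit_app_iff i G U.2).mp (H U.1 U.2) a ha s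
  · intro H U hU
    refine (bijective_unit_app_iff i G hU).mpr (fun a ha s => ?_)
    refine H ⟨U, hU⟩ a ?_ s
    rw [Scheme.Hom.ker_apply]
    exact ha

end ClosedImm

end Groth.Agent.Lib.helper8.ClosedImmUnit
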