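import Mathlib
import Groth.Agent.Lib.Helper12.Milnor
import Groth.Agent.Lib.Helper8.MilnorFlat

/-!
# Glued modules over a Milnor square: base change (helper8)
-/

set_option autoImplicit false
set_option linter.unusedSectionVars false
universe u

open TensorProduct

namespace Groth.Agent.Lib.helper8.Mil

open Groth.Agent.Lib.helper12

section General

variable {R S : Type*} [CommRing R] [CommRing S] [Algebra R S]

/-- For a surjective `R → S`, the kernel of `M → S ⊗ M` is `(ker) M`. -/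
theorem mem_smul_top_of_one_tmul_eq_zero (hsurj : Function.Surjective (algebraMap R S))
    (M : Type*) [AddCommGroup M] [Module R M] (m : M)
    (h1 : ((1 : S) ⊗ₜ[R] m : S ⊗[R] M) = 0) :
    m ∈ (RingHom.ker (algebraMap R S)) • (⊤ : Submodule R M) := by
  have hsurj' : Function.Surjective (Algebra.ofId R S) := hsurj
  let e : (R ⧸ RingHom.ker (Algebra.ofId R S)) ≃ₐ[R] S :=
    Ideal.quotientKerAlgEquivOfSurjective hsurj'
  let E : S ⊗[R] M ≃ₗ[R] (R ⧸ RingHom.ker (Algebra.ofId R S)) ⊗[R] M :=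
    TensorProduct.congr e.symm.toLinearEquiv (LinearEquiv.refl R M)
  have h3 : E ((1 : S) ⊗ₜ[R] m) = (1 : R ⧸ RingHom.ker (Algebra.ofId R S)) ⊗ₜ[R] m := by
    simp [E]
  rw [h1, map_zero] at h3
  have h4 := congrArg (TensorProduct.quotTensorEquivQuotSMul M (RingHom.ker (Algebra.ofId R S))) h3
  have h5 : (1 : R ⧸ RingHom.ker (Algebra.ofId R S)) = Ideal.Quotient.mk _ (1 : R) := rfl
  rw [map_zero, h5, TensorProduct.quotTensorEquivQuotSMul_mk_tmul, one_smul] at h4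
  exact (Submodule.Quotient.mk_eq_zero _).mp h4.symm

end General

section Glue

variable {B' B A' A : Type u} [CommRing B'] [CommRing B] [CommRing A'] [CommRing A]
  [Algebra B' B] [Algebra B' A'] [Algebra B A] [Algebra A' A] [Algebra B' A]
  [IsScalarTower B' B A] [IsScalarTower B' A' A]
variable {N M' : Type u} [AddCommGroup N] [Module B N] [Module B' N] [IsScalarTower B' B N]
  [AddCommGroup M'] [Module A' M'] [Module B' M'] [IsScalarTower B' A' M']
  (φ : A ⊗[B] N ≃ₗ[A] A ⊗[A'] M')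

theorem mem_glue_iff (x : N × M') :
    x ∈ EtMil.glue B' φ ↔ φ ((1 : A) ⊗ₜ[B] x.1) = (1 : A) ⊗ₜ[A'] x.2 := Iff.rfl

/-- Every `n : N` is the first component of an element of the glued module. -/
theorem exists_mem_glue_fst (hsq : EtMil.IsFibreSquare B' B A' A) (n : N) :
    ∃ x : EtMil.glue B' φ, EtMil.glueFst B' φ x = n := by
  obtain ⟨m', hm'⟩ := TensorProduct.mk_surjective A' M' A hsq.1 (φ ((1 : A) ⊗ₜ[B] n))
  exact ⟨⟨(n, m'), hm'.symm⟩, rfl⟩

/-- `(0, i • m)` is in the glued module for `i ∈ I = ker (A' → A)`. -/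
theorem zero_smul_mem_glue {i : A'} (hi : i ∈ RingHom.ker (algebraMap A' A)) (m : M') :
    ((0 : N), i • m) ∈ EtMil.glue B' φ := by
  rw [mem_glue_iff]
  simp only [TensorProduct.tmul_zero, map_zero]
  rw [← TensorProduct.smul_tmul, Algebra.smul_def, RingHom.mem_ker.mp hi, zero_mul,
    TensorProduct.zero_tmul]

theorem glueFst_smul_of_mem_ker {j : B'} (hj : j ∈ RingHom.ker (algebraMap B' B))
    (x : EtMil.glue B' φ) : EtMil.glueFst B' φ (j • x) = 0 := by
  rw [map_smul, ← IsScalarTower.algebraMap_smul B j, RingHom.mem_ker.mp hj, zero_smul]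

theorem glueFst_eq_zero_of_mem_smul_top (x : EtMil.glue B' φ)
    (hx : x ∈ (RingHom.ker (algebraMap B' B)) • (⊤ : Submodule B' (EtMil.glue B' φ))) :
    EtMil.glueFst B' φ x = 0 := by
  refine Submodule.smul_induction_on hx ?_ ?_
  · intro j hj y _
    exact glueFst_smul_of_mem_ker φ hj y
  · intro y z hy hz
    rw [map_add, hy, hz, add_zero]

theorem glue_ext {x y : EtMil.glue B' φ} (h1 : EtMil.glueFst B' φ x = EtMil.glueFst B' φ y)
    (h2 : EtMil.glueSnd B' φ x = EtMil.glueSnd B' φ y) : x = y :=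
  Subtype.ext (Prod.ext h1 h2)

/-- `B ⊗ N' → N` is surjective. -/
theorem liftBaseChange_glueFst_surjective (hsq : EtMil.IsFibreSquare B' B A' A) :
    Function.Surjective (LinearMap.liftBaseChange B (EtMil.glueFst B' φ)) := by
  intro n
  obtain ⟨x, hx⟩ := exists_mem_glue_fst φ hsq n
  exact ⟨(1 : B) ⊗ₜ[B'] x, by simp [hx]⟩

/-- `I M'` is contained in the image of `J N'` under the second projection. -/
theorem exists_mem_smul_top_glueSnd_eq (hsq : EtMil.IsFibreSquare B' B A' A)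
    {i : A'} (hi : i ∈ RingHom.ker (algebraMap A' A)) (ξ : A' ⊗[B'] EtMil.glue B' φ) :
    ∃ w ∈ (RingHom.ker (algebraMap B' B)) • (⊤ : Submodule B' (EtMil.glue B' φ)),
      EtMil.glueSnd B' φ w = i • LinearMap.liftBaseChange A' (EtMil.glueSnd B' φ) ξ ∧
      (1 : A') ⊗ₜ[B'] w = i • ξ := by
  induction ξ using TensorProduct.induction_on with
  | zero => exact ⟨0, Submodule.zero_mem _, by simp⟩
  | add x y hx hy =>
    obtain ⟨w₁, hw₁, e₁, f₁⟩ := hx
    obtain ⟨w₂, hw₂, e₂, f₂⟩ := hy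
    exact ⟨w₁ + w₂, Submodule.add_mem _ hw₁ hw₂, by rw [map_add, map_add, smul_add, e₁, e₂],
      by rw [TensorProduct.tmul_add, f₁, f₂, smul_add]⟩
  | tmul a' x =>
    have hI : i * a' ∈ RingHom.ker (algebraMap A' A) := Ideal.mul_mem_right _ _ hi
    obtain ⟨j, hj, hji⟩ := exists_mem_ker_algebraMap_eq hsq hI
    refine ⟨j • x, Submodule.smul_mem_smul hj Submodule.mem_top, ?_, ?_⟩
    · rw [map_smul, LinearMap.liftBaseChange_tmul, smul_smul, ← hji,
        IsScalarTower.algebraMap_smul]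
    · rw [← TensorProduct.smul_tmul, TensorProduct.smul_tmul', Algebra.smul_def, hji, mul_one,
        smul_eq_mul]

/-- `A' ⊗ N' → M'` is surjective. -/
theorem liftBaseChange_glueSnd_surjective (hsq : EtMil.IsFibreSquare B' B A' A) :
    Function.Surjective (LinearMap.liftBaseChange A' (EtMil.glueSnd B' φ)) := by
  have key : ∀ z : A ⊗[B] N, ∃ ξ : A' ⊗[B'] EtMil.glue B' φ,
      φ z = (1 : A) ⊗ₜ[A'] (LinearMap.liftBaseChange A' (EtMil.glueSnd B' φ) ξ) := by
    intro z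
    induction z using TensorProduct.induction_on with
    | zero => exact ⟨0, by simp⟩
    | add x y hx hy =>
      obtain ⟨ξ₁, e₁⟩ := hx
      obtain ⟨ξ₂, e₂⟩ := hy
      exact ⟨ξ₁ + ξ₂, by rw [map_add, map_add, e₁, e₂, TensorProduct.tmul_add]⟩
    | tmul a n =>
      obtain ⟨a', rfl⟩ := hsq.1 a
      obtain ⟨x, hx⟩ := exists_mem_glue_fst φ hsq n
      refine ⟨a' ⊗ₜ[B'] x, ?_⟩
      have h1 : φ ((1 : A) ⊗ₜ[B] n) = (1 : A) ⊗ₜ[A'] (EtMil.glueSnd B' φ x) := by
        rw [← hx]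
        exact x.2
      have h2 : (algebraMap A' A a') ⊗ₜ[B] n = (algebraMap A' A a') • ((1 : A) ⊗ₜ[B] n) := by
        rw [TensorProduct.smul_tmul', smul_eq_mul, mul_one]
      rw [h2, map_smul, h1, LinearMap.liftBaseChange_tmul, TensorProduct.smul_tmul',
        smul_eq_mul, mul_one, Algebra.algebraMap_eq_smul_one, TensorProduct.smul_tmul]
  intro m'
  obtain ⟨ξ, hξ⟩ := key (φ.symm ((1 : A) ⊗ₜ[A'] m'))
  rw [LinearEquiv.apply_symm_apply] at hξ
  have h0 : ((1 : A) ⊗ₜ[A'] (m' - LinearMap.liftBaseChange A' (EtMil.glueSnd B' φ) ξ) :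
      A ⊗[A'] M') = 0 := by
    rw [TensorProduct.tmul_sub, hξ, sub_self]
  have h1 := mem_smul_top_of_one_tmul_eq_zero hsq.1 M' _ h0
  have h2 : ∀ y ∈ (RingHom.ker (algebraMap A' A)) • (⊤ : Submodule A' M'),
      y ∈ LinearMap.range (LinearMap.liftBaseChange A' (EtMil.glueSnd B' φ)) := by
    intro y hy
    refine Submodule.smul_induction_on hy ?_ ?_
    · intro i hi m _
      exact ⟨(1 : A') ⊗ₜ[B'] ⟨((0 : N), i • m), zero_smul_mem_glue φ hi m⟩, by
        rw [LinearMap.liftBaseChange_tmul, one_smul]; rfl⟩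
    · intro y z hy hz
      exact Submodule.add_mem _ hy hz
  obtain ⟨ξ', hξ'⟩ := h2 _ h1
  exact ⟨ξ' + ξ, by rw [map_add, hξ', sub_add_cancel]⟩

/-- Elements `(0, m')` of the glued module lie in `J N'`. -/
theorem mem_smul_top_of_glueFst_eq_zero (hsq : EtMil.IsFibreSquare B' B A' A)
    (x : EtMil.glue B' φ) (hx : EtMil.glueFst B' φ x = 0) :
    x ∈ (RingHom.ker (algebraMap B' B)) • (⊤ : Submodule B' (EtMil.glue B' φ)) := by
  have h0 : ((1 : A) ⊗ₜ[A'] (EtMil.glueSnd B' φ x) : A ⊗[A'] M') = 0 := by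
    have h1 : φ ((1 : A) ⊗ₜ[B] (EtMil.glueFst B' φ x)) =
        (1 : A) ⊗ₜ[A'] (EtMil.glueSnd B' φ x) := x.2
    rw [← h1, hx, TensorProduct.tmul_zero, map_zero]
  have h1 := mem_smul_top_of_one_tmul_eq_zero hsq.1 M' _ h0
  have h2 : ∀ y ∈ (RingHom.ker (algebraMap A' A)) • (⊤ : Submodule A' M'),
      ∃ w ∈ (RingHom.ker (algebraMap B' B)) • (⊤ : Submodule B' (EtMil.glue B' φ)),
        EtMil.glueSnd B' φ w = y := by
    intro y hy
    refine Submodule.smul_induction_on hy ?_ ?_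
    · intro i hi m _
      obtain ⟨ξ, rfl⟩ := liftBaseChange_glueSnd_surjective φ hsq m
      obtain ⟨w, hw, e, -⟩ := exists_mem_smul_top_glueSnd_eq φ hsq hi ξ
      exact ⟨w, hw, e⟩
    · rintro y z ⟨w₁, hw₁, e₁⟩ ⟨w₂, hw₂, e₂⟩
      exact ⟨w₁ + w₂, Submodule.add_mem _ hw₁ hw₂, by rw [map_add, e₁, e₂]⟩
  obtain ⟨w, hw, e⟩ := h2 _ h1
  have hwx : w = x := glue_ext φ (by rw [glueFst_eq_zero_of_mem_smul_top φ w hw, hx]) e
  rw [← hwx]
  exact hw

/-- `1 ⊗ w = 0` in `B ⊗ N'` for `w ∈ J N'`. -/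
theorem one_tmul_eq_zero_of_mem_smul_top {X : Type*} [AddCommGroup X] [Module B' X] (w : X)
    (hw : w ∈ (RingHom.ker (algebraMap B' B)) • (⊤ : Submodule B' X)) :
    ((1 : B) ⊗ₜ[B'] w : B ⊗[B'] X) = 0 := by
  refine Submodule.smul_induction_on hw ?_ ?_
  · intro j hj y _
    rw [← TensorProduct.smul_tmul, Algebra.smul_def, RingHom.mem_ker.mp hj, zero_mul,
      TensorProduct.zero_tmul]
  · intro y z hy hz
    rw [TensorProduct.tmul_add, hy, hz, add_zero]

/-- `B ⊗ N' → N` is injective. -/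
theorem liftBaseChange_glueFst_injective (hsq : EtMil.IsFibreSquare B' B A' A) :
    Function.Injective (LinearMap.liftBaseChange B (EtMil.glueFst B' φ)) := by
  rw [injective_iff_map_eq_zero]
  intro ξ hξ
  obtain ⟨x, rfl⟩ := TensorProduct.mk_surjective B' (EtMil.glue B' φ) B (milnor_surjective hsq) ξ
  have hx : EtMil.glueFst B' φ x = 0 := by
    simpa using hξ
  exact one_tmul_eq_zero_of_mem_smul_top x (mem_smul_top_of_glueFst_eq_zero φ hsq x hx)

/-- The `B`-linear equivalence `B ⊗ N' ≃ N`. -/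
noncomputable def glueFstEquiv (hsq : EtMil.IsFibreSquare B' B A' A) :
    B ⊗[B'] EtMil.glue B' φ ≃ₗ[B] N :=
  LinearEquiv.ofBijective (LinearMap.liftBaseChange B (EtMil.glueFst B' φ))
    ⟨liftBaseChange_glueFst_injective φ hsq, liftBaseChange_glueFst_surjective φ hsq⟩

@[simp] theorem glueFstEquiv_tmul (hsq : EtMil.IsFibreSquare B' B A' A) (b : B)
    (x : EtMil.glue B' φ) : glueFstEquiv φ hsq (b ⊗ₜ[B'] x) = b • EtMil.glueFst B' φ x := rfl

/-- `A' ⊗ N' → M'` is injective. -/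
theorem liftBaseChange_glueSnd_injective (hsq : EtMil.IsFibreSquare B' B A' A) :
    Function.Injective (LinearMap.liftBaseChange A' (EtMil.glueSnd B' φ)) := by
  let e1 : A ⊗[B'] EtMil.glue B' φ ≃ₗ[A] A ⊗[B] (B ⊗[B'] EtMil.glue B' φ) :=
    (AlgebraTensorModule.cancelBaseChange B' B A A (EtMil.glue B' φ)).symm
  let e2 : A ⊗[B] (B ⊗[B'] EtMil.glue B' φ) ≃ₗ[A] A ⊗[B] N :=
    AlgebraTensorModule.congr (LinearEquiv.refl A A) (glueFstEquiv φ hsq)
  let Θ : A ⊗[B'] EtMil.glue B' φ ≃ₗ[A] A ⊗[A'] M' := e1 ≪≫ₗ e2 ≪≫ₗ φ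
  have hΘ : ∀ (a : A) (x : EtMil.glue B' φ), Θ (a ⊗ₜ[B'] x) = a ⊗ₜ[A'] EtMil.glueSnd B' φ x := by
    intro a x
    have h1 : φ ((1 : A) ⊗ₜ[B] (EtMil.glueFst B' φ x)) =
        (1 : A) ⊗ₜ[A'] (EtMil.glueSnd B' φ x) := x.2
    have h2 : a ⊗ₜ[B] (EtMil.glueFst B' φ x) = a • ((1 : A) ⊗ₜ[B] (EtMil.glueFst B' φ x)) := by
      rw [TensorProduct.smul_tmul', smul_eq_mul, mul_one]
    have h3 : Θ (a ⊗ₜ[B'] x) = φ (a ⊗ₜ[B] (EtMil.glueFst B' φ x)) := by
      simp [Θ, e1, e2]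
    rw [h3, h2, map_smul, h1, TensorProduct.smul_tmul', smul_eq_mul, mul_one]
  let πA : A' →ₗ[B'] A := (IsScalarTower.toAlgHom B' A' A).toLinearMap
  have hπA : Function.Surjective πA := hsq.1
  have key : ∀ ξ : A' ⊗[B'] EtMil.glue B' φ, Θ (πA.rTensor _ ξ) =
      (1 : A) ⊗ₜ[A'] (LinearMap.liftBaseChange A' (EtMil.glueSnd B' φ) ξ) := by
    intro ξ
    induction ξ using TensorProduct.induction_on with
    | zero => simp
    | add x y hx hy => rw [map_add, map_add, hx, hy, map_add, TensorProduct.tmul_add]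
    | tmul a' x =>
      rw [LinearMap.rTensor_tmul, hΘ, LinearMap.liftBaseChange_tmul]
      change (algebraMap A' A a') ⊗ₜ[A'] _ = _
      rw [Algebra.algebraMap_eq_smul_one, TensorProduct.smul_tmul]
  let ι : (RingHom.ker (algebraMap A' A)) →ₗ[B'] A' :=
    (RingHom.ker (algebraMap A' A)).subtype.restrictScalars B'
  have hex : Function.Exact ι πA := by
    intro a'
    constructor
    · intro h
      exact ⟨⟨a', h⟩, rfl⟩
    · rintro ⟨i, rfl⟩
      exact i.2
  have hrange : ∀ η : (RingHom.ker (algebraMap A' A)) ⊗[B'] EtMil.glue B' φ,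
      ∃ w ∈ (RingHom.ker (algebraMap B' B)) • (⊤ : Submodule B' (EtMil.glue B' φ)),
        ι.rTensor _ η = (1 : A') ⊗ₜ[B'] w := by
    intro η
    induction η using TensorProduct.induction_on with
    | zero => exact ⟨0, Submodule.zero_mem _, by simp⟩
    | add x y hx hy =>
      obtain ⟨w₁, hw₁, e₁⟩ := hx
      obtain ⟨w₂, hw₂, e₂⟩ := hy
      exact ⟨w₁ + w₂, Submodule.add_mem _ hw₁ hw₂, by rw [map_add, e₁, e₂, TensorProduct.tmul_add]⟩
    | tmul i x =>
      obtain ⟨j, hj, hji⟩ := exists_mem_ker_algebraMap_eq hsq i.2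
      refine ⟨j • x, Submodule.smul_mem_smul hj Submodule.mem_top, ?_⟩
      rw [LinearMap.rTensor_tmul, ← TensorProduct.smul_tmul, Algebra.smul_def, mul_one, hji]
      rfl
  rw [injective_iff_map_eq_zero]
  intro ξ hξ
  have h1 : πA.rTensor _ ξ = 0 := by
    apply Θ.injective
    rw [key, hξ, TensorProduct.tmul_zero, map_zero]
  obtain ⟨η, rfl⟩ := (rTensor_exact (EtMil.glue B' φ) hex hπA ξ).1 h1
  obtain ⟨w, hw, e⟩ := hrange η
  rw [e] at hξ ⊢
  have hw2 : EtMil.glueSnd B' φ w = 0 := by simpa using hξ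
  have hw0 : w = 0 :=
    glue_ext φ (by rw [glueFst_eq_zero_of_mem_smul_top φ w hw, map_zero]) (by rw [hw2, map_zero])
  rw [hw0, TensorProduct.tmul_zero]

/-- The `A'`-linear equivalence `A' ⊗ N' ≃ M'`. -/
noncomputable def glueSndEquiv (hsq : EtMil.IsFibreSquare B' B A' A) :
    A' ⊗[B'] EtMil.glue B' φ ≃ₗ[A'] M' :=
  LinearEquiv.ofBijective (LinearMap.liftBaseChange A' (EtMil.glueSnd B' φ))
    ⟨liftBaseChange_glueSnd_injective φ hsq, liftBaseChange_glueSnd_surjective φ hsq⟩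

@[simp] theorem glueSndEquiv_tmul (hsq : EtMil.IsFibreSquare B' B A' A) (a' : A')
    (x : EtMil.glue B' φ) : glueSndEquiv φ hsq (a' ⊗ₜ[B'] x) = a' • EtMil.glueSnd B' φ x := rfl

end Glue

end Groth.Agent.Lib.helper8.Mil
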