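import Mathlib
import Groth.Agent.Lib.Helper8.MilnorGlue

set_option autoImplicit false
universe u
open TensorProduct

namespace Groth.Agent.Lib.helper8.PinchAlg

variable {R Q B : Type u} [CommRing R] [CommRing Q] [CommRing B] [Algebra R Q] [Algebra R B]

/-- the pinching hypothesis: `R → Q` surjective with kernel `I`, `I ∩ ker (R → B) = 0` and
`I B = image of I`. -/
structure IsPinch (R Q B : Type u) [CommRing R] [CommRing Q] [CommRing B] [Algebra R Q]
    [Algebra R B] : Prop where
  surj : Function.Surjective (algebraMap R Q)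
  inf_eq_bot : RingHom.ker (algebraMap R B) ⊓ RingHom.ker (algebraMap R Q) = ⊥
  exists_mem : ∀ a ∈ Ideal.map (algebraMap R B) (RingHom.ker (algebraMap R Q)),
    ∃ i ∈ RingHom.ker (algebraMap R Q), algebraMap R B i = a

variable (hp : IsPinch R Q B)

include hp in
/-- the kernel `I` of `R → Q` acts as zero on any `R`-module `M` with `B ⊗ M = 0`. -/
theorem smul_eq_zero_of_subsingleton (M : Type u) [AddCommGroup M] [Module R M]
    [Subsingleton (B ⊗[R] M)] {i : R} (hi : i ∈ RingHom.ker (algebraMap R Q)) (m : M) :
    i • m = 0 := by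
  set I := RingHom.ker (algebraMap R Q) with hI
  set J : Ideal B := Ideal.map (algebraMap R B) I with hJ
  -- the bijection `I → J`
  let α : I →ₗ[R] J :=
    { toFun := fun x => ⟨algebraMap R B x.1, Ideal.mem_map_of_mem _ x.2⟩
      map_add' := fun x y => Subtype.ext (map_add _ _ _)
      map_smul' := fun r x => Subtype.ext (by
        show algebraMap R B (r * x.1) = r • algebraMap R B x.1
        rw [map_mul, Algebra.smul_def]) }
  have hα : Function.Bijective α := by
    constructor
    · rw [injective_iff_map_eq_zero]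
      intro x hx
      have h0 : algebraMap R B x.1 = 0 := congrArg Subtype.val hx
      have : x.1 ∈ RingHom.ker (algebraMap R B) ⊓ RingHom.ker (algebraMap R Q) := ⟨h0, x.2⟩
      rw [hp.inf_eq_bot] at this
      exact Subtype.ext this
    · rintro ⟨a, ha⟩
      obtain ⟨i, hi, rfl⟩ := hp.exists_mem a ha
      exact ⟨⟨i, hi⟩, rfl⟩
  let e : I ≃ₗ[R] J := LinearEquiv.ofBijective α hα
  -- `J ⊗[R] M` is trivial
  haveI : Subsingleton (J ⊗[B] (B ⊗[R] M)) := by
    refine ⟨fun a b => ?_⟩
    have : ∀ z : J ⊗[B] (B ⊗[R] M), z = 0 := by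
      intro z
      induction z with
      | zero => rfl
      | tmul x y => rw [Subsingleton.elim y 0, tmul_zero]
      | add x y hx hy => rw [hx, hy, add_zero]
    rw [this a, this b]
  haveI : Subsingleton (J ⊗[R] M) :=
    (TensorProduct.AlgebraTensorModule.cancelBaseChange R B B J M).symm.toEquiv.subsingleton
  -- the multiplication map `J ⊗ M → M`
  let μ : J ⊗[R] M →ₗ[R] M :=
    TensorProduct.lift
      ((LinearMap.lsmul R M).comp ((Submodule.subtype I).comp e.symm.toLinearMap))
  have hμ : μ ((e ⟨i, hi⟩) ⊗ₜ m) = i • m := by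
    show ((e.symm (e ⟨i, hi⟩) : I) : R) • m = i • m
    rw [LinearEquiv.symm_apply_apply]
  rw [← hμ, Subsingleton.elim ((e ⟨i, hi⟩) ⊗ₜ[R] m) 0, map_zero]

include hp in
/-- **Pinching: a module with zero pullbacks is zero.** -/
theorem subsingleton_of_pinch (M : Type u) [AddCommGroup M] [Module R M]
    [Subsingleton (Q ⊗[R] M)] [Subsingleton (B ⊗[R] M)] : Subsingleton M := by
  refine ⟨fun a b => ?_⟩
  have key : ∀ m : M, m = 0 := by
    intro m
    have h1 : m ∈ (RingHom.ker (algebraMap R Q)) • (⊤ : Submodule R M) :=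
      Groth.Agent.Lib.helper8.Mil.mem_smul_top_of_one_tmul_eq_zero hp.surj M m
        (Subsingleton.elim _ _)
    refine Submodule.smul_induction_on h1 ?_ ?_
    · intro i hi n _
      exact smul_eq_zero_of_subsingleton hp M hi n
    · intro x y hx hy
      rw [hx, hy, add_zero]
  rw [key a, key b]

section Finite

variable {S : Type u} [CommRing S] [Algebra R S]

/-- if `S ⊗ N → S ⊗ M` is surjective then `S ⊗ (M ⧸ N) = 0` -/
theorem subsingleton_tensor_quotient (M : Type u) [AddCommGroup M] [Module R M]
    (N : Submodule R M) (hN : N.baseChange S = ⊤) : Subsingleton (S ⊗[R] (M ⧸ N)) := by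
  refine ⟨fun a b => ?_⟩
  have key : ∀ z : S ⊗[R] (M ⧸ N), z = 0 := by
    intro z
    obtain ⟨y, rfl⟩ := LinearMap.lTensor_surjective S N.mkQ_surjective z
    have hy : y ∈ N.baseChange S := by rw [hN]; trivial
    obtain ⟨x, rfl⟩ := hy
    induction x with
    | zero => simp
    | tmul s n =>
      show N.mkQ.lTensor S (s ⊗ₜ[R] (n : M)) = 0
      rw [LinearMap.lTensor_tmul, Submodule.mkQ_apply, (Submodule.Quotient.mk_eq_zero N).mpr n.2,
        tmul_zero]
    | add x y hx hy => rw [map_add, map_add, hx, hy, add_zero]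
  rw [key a, key b]

/-- a finite `S ⊗ M` is generated by the image of a finitely generated submodule of `M` -/
theorem exists_fg_baseChange_eq_top (M : Type u) [AddCommGroup M] [Module R M]
    [Module.Finite S (S ⊗[R] M)] : ∃ t : Finset M, (Submodule.span R (t : Set M)).baseChange S = ⊤ := by
  classical
  have h1 : (Submodule.span S (TensorProduct.mk R S M 1 '' (Set.univ : Set M))).FG := by
    rw [← Submodule.baseChange_span, Submodule.span_univ, Submodule.baseChange_top]
    exact Module.Finite.fg_top
  obtain ⟨s', hs', hspan⟩ := (Submodule.fg_span_iff_fg_span_finset_subset _).mp h1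
  obtain ⟨t, -, rfl⟩ := Finset.subset_set_image_iff.mp hs'
  refine ⟨t, ?_⟩
  rw [Submodule.baseChange_span, ← Finset.coe_image, ← hspan, ← Submodule.baseChange_span,
    Submodule.span_univ, Submodule.baseChange_top]

end Finite

include hp in
/-- **Pinching: finiteness descends.** -/
theorem finite_of_pinch (M : Type u) [AddCommGroup M] [Module R M]
    [Module.Finite Q (Q ⊗[R] M)] [Module.Finite B (B ⊗[R] M)] : Module.Finite R M := by
  classical
  obtain ⟨t₁, ht₁⟩ := exists_fg_baseChange_eq_top (R := R) (S := Q) M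
  obtain ⟨t₂, ht₂⟩ := exists_fg_baseChange_eq_top (R := R) (S := B) M
  set N : Submodule R M := Submodule.span R ((t₁ ∪ t₂ : Finset M) : Set M) with hN
  have hle₁ : Submodule.span R (t₁ : Set M) ≤ N :=
    Submodule.span_mono (by intro x hx; exact Finset.mem_union_left _ hx)
  have hle₂ : Submodule.span R (t₂ : Set M) ≤ N :=
    Submodule.span_mono (by intro x hx; exact Finset.mem_union_right _ hx)
  have h₁ : N.baseChange Q = ⊤ := top_le_iff.mp (ht₁ ▸ Submodule.baseChange_mono Q hle₁)
  have h₂ : N.baseChange B = ⊤ := top_le_iff.mp (ht₂ ▸ Submodule.baseChange_mono B hle₂)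
  haveI := subsingleton_tensor_quotient (S := Q) M N h₁
  haveI := subsingleton_tensor_quotient (S := B) M N h₂
  haveI : Subsingleton (M ⧸ N) := subsingleton_of_pinch hp (M ⧸ N)
  have hN' : N = ⊤ := by
    rw [eq_top_iff]
    intro m _
    rw [← Submodule.Quotient.mk_eq_zero N]
    exact Subsingleton.elim _ _
  exact ⟨hN' ▸ ⟨t₁ ∪ t₂, rfl⟩⟩

section Flat

variable (R Q B) in
/-- the corner `B ⧸ I B` of the Milnor square -/
abbrev Corner : Type u := B ⧸ Ideal.map (algebraMap R B) (RingHom.ker (algebraMap R Q))

theorem ker_le_ker_corner : RingHom.ker (algebraMap R Q) ≤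
    RingHom.ker ((Ideal.Quotient.mk (Ideal.map (algebraMap R B) (RingHom.ker (algebraMap R Q)))).comp
      (algebraMap R B)) := by
  intro i hi
  rw [RingHom.mem_ker, RingHom.comp_apply, Ideal.Quotient.eq_zero_iff_mem]
  exact Ideal.mem_map_of_mem _ hi

/-- the ring map `Q → B ⧸ I B` -/
noncomputable def toCorner : Q →+* Corner R Q B :=
  (algebraMap R Q).liftOfSurjective hp.surj ⟨_, ker_le_ker_corner⟩

theorem toCorner_algebraMap (r : R) :
    toCorner hp (algebraMap R Q r) = Ideal.Quotient.mk _ (algebraMap R B r) :=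
  (algebraMap R Q).liftOfRightInverse_comp_apply _ _ ⟨_, ker_le_ker_corner⟩ r

include hp in
/-- **Pinching: flatness descends.** -/
theorem flat_of_pinch (M : Type u) [AddCommGroup M] [Module R M]
    [Module.Flat Q (Q ⊗[R] M)] [Module.Flat B (B ⊗[R] M)] : Module.Flat R M := by
  letI : Algebra Q (Corner R Q B) := (toCorner hp).toAlgebra
  haveI : IsScalarTower R Q (Corner R Q B) := IsScalarTower.of_algebraMap_eq (fun r => by
    show Ideal.Quotient.mk _ (algebraMap R B r) = toCorner hp (algebraMap R Q r)
    rw [toCorner_algebraMap])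
  have hsq : EtMil.IsFibreSquare R Q B (Corner R Q B) := by
    refine ⟨Ideal.Quotient.mk_surjective, ?_⟩
    intro q b hqb
    obtain ⟨r₀, rfl⟩ := hp.surj q
    have h1 : Ideal.Quotient.mk (Ideal.map (algebraMap R B) (RingHom.ker (algebraMap R Q)))
        (algebraMap R B r₀) = Ideal.Quotient.mk _ b := by
      rw [← toCorner_algebraMap hp]
      exact hqb
    rw [Ideal.Quotient.eq] at h1
    obtain ⟨i, hi, hi'⟩ := hp.exists_mem _ h1
    refine ⟨r₀ - i, ⟨?_, ?_⟩, ?_⟩
    · rw [map_sub, (RingHom.mem_ker).mp hi, sub_zero]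
    · rw [map_sub, hi', sub_sub_cancel]
    · rintro r ⟨hr₁, hr₂⟩
      have : r - (r₀ - i) ∈ RingHom.ker (algebraMap R B) ⊓ RingHom.ker (algebraMap R Q) := by
        constructor
        · show r - (r₀ - i) ∈ RingHom.ker (algebraMap R B)
          rw [RingHom.mem_ker, map_sub, map_sub, hr₂, hi', sub_sub_cancel, sub_self]
        · show r - (r₀ - i) ∈ RingHom.ker (algebraMap R Q)
          rw [RingHom.mem_ker, map_sub, map_sub, hr₁, (RingHom.mem_ker).mp hi, sub_zero, sub_self]
      rw [hp.inf_eq_bot] at this
      exact sub_eq_zero.mp this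
  exact Groth.Agent.Lib.helper8.Mil.flat_of_flat_baseChangePair hsq M

end Flat

section FP

/-- for `M` flat and `π : F → M` surjective with kernel `K`, `S ⊗ K` is the kernel of `S ⊗ π`;
so it is a finite `S`-module if `S ⊗ M` is finitely presented and `S ⊗ F` finite. -/
theorem finite_tensor_ker {S : Type u} [CommRing S] [Algebra R S] {F M : Type u} [AddCommGroup F]
    [Module R F] [AddCommGroup M] [Module R M] [Module.Flat R M] (π : F →ₗ[R] M)
    (hπ : Function.Surjective π) [Module.Finite S (S ⊗[R] F)]
    [Module.FinitePresentation S (S ⊗[R] M)] : Module.Finite S (S ⊗[R] LinearMap.ker π) := by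
  set K := LinearMap.ker π with hK
  have hfg : (LinearMap.ker (π.baseChange S)).FG :=
    Module.FinitePresentation.fg_ker (π.baseChange S) (LinearMap.lTensor_surjective S hπ)
  have hex : Function.Exact (K.subtype.baseChange S) (π.baseChange S) :=
    lTensor_exact S π.exact_subtype_ker_map hπ
  have hker : LinearMap.ker (π.baseChange S) = K.baseChange S := by
    rw [LinearMap.exact_iff] at hex
    exact hex
  have hinj : Function.Injective (K.toBaseChange S) := by
    have h1 : Function.Injective (K.subtype.lTensor S) :=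
      LinearMap.lTensor_injective_of_exact_of_flat π hπ K.subtype K.subtype_injective
        π.exact_subtype_ker_map S
    intro x y hxy
    apply h1
    exact congrArg Subtype.val hxy
  let e : S ⊗[R] K ≃ₗ[S] K.baseChange S :=
    LinearEquiv.ofBijective (K.toBaseChange S) ⟨hinj, K.toBaseChange_surjective S⟩
  haveI : Module.Finite S (K.baseChange S) := Module.Finite.iff_fg.mpr (hker ▸ hfg)
  exact Module.Finite.equiv e.symm

include hp in
/-- **Pinching: finite presentation descends for flat modules.** -/
theorem finitePresentation_of_pinch (M : Type u) [AddCommGroup M] [Module R M] [Module.Flat R M]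
    [Module.FinitePresentation Q (Q ⊗[R] M)] [Module.FinitePresentation B (B ⊗[R] M)] :
    Module.FinitePresentation R M := by
  haveI : Module.Finite R M := finite_of_pinch hp M
  obtain ⟨n, π, hπ⟩ := Module.Finite.exists_fin' R M
  haveI := finite_tensor_ker (S := Q) π hπ
  haveI := finite_tensor_ker (S := B) π hπ
  haveI : Module.Finite R (LinearMap.ker π) := finite_of_pinch hp _
  exact Module.finitePresentation_of_surjective π hπ (Module.Finite.iff_fg.mp inferInstance)

end FP

end Groth.Agent.Lib.helper8.PinchAlg
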