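import Mathlib
import Groth.Agent.Lib.Helper8.PullbackUnit2
import Groth.Agent.Lib.Helper8.PinchAlg
import Groth.Agent.Lib.Helper8.FlatSections
import Groth.Agent.Lib.Helper16.FLF5

/-!
# Quasi-coherent modules on a pinching (Milnor) square of schemes (helper8)

`f : X ⟶ Y` affine, `u : Y' ⟶ Y` a closed immersion, `hM` the pinching hypothesis on affine opens.
* `nonempty_linearEquiv_tensor`, `subsingleton_sections_of_isZero`, `isZero_of_subsingleton_sections`
* `isPinch`, `nonempty_sections_pullback_equiv`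
* `isZero_of_isZero_pullback_pair`, `isFiniteType_of_pullback_pair`, `isFlat_pullback`,
  `isFlat_of_pullback_pair`, `isFinitePresentation_of_pullback_pair`, `isFinLocFree_of_pullback_pair`
-/

set_option autoImplicit false
universe u
open CategoryTheory AlgebraicGeometry TopologicalSpace Opposite TensorProduct

namespace Groth.Agent.Lib.helper8.PinchMod

open Groth.Agent.Lib.helper8.PullbackUnit Groth.Agent.Lib.helper8.PinchAlg

section Bridge

theorem nonempty_linearEquiv_tensor {R R' : Type u} [CommRing R] [CommRing R'] [Algebra R R']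
    {N P : Type u} [AddCommGroup N] [Module R N] [AddCommGroup P] [Module R' P] {k : N →+ P}
    (hk : IsBC (algebraMap R R') k) : Nonempty (P ≃ₗ[R'] R' ⊗[R] N) := by
  letI : Module R P := Module.compHom P (algebraMap R R')
  haveI : IsScalarTower R R' P := ⟨fun r b n => by
    show (r • b) • n = algebraMap R R' r • (b • n)
    rw [Algebra.smul_def, mul_smul]⟩
  let kl : N →ₗ[R] P :=
    { toFun := k, map_add' := k.map_add, map_smul' := fun r n => hk.map_smul r n }
  exact ⟨(IsBC.isBaseChange kl hk).equiv.symm⟩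

end Bridge

section Zero

open Scheme.Modules

variable {X : Scheme.{u}}

theorem subsingleton_sections_of_isZero {F : X.Modules} (h : Limits.IsZero F) (U : X.Opens) :
    Subsingleton Γ(F, U) := by
  refine ⟨fun a b => ?_⟩
  have h0 : (𝟙 F : F ⟶ F) = 0 := (Limits.IsZero.iff_id_eq_zero F).mp h
  have key : ∀ s : Γ(F, U), s = 0 := by
    intro s
    have h1 : ((𝟙 F : F ⟶ F).app U).hom s = s := rfl
    rw [← h1, h0]
    rfl
  rw [key a, key b]

theorem isZero_of_subsingleton_sections {F : X.Modules}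
    (h : ∀ U : X.Opens, IsAffineOpen U → Subsingleton Γ(F, U)) : Limits.IsZero F := by
  rw [Limits.IsZero.iff_id_eq_zero]
  refine Groth.Agent.Lib.helper16.QCohEpi.hom_ext_of_basis _ _ {U | IsAffineOpen U}
    X.isBasis_affineOpens (fun U hU s => ?_)
  haveI := h U hU
  exact Subsingleton.elim _ _

end Zero

section Pinch

open Scheme.Modules

variable {X Y Y' : Scheme.{u}} (f : X ⟶ Y) (u : Y' ⟶ Y) [IsAffineHom f] [IsClosedImmersion u]
  (hM : ∀ V ∈ Y.affineOpens,
      RingHom.ker (f.app V).hom ⊓ RingHom.ker (u.app V).hom = ⊥ ∧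
      ∀ a ∈ Ideal.map (f.app V).hom (RingHom.ker (u.app V).hom),
        ∃ i ∈ RingHom.ker (u.app V).hom, (f.app V).hom i = a)
  (G : Y.Modules) [G.IsQuasicoherent]

omit [IsAffineHom f] in
include hM in
theorem isPinch {V : Y.Opens} (hV : IsAffineOpen V) :
    letI := (u.app V).hom.toAlgebra
    letI := (f.app V).hom.toAlgebra
    IsPinch Γ(Y, V) Γ(Y', u ⁻¹ᵁ V) Γ(X, f ⁻¹ᵁ V) := by
  letI := (u.app V).hom.toAlgebra
  letI := (f.app V).hom.toAlgebra
  exact ⟨u.app_surjective V hV, (hM V hV).1, (hM V hV).2⟩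

/-- sections of the pullback along `u` over `u ⁻¹ᵁ V` as a tensor product -/
theorem nonempty_sections_pullback_equiv {Z : Scheme.{u}} (g : Z ⟶ Y) {V : Y.Opens}
    (hV : IsAffineOpen V) (hV' : IsAffineOpen (g ⁻¹ᵁ V)) :
    letI := (g.app V).hom.toAlgebra
    Nonempty (Γ((pullback g).obj G, g ⁻¹ᵁ V) ≃ₗ[Γ(Z, g ⁻¹ᵁ V)] Γ(Z, g ⁻¹ᵁ V) ⊗[Γ(Y, V)] Γ(G, V)) := by
  letI := (g.app V).hom.toAlgebra
  have h1 := isBC_ρ g hV hV' le_rfl G
  rw [Scheme.Hom.appLE_eq_app] at h1
  exact nonempty_linearEquiv_tensor h1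

include hM in
/-- **Pinching: a quasi-coherent module with zero pullbacks is zero.** -/
theorem isZero_of_isZero_pullback_pair (h1 : Limits.IsZero ((pullback u).obj G))
    (h2 : Limits.IsZero ((pullback f).obj G)) : Limits.IsZero G := by
  apply isZero_of_subsingleton_sections
  intro V hV
  letI := (u.app V).hom.toAlgebra
  letI := (f.app V).hom.toAlgebra
  have hp := isPinch f u hM hV
  obtain ⟨e₁⟩ := nonempty_sections_pullback_equiv G u hV (hV.preimage u)
  obtain ⟨e₂⟩ := nonempty_sections_pullback_equiv G f hV (hV.preimage f)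
  haveI := subsingleton_sections_of_isZero h1 (u ⁻¹ᵁ V)
  haveI := subsingleton_sections_of_isZero h2 (f ⁻¹ᵁ V)
  haveI : Subsingleton (Γ(Y', u ⁻¹ᵁ V) ⊗[Γ(Y, V)] Γ(G, V)) := e₁.symm.toEquiv.subsingleton
  haveI : Subsingleton (Γ(X, f ⁻¹ᵁ V) ⊗[Γ(Y, V)] Γ(G, V)) := e₂.symm.toEquiv.subsingleton
  exact subsingleton_of_pinch hp Γ(G, V)

end Pinch

section Pinch2

open Scheme.Modules Groth.Agent.Lib.helper16.CohFinite Groth.Agent.Lib.helper16.CohFP

variable {X Y Y' : Scheme.{u}} (f : X ⟶ Y) (u : Y' ⟶ Y) [IsAffineHom f] [IsClosedImmersion u]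
  (hM : ∀ V ∈ Y.affineOpens,
      RingHom.ker (f.app V).hom ⊓ RingHom.ker (u.app V).hom = ⊥ ∧
      ∀ a ∈ Ideal.map (f.app V).hom (RingHom.ker (u.app V).hom),
        ∃ i ∈ RingHom.ker (u.app V).hom, (f.app V).hom i = a)
  (G : Y.Modules) [G.IsQuasicoherent]

include hM in
/-- **Pinching: finite type descends.** -/
theorem isFiniteType_of_pullback_pair
    (h1 : SheafOfModules.IsFiniteType (R := Y'.ringCatSheaf) ((pullback u).obj G))
    (h2 : SheafOfModules.IsFiniteType (R := X.ringCatSheaf) ((pullback f).obj G)) :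
    SheafOfModules.IsFiniteType (R := Y.ringCatSheaf) G := by
  haveI := Groth.Agent.Lib.helper16.QCohPullback.isQuasicoherent_pullback u G
  haveI := Groth.Agent.Lib.helper16.QCohPullback.isQuasicoherent_pullback f G
  refine isFiniteType_of_finite_sections G (fun V : Y.affineOpens => V.1) (fun V => V.2)
    (iSup_affineOpens_eq_top Y) (fun V => ?_)
  obtain ⟨V, hV⟩ := V
  letI := (u.app V).hom.toAlgebra
  letI := (f.app V).hom.toAlgebra
  have hp := isPinch f u hM hV
  obtain ⟨e₁⟩ := nonempty_sections_pullback_equiv G u hV (hV.preimage u)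
  obtain ⟨e₂⟩ := nonempty_sections_pullback_equiv G f hV (hV.preimage f)
  haveI := finite_sections_of_isFiniteType _ h1 (hV.preimage u)
  haveI := finite_sections_of_isFiniteType _ h2 (hV.preimage f)
  haveI : Module.Finite Γ(Y', u ⁻¹ᵁ V) (Γ(Y', u ⁻¹ᵁ V) ⊗[Γ(Y, V)] Γ(G, V)) := Module.Finite.equiv e₁
  haveI : Module.Finite Γ(X, f ⁻¹ᵁ V) (Γ(X, f ⁻¹ᵁ V) ⊗[Γ(Y, V)] Γ(G, V)) := Module.Finite.equiv e₂
  exact finite_of_pinch hp Γ(G, V)

end Pinch2

section Pinch3

open Scheme.Modules Groth.Agent.Lib.helper16.CohFinite Groth.Agent.Lib.helper16.CohFP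
  Groth.Agent.Lib.helper8.FlatSections

variable {X Y Y' : Scheme.{u}} (f : X ⟶ Y) (u : Y' ⟶ Y) [IsAffineHom f] [IsClosedImmersion u]
  (hM : ∀ V ∈ Y.affineOpens,
      RingHom.ker (f.app V).hom ⊓ RingHom.ker (u.app V).hom = ⊥ ∧
      ∀ a ∈ Ideal.map (f.app V).hom (RingHom.ker (u.app V).hom),
        ∃ i ∈ RingHom.ker (u.app V).hom, (f.app V).hom i = a)
  (G : Y.Modules) [G.IsQuasicoherent]

omit [IsAffineHom f] [IsClosedImmersion u] in
/-- the pullback of a flat quasi-coherent module is flat -/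
theorem isFlat_pullback {Z : Scheme.{u}} (g : Z ⟶ Y) (hG : FlatMod.IsFlat G) :
    FlatMod.IsFlat ((pullback g).obj G) := by
  haveI := Groth.Agent.Lib.helper16.QCohPullback.isQuasicoherent_pullback g G
  intro z
  obtain ⟨V, hV, hzV, -⟩ := Opens.isBasis_iff_nbhd.mp Y.isBasis_affineOpens
    (show g z ∈ (⊤ : Y.Opens) from trivial)
  obtain ⟨V', hV', hzV', hle⟩ := Opens.isBasis_iff_nbhd.mp Z.isBasis_affineOpens
    (show z ∈ g ⁻¹ᵁ V from hzV)
  letI := (g.appLE V V' hle).hom.toAlgebra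
  haveI : Module.Flat Γ(Y, V) Γ(G, V) := (isFlat_iff_flat_sections G).mp hG V hV
  haveI : Module.Flat Γ(Z, V') Γ((pullback g).obj G, V') :=
    Module.Flat.of_linearEquiv
      (Groth.Agent.Lib.helper16.QCohPullback.pullbackSectionsEquiv g G hV hV' hle)
  exact flat_stalk_of_flat_sections _ hV' z hzV'

include hM in
/-- **Pinching: flatness descends.** -/
theorem isFlat_of_pullback_pair (h1 : FlatMod.IsFlat ((pullback u).obj G))
    (h2 : FlatMod.IsFlat ((pullback f).obj G)) : FlatMod.IsFlat G := by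
  haveI := Groth.Agent.Lib.helper16.QCohPullback.isQuasicoherent_pullback u G
  haveI := Groth.Agent.Lib.helper16.QCohPullback.isQuasicoherent_pullback f G
  rw [isFlat_iff_flat_sections]
  intro V hV
  letI := (u.app V).hom.toAlgebra
  letI := (f.app V).hom.toAlgebra
  have hp := isPinch f u hM hV
  obtain ⟨e₁⟩ := nonempty_sections_pullback_equiv G u hV (hV.preimage u)
  obtain ⟨e₂⟩ := nonempty_sections_pullback_equiv G f hV (hV.preimage f)
  haveI := (isFlat_iff_flat_sections _).mp h1 _ (hV.preimage u)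
  haveI := (isFlat_iff_flat_sections _).mp h2 _ (hV.preimage f)
  haveI : Module.Flat Γ(Y', u ⁻¹ᵁ V) (Γ(Y', u ⁻¹ᵁ V) ⊗[Γ(Y, V)] Γ(G, V)) :=
    Module.Flat.of_linearEquiv e₁.symm
  haveI : Module.Flat Γ(X, f ⁻¹ᵁ V) (Γ(X, f ⁻¹ᵁ V) ⊗[Γ(Y, V)] Γ(G, V)) :=
    Module.Flat.of_linearEquiv e₂.symm
  exact flat_of_pinch hp Γ(G, V)

include hM in
/-- **Pinching: finite presentation descends for flat modules.** -/
theorem isFinitePresentation_of_pullback_pair (hG : FlatMod.IsFlat G)
    (h1 : CohB1.IsFP ((pullback u).obj G)) (h2 : CohB1.IsFP ((pullback f).obj G)) :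
    CohB1.IsFP G := by
  refine isFinitePresentation_of_fp_sections G (fun V : Y.affineOpens => V.1) (fun V => V.2)
    (iSup_affineOpens_eq_top Y) (fun V => ?_)
  obtain ⟨V, hV⟩ := V
  letI := (u.app V).hom.toAlgebra
  letI := (f.app V).hom.toAlgebra
  have hp := isPinch f u hM hV
  obtain ⟨e₁⟩ := nonempty_sections_pullback_equiv G u hV (hV.preimage u)
  obtain ⟨e₂⟩ := nonempty_sections_pullback_equiv G f hV (hV.preimage f)
  haveI := fp_sections_of_isFinitePresentation _ h1 (hV.preimage u)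
  haveI := fp_sections_of_isFinitePresentation _ h2 (hV.preimage f)
  haveI : Module.FinitePresentation Γ(Y', u ⁻¹ᵁ V) (Γ(Y', u ⁻¹ᵁ V) ⊗[Γ(Y, V)] Γ(G, V)) :=
    Module.FinitePresentation.of_equiv e₁
  haveI : Module.FinitePresentation Γ(X, f ⁻¹ᵁ V) (Γ(X, f ⁻¹ᵁ V) ⊗[Γ(Y, V)] Γ(G, V)) :=
    Module.FinitePresentation.of_equiv e₂
  haveI : Module.Flat Γ(Y, V) Γ(G, V) := (isFlat_iff_flat_sections G).mp hG V hV
  exact finitePresentation_of_pinch hp Γ(G, V)

include hM in
/-- **Pinching: finite locally free descends.** -/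
theorem isFinLocFree_of_pullback_pair (h1 : FlatMod.IsFinLocFree ((pullback u).obj G))
    (h2 : FlatMod.IsFinLocFree ((pullback f).obj G)) : FlatMod.IsFinLocFree G := by
  haveI := Groth.Agent.Lib.helper16.QCohPullback.isQuasicoherent_pullback u G
  haveI := Groth.Agent.Lib.helper16.QCohPullback.isQuasicoherent_pullback f G
  have a1 := (Groth.Agent.Lib.helper16.FLF.isFinLocFree_iff_flat_fp _).mpr h1
  have a2 := (Groth.Agent.Lib.helper16.FLF.isFinLocFree_iff_flat_fp _).mpr h2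
  have hfl := isFlat_of_pullback_pair f u hM G a1.1 a2.1
  exact (Groth.Agent.Lib.helper16.FLF.isFinLocFree_iff_flat_fp G).mp
    ⟨hfl, isFinitePresentation_of_pullback_pair f u hM G hfl a1.2 a2.2⟩

end Pinch3

end Groth.Agent.Lib.helper8.PinchMod
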