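import Mathlib
import Groth.Agent.Lib.Helper8.ClosedImmUnit
import Groth.Agent.Lib.Helper28.QCohSupport
import Groth.Agent.Lib.Helper16.CohFinite

/-!
# Scheme-theoretic support of a quasi-coherent module of finite type (helper8)

* `annihilator_map_of_isLocalizedModule`: `Ann` of a finite module commutes with localization
* `annIdeal F hft : X.IdealSheafData`, `annIdeal_ideal`, `annIdeal_support`
* `isIso_unit_annIdeal`, `le_annIdeal_of_isIso_unit`
-/

set_option autoImplicit false
universe u
open CategoryTheory AlgebraicGeometry TopologicalSpace Opposite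

namespace Groth.Agent.Lib.helper8.SchemeSupport

section Algebra

variable {R : Type*} [CommRing R] (f : R) {R' : Type*} [CommRing R'] [Algebra R R']
  [IsLocalization.Away f R'] {M M' : Type*} [AddCommGroup M] [Module R M] [AddCommGroup M']
  [Module R M'] [Module R' M'] [IsScalarTower R R' M'] (g : M →ₗ[R] M')
  [IsLocalizedModule (Submonoid.powers f) g]

include f g in
/-- the annihilator of a finite module commutes with localization away from an element -/
theorem annihilator_map_of_isLocalizedModule [Module.Finite R M] :
    (Module.annihilator R M).map (algebraMap R R') = Module.annihilator R' M' := by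
  apply le_antisymm
  · rw [Ideal.map_le_iff_le_comap]
    intro a ha
    rw [Ideal.mem_comap, Module.mem_annihilator]
    intro m'
    obtain ⟨⟨m, s⟩, hs⟩ := IsLocalizedModule.surj (Submonoid.powers f) g m'
    have hs' : (s : R) • m' = g m := hs
    have h1 : (s : R) • (algebraMap R R' a • m') = 0 := by
      rw [smul_comm, hs', algebraMap_smul, ← map_smul, Module.mem_annihilator.mp ha m, map_zero]
    have h2 := IsLocalizedModule.smul_injective g s
    exact h2 (h1.trans (smul_zero _).symm)
  · intro x hx
    obtain ⟨⟨a, s⟩, hs⟩ := IsLocalization.surj (Submonoid.powers f) x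
    have hxa : algebraMap R R' a ∈ Module.annihilator R' M' := by
      rw [← hs]
      exact Ideal.mul_mem_right _ _ hx
    -- for each `m`, some power of `f` times `a` kills `m`
    have hm : ∀ m : M, ∃ n : ℕ, (f ^ n * a) • m = 0 := by
      intro m
      have h0 : g (a • m) = 0 := by
        rw [map_smul, ← algebraMap_smul R', Module.mem_annihilator.mp hxa]
      have h0' : g (a • m) = g 0 := by rw [h0, map_zero]
      obtain ⟨⟨_, n, rfl⟩, hc⟩ := (IsLocalizedModule.eq_iff_exists (Submonoid.powers f) g).mp h0'
      refine ⟨n, ?_⟩
      rw [mul_smul]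
      have hc' : f ^ n • a • m = f ^ n • (0 : M) := hc
      rw [hc', smul_zero]
    choose n hn using hm
    obtain ⟨t, ht⟩ := (Module.Finite.fg_top : (⊤ : Submodule R M).FG)
    set K := t.sup n with hK
    have hkill : (f ^ K * a) ∈ Module.annihilator R M := by
      rw [Module.mem_annihilator]
      intro m
      have hmem : m ∈ Submodule.span R (t : Set M) := by rw [ht]; trivial
      induction hmem using Submodule.span_induction with
      | mem y hy =>
        have hle : n y ≤ K := Finset.le_sup hy
        have : f ^ K * a = f ^ (K - n y) * (f ^ n y * a) := by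
          rw [← mul_assoc, ← pow_add, Nat.sub_add_cancel hle]
        rw [this, mul_smul, hn y, smul_zero]
      | zero => exact smul_zero _
      | add y z _ _ hy hz => rw [smul_add, hy, hz, add_zero]
      | smul r y _ hy => rw [smul_comm, hy, smul_zero]
    have hunit : IsUnit (algebraMap R R' ((s : R) * f ^ K)) := by
      rw [map_mul]
      exact (IsLocalization.map_units R' s).mul
        (IsLocalization.map_units R' (⟨f ^ K, K, rfl⟩ : Submonoid.powers f))
    have hmem : x * algebraMap R R' ((s : R) * f ^ K) ∈
        (Module.annihilator R M).map (algebraMap R R') := by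
      have : x * algebraMap R R' ((s : R) * f ^ K) = algebraMap R R' (f ^ K * a) := by
        rw [map_mul, ← mul_assoc, hs, ← map_mul, mul_comm]
      rw [this]
      exact Ideal.mem_map_of_mem _ hkill
    obtain ⟨v, hv⟩ := hunit
    have := Ideal.mul_mem_right (↑v⁻¹ : R') _ hmem
    rwa [← hv, mul_assoc, Units.mul_inv, mul_one] at this

end Algebra

section AnnIdeal

open Scheme.Modules Groth.Agent.Lib.helper16.CohFinite

variable {X : Scheme.{u}} (F : X.Modules) [F.IsQuasicoherent]

/-- the annihilator ideal sheaf of a quasi-coherent module of finite type -/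
noncomputable def annIdeal (hft : SheafOfModules.IsFiniteType (R := X.ringCatSheaf) F) :
    X.IdealSheafData where
  ideal U := Module.annihilator Γ(X, U.1) Γ(F, U.1)
  map_ideal_basicOpen U f := by
    show (Module.annihilator Γ(X, U.1) Γ(F, U.1)).map
      (X.presheaf.map (homOfLE (X.basicOpen_le f)).op).hom =
        Module.annihilator Γ(X, X.basicOpen f) Γ(F, X.basicOpen f)
    letI := algOfLE (X := X) (X.basicOpen_le f)
    letI := modOfLE F (X.basicOpen_le f)
    haveI := isScalarTower_ofLE F (X.basicOpen_le f)
    haveI : IsLocalization.Away f Γ(X, X.basicOpen f) := U.2.isLocalization_basicOpen f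
    haveI := isLocalizedModule_of_eq_basicOpen F U.2 f (X.basicOpen_le f) rfl
    haveI : Module.Finite Γ(X, U.1) Γ(F, U.1) := finite_sections_of_isFiniteType F hft U.2
    exact annihilator_map_of_isLocalizedModule f (resLin F (X.basicOpen_le f))

variable (hft : SheafOfModules.IsFiniteType (R := X.ringCatSheaf) F)

theorem annIdeal_ideal (U : X.affineOpens) :
    (annIdeal F hft).ideal U = Module.annihilator Γ(X, U.1) Γ(F, U.1) := rfl

theorem annIdeal_support : ((annIdeal F hft).support : Set X) = {x | ¬ Subsingleton (ToType (F.presheaf.stalk x))} := by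
  ext x
  obtain ⟨U, hU, hxU, -⟩ := Opens.isBasis_iff_nbhd.mp X.isBasis_affineOpens
    (show x ∈ (⊤ : X.Opens) from trivial)
  haveI : Module.Finite Γ(X, U) Γ(F, U) := finite_sections_of_isFiniteType F hft hU
  rw [SetLike.mem_coe, Scheme.IdealSheafData.mem_support_iff_of_mem (U := ⟨U, hU⟩) hxU,
    Set.mem_ofPred_eq, ← Groth.Agent.Lib.helper28.primeIdealOf_mem_support_iff F hU x hxU,
    Module.mem_support_iff_of_finite, annIdeal_ideal, Scheme.mem_zeroLocus_iff]
  constructor
  · intro H a ha
    by_contra hn
    exact H a ha ((Groth.Agent.Lib.helper28.mem_basicOpen_iff hU x hxU a).mpr hn)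
  · intro H a ha hxa
    exact (Groth.Agent.Lib.helper28.mem_basicOpen_iff hU x hxU a).mp hxa (H ha)

theorem isIso_unit_annIdeal :
    IsIso ((pullbackPushforwardAdjunction (annIdeal F hft).subschemeι).unit.app F) := by
  rw [Groth.Agent.Lib.helper8.ClosedImmUnit.isIso_unit_iff_of_isClosedImmersion]
  intro U a ha s
  rw [Scheme.IdealSheafData.ker_subschemeι] at ha
  exact Module.mem_annihilator.mp ha s

theorem le_annIdeal_of_isIso_unit (J' : X.IdealSheafData)
    (h : IsIso ((pullbackPushforwardAdjunction J'.subschemeι).unit.app F)) :
    J' ≤ annIdeal F hft := by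
  rw [Groth.Agent.Lib.helper8.ClosedImmUnit.isIso_unit_iff_of_isClosedImmersion] at h
  intro U a ha
  rw [annIdeal_ideal, Module.mem_annihilator]
  intro s
  refine h U a ?_ s
  rw [Scheme.IdealSheafData.ker_subschemeι]
  exact ha

end AnnIdeal

end Groth.Agent.Lib.helper8.SchemeSupport
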