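import Mathlib
import Groth.Agent.Lib.Helper8.ClosedImmUnit
import Groth.Agent.Lib.Helper8.SchemeSupport
import Groth.Agent.Lib.Helper7.CohKer
import Groth.Agent.Lib.Helper16.QCohAffinePush
import Groth.Agent.S2542
import Groth.Agent.S0046
import Groth.Agent.Lib.Helper8.PinchMod

set_option autoImplicit false
universe u
open CategoryTheory CategoryTheory.Limits AlgebraicGeometry TopologicalSpace Opposite

namespace Groth.Agent.Lib.helper8.Dev

open Groth.Agent.Lib.helper8.PullbackUnit Scheme.Modules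

section Algebra

/-- a finitely generated module whose annihilator is a prime ideal `p` contains an element with
annihilator `p` -/
theorem exists_forall_smul_eq_zero_iff_mem {R : Type*} [CommRing R] {M : Type*} [AddCommGroup M]
    [Module R M] [Module.Finite R M] (p : Ideal R) [hp : p.IsPrime]
    (h : Module.annihilator R M = p) : ∃ s : M, ∀ r : R, r • s = 0 ↔ r ∈ p := by
  classical
  obtain ⟨t, ht⟩ := (Module.Finite.fg_top : (⊤ : Submodule R M).FG)
  have hle : (t.inf fun m => (Submodule.span R {m}).annihilator) ≤ p := by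
    intro r hr
    rw [← h, Module.mem_annihilator]
    intro m
    have hm : m ∈ Submodule.span R (t : Set M) := by rw [ht]; trivial
    induction hm using Submodule.span_induction with
    | mem x hx =>
      have h1 : r ∈ (Submodule.span R {x}).annihilator :=
        (Finset.inf_le (f := fun m => (Submodule.span R {m}).annihilator) hx) hr
      exact (Submodule.mem_annihilator_span_singleton x r).mp h1
    | zero => exact smul_zero r
    | add x y _ _ hx hy => rw [smul_add, hx, hy, add_zero]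
    | smul a x _ hx => rw [smul_comm, hx, smul_zero]
  obtain ⟨s, -, hs⟩ := (Ideal.IsPrime.inf_le' hp).mp hle
  refine ⟨s, fun r => ⟨fun hr => hs ((Submodule.mem_annihilator_span_singleton s r).mpr hr),
    fun hr => ?_⟩⟩
  rw [← h] at hr
  exact Module.mem_annihilator.mp hr s

variable {R R' : Type u} [CommRing R] [CommRing R'] {φ : R →+* R'} {N P : Type u}
    [AddCommGroup N] [Module R N] [AddCommGroup P] [Module R' P] {k : N →+ P}

/-- the kernel of a base change along a surjective ring homomorphism `φ` is `ker φ • N` -/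
theorem IsBC.eq_zero_iff_of_surjective (hk : IsBC φ k) (hφ : Function.Surjective φ) (n : N) :
    k n = 0 ↔ n ∈ (RingHom.ker φ) • (⊤ : Submodule R N) := by
  constructor
  · intro hn
    let I := RingHom.ker φ
    let Q := N ⧸ (I • (⊤ : Submodule R N))
    -- `Q` is an `R'`-module
    let σ : R' → R := Function.surjInv hφ
    have hσ : ∀ r', φ (σ r') = r' := Function.surjInv_eq hφ
    have key : ∀ r₁ r₂ : R, φ r₁ = φ r₂ → ∀ q : Q, r₁ • q = r₂ • q := by
      intro r₁ r₂ h q
      obtain ⟨n, rfl⟩ := Submodule.Quotient.mk_surjective _ q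
      rw [← Submodule.Quotient.mk_smul, ← Submodule.Quotient.mk_smul, Submodule.Quotient.eq,
        ← sub_smul]
      exact Submodule.smul_mem_smul (by rw [RingHom.mem_ker, map_sub, h, sub_self]) trivial
    letI : Module R' Q :=
      { smul := fun r' n => σ r' • n
        one_smul := fun n => (key (σ 1) 1 (by rw [hσ, map_one]) n).trans (one_smul _ _)
        mul_smul := fun a b n =>
          (key (σ (a * b)) (σ a * σ b) (by rw [map_mul, hσ, hσ, hσ]) n).trans (mul_smul _ _ _)
        smul_zero := fun a => (smul_zero (σ a) : σ a • (0 : Q) = 0)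
        smul_add := fun a x y => (smul_add (σ a) x y : σ a • (x + y) = σ a • x + σ a • y)
        add_smul := fun a b n =>
          (key (σ (a + b)) (σ a + σ b) (by rw [map_add, hσ, hσ, hσ]) n).trans (add_smul _ _ _)
        zero_smul := fun n => (key (σ 0) 0 (by rw [hσ, map_zero]) n).trans (zero_smul _ _) }
    have hsm : ∀ (r : R) (q : Q), φ r • q = r • q := fun r q => key (σ (φ r)) r (hσ _) q
    let π : N →+ Q := (Submodule.mkQ (I • (⊤ : Submodule R N))).toAddMonoidHom
    obtain ⟨h', hh', -⟩ := hk.existsUnique_lift Q π (fun r n => by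
      show Submodule.Quotient.mk (r • n) = φ r • Submodule.Quotient.mk n
      rw [hsm]
      rfl)
    have h1 : π n = 0 := by rw [← hh' n, hn, map_zero]
    exact (Submodule.Quotient.mk_eq_zero _).mp h1
  · intro hn
    refine Submodule.smul_induction_on hn (fun r hr n _ => ?_) (fun x y hx hy => ?_)
    · rw [hk.map_smul, (RingHom.mem_ker).mp hr, zero_smul]
    · rw [map_add, hx, hy, add_zero]

end Algebra

variable {X : Scheme.{u}}

section Sections

/-- left exactness of sections -/
theorem exists_app_eq_of_exact {F G H : X.Modules} (f : F ⟶ G) (g : G ⟶ H) [Mono f]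
    (w : f ≫ g = 0) (hex : (ShortComplex.mk f g w).Exact) (V : X.Opens) (m : Γ(G, V))
    (hm : (g.app V).hom m = 0) : ∃ m' : Γ(F, V), (f.app V).hom m' = m := by
  have h1 : ((ShortComplex.mk f g w).map (Groth.Agent.S2542.secF X V)).Exact :=
    hex.map_of_mono_of_preservesKernel (Groth.Agent.S2542.secF X V) (inferInstanceAs (Mono f))
      inferInstance
  rw [ShortComplex.ab_exact_iff] at h1
  exact h1 m hm

theorem exists_kernel_ι_app_eq_iff {F G : X.Modules} (φ : F ⟶ G) (V : X.Opens) (m : Γ(F, V)) :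
    (∃ m' : Γ(kernel φ, V), ((kernel.ι φ).app V).hom m' = m) ↔ (φ.app V).hom m = 0 := by
  constructor
  · rintro ⟨m', rfl⟩
    rw [← ConcreteCategory.comp_apply, ← Hom.comp_app, kernel.condition]
    rfl
  · intro hm
    exact exists_app_eq_of_exact (kernel.ι φ) φ (kernel.condition φ)
      (ShortComplex.exact_of_f_is_kernel _ (kernelIsKernel φ)) V m hm

end Sections

section IdealSub

variable (ℭ : X.IdealSheafData) (N : X.Modules)

/-- `ℭ N`, as the kernel of the unit `N ⟶ i_* i^* N` for `i` the closed immersion defined by `ℭ` -/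
noncomputable def idealSub : X.Modules :=
  kernel ((pullbackPushforwardAdjunction ℭ.subschemeι).unit.app N)

/-- the inclusion `ℭ N ⟶ N` -/
noncomputable def idealSubι : idealSub ℭ N ⟶ N := kernel.ι _

instance : Mono (idealSubι ℭ N) := inferInstanceAs (Mono (kernel.ι _))

instance isQuasicoherent_idealSub [N.IsQuasicoherent] : (idealSub ℭ N).IsQuasicoherent := by
  haveI : ((Scheme.Modules.pullback ℭ.subschemeι).obj N).IsQuasicoherent :=
    Groth.Agent.Lib.helper16.QCohPullback.isQuasicoherent_pullback ℭ.subschemeι N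
  haveI : ((pushforward ℭ.subschemeι).obj
      ((Scheme.Modules.pullback ℭ.subschemeι).obj N)).IsQuasicoherent :=
    Groth.Agent.Lib.helper16.QCohAffinePush.isQuasicoherent_push ℭ.subschemeι _
  exact Groth.Agent.Lib.helper7.CohKer.isQuasicoherent_kernel
    (F := N) (G := (pushforward ℭ.subschemeι).obj ((Scheme.Modules.pullback ℭ.subschemeι).obj N))
    ((pullbackPushforwardAdjunction ℭ.subschemeι).unit.app N)

theorem exists_idealSubι_app_eq_iff [N.IsQuasicoherent] {U : X.Opens} (hU : IsAffineOpen U)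
    (t : Γ(N, U)) :
    (∃ t' : Γ(idealSub ℭ N, U), ((idealSubι ℭ N).app U).hom t' = t) ↔
      t ∈ ℭ.ideal ⟨U, hU⟩ • (⊤ : Submodule Γ(X, U) Γ(N, U)) := by
  unfold idealSubι idealSub
  rw [exists_kernel_ι_app_eq_iff]
  have hV : IsAffineOpen (ℭ.subschemeι ⁻¹ᵁ U) := hU.preimage ℭ.subschemeι
  have hbc := isBC_ρ ℭ.subschemeι hU hV le_rfl N
  have hsurj : Function.Surjective (ℭ.subschemeι.appLE U (ℭ.subschemeι ⁻¹ᵁ U) le_rfl).hom := by
    rw [Scheme.Hom.appLE_eq_app]
    exact ℭ.subschemeι_app_surjective ⟨U, hU⟩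
  have h1 := IsBC.eq_zero_iff_of_surjective hbc hsurj t
  rw [Groth.Agent.Lib.helper8.ClosedImmUnit.ρ_self_apply] at h1
  have h2 : RingHom.ker (ℭ.subschemeι.appLE U (ℭ.subschemeι ⁻¹ᵁ U) le_rfl).hom =
      ℭ.ideal ⟨U, hU⟩ := by
    rw [Scheme.Hom.appLE_eq_app]
    exact ℭ.ker_subschemeι_app ⟨U, hU⟩
  rw [h2] at h1
  exact h1

end IdealSub
/-- ideal sheaves on a Noetherian scheme satisfy the ascending chain condition -/
instance wellFoundedGT_idealSheafData [IsNoetherian X] : WellFoundedGT X.IdealSheafData := by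
  classical
  have hcover : (Set.univ : Set X) ⊆ ⋃ U : X.affineOpens, (U.1 : Set X) := by
    intro x _
    have : x ∈ (⨆ U : X.affineOpens, (U.1 : X.Opens)) := by
      rw [iSup_affineOpens_eq_top]; trivial
    obtain ⟨U, hU⟩ := Opens.mem_iSup.1 this
    exact Set.mem_iUnion.2 ⟨U, hU⟩
  obtain ⟨t, ht⟩ := isCompact_univ.elim_finite_subcover
    (fun U : X.affineOpens => (U.1 : Set X)) (fun U => U.1.2) hcover
  have hsup : ⨆ i : t, (i.1 : X.affineOpens).1 = ⊤ := by
    rw [eq_top_iff]
    intro x _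
    obtain ⟨U, hU, hx⟩ := Set.mem_iUnion₂.mp (ht (Set.mem_univ x))
    exact Opens.mem_iSup.mpr ⟨⟨U, hU⟩, hx⟩
  haveI : ∀ i : t, WellFoundedGT (Ideal Γ(X, i.1.1)) := fun i => by
    haveI : IsNoetherianRing Γ(X, i.1.1) := IsLocallyNoetherian.component_noetherian i.1
    infer_instance
  let Φ : X.IdealSheafDataᵒᵈ → (∀ i : t, (Ideal Γ(X, i.1.1))ᵒᵈ) :=
    fun I i => OrderDual.toDual ((OrderDual.ofDual I).ideal i.1)
  have hΦ : StrictMono Φ := by
    intro I J hIJ
    have hle : OrderDual.ofDual J ≤ OrderDual.ofDual I := le_of_lt hIJ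
    have h1 : Φ I ≤ Φ J := fun i => hle i.1
    refine lt_of_le_of_ne h1 (fun heq => ?_)
    have h2 : OrderDual.ofDual I = OrderDual.ofDual J :=
      Scheme.IdealSheafData.ext_of_iSup_eq_top (fun i : t => i.1) hsup
        (fun i => congrArg OrderDual.ofDual (congrFun heq i))
    exact (ne_of_lt hIJ) (congrArg OrderDual.toDual h2)
  have : WellFoundedLT X.IdealSheafDataᵒᵈ := hΦ.wellFoundedLT
  exact (wellFoundedLT_dual_iff X.IdealSheafData).mp this


section AnnI

open Groth.Agent.Lib.helper8.SchemeSupport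

/-- the annihilator ideal sheaf of a coherent module -/
noncomputable def annI (N : X.Modules) (hN : Coh.IsCoh N) : X.IdealSheafData :=
  @annIdeal X N hN.1 hN.2

theorem mem_annI_iff (N : X.Modules) (hN : Coh.IsCoh N) (U : X.affineOpens) (a : Γ(X, U.1)) :
    a ∈ (annI N hN).ideal U ↔ ∀ t : Γ(N, U.1), a • t = 0 := by
  show a ∈ Module.annihilator Γ(X, U.1) Γ(N, U.1) ↔ _
  exact Module.mem_annihilator

theorem annI_le_of_mono {N' N : X.Modules} (ι' : N' ⟶ N) [Mono ι'] (hN' : Coh.IsCoh N')
    (hN : Coh.IsCoh N) : annI N hN ≤ annI N' hN' := by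
  intro U a ha
  rw [mem_annI_iff] at ha ⊢
  intro t
  apply Groth.Agent.S2542.injective_app_of_mono ι' U.1
  rw [map_zero]
  have h1 : (ι'.app U.1).hom (a • t) = a • (ι'.app U.1).hom t := Hom.app_smul ι' a t
  rw [h1, ha]

theorem isIso_unit_annI (N : X.Modules) (hN : Coh.IsCoh N) :
    IsIso ((pullbackPushforwardAdjunction (annI N hN).subschemeι).unit.app N) :=
  @isIso_unit_annIdeal X N hN.1 hN.2

variable [IsNoetherian X]

/-- among the nonzero coherent submodules of a nonzero coherent module there is one whose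
annihilator is maximal -/
theorem exists_maximal_annI (G : X.Modules) (hG : Coh.IsCoh G) (hG0 : ¬ IsZero G) :
    ∃ (N : X.Modules) (ι : N ⟶ G) (_ : Mono ι) (hN : Coh.IsCoh N), ¬ IsZero N ∧
      ∀ (N' : X.Modules) (ι' : N' ⟶ N) (_ : Mono ι') (hN' : Coh.IsCoh N'), ¬ IsZero N' →
        annI N' hN' = annI N hN := by
  let S : Set X.IdealSheafData := {𝔞 | ∃ (N : X.Modules) (ι : N ⟶ G) (_ : Mono ι)
    (hN : Coh.IsCoh N), ¬ IsZero N ∧ 𝔞 = annI N hN}
  have hne : S.Nonempty := ⟨annI G hG, G, 𝟙 G, inferInstance, hG, hG0, rfl⟩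
  obtain ⟨𝔞, ⟨N, ι, hι, hN, hN0, rfl⟩, hmax⟩ := wellFounded_gt.has_min S hne
  refine ⟨N, ι, hι, hN, hN0, fun N' ι' hι' hN' hN'0 => ?_⟩
  have hmem : annI N' hN' ∈ S := ⟨N', ι' ≫ ι, mono_comp ι' ι, hN', hN'0, rfl⟩
  have hle : annI N hN ≤ annI N' hN' := annI_le_of_mono ι' hN' hN
  by_contra hneq
  exact hmax _ hmem (lt_of_le_of_ne hle (fun h => hneq h.symm))

omit [AlgebraicGeometry.IsNoetherian X] in
/-- **primality** of a maximal annihilator -/
theorem le_annI_or_le_annI_of_mul_le [IsLocallyNoetherian X] (N : X.Modules) (hN : Coh.IsCoh N)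
    (hmax : ∀ (N' : X.Modules) (ι' : N' ⟶ N) (_ : Mono ι') (hN' : Coh.IsCoh N'), ¬ IsZero N' →
        annI N' hN' = annI N hN)
    (𝔅 ℭ : X.IdealSheafData) (h : 𝔅 * ℭ ≤ annI N hN) :
    𝔅 ≤ annI N hN ∨ ℭ ≤ annI N hN := by
  haveI : N.IsQuasicoherent := hN.1
  have hK : Coh.IsCoh (idealSub ℭ N) :=
    Groth.Agent.S0046.result X N (idealSub ℭ N) (idealSubι ℭ N) hN (isQuasicoherent_idealSub ℭ N)
  have key : ∀ (U : X.affineOpens) (b : Γ(X, U.1)), b ∈ 𝔅.ideal U →
      ∀ x ∈ ℭ.ideal U • (⊤ : Submodule Γ(X, U.1) Γ(N, U.1)), b • x = 0 := by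
    intro U b hb x hx
    refine Submodule.smul_induction_on hx (fun c hc n _ => ?_) (fun x y hx hy => ?_)
    · rw [← mul_smul]
      have h1 : b * c ∈ (annI N hN).ideal U := h U (Ideal.mul_mem_mul hb hc)
      exact (mem_annI_iff N hN U _).mp h1 n
    · rw [smul_add, hx, hy, add_zero]
  by_cases hK0 : IsZero (idealSub ℭ N)
  · right
    intro U c hc
    rw [mem_annI_iff]
    intro t
    have h1 : c • t ∈ ℭ.ideal U • (⊤ : Submodule Γ(X, U.1) Γ(N, U.1)) :=
      Submodule.smul_mem_smul hc trivial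
    obtain ⟨t', ht'⟩ := (exists_idealSubι_app_eq_iff ℭ N U.2 (c • t)).mpr h1
    haveI := Groth.Agent.Lib.helper8.PinchMod.subsingleton_sections_of_isZero hK0 U.1
    rw [← ht', Subsingleton.elim t' 0, map_zero]
  · left
    have heq := hmax (idealSub ℭ N) (idealSubι ℭ N) inferInstance hK hK0
    intro U b hb
    rw [← heq, mem_annI_iff]
    intro t'
    apply Groth.Agent.S2542.injective_app_of_mono (idealSubι ℭ N) U.1
    rw [map_zero]
    have h1 : ((idealSubι ℭ N).app U.1).hom (b • t') = b • ((idealSubι ℭ N).app U.1).hom t' :=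
      Hom.app_smul (idealSubι ℭ N) b t'
    rw [h1]
    exact key U b hb _ ((exists_idealSubι_app_eq_iff ℭ N U.2 _).mp ⟨t', rfl⟩)

end AnnI

end Groth.Agent.Lib.helper8.Dev
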