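import Mathlib
import Groth.Prelude.Def_Coh
import Groth.Agent.Lib.Helper16.QCohEpi
import Groth.Agent.Lib.Helper7.QCohAffine
import Groth.Agent.Lib.Helper7.QCohPushQC
import Groth.Agent.Lib.Helper8.DevAnn

set_option autoImplicit false
universe u
open CategoryTheory CategoryTheory.Limits AlgebraicGeometry TopologicalSpace Opposite

namespace Groth.Agent.Lib.helper8.Dev

open Scheme.Modules

variable {Z : Scheme.{u}}

section SmulSec

variable (Q : Z.Modules) (q : Γ(Q, ⊤))

/-- the family of restrictions of a global section -/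
noncomputable def secOfTop : SheafOfModules.sections (R := Z.ringCatSheaf) Q :=
  PresheafOfModules.sectionsMk
    (fun W => (Q.presheaf.map (homOfLE (le_top : W.unop ≤ ⊤)).op q : Γ(Q, W.unop)))
    (fun W W' f => by
      show Q.presheaf.map f (Q.presheaf.map (homOfLE (le_top : W.unop ≤ ⊤)).op q) = _
      rw [← ConcreteCategory.comp_apply, ← Functor.map_comp]
      rfl)

/-- the morphism `O_Z ⟶ Q`, `r ↦ r • q|_W`, defined by a global section `q` of `Q` -/
noncomputable def smulSec : Coh.structureModule Z ⟶ Q :=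
  (SheafOfModules.unitHomEquiv (R := Z.ringCatSheaf) Q).symm (secOfTop Q q)

theorem smulSec_app (W : Z.Opens) (r : Γ(Z, W)) :
    (Hom.app (smulSec Q q) W).hom r =
      r • (Q.presheaf.map (homOfLE (le_top : W ≤ ⊤)).op q : Γ(Q, W)) :=
  rfl

end SmulSec

section Conductor

variable (H : Z.Modules) (V : Z.Opens)

/-- `j_* j^* H` for `j : V ⟶ Z` the inclusion of an open subscheme -/
noncomputable abbrev jj : Z.Modules := (pushforward V.ι).obj (H.restrict V.ι)

/-- the restriction morphism `H ⟶ j_* j^* H` -/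
noncomputable abbrev ηV : H ⟶ jj H V := (restrictAdjunction V.ι).unit.app H

theorem jj_smul (W : Z.Opens) (r : Γ(Z, W)) (x : Γ(jj H V, W)) :
    r • x = ((Z.presheaf.map (homOfLE (V.ι.image_preimage_le W)).op r :
      Γ(Z, V.ι ''ᵁ V.ι ⁻¹ᵁ W)) • (show Γ(H, V.ι ''ᵁ V.ι ⁻¹ᵁ W) from x) :
        Γ(H, V.ι ''ᵁ V.ι ⁻¹ᵁ W)) := by
  have h := V.ι.app_appIso_inv W
  have h2 : (V.ι.appIso (V.ι ⁻¹ᵁ W)).inv ((V.ι.app W) r) =
      Z.presheaf.map (homOfLE (V.ι.image_preimage_le W)).op r := by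
    exact congr($(h).hom r)
  rw [← h2]
  rfl

theorem jj_map {W W' : Z.Opens} (h : W' ≤ W) (x : Γ(jj H V, W)) :
    (jj H V).presheaf.map (homOfLE h).op x =
      H.presheaf.map (homOfLE (V.ι.image_mono (V.ι.preimage_mono h))).op
        (show Γ(H, V.ι ''ᵁ V.ι ⁻¹ᵁ W) from x) := rfl

theorem ηV_app (W : Z.Opens) (x : Γ(H, W)) :
    ((ηV H V).app W).hom x = H.presheaf.map (homOfLE (V.ι.image_preimage_le W)).op x := rfl

/-- a section of `H` over `V` as a global section of `j_* j^* H` -/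
noncomputable def qOf (s' : Γ(H, V)) : Γ(jj H V, ⊤) :=
  H.presheaf.map (homOfLE (V.ι_image_le (V.ι ⁻¹ᵁ ⊤))).op s'

/-- the morphism `O_Z ⟶ j_* j^* H`, `r ↦ r • s'` -/
noncomputable def aOf (s' : Γ(H, V)) : Coh.structureModule Z ⟶ jj H V :=
  smulSec (jj H V) (qOf H V s')

theorem aOf_app (s' : Γ(H, V)) (W : Z.Opens) (r : Γ(Z, W)) :
    (Hom.app (aOf H V s') W).hom r =
      ((Z.presheaf.map (homOfLE (V.ι.image_preimage_le W)).op r :
        Γ(Z, V.ι ''ᵁ V.ι ⁻¹ᵁ W)) •
        (H.presheaf.map (homOfLE (V.ι_image_le (V.ι ⁻¹ᵁ W))).op s' :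
          Γ(H, V.ι ''ᵁ V.ι ⁻¹ᵁ W)) : Γ(H, V.ι ''ᵁ V.ι ⁻¹ᵁ W)) := by
  unfold aOf
  rw [smulSec_app, jj_smul]
  congr 1
  unfold qOf
  rw [jj_map]
  exact Groth.Agent.Lib.helper7.map_map H _ _ s'

variable [IsIntegral Z] [H.IsQuasicoherent]

theorem mono_aOf (hV : IsAffineOpen V) (hVne : (V : Set Z).Nonempty) (s' : Γ(H, V))
    (hs' : ∀ r : Γ(Z, V), r • s' = 0 → r = 0) : Mono (aOf H V s') := by
  have hbasis : Opens.IsBasis (Set.univ : Set Z.Opens) := by
    rw [Opens.isBasis_iff_nbhd]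
    intro U x hx
    exact ⟨U, trivial, hx, le_rfl⟩
  refine Groth.Agent.Lib.helper16.QCohEpi.mono_of_injective_on_basis _ _ hbasis (fun W _ => ?_)
  rw [injective_iff_map_eq_zero]
  intro (r : Γ(Z, W)) hr
  have hr' := (aOf_app H V s' W r).symm.trans hr
  by_cases hW : (W : Set Z).Nonempty
  swap
  · have hbot : W = ⊥ := by
      ext x
      simp only [Opens.coe_bot, Set.mem_empty_iff_false, iff_false]
      exact fun hx => hW ⟨x, hx⟩
    subst hbot
    exact Subsingleton.elim (α := Γ(Z, (⊥ : Z.Opens))) _ _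
  obtain ⟨x, hxW, hxV⟩ := nonempty_preirreducible_inter W.2 V.2 hW hVne
  obtain ⟨f, hfW, hxf⟩ := hV.exists_basicOpen_le (V := W) ⟨x, hxW⟩ hxV
  have hDV : Z.basicOpen f ≤ V := Z.basicOpen_le f
  have hDW' : Z.basicOpen f ≤ V.ι ''ᵁ V.ι ⁻¹ᵁ W := by
    rw [Scheme.Hom.image_preimage_eq_opensRange_inf, Scheme.Opens.opensRange_ι]
    exact le_inf hDV hfW
  haveI : Nonempty V := ⟨⟨x, hxV⟩⟩
  haveI : Nonempty (Z.basicOpen f) := ⟨⟨x, hxf⟩⟩
  haveI : IsDomain Γ(Z, V) := IsIntegral.component_integral V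
  have hf0 : f ≠ 0 := by
    rintro rfl
    rw [Scheme.basicOpen_zero] at hxf
    exact hxf
  -- restrict to `D(f)`
  set rD : Γ(Z, Z.basicOpen f) := Z.presheaf.map (homOfLE hfW).op r with hrD
  set sD : Γ(H, Z.basicOpen f) := H.presheaf.map (homOfLE hDV).op s' with hsD
  have h3 : rD • sD = 0 := by
    have h4 := (congrArg (H.presheaf.map (homOfLE hDW').op).hom hr').trans
      (map_zero (H.presheaf.map (homOfLE hDW').op).hom)
    have h4' := (Scheme.Modules.map_smul H (homOfLE hDW') _ _).symm.trans h4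
    rw [Groth.Agent.Lib.helper7.map_map] at h4'
    have e1 : Z.presheaf.map (homOfLE hDW').op
        (Z.presheaf.map (homOfLE (V.ι.image_preimage_le W)).op r) = rD := by
      rw [← ConcreteCategory.comp_apply, ← Functor.map_comp]
      rfl
    rw [e1] at h4'
    exact h4'
  haveI := hV.isLocalization_basicOpen f
  obtain ⟨⟨b, ⟨_, n, rfl⟩⟩, hb⟩ := IsLocalization.surj (Submonoid.powers f) rD
  have hb' : rD * Z.presheaf.map (homOfLE hDV).op (f ^ n) = Z.presheaf.map (homOfLE hDV).op b := hb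
  have h5 : H.presheaf.map (homOfLE hDV).op (b • s') = 0 := by
    rw [Scheme.Modules.map_smul, ← hb', mul_comm, mul_smul, h3, smul_zero]
  obtain ⟨m, hm⟩ := Groth.Agent.Lib.helper7.exists_pow_smul_eq_zero_of_isAffineOpen hV H f
    (b • s') h5
  rw [← mul_smul] at hm
  have h6 := hs' _ hm
  have hb0 : b = 0 := by
    rcases mul_eq_zero.mp h6 with h7 | h7
    · exact absurd (pow_eq_zero_iff (M₀ := Γ(Z, V)) (fun h0 => by
        rw [h0, pow_zero] at h7; exact one_ne_zero h7) |>.mp h7) hf0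
    · exact h7
  rw [hb0, map_zero] at hb'
  have hu : IsUnit (Z.presheaf.map (homOfLE hDV).op (f ^ n)) := by
    rw [map_pow]
    exact (RingedSpace.isUnit_res_basicOpen Z.toRingedSpace f).pow n
  have hrD0 : rD = 0 := (hu.mul_left_eq_zero).mp hb'
  exact map_injective_of_isIntegral (X := Z) (homOfLE hfW) (hrD0.trans (map_zero _).symm)

/-- the structure sheaf is quasi-coherent -/
instance isQuasicoherent_structureModule (Y : Scheme.{u}) :
    (Coh.structureModule Y).IsQuasicoherent := by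
  refine Groth.Agent.Lib.helper7.CohKer.isQuasicoherent_of_affine _ (fun U hU => ?_)
  haveI : (SheafOfModules.unit (Spec Γ(Y, U)).ringCatSheaf).IsQuasicoherent :=
    inferInstanceAs ((tilde (ModuleCat.of Γ(Y, U) Γ(Y, U))).IsQuasicoherent)
  exact (SheafOfModules.isQuasicoherent (Spec Γ(Y, U)).ringCatSheaf).prop_of_iso
    (restrictUnitIso hU.fromSpec).symm this

/-- **the conductor**: on an integral scheme `Z`, for a quasi-coherent module `H` without sections
supported off the affine open `V` and a section `s'` of `H` over `V` with zero annihilator, there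
is a nonzero quasi-coherent ideal `I` of `O_Z` embedding into `H`. -/
theorem exists_ideal_mono (hV : IsAffineOpen V) (hVne : (V : Set Z).Nonempty) (s' : Γ(H, V))
    (hs' : ∀ r : Γ(Z, V), r • s' = 0 → r = 0) [QuasiCompact V.ι] [Mono (ηV H V)] :
    ∃ (I : Z.Modules) (ι : I ⟶ Coh.structureModule Z) (β : I ⟶ H),
      Mono ι ∧ I.IsQuasicoherent ∧ ¬ IsZero I ∧ Mono β := by
  haveI := mono_aOf H V hV hVne s' hs'
  haveI : (jj H V).IsQuasicoherent :=
    Groth.Agent.Lib.helper7.QCohPushQC.isQuasicoherent_pushforward V.ι (H.restrict V.ι)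
  haveI : (cokernel (ηV H V)).IsQuasicoherent :=
    Groth.Agent.Lib.helper7.CohKer.isQuasicoherent_cokernel (ηV H V)
  let g : Coh.structureModule Z ⟶ cokernel (ηV H V) := aOf H V s' ≫ cokernel.π (ηV H V)
  haveI hI : (kernel g).IsQuasicoherent :=
    Groth.Agent.Lib.helper7.CohKer.isQuasicoherent_kernel g
  have hlim := Abelian.monoIsKernelOfCokernel _ (colimit.isColimit (parallelPair (ηV H V) 0))
  have hw : (kernel.ι g ≫ aOf H V s') ≫ cokernel.π (ηV H V) = 0 := by
    rw [Category.assoc]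
    exact kernel.condition g
  let β : kernel g ⟶ H := hlim.lift (KernelFork.ofι (kernel.ι g ≫ aOf H V s') hw)
  have hβ : β ≫ ηV H V = kernel.ι g ≫ aOf H V s' :=
    hlim.fac (KernelFork.ofι (kernel.ι g ≫ aOf H V s') hw) WalkingParallelPair.zero
  refine ⟨kernel g, kernel.ι g, β, inferInstance, hI, ?_, ?_⟩
  · intro hzero
    haveI := Groth.Agent.Lib.helper8.PinchMod.subsingleton_sections_of_isZero hzero V
    have h1 : (g.app V).hom (1 : Γ(Z, V)) = 0 := by
      have e1 : (Hom.app (aOf H V s') V).hom (1 : Γ(Z, V)) = ((ηV H V).app V).hom s' := by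
        rw [aOf_app, ηV_app, map_one, one_smul]
      show ((cokernel.π (ηV H V)).app V).hom ((Hom.app (aOf H V s') V).hom (1 : Γ(Z, V))) = 0
      rw [e1, ← ConcreteCategory.comp_apply, ← Hom.comp_app, cokernel.condition]
      rfl
    obtain ⟨m', hm'⟩ := (exists_kernel_ι_app_eq_iff g V (1 : Γ(Z, V))).mpr h1
    rw [Subsingleton.elim m' 0, map_zero] at hm'
    haveI : Nonempty V := ⟨⟨hVne.some, hVne.some_mem⟩⟩
    haveI : IsDomain Γ(Z, V) := IsIntegral.component_integral V
    exact zero_ne_one (α := Γ(Z, V)) hm'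
  · haveI : Mono (β ≫ ηV H V) := by
      rw [hβ]
      exact mono_comp _ _
    exact mono_of_mono β (ηV H V)

end Conductor

end Groth.Agent.Lib.helper8.Dev
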