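import Mathlib

set_option autoImplicit false
universe u
open CategoryTheory CategoryTheory.Limits AlgebraicGeometry TopologicalSpace Opposite

namespace Groth.Agent.Lib.helper8.Dev

variable {X : Scheme.{u}}

section Prime

open Scheme.IdealSheafData

variable (𝔄 : X.IdealSheafData)
  (hprime : ∀ 𝔅 ℭ : X.IdealSheafData, 𝔅 * ℭ ≤ 𝔄 → 𝔅 ≤ 𝔄 ∨ ℭ ≤ 𝔄)

include hprime in
theorem le_of_pow_le (𝔅 : X.IdealSheafData) (n : ℕ) (h : 𝔅 ^ n ≤ 𝔄) : 𝔅 ≤ 𝔄 := by
  induction n with
  | zero =>
    rw [pow_zero] at h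
    exact le_trans le_top h
  | succ n ih =>
    rw [pow_succ] at h
    rcases hprime _ _ h with h1 | h1
    · exact ih h1
    · exact h1

theorem exists_radical_pow_le [IsNoetherian X] : ∃ n : ℕ, 𝔄.radical ^ n ≤ 𝔄 := by
  classical
  have hcover : (Set.univ : Set X) ⊆ ⋃ U : X.affineOpens, (U.1 : Set X) := by
    intro x _
    have : x ∈ (⨆ U : X.affineOpens, (U.1 : X.Opens)) := by
      rw [iSup_affineOpens_eq_top]; trivial
    obtain ⟨U, hU⟩ := Opens.mem_iSup.1 this
    exact Set.mem_iUnion.2 ⟨U, hU⟩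
  obtain ⟨t, ht⟩ := isCompact_univ.elim_finite_subcover
    (fun U : X.affineOpens => (U.1 : Set X)) (fun U => U.1.2) hcover
  have hsup : ⨆ i : t, (i.1 : X.affineOpens).1 = ⊤ := by
    rw [eq_top_iff]
    intro x _
    obtain ⟨U, hU, hx⟩ := Set.mem_iUnion₂.mp (ht (Set.mem_univ x))
    exact Opens.mem_iSup.mpr ⟨⟨U, hU⟩, hx⟩
  have hex : ∀ U : X.affineOpens, ∃ n : ℕ, (𝔄.ideal U).radical ^ n ≤ 𝔄.ideal U := by
    intro U
    haveI : IsNoetherianRing Γ(X, U.1) := IsLocallyNoetherian.component_noetherian U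
    exact Ideal.exists_radical_pow_le_of_fg _ (IsNoetherian.noetherian _)
  choose nU hnU using hex
  refine ⟨t.sup nU, ?_⟩
  refine le_of_iSup_eq_top (fun i : t => i.1) hsup (fun i => ?_)
  rw [ideal_pow]
  show (𝔄.radical.ideal i.1) ^ (t.sup nU) ≤ _
  rw [radical_ideal]
  exact (Ideal.pow_le_pow_right (Finset.le_sup i.2)).trans (hnU i.1)

include hprime in
theorem radical_le [IsNoetherian X] : 𝔄.radical ≤ 𝔄 := by
  obtain ⟨n, hn⟩ := exists_radical_pow_le 𝔄
  exact le_of_pow_le 𝔄 hprime _ n hn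

include hprime in
theorem isIrreducible_support [IsNoetherian X] (htop : 𝔄 ≠ ⊤) :
    IsIrreducible (𝔄.support : Set X) := by
  refine ⟨?_, ?_⟩
  · rw [Set.nonempty_iff_ne_empty]
    intro h
    apply htop
    rw [← support_eq_bot_iff]
    exact TopologicalSpace.Closeds.ext h
  · rw [isPreirreducible_iff_isClosed_union_isClosed]
    intro z₁ z₂ hz₁ hz₂ hsub
    let Z₁ : Closeds X := ⟨z₁, hz₁⟩
    let Z₂ : Closeds X := ⟨z₂, hz₂⟩
    have h1 : vanishingIdeal Z₁ * vanishingIdeal Z₂ ≤ 𝔄 := by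
      have ha : vanishingIdeal Z₁ * vanishingIdeal Z₂ ≤ vanishingIdeal Z₁ ⊓ vanishingIdeal Z₂ := by
        intro U
        rw [ideal_mul, ideal_inf]
        exact Ideal.mul_le_inf
      have hb : vanishingIdeal Z₁ ⊓ vanishingIdeal Z₂ = vanishingIdeal (Z₁ ⊔ Z₂) :=
        (vanishingIdeal_sup Z₁ Z₂).symm
      have hc : vanishingIdeal (Z₁ ⊔ Z₂) ≤ vanishingIdeal 𝔄.support :=
        vanishingIdeal_antimono (show 𝔄.support ≤ Z₁ ⊔ Z₂ from hsub)
      rw [vanishingIdeal_support] at hc
      exact ha.trans (hb.le.trans (hc.trans (radical_le 𝔄 hprime)))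
    rcases hprime _ _ h1 with h2 | h2
    · left
      have h3 := support_antitone h2
      have h4 : ((vanishingIdeal Z₁).support : Set X) = z₁ := coe_support_vanishingIdeal Z₁
      intro x hx
      have := h3 hx
      rw [← h4]
      exact this
    · right
      have h3 := support_antitone h2
      have h4 : ((vanishingIdeal Z₂).support : Set X) = z₂ := coe_support_vanishingIdeal Z₂
      intro x hx
      have := h3 hx
      rw [← h4]
      exact this

include hprime in
theorem isReduced_subscheme [IsNoetherian X] : IsReduced 𝔄.subscheme := by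
  haveI : ∀ U : X.affineOpens, _root_.IsReduced (Γ(X, U.1) ⧸ 𝔄.ideal U) := by
    intro U
    rw [← Ideal.isRadical_iff_quotient_reduced]
    have h1 : (𝔄.radical).ideal U ≤ 𝔄.ideal U := radical_le 𝔄 hprime U
    rw [radical_ideal] at h1
    exact h1
  haveI : ∀ U : 𝔄.subschemeCover.openCover.I₀, IsReduced (𝔄.subschemeCover.openCover.X U) := by
    intro U
    show IsReduced (Spec (.of (Γ(X, (U : X.affineOpens).1) ⧸ 𝔄.ideal U)))
    infer_instance
  exact IsReduced.of_openCover (X := 𝔄.subscheme) 𝔄.subschemeCover.openCover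

include hprime in
/-- a proper ideal sheaf on a Noetherian scheme which is prime (for products of ideal sheaves)
defines an integral closed subscheme -/
theorem isIntegral_subscheme [IsNoetherian X] (htop : 𝔄 ≠ ⊤) : IsIntegral 𝔄.subscheme := by
  haveI := isReduced_subscheme 𝔄 hprime
  have hirr := isIrreducible_support 𝔄 hprime htop
  haveI : IrreducibleSpace 𝔄.subscheme := by
    have hemb : Topology.IsEmbedding 𝔄.subschemeι := 𝔄.subschemeι.isEmbedding
    have hrange : Set.range 𝔄.subschemeι = (𝔄.support : Set X) := 𝔄.range_subschemeι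
    haveI : IrreducibleSpace (Set.range 𝔄.subschemeι) := by
      rw [hrange]
      exact Subtype.irreducibleSpace hirr
    exact (hemb.toHomeomorph.irreducibleSpace_iff).mpr inferInstance
  exact isIntegral_of_irreducibleSpace_of_isReduced 𝔄.subscheme

end Prime

end Groth.Agent.Lib.helper8.Dev
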