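import Mathlib
import Groth.Agent.Lib.Helper8.DevCond
import Groth.Agent.Lib.Helper8.DevPrime
import Groth.Agent.Lib.Helper16.CohFinite

set_option autoImplicit false
universe u
open CategoryTheory CategoryTheory.Limits AlgebraicGeometry TopologicalSpace Opposite

namespace Groth.Agent.Lib.helper8.Dev

open Groth.Agent.Lib.helper8.PullbackUnit Scheme.Modules

variable {X : Scheme.{u}}

section PushZero

variable {Z : Scheme.{u}} (i : Z ⟶ X) [IsClosedImmersion i]

/-- the direct image along a closed immersion reflects zero objects -/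
theorem isZero_of_isZero_push (T : Z.Modules) (h : IsZero ((pushforward i).obj T)) : IsZero T := by
  refine Groth.Agent.Lib.helper8.PinchMod.isZero_of_subsingleton_sections (fun W _ => ?_)
  obtain ⟨U, hU, hUW⟩ := i.isEmbedding.isInducing.isOpen_iff.mp W.2
  have hW : W = i ⁻¹ᵁ ⟨U, hU⟩ := by
    ext x
    exact (Set.ext_iff.mp hUW x).symm
  subst hW
  exact Groth.Agent.Lib.helper8.PinchMod.subsingleton_sections_of_isZero h ⟨U, hU⟩

end PushZero

section LemmaB

variable [IsNoetherian X]

/-- **Lemma B**: every nonzero coherent module on a Noetherian scheme contains the direct image of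
a nonzero quasi-coherent ideal of an integral closed subscheme. -/
theorem exists_integral_ideal_mono (G : X.Modules) (hG : Coh.IsCoh G) (hG0 : ¬ IsZero G) :
    ∃ (Z : Scheme.{u}) (i : Z ⟶ X), IsClosedImmersion i ∧ IsIntegral Z ∧
      ∃ (I : Z.Modules) (ι : I ⟶ Coh.structureModule Z) (γ : (Coh.push i).obj I ⟶ G),
        Mono ι ∧ Coh.IsQCoh I ∧ ¬ IsZero I ∧ Mono γ := by
  obtain ⟨N, ιN, hιN, hN, hN0, hmax⟩ := exists_maximal_annI G hG hG0
  haveI := hιN
  haveI : N.IsQuasicoherent := hN.1
  have hprime := le_annI_or_le_annI_of_mul_le N hN hmax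
  -- an affine open on which `N` is nonzero
  obtain ⟨U₀, hU₀, hU₀N⟩ : ∃ U₀ : X.Opens, IsAffineOpen U₀ ∧ ¬ Subsingleton Γ(N, U₀) := by
    by_contra hcon
    push Not at hcon
    exact hN0 (Groth.Agent.Lib.helper8.PinchMod.isZero_of_subsingleton_sections hcon)
  have hne : (annI N hN).ideal ⟨U₀, hU₀⟩ ≠ ⊤ := by
    intro htop
    apply hU₀N
    refine ⟨fun a b => ?_⟩
    have h1 : (1 : Γ(X, U₀)) ∈ (annI N hN).ideal ⟨U₀, hU₀⟩ := by rw [htop]; trivial
    have h2 := (mem_annI_iff N hN ⟨U₀, hU₀⟩ 1).mp h1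
    rw [← one_smul Γ(X, U₀) a, ← one_smul Γ(X, U₀) b, h2 a, h2 b]
  have htop : annI N hN ≠ ⊤ := by
    intro h
    apply hne
    rw [h]
    rfl
  haveI hint : IsIntegral (annI N hN).subscheme := isIntegral_subscheme (annI N hN) hprime htop
  generalize h𝔄 : annI N hN = 𝔄 at *
  let Z : Scheme.{u} := 𝔄.subscheme
  let i : Z ⟶ X := 𝔄.subschemeι
  haveI : IsLocallyNoetherian Z := LocallyOfFiniteType.isLocallyNoetherian i
  let H : Z.Modules := (Scheme.Modules.pullback i).obj N
  haveI : H.IsQuasicoherent :=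
    Groth.Agent.Lib.helper16.QCohPullback.isQuasicoherent_pullback i N
  let u : N ⟶ (pushforward i).obj H := (pullbackPushforwardAdjunction i).unit.app N
  haveI : IsIso u := by
    have := isIso_unit_annI N hN
    rw [h𝔄] at this
    exact this
  let V : Z.Opens := i ⁻¹ᵁ U₀
  have hV : IsAffineOpen V := hU₀.preimage i
  let φ : Γ(X, U₀) →+* Γ(Z, V) := (i.app U₀).hom
  have hφs : Function.Surjective φ := 𝔄.subschemeι_app_surjective ⟨U₀, hU₀⟩
  have hφk : RingHom.ker φ = 𝔄.ideal ⟨U₀, hU₀⟩ := 𝔄.ker_subschemeι_app ⟨U₀, hU₀⟩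
  have hVne : (V : Set Z).Nonempty := by
    by_contra hVe
    have hbot : V = ⊥ := by
      ext x
      simp only [Opens.coe_bot, Set.mem_empty_iff_false, iff_false]
      exact fun hx => hVe ⟨x, hx⟩
    haveI : Subsingleton Γ(Z, V) := by
      rw [hbot]
      infer_instance
    apply hne
    rw [← hφk, eq_top_iff]
    intro r _
    exact RingHom.mem_ker.mpr (Subsingleton.elim _ _)
  haveI : Nonempty V := ⟨⟨hVne.some, hVne.some_mem⟩⟩
  haveI : IsDomain Γ(Z, V) := IsIntegral.component_integral V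
  haveI hp : (𝔄.ideal ⟨U₀, hU₀⟩).IsPrime := by
    rw [← hφk]
    exact RingHom.ker_isPrime φ
  haveI : Module.Finite Γ(X, U₀) Γ(N, U₀) :=
    Groth.Agent.Lib.helper16.CohFinite.finite_sections_of_isCoh N hN hU₀
  have hann : Module.annihilator Γ(X, U₀) Γ(N, U₀) = 𝔄.ideal ⟨U₀, hU₀⟩ := by
    rw [← h𝔄]
    rfl
  obtain ⟨s, hs⟩ := exists_forall_smul_eq_zero_iff_mem (𝔄.ideal ⟨U₀, hU₀⟩) hann
  let s' : Γ(H, V) := (u.app U₀).hom s
  have hs' : ∀ b : Γ(Z, V), b • s' = 0 → b = 0 := by
    intro b hb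
    obtain ⟨r, rfl⟩ := hφs b
    have h1 : φ r • s' = (u.app U₀).hom (r • s) := by
      have h2 : (u.app U₀).hom (r • s) = r • (u.app U₀).hom s := Hom.app_smul u r s
      rw [h2]
      rfl
    rw [h1] at hb
    have h3 : r • s = 0 := by
      apply Groth.Agent.S2542.injective_app_of_mono u U₀
      rw [hb, map_zero]
      rfl
    have h4 := (hs r).mp h3
    rw [← hφk] at h4
    exact RingHom.mem_ker.mp h4
  -- `H` has no sections supported off `V`
  haveI hη : Mono (ηV H V) := by
    apply Preadditive.mono_of_isZero_kernel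
    by_contra hT0
    haveI : (jj H V).IsQuasicoherent :=
      Groth.Agent.Lib.helper7.QCohPushQC.isQuasicoherent_pushforward V.ι (H.restrict V.ι)
    haveI hTq : (kernel (ηV H V)).IsQuasicoherent :=
      Groth.Agent.Lib.helper7.CohKer.isQuasicoherent_kernel (ηV H V)
    let m : (pushforward i).obj (kernel (ηV H V)) ⟶ N :=
      (pushforward i).map (kernel.ι (ηV H V)) ≫ inv u
    haveI : Mono m := mono_comp _ _
    haveI hpq : ((pushforward i).obj (kernel (ηV H V))).IsQuasicoherent :=
      Groth.Agent.Lib.helper16.QCohAffinePush.isQuasicoherent_push i (kernel (ηV H V))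
    have hcoh : Coh.IsCoh ((pushforward i).obj (kernel (ηV H V))) :=
      Groth.Agent.S0046.result X N _ m hN hpq
    have hnz : ¬ IsZero ((pushforward i).obj (kernel (ηV H V))) :=
      fun h => hT0 (isZero_of_isZero_push i _ h)
    have heq := hmax _ m inferInstance hcoh hnz
    apply hne
    rw [eq_top_iff]
    intro a _
    rw [← heq, mem_annI_iff]
    intro t
    have key : ∀ t : Γ(kernel (ηV H V), V), t = 0 := by
      intro t
      apply Groth.Agent.S2542.injective_app_of_mono (kernel.ι (ηV H V)) V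
      rw [map_zero]
      have e : V.ι ''ᵁ V.ι ⁻¹ᵁ V = V := by
        rw [Scheme.Hom.image_preimage_eq_opensRange_inf, Scheme.Opens.opensRange_ι, inf_idem]
      have h1 : ((ηV H V).app V).hom (((kernel.ι (ηV H V)).app V).hom t) = 0 := by
        rw [← ConcreteCategory.comp_apply, ← Hom.comp_app, kernel.condition]
        rfl
      have h2 : H.presheaf.map (homOfLE e.le).op (((kernel.ι (ηV H V)).app V).hom t) =
          H.presheaf.map (homOfLE e.le).op 0 := h1.trans (map_zero _).symm
      exact Groth.Agent.Lib.helper7.map_injective_of_eq H e.symm h2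
    rw [key t]
    exact smul_zero (M := Γ(X, U₀)) (A := Γ((pushforward i).obj (kernel (ηV H V)), U₀)) a
  obtain ⟨I, ι, β, hι, hIq, hI0, hβ⟩ := exists_ideal_mono H V hV hVne s' hs'
  haveI := hβ
  refine ⟨Z, i, inferInstance, hint, I, ι, (pushforward i).map β ≫ inv u ≫ ιN, hι, hIq, hI0, ?_⟩
  haveI : Mono (inv u ≫ ιN) := mono_comp _ _
  exact mono_comp _ _

end LemmaB

end Groth.Agent.Lib.helper8.Dev
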