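import Mathlib
import Groth.Agent.Lib.Helper8.DevLemmaB
import Groth.Agent.Lib.Helper7.QCohZero
import Groth.Agent.Lib.Helper16.QCohFibre

set_option autoImplicit false
universe u
open CategoryTheory CategoryTheory.Limits AlgebraicGeometry TopologicalSpace Opposite

namespace Groth.Agent.Lib.helper8.Dev

open Scheme.Modules

variable {X : Scheme.{u}}

section Filt

/-- the quotient `K'/K` of two subobjects is the direct image of a nonzero quasi-coherent ideal of
an integral closed subscheme -/
def GoodQuot {M : X.Modules} (K K' : Subobject M) : Prop :=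
  ∃ h : K ≤ K', ∃ (Z : Scheme.{u}) (i : Z ⟶ X), IsClosedImmersion i ∧ IsIntegral Z ∧
    ∃ (I : Z.Modules) (ι : I ⟶ Coh.structureModule Z), Mono ι ∧ Coh.IsQCoh I ∧ ¬ IsZero I ∧
      Nonempty (cokernel (Subobject.ofLE K K' h) ≅ (Coh.push i).obj I)

/-- ACC for quasi-coherent subobjects of a coherent module, as well-foundedness -/
theorem wellFoundedGT_qcoh_subobjects [IsNoetherian X] (M : X.Modules) (hM : Coh.IsCoh M) :
    WellFoundedGT {K : Subobject M // ((K : X.Modules)).IsQuasicoherent} := by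
  rw [wellFoundedGT_iff_monotone_chain_condition]
  intro a
  let F : ℕ →o Subobject M := ⟨fun n => (a n).1, fun m n h => a.monotone h⟩
  obtain ⟨n, hn⟩ := Groth.Agent.Lib.helper7.QCohZero.acc_qcoh_subobjects X M hM F (fun n => (a n).2)
  exact ⟨n, fun m hm => Subtype.ext (hn m hm).symm⟩

/-- the cokernel of `ofLE K K` vanishes -/
theorem isZero_cokernel_ofLE_of_eq {M : X.Modules} (K K' : Subobject M) (h : K ≤ K')
    (heq : K = K') : IsZero (cokernel (Subobject.ofLE K K' h)) := by
  subst heq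
  have : Subobject.ofLE K K h = 𝟙 _ := Subobject.ofLE_refl K
  rw [this]
  exact isZero_cokernel_of_epi _

/-- **one step of the dévissage filtration** -/
theorem exists_goodQuot [IsNoetherian X] (M : X.Modules) (hM : Coh.IsCoh M) (K : Subobject M)
    (hK : ((K : X.Modules)).IsQuasicoherent) (hKtop : K ≠ ⊤) :
    ∃ K' : Subobject M, ((K' : X.Modules)).IsQuasicoherent ∧ K < K' ∧ GoodQuot K K' := by
  haveI : M.IsQuasicoherent := hM.1
  have hKc : Coh.IsCoh (K : X.Modules) := Groth.Agent.S0046.result X M _ K.arrow hM hK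
  have hCc : Coh.IsCoh (cokernel K.arrow) :=
    Groth.Agent.Lib.helper7.CohKer.isCoh_cokernel hKc hM K.arrow
  have hC0 : ¬ IsZero (cokernel K.arrow) := by
    intro hz
    apply hKtop
    haveI : Epi K.arrow := Abelian.epi_of_cokernel_π_eq_zero _ (hz.eq_of_tgt _ _)
    haveI : IsIso K.arrow := isIso_of_mono_of_epi _
    exact Subobject.eq_top_of_isIso_arrow K
  obtain ⟨Z, i, hi, hZ, I, ι, γ, hι, hIq, hI0, hγ⟩ :=
    exists_integral_ideal_mono (cokernel K.arrow) hCc hC0
  haveI := hi
  haveI := hγ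
  haveI : I.IsQuasicoherent := hIq
  let π : M ⟶ cokernel K.arrow := cokernel.π K.arrow
  let p₁ : pullback π γ ⟶ M := pullback.fst π γ
  let p₂ : pullback π γ ⟶ (Coh.push i).obj I := pullback.snd π γ
  haveI : Mono p₁ := inferInstanceAs (Mono (pullback.fst π γ))
  haveI : Epi p₂ := inferInstanceAs (Epi (pullback.snd π γ))
  have hcond : p₁ ≫ π = p₂ ≫ γ := pullback.condition
  -- the inclusion of `K` into the pullback
  let k : (K : X.Modules) ⟶ pullback π γ :=
    pullback.lift K.arrow 0 (by rw [zero_comp]; exact cokernel.condition K.arrow)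
  have hk₁ : k ≫ p₁ = K.arrow := pullback.lift_fst _ _ _
  have hk₂ : k ≫ p₂ = 0 := pullback.lift_snd _ _ _
  haveI : Mono k := mono_of_mono_fac hk₁
  -- `k` is the kernel of `p₂`
  have hKker := Abelian.monoIsKernelOfCokernel _ (colimit.isColimit (parallelPair K.arrow 0))
  have hker : IsLimit (KernelFork.ofι k hk₂) := by
    refine KernelFork.IsLimit.ofι' k hk₂ (fun {T} t ht => ?_)
    have h1 : (t ≫ p₁) ≫ cokernel.π K.arrow = 0 := by
      rw [Category.assoc]
      show t ≫ p₁ ≫ π = 0
      rw [hcond, ← Category.assoc, ht, zero_comp]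
    let t' : T ⟶ (K : X.Modules) := hKker.lift (KernelFork.ofι (t ≫ p₁) h1)
    have ht' : t' ≫ K.arrow = t ≫ p₁ :=
      hKker.fac (KernelFork.ofι (t ≫ p₁) h1) WalkingParallelPair.zero
    refine ⟨t', ?_⟩
    apply pullback.hom_ext
    · rw [Category.assoc]
      show t' ≫ k ≫ p₁ = t ≫ p₁
      rw [hk₁, ht']
    · rw [Category.assoc]
      show t' ≫ k ≫ p₂ = t ≫ p₂
      rw [hk₂, comp_zero, ht]
  let S : ShortComplex X.Modules := ShortComplex.mk k p₂ hk₂
  have hSex : S.Exact := ShortComplex.exact_of_f_is_kernel S hker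
  haveI : Epi S.g := inferInstanceAs (Epi p₂)
  have hcok : IsColimit (CokernelCofork.ofπ S.g S.zero) := hSex.gIsCokernel
  let e₁ : cokernel k ≅ (Coh.push i).obj I :=
    IsColimit.coconePointUniqueUpToIso (cokernelIsCokernel k) hcok
  -- the subobject `K'`
  have hle : K ≤ Subobject.mk p₁ := Subobject.le_mk_of_comm k hk₁
  have hfac : Subobject.ofLE K (Subobject.mk p₁) hle ≫ (Subobject.underlyingIso p₁).hom = k := by
    rw [← cancel_mono p₁, Category.assoc, Subobject.underlyingIso_hom_comp_eq_mk,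
      Subobject.ofLE_arrow, hk₁]
  let e₂ : cokernel (Subobject.ofLE K (Subobject.mk p₁) hle) ≅ cokernel k :=
    cokernel.mapIso _ _ (Iso.refl _) (Subobject.underlyingIso p₁) (by
      rw [hfac, Iso.refl_hom, Category.id_comp])
  have hgood : GoodQuot K (Subobject.mk p₁) :=
    ⟨hle, Z, i, hi, hZ, I, ι, hι, hIq, hI0, ⟨e₂ ≪≫ e₁⟩⟩
  refine ⟨Subobject.mk p₁, ?_, lt_of_le_of_ne hle (fun heq => ?_), hgood⟩
  · haveI : ((Coh.push i).obj I).IsQuasicoherent :=
      Groth.Agent.Lib.helper16.QCohAffinePush.isQuasicoherent_push i I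
    haveI : (cokernel K.arrow).IsQuasicoherent := hCc.1
    haveI : (pullback π γ).IsQuasicoherent :=
      Groth.Agent.Lib.helper16.QCohFibre.isQuasicoherent_pullback π γ
    exact (SheafOfModules.isQuasicoherent X.ringCatSheaf).prop_of_iso
      (Subobject.underlyingIso p₁).symm ‹_›
  · have hz := isZero_cokernel_ofLE_of_eq K (Subobject.mk p₁) hle heq
    have hz' : IsZero ((Coh.push i).obj I) := hz.of_iso (e₂ ≪≫ e₁).symm
    exact hI0 (isZero_of_isZero_push i I hz')

/-- `K` is reached from `⊥` by a finite chain of quasi-coherent subobjects with good quotients -/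
def HasChain {M : X.Modules} (K : Subobject M) : Prop :=
  ∃ (m : ℕ) (c : ℕ → Subobject M), c 0 = ⊥ ∧ c m = K ∧
    (∀ j, ((c j : Subobject M) : X.Modules).IsQuasicoherent) ∧ ∀ j < m, GoodQuot (c j) (c (j + 1))

theorem hasChain_bot {M : X.Modules} : HasChain (⊥ : Subobject M) := by
  refine ⟨0, fun _ => ⊥, rfl, rfl, fun _ => ?_, fun j hj => absurd hj (Nat.not_lt_zero j)⟩
  exact Groth.Agent.Lib.helper7.CohKer.isQuasicoherent_of_isZero
    (IsZero.of_iso (isZero_zero _) Subobject.botCoeIsoZero)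

theorem HasChain.succ {M : X.Modules} {K K' : Subobject M} (hK : HasChain K)
    (hK' : ((K' : X.Modules)).IsQuasicoherent) (hg : GoodQuot K K') : HasChain K' := by
  obtain ⟨m, c, h0, hm, hq, hgood⟩ := hK
  refine ⟨m + 1, fun j => if j ≤ m then c j else K', ?_, ?_, fun j => ?_, fun j hj => ?_⟩
  · simp only [Nat.zero_le, if_true]
    exact h0
  · simp only [add_le_iff_nonpos_right, nonpos_iff_eq_zero, one_ne_zero, if_false]
  · by_cases hj : j ≤ m
    · simp only [hj, if_true]
      exact hq j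
    · simp only [hj, if_false]
      exact hK'
  · by_cases hj' : j < m
    · have h1 : j ≤ m := hj'.le
      have h2 : j + 1 ≤ m := hj'
      simp only [h1, h2, if_true]
      exact hgood j hj'
    · have hjm : j = m := by omega
      subst hjm
      simp only [le_refl, if_true, add_le_iff_nonpos_right, nonpos_iff_eq_zero, one_ne_zero,
        if_false]
      rw [hm]
      exact hg

/-- **the dévissage filtration**, in terms of subobjects -/
theorem hasChain_top [IsNoetherian X] (M : X.Modules) (hM : Coh.IsCoh M) :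
    HasChain (⊤ : Subobject M) := by
  haveI := wellFoundedGT_qcoh_subobjects M hM
  have key : ∀ K : {K : Subobject M // ((K : X.Modules)).IsQuasicoherent},
      HasChain K.1 → HasChain (⊤ : Subobject M) := by
    intro K
    induction K using WellFoundedGT.induction with
    | ind K ih =>
      intro hK
      by_cases htop : K.1 = ⊤
      · rw [← htop]
        exact hK
      · obtain ⟨K', hK'q, hlt, hg⟩ := exists_goodQuot M hM K.1 K.2 htop
        exact ih ⟨K', hK'q⟩ hlt (hK.succ hK'q hg)
  have hbq : (((⊥ : Subobject M) : X.Modules)).IsQuasicoherent :=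
    Groth.Agent.Lib.helper7.CohKer.isQuasicoherent_of_isZero
      (IsZero.of_iso (isZero_zero _) Subobject.botCoeIsoZero)
  exact key ⟨⊥, hbq⟩ hasChain_bot

/-- **the dévissage filtration** of a coherent module on a Noetherian scheme -/
theorem exists_filtration [IsNoetherian X] (M : X.Modules) (hM : Coh.IsCoh M) :
    ∃ (m : ℕ) (F : ℕ → X.Modules) (φ : (j : ℕ) → (F j ⟶ F (j + 1))),
      IsZero (F 0) ∧ Nonempty (F m ≅ M) ∧ (∀ j ≤ m, Coh.IsCoh (F j)) ∧ ∀ j < m, Mono (φ j) ∧
        ∃ (Z : Scheme.{u}) (i : Z ⟶ X), IsClosedImmersion i ∧ IsIntegral Z ∧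
          ∃ (I : Z.Modules) (ι : I ⟶ Coh.structureModule Z), Mono ι ∧ Coh.IsQCoh I ∧ ¬ IsZero I ∧
            Nonempty (cokernel (φ j) ≅ (Coh.push i).obj I) := by
  classical
  obtain ⟨m, c, h0, hm, hq, hgood⟩ := hasChain_top M hM
  refine ⟨m, fun j => ((c j : Subobject M) : X.Modules),
    fun j => if h : c j ≤ c (j + 1) then Subobject.ofLE (c j) (c (j + 1)) h else 0,
    ?_, ?_, fun j _ => ?_, fun j hj => ?_⟩
  · show IsZero ((c 0 : Subobject M) : X.Modules)
    rw [h0]
    exact IsZero.of_iso (isZero_zero _) Subobject.botCoeIsoZero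
  · show Nonempty (((c m : Subobject M) : X.Modules) ≅ M)
    rw [hm]
    exact ⟨asIso (⊤ : Subobject M).arrow⟩
  · exact Groth.Agent.S0046.result X M _ (c j).arrow hM (hq j)
  · obtain ⟨h, Z, i, hi, hZ, I, ι, hι, hIq, hI0, ⟨e⟩⟩ := hgood j hj
    have hφ : (if h : c j ≤ c (j + 1) then Subobject.ofLE (c j) (c (j + 1)) h else 0) =
        Subobject.ofLE (c j) (c (j + 1)) h := dif_pos h
    refine ⟨?_, Z, i, hi, hZ, I, ι, hι, hIq, hI0, ?_⟩
    · show Mono (if h : c j ≤ c (j + 1) then Subobject.ofLE (c j) (c (j + 1)) h else 0)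
      rw [hφ]
      infer_instance
    · show Nonempty (cokernel (if h : c j ≤ c (j + 1) then Subobject.ofLE (c j) (c (j + 1)) h
        else 0) ≅ (Coh.push i).obj I)
      rw [hφ]
      exact ⟨e⟩

end Filt

end Groth.Agent.Lib.helper8.Dev
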