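import Mathlib
import Groth.Agent.Lib.Helper8.DevFilt

set_option autoImplicit false
universe u
open CategoryTheory CategoryTheory.Limits AlgebraicGeometry TopologicalSpace Opposite

namespace Groth.Agent.Lib.helper8.Dev

open Scheme.Modules
open scoped ZeroObject

variable {X : Scheme.{u}}

section Ind

/-- the structure sheaf is coherent (quasi-coherent of finite type) -/
theorem isCoh_structureModule (X : Scheme.{u}) : Coh.IsCoh (Coh.structureModule X) := by
  refine Groth.Agent.Lib.helper16.CohFinite.isCoh_of_finite_sections (Coh.structureModule X)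
    (fun U : X.affineOpens => U.1) (fun U => U.2) (iSup_affineOpens_eq_top X) (fun U => ?_)
  exact inferInstanceAs (Module.Finite Γ(X, U.1) Γ(X, U.1))

theorem not_isZero_structureModule (X : Scheme.{u}) [Nonempty X] :
    ¬ IsZero (Coh.structureModule X) := by
  intro hz
  obtain ⟨x⟩ := ‹Nonempty X›
  haveI := Groth.Agent.Lib.helper8.PinchMod.subsingleton_sections_of_isZero hz (⊤ : X.Opens)
  have h1 : (1 : Γ(X, ⊤)) = 0 := Subsingleton.elim (α := Γ(Coh.structureModule X, ⊤)) _ _
  haveI : Nonempty (⊤ : X.Opens) := ⟨⟨x, trivial⟩⟩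
  haveI : Nontrivial Γ(X, ⊤) := Scheme.component_nontrivial X ⊤
  exact one_ne_zero h1

/-- a nonempty Noetherian scheme has an integral closed subscheme -/
theorem exists_integral_closed_subscheme (X : Scheme.{u}) [IsNoetherian X] [Nonempty X] :
    ∃ (Z : Scheme.{u}) (i : Z ⟶ X), IsClosedImmersion i ∧ IsIntegral Z := by
  obtain ⟨Z, i, hi, hZ, -⟩ := exists_integral_ideal_mono (Coh.structureModule X)
    (isCoh_structureModule X) (not_isZero_structureModule X)
  exact ⟨Z, i, hi, hZ⟩

/-- **dévissage**, first form -/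
theorem devissage_induction (X : Scheme.{u}) [IsNoetherian X] [Nonempty X]
    (P : X.Modules → Prop) (hP : ∀ M N : X.Modules, Nonempty (M ≅ N) → P M → P N)
    (h₁ : ∀ S : ShortComplex X.Modules, S.ShortExact → Coh.IsCoh S.X₁ → Coh.IsCoh S.X₂ →
      Coh.IsCoh S.X₃ → P S.X₁ → P S.X₃ → P S.X₂)
    (h₂ : ∀ (Z : Scheme.{u}) (i : Z ⟶ X), IsClosedImmersion i → IsIntegral Z →
      ∀ (I : Z.Modules) (ι : I ⟶ Coh.structureModule Z), Mono ι → Coh.IsQCoh I →
        P ((Coh.push i).obj I))
    (M : X.Modules) (hM : Coh.IsCoh M) : P M := by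
  -- the zero module
  have hzero : ∀ N : X.Modules, IsZero N → P N := by
    intro N hN
    obtain ⟨Z, i, hi, hZ⟩ := exists_integral_closed_subscheme X
    have h0 : IsZero (0 : Z.Modules) := isZero_zero _
    have h1 : P ((Coh.push i).obj (0 : Z.Modules)) :=
      h₂ Z i hi hZ 0 0 inferInstance
        (Groth.Agent.Lib.helper7.CohKer.isQuasicoherent_of_isZero h0)
    have h2 : IsZero ((Coh.push i).obj (0 : Z.Modules)) :=
      (Coh.push i).map_isZero h0
    exact hP _ _ ⟨h2.iso hN⟩ h1
  obtain ⟨m, F, φ, hF0, ⟨e⟩, hFc, hstep⟩ := exists_filtration M hM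
  have key : ∀ j, j ≤ m → P (F j) := by
    intro j
    induction j with
    | zero => exact fun _ => hzero _ hF0
    | succ j ih =>
      intro hj
      have hj' : j < m := hj
      obtain ⟨hmono, Z, i, hi, hZ, I, ι, hι, hIq, -, ⟨e'⟩⟩ := hstep j hj'
      have hPc : P (cokernel (φ j)) := hP _ _ ⟨e'.symm⟩ (h₂ Z i hi hZ I ι hι hIq)
      let S : ShortComplex X.Modules :=
        ShortComplex.mk (φ j) (cokernel.π (φ j)) (cokernel.condition _)
      have hS : S.ShortExact :=
        { exact := ShortComplex.exact_of_g_is_cokernel S (cokernelIsCokernel (φ j))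
          mono_f := hmono
          epi_g := inferInstanceAs (Epi (cokernel.π (φ j))) }
      exact h₁ S hS (hFc j hj'.le) (hFc (j + 1) hj)
        (Groth.Agent.Lib.helper7.CohKer.isCoh_cokernel (hFc j hj'.le) (hFc (j + 1) hj) (φ j))
        (ih hj'.le) hPc
  exact hP _ _ ⟨e⟩ (key m le_rfl)

end Ind

end Groth.Agent.Lib.helper8.Dev
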