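import Mathlib
import Groth.Agent.Lib.Helper8.DevInd
import Groth.Prelude.Def_ClSub2

set_option autoImplicit false
universe u
open CategoryTheory CategoryTheory.Limits AlgebraicGeometry TopologicalSpace Opposite

namespace Groth.Agent.Lib.helper8.Dev

open Groth.Agent.Lib.helper8.PullbackUnit Scheme.Modules

section BC

variable {R R' : Type u} [CommRing R] [CommRing R'] {φ : R →+* R'} {N P : Type u}
    [AddCommGroup N] [Module R N] [AddCommGroup P] [Module R' P] {k : N →+ P}

/-- a base change along a surjective ring homomorphism is surjective -/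
theorem IsBC.surjective_of_surjective (hk : IsBC φ k) (hφ : Function.Surjective φ) :
    Function.Surjective k := by
  let W : Submodule R' P :=
    { carrier := Set.range k
      add_mem' := by
        rintro _ _ ⟨a, rfl⟩ ⟨b, rfl⟩
        exact ⟨a + b, map_add k a b⟩
      zero_mem' := ⟨0, map_zero k⟩
      smul_mem' := by
        rintro c _ ⟨a, rfl⟩
        obtain ⟨r, rfl⟩ := hφ c
        exact ⟨r • a, hk.map_smul r a⟩ }
  obtain ⟨h', -, huniq⟩ := hk.existsUnique_lift (P ⧸ W) (0 : N →+ P ⧸ W) (fun r n => by simp)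
  have h1 : W.mkQ = h' := huniq W.mkQ (fun n => by
    show Submodule.Quotient.mk (k n) = 0
    rw [Submodule.Quotient.mk_eq_zero]
    exact ⟨n, rfl⟩)
  have h2 : (0 : P →ₗ[R'] P ⧸ W) = h' := huniq 0 (fun n => rfl)
  intro p
  have h3 : W.mkQ p = 0 := by rw [h1, ← h2]; rfl
  exact (Submodule.Quotient.mk_eq_zero W).mp h3

end BC

section PushExact

variable {X Z : Scheme.{u}} (i : Z ⟶ X) [IsAffineHom i]

/-- the direct image along an affine morphism preserves epimorphisms of quasi-coherent modules -/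
theorem epi_pushforward_map {F G : Z.Modules} [F.IsQuasicoherent] [G.IsQuasicoherent]
    (f : F ⟶ G) [Epi f] : Epi ((pushforward i).map f) := by
  refine Groth.Agent.Lib.helper16.QCohEpi.epi_of_surjective_on_basis _ {U | IsAffineOpen U}
    X.isBasis_affineOpens (fun U hU => ?_)
  exact Groth.Agent.Lib.helper16.QCohEpi.surjective_app_of_epi f (hU.preimage i)

/-- the direct image along an affine morphism preserves short exact sequences of quasi-coherent
modules -/
theorem shortExact_map_pushforward (S : ShortComplex Z.Modules) (hS : S.ShortExact)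
    [S.X₂.IsQuasicoherent] [S.X₃.IsQuasicoherent] : (S.map (pushforward i)).ShortExact := by
  haveI := hS.mono_f
  haveI := hS.epi_g
  haveI : Mono ((pushforward i).map S.f) := inferInstance
  haveI : Epi ((pushforward i).map S.g) := epi_pushforward_map i S.g
  exact
    { exact := hS.exact.map_of_mono_of_preservesKernel (pushforward i) inferInstance inferInstance
      mono_f := inferInstanceAs (Mono ((pushforward i).map S.f))
      epi_g := inferInstanceAs (Epi ((pushforward i).map S.g)) }

/-- direct images are killed by the kernel ideal sheaf -/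
theorem killedByIdeal_ker_push (F : Z.Modules) :
    ClSub.KilledByIdeal i.ker ((pushforward i).obj F) := by
  intro U a ha m
  rw [Scheme.Hom.ker_apply, RingHom.mem_ker] at ha
  have h1 : a • m = ((i.app U.1).hom a • (show Γ(F, i ⁻¹ᵁ U.1) from m) : Γ(F, i ⁻¹ᵁ U.1)) := rfl
  rw [h1, ha, zero_smul]
  rfl

end PushExact

section KerIm

variable {C : Type*} [Category C] [Abelian C] {P Q : C} (f : P ⟶ Q)

/-- the short exact sequence `0 → ker f → P → im f → 0` -/
theorem shortExact_kernel_image :
    (ShortComplex.mk (kernel.ι f) (Abelian.factorThruImage f) (by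
      rw [← cancel_mono (Abelian.image.ι f), Category.assoc, Abelian.image.fac, kernel.condition,
        zero_comp])).ShortExact := by
  have hw : kernel.ι f ≫ Abelian.factorThruImage f = 0 := by
    rw [← cancel_mono (Abelian.image.ι f), Category.assoc, Abelian.image.fac, kernel.condition,
      zero_comp]
  have hker : IsLimit (KernelFork.ofι (kernel.ι f) hw) :=
    isKernelOfComp (Abelian.image.ι f) f (kernelIsKernel f) hw (Abelian.image.fac f)
  exact
    { exact := ShortComplex.exact_of_f_is_kernel _ hker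
      mono_f := inferInstanceAs (Mono (kernel.ι f))
      epi_g := inferInstanceAs (Epi (Abelian.factorThruImage f)) }

end KerIm

section Conductor2

variable {Z : Scheme.{u}} [IsIntegral Z] (H : Z.Modules) [H.IsQuasicoherent] (V : Z.Opens)

/-- **the conductor**, general form: a quasi-coherent ideal `I` of `O_Z`, containing `1` over `V`,
with an embedding into the image of `H ⟶ j_* j^* H`. -/
theorem exists_ideal_image (hV : IsAffineOpen V) (hVne : (V : Set Z).Nonempty) (s' : Γ(H, V))
    (hs' : ∀ r : Γ(Z, V), r • s' = 0 → r = 0) [QuasiCompact V.ι] :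
    ∃ (I : Z.Modules) (ι : I ⟶ Coh.structureModule Z) (β : I ⟶ Abelian.image (ηV H V)),
      Mono ι ∧ I.IsQuasicoherent ∧ Mono β ∧
      ∃ one : Γ(I, V), (ι.app V).hom one = (1 : Γ(Z, V)) ∧
        (β.app V).hom one = ((Abelian.factorThruImage (ηV H V)).app V).hom s' := by
  haveI := mono_aOf H V hV hVne s' hs'
  haveI : (jj H V).IsQuasicoherent :=
    Groth.Agent.Lib.helper7.QCohPushQC.isQuasicoherent_pushforward V.ι (H.restrict V.ι)
  haveI : (cokernel (ηV H V)).IsQuasicoherent :=
    Groth.Agent.Lib.helper7.CohKer.isQuasicoherent_cokernel (ηV H V)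
  let g : Coh.structureModule Z ⟶ cokernel (ηV H V) := aOf H V s' ≫ cokernel.π (ηV H V)
  haveI hI : (kernel g).IsQuasicoherent :=
    Groth.Agent.Lib.helper7.CohKer.isQuasicoherent_kernel g
  have hw : (kernel.ι g ≫ aOf H V s') ≫ cokernel.π (ηV H V) = 0 := by
    rw [Category.assoc]
    exact kernel.condition g
  let β : kernel g ⟶ Abelian.image (ηV H V) := kernel.lift _ (kernel.ι g ≫ aOf H V s') hw
  have hβ : β ≫ Abelian.image.ι (ηV H V) = kernel.ι g ≫ aOf H V s' := kernel.lift_ι _ _ _
  haveI : Mono β := by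
    haveI : Mono (β ≫ Abelian.image.ι (ηV H V)) := by
      rw [hβ]
      exact mono_comp _ _
    exact mono_of_mono β (Abelian.image.ι (ηV H V))
  have e1 : (Hom.app (aOf H V s') V).hom (1 : Γ(Z, V)) = ((ηV H V).app V).hom s' := by
    rw [aOf_app, ηV_app, map_one, one_smul]
  have h1 : (g.app V).hom (1 : Γ(Z, V)) = 0 := by
    show ((cokernel.π (ηV H V)).app V).hom ((Hom.app (aOf H V s') V).hom (1 : Γ(Z, V))) = 0
    rw [e1, ← ConcreteCategory.comp_apply, ← Hom.comp_app, cokernel.condition]
    rfl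
  obtain ⟨one, hone⟩ := (exists_kernel_ι_app_eq_iff g V (1 : Γ(Z, V))).mpr h1
  refine ⟨kernel g, kernel.ι g, β, inferInstance, hI, inferInstance, one, hone, ?_⟩
  apply Groth.Agent.S2542.injective_app_of_mono (Abelian.image.ι (ηV H V)) V
  have h2 : ((Abelian.image.ι (ηV H V)).app V).hom ((β.app V).hom one) =
      (Hom.app (aOf H V s') V).hom (((kernel.ι g).app V).hom one) := by
    rw [← ConcreteCategory.comp_apply, ← Hom.comp_app, hβ]
    rfl
  have h3 : ((Abelian.image.ι (ηV H V)).app V).hom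
      (((Abelian.factorThruImage (ηV H V)).app V).hom s') = ((ηV H V).app V).hom s' := by
    rw [← ConcreteCategory.comp_apply, ← Hom.comp_app, Abelian.image.fac]
  rw [h2, h3, hone, e1]

omit [IsIntegral Z] [H.IsQuasicoherent] in
/-- sections over `V` of the kernel of `H ⟶ j_* j^* H` vanish -/
theorem eq_zero_of_kernel_ηV (t : Γ(kernel (ηV H V), V)) : t = 0 := by
  apply Groth.Agent.S2542.injective_app_of_mono (kernel.ι (ηV H V)) V
  rw [map_zero]
  have e : V.ι ''ᵁ V.ι ⁻¹ᵁ V = V := by
    rw [Scheme.Hom.image_preimage_eq_opensRange_inf, Scheme.Opens.opensRange_ι, inf_idem]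
  have h1 : ((ηV H V).app V).hom (((kernel.ι (ηV H V)).app V).hom t) = 0 := by
    rw [← ConcreteCategory.comp_apply, ← Hom.comp_app, kernel.condition]
    rfl
  have h2 : H.presheaf.map (homOfLE e.le).op (((kernel.ι (ηV H V)).app V).hom t) =
      H.presheaf.map (homOfLE e.le).op 0 := h1.trans (map_zero _).symm
  exact Groth.Agent.Lib.helper7.map_injective_of_eq H e.symm h2

omit [IsIntegral Z] in
/-- the image of `H ⟶ j_* j^* H` is quasi-coherent -/
theorem isQuasicoherent_image_ηV [QuasiCompact V.ι] :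
    (Abelian.image (ηV H V)).IsQuasicoherent := by
  haveI : (jj H V).IsQuasicoherent :=
    Groth.Agent.Lib.helper7.QCohPushQC.isQuasicoherent_pushforward V.ι (H.restrict V.ι)
  haveI : (cokernel (ηV H V)).IsQuasicoherent :=
    Groth.Agent.Lib.helper7.CohKer.isQuasicoherent_cokernel (ηV H V)
  exact Groth.Agent.Lib.helper7.CohKer.isQuasicoherent_kernel (cokernel.π (ηV H V))

omit [IsIntegral Z] in
/-- the cokernel of the conductor embedding is killed generically -/
theorem smul_cokernel_eq_zero [QuasiCompact V.ι] (hV : IsAffineOpen V) (s' : Γ(H, V))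
    (b' : Γ(Z, V)) (hb' : ∀ n : Γ(H, V), ∃ c' : Γ(Z, V), b' • n = c' • s')
    {I : Z.Modules} [I.IsQuasicoherent] (β : I ⟶ Abelian.image (ηV H V)) (one : Γ(I, V))
    (hone : (β.app V).hom one = ((Abelian.factorThruImage (ηV H V)).app V).hom s')
    (c : Γ(cokernel β, V)) : b' • c = 0 := by
  haveI := isQuasicoherent_image_ηV H V
  haveI : (cokernel β).IsQuasicoherent :=
    Groth.Agent.Lib.helper7.CohKer.isQuasicoherent_cokernel β
  obtain ⟨h, rfl⟩ := Groth.Agent.Lib.helper16.QCohEpi.surjective_app_of_epi (cokernel.π β) hV c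
  obtain ⟨n, rfl⟩ := Groth.Agent.Lib.helper16.QCohEpi.surjective_app_of_epi
    (Abelian.factorThruImage (ηV H V)) hV h
  obtain ⟨c', hc'⟩ := hb' n
  have h1 : b' • ((cokernel.π β).app V).hom (((Abelian.factorThruImage (ηV H V)).app V).hom n) =
      ((cokernel.π β).app V).hom (((Abelian.factorThruImage (ηV H V)).app V).hom (b' • n)) := by
    rw [Hom.app_smul, Hom.app_smul]
  rw [h1, hc']
  have h2 : ((Abelian.factorThruImage (ηV H V)).app V).hom (c' • s') =
      (β.app V).hom (c' • one) := by
    rw [Hom.app_smul, Hom.app_smul, hone]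
  rw [h2, ← ConcreteCategory.comp_apply, ← Hom.comp_app, cokernel.condition]
  rfl

end Conductor2

section Inter

variable {Z : Scheme.{u}} {I J : Z.Modules} (ιI : I ⟶ Coh.structureModule Z)
  (ιJ : J ⟶ Coh.structureModule Z) [Mono ιJ]

/-- the intersection `I ∩ J` of two ideals, as a subobject of `I` -/
noncomputable abbrev interMod : Z.Modules := kernel (ιI ≫ cokernel.π ιJ)

/-- the inclusion `I ∩ J ⟶ I` -/
noncomputable abbrev interι₁ : interMod ιI ιJ ⟶ I := kernel.ι _

/-- the inclusion `I ∩ J ⟶ J` -/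
noncomputable def interι₂ : interMod ιI ιJ ⟶ J :=
  (Abelian.monoIsKernelOfCokernel _ (colimit.isColimit (parallelPair ιJ 0))).lift
    (KernelFork.ofι (interι₁ ιI ιJ ≫ ιI) (by
      rw [Category.assoc]
      exact kernel.condition (ιI ≫ cokernel.π ιJ)))

theorem interι₂_comp : interι₂ ιI ιJ ≫ ιJ = interι₁ ιI ιJ ≫ ιI :=
  (Abelian.monoIsKernelOfCokernel _ (colimit.isColimit (parallelPair ιJ 0))).fac
    (KernelFork.ofι (interι₁ ιI ιJ ≫ ιI) (by
      rw [Category.assoc]
      exact kernel.condition (ιI ≫ cokernel.π ιJ))) WalkingParallelPair.zero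

instance [Mono ιI] : Mono (interι₂ ιI ιJ) := by
  haveI : Mono (interι₂ ιI ιJ ≫ ιJ) := by
    rw [interι₂_comp]
    exact mono_comp _ _
  exact mono_of_mono (interι₂ ιI ιJ) ιJ

theorem structureModule_smul (V : Z.Opens) (r : Γ(Z, V)) (w : Γ(Coh.structureModule Z, V)) :
    r • w = (r * (show Γ(Z, V) from w) : Γ(Z, V)) := rfl

variable (V : Z.Opens)

omit [Mono ιJ] in
theorem exists_interι₁_eq (x : Γ(I, V)) (y : Γ(J, V)) :
    ∃ z : Γ(interMod ιI ιJ, V), ((interι₁ ιI ιJ).app V).hom z =
      (show Γ(Z, V) from (ιJ.app V).hom y) • x := by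
  rw [exists_kernel_ι_app_eq_iff]
  show ((cokernel.π ιJ).app V).hom ((ιI.app V).hom ((show Γ(Z, V) from (ιJ.app V).hom y) • x)) = 0
  have h1 : (ιI.app V).hom ((show Γ(Z, V) from (ιJ.app V).hom y) • x) =
      (ιJ.app V).hom ((show Γ(Z, V) from (ιI.app V).hom x) • y) := by
    rw [Hom.app_smul, Hom.app_smul, structureModule_smul, structureModule_smul]
    exact mul_comm (G := Γ(Z, V)) _ _
  rw [h1, ← ConcreteCategory.comp_apply, ← Hom.comp_app, cokernel.condition]
  rfl

theorem interι₂_eq (x : Γ(I, V)) (y : Γ(J, V)) (z : Γ(interMod ιI ιJ, V))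
    (hz : ((interι₁ ιI ιJ).app V).hom z = (show Γ(Z, V) from (ιJ.app V).hom y) • x) :
    ((interι₂ ιI ιJ).app V).hom z = (show Γ(Z, V) from (ιI.app V).hom x) • y := by
  apply Groth.Agent.S2542.injective_app_of_mono ιJ V
  have h1 : (ιJ.app V).hom (((interι₂ ιI ιJ).app V).hom z) =
      (ιI.app V).hom (((interι₁ ιI ιJ).app V).hom z) := by
    rw [← ConcreteCategory.comp_apply, ← Hom.comp_app, interι₂_comp]
    rfl
  rw [h1, hz, Hom.app_smul, Hom.app_smul, structureModule_smul, structureModule_smul]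
  exact mul_comm (G := Γ(Z, V)) _ _

variable [I.IsQuasicoherent] [J.IsQuasicoherent]

omit [Mono ιJ] in
theorem isQuasicoherent_interMod : (interMod ιI ιJ).IsQuasicoherent := by
  haveI : (cokernel ιJ).IsQuasicoherent :=
    Groth.Agent.Lib.helper7.CohKer.isQuasicoherent_cokernel ιJ
  exact Groth.Agent.Lib.helper7.CohKer.isQuasicoherent_kernel (ιI ≫ cokernel.π ιJ)

omit [Mono ιJ] in
/-- `I / (I ∩ J)` is killed by the elements of `J` -/
theorem smul_cokernel_interι₁ (hV : IsAffineOpen V) (y : Γ(J, V))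
    (q : Γ(cokernel (interι₁ ιI ιJ), V)) : (show Γ(Z, V) from (ιJ.app V).hom y) • q = 0 := by
  haveI := isQuasicoherent_interMod ιI ιJ
  haveI : (cokernel (interι₁ ιI ιJ)).IsQuasicoherent :=
    Groth.Agent.Lib.helper7.CohKer.isQuasicoherent_cokernel _
  obtain ⟨x, rfl⟩ := Groth.Agent.Lib.helper16.QCohEpi.surjective_app_of_epi
    (cokernel.π (interι₁ ιI ιJ)) hV q
  obtain ⟨z, hz⟩ := exists_interι₁_eq ιI ιJ V x y
  rw [← Hom.app_smul, ← hz, ← ConcreteCategory.comp_apply, ← Hom.comp_app, cokernel.condition]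
  rfl

/-- `J / (I ∩ J)` is killed by the elements of `I` -/
theorem smul_cokernel_interι₂ (hV : IsAffineOpen V) (x : Γ(I, V))
    (q : Γ(cokernel (interι₂ ιI ιJ), V)) : (show Γ(Z, V) from (ιI.app V).hom x) • q = 0 := by
  haveI := isQuasicoherent_interMod ιI ιJ
  haveI : (cokernel (interι₂ ιI ιJ)).IsQuasicoherent :=
    Groth.Agent.Lib.helper7.CohKer.isQuasicoherent_cokernel _
  obtain ⟨y, rfl⟩ := Groth.Agent.Lib.helper16.QCohEpi.surjective_app_of_epi
    (cokernel.π (interι₂ ιI ιJ)) hV q
  obtain ⟨z, hz⟩ := exists_interι₁_eq ιI ιJ V x y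
  have hz' := interι₂_eq ιI ιJ V x y z hz
  rw [← Hom.app_smul, ← hz', ← ConcreteCategory.comp_apply, ← Hom.comp_app, cokernel.condition]
  rfl

end Inter

end Groth.Agent.Lib.helper8.Dev
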