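import Mathlib
import Groth.Agent.Lib.Helper8.DevGen
import Groth.Agent.Lib.Helper8.DevAlg

set_option autoImplicit false
universe u
open CategoryTheory CategoryTheory.Limits AlgebraicGeometry TopologicalSpace Opposite

namespace Groth.Agent.Lib.helper8.Dev

open Groth.Agent.Lib.helper8.PullbackUnit Scheme.Modules

variable {X Z : Scheme.{u}} (i : Z ⟶ X) [IsClosedImmersion i]

/-- `F'` is coherent, killed by a power of the ideal of `i`, and killed generically along `i` -/
def Small (F' : X.Modules) : Prop :=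
  Coh.IsCoh F' ∧ (∃ n : ℕ, ClSub.KilledByIdeal (i.ker ^ n) F') ∧
    ∃ (U : X.affineOpens) (b : Γ(X, U.1)), b ∉ i.ker.ideal U ∧ ∀ t : Γ(F', U.1), b • t = 0

/-- the hypotheses on the property `P` in the dévissage core -/
structure Hyp (P : X.Modules → Prop) : Prop where
  iso : ∀ M N : X.Modules, Nonempty (M ≅ N) → P M → P N
  tot : ∀ S : ShortComplex X.Modules, S.ShortExact → Coh.IsCoh S.X₁ → Coh.IsCoh S.X₂ →
    Coh.IsCoh S.X₃ → (∃ n : ℕ, ClSub.KilledByIdeal (i.ker ^ n) S.X₂) →
      (P S.X₁ → P S.X₂ → P S.X₃) ∧ (P S.X₁ → P S.X₃ → P S.X₂) ∧ (P S.X₂ → P S.X₃ → P S.X₁)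
  small : ∀ F' : X.Modules, Small i F' → P F'

variable {i} {P : X.Modules → Prop}

section GI

variable [IsNoetherian X] (hyp : Hyp i P) (U : X.affineOpens) (S : ShortComplex Z.Modules)
  (hS : S.ShortExact) [S.X₁.IsQuasicoherent] [S.X₂.IsQuasicoherent] [S.X₃.IsQuasicoherent]
  (hcoh : Coh.IsCoh ((pushforward i).obj S.X₂))

include hS hcoh in
theorem isCoh_push_of_shortExact :
    Coh.IsCoh ((pushforward i).obj S.X₁) ∧ Coh.IsCoh ((pushforward i).obj S.X₃) := by
  have hS' := shortExact_map_pushforward i S hS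
  haveI : Mono ((pushforward i).map S.f) := hS'.mono_f
  haveI : Epi ((pushforward i).map S.g) := hS'.epi_g
  haveI : ((pushforward i).obj S.X₁).IsQuasicoherent :=
    Groth.Agent.Lib.helper16.QCohAffinePush.isQuasicoherent_push i S.X₁
  haveI : ((pushforward i).obj S.X₃).IsQuasicoherent :=
    Groth.Agent.Lib.helper16.QCohAffinePush.isQuasicoherent_push i S.X₃
  refine ⟨Groth.Agent.S0046.result X _ _ ((pushforward i).map S.f) hcoh ‹_›, ‹_›, ?_⟩
  exact Groth.Agent.Lib.helper7.CohKer.isFiniteType_of_epi ((pushforward i).map S.g) hcoh.2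

omit [AlgebraicGeometry.IsNoetherian X] in
theorem small_push (F : Z.Modules) (hF : Coh.IsCoh ((pushforward i).obj F))
    (b' : Γ(Z, i ⁻¹ᵁ U.1)) (hb' : b' ≠ 0) (hkill : ∀ t : Γ(F, i ⁻¹ᵁ U.1), b' • t = 0) :
    Small i ((pushforward i).obj F) := by
  refine ⟨hF, ⟨1, ?_⟩, ?_⟩
  · rw [pow_one]
    exact killedByIdeal_ker_push i F
  · obtain ⟨b, rfl⟩ := i.app_surjective U.1 U.2 b'
    refine ⟨U, b, ?_, fun t => hkill t⟩
    rw [Scheme.Hom.ker_apply, RingHom.mem_ker]
    exact hb'

include hyp hS hcoh in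
/-- a monomorphism with generically vanishing cokernel does not change `P` -/
theorem P_iff_of_small_cokernel (b' : Γ(Z, i ⁻¹ᵁ U.1)) (hb' : b' ≠ 0)
    (hkill : ∀ t : Γ(S.X₃, i ⁻¹ᵁ U.1), b' • t = 0) :
    P ((pushforward i).obj S.X₁) ↔ P ((pushforward i).obj S.X₂) := by
  have hS' := shortExact_map_pushforward i S hS
  obtain ⟨h1, h3⟩ := isCoh_push_of_shortExact S hS hcoh
  have hP3 : P ((pushforward i).obj S.X₃) := hyp.small _ (small_push U S.X₃ h3 b' hb' hkill)
  have hk : ∃ n : ℕ, ClSub.KilledByIdeal (i.ker ^ n) (S.map (pushforward i)).X₂ :=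
    ⟨1, by rw [pow_one]; exact killedByIdeal_ker_push i S.X₂⟩
  obtain ⟨-, h13, h23⟩ := hyp.tot _ hS' h1 hcoh h3 hk
  exact ⟨fun h => h13 h hP3, fun h => h23 h hP3⟩

include hyp hS hcoh in
/-- an epimorphism with generically vanishing kernel does not change `P` -/
theorem P_iff_of_small_kernel (b' : Γ(Z, i ⁻¹ᵁ U.1)) (hb' : b' ≠ 0)
    (hkill : ∀ t : Γ(S.X₁, i ⁻¹ᵁ U.1), b' • t = 0) :
    P ((pushforward i).obj S.X₂) ↔ P ((pushforward i).obj S.X₃) := by
  have hS' := shortExact_map_pushforward i S hS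
  obtain ⟨h1, h3⟩ := isCoh_push_of_shortExact S hS hcoh
  have hP1 : P ((pushforward i).obj S.X₁) := hyp.small _ (small_push U S.X₁ h1 b' hb' hkill)
  have hk : ∃ n : ℕ, ClSub.KilledByIdeal (i.ker ^ n) (S.map (pushforward i)).X₂ :=
    ⟨1, by rw [pow_one]; exact killedByIdeal_ker_push i S.X₂⟩
  obtain ⟨h12, h13, -⟩ := hyp.tot _ hS' h1 hcoh h3 hk
  exact ⟨fun h => h12 hP1 h, fun h => h13 hP1 h⟩

end GI

section PushO

omit [IsClosedImmersion i] in
/-- `i_* O_Z` is coherent for a closed immersion `i` -/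
theorem isCoh_push_structureModule (i : Z ⟶ X) [IsClosedImmersion i] :
    Coh.IsCoh ((pushforward i).obj (Coh.structureModule Z)) := by
  haveI : ((pushforward i).obj (Coh.structureModule Z)).IsQuasicoherent :=
    Groth.Agent.Lib.helper16.QCohAffinePush.isQuasicoherent_push i _
  refine Groth.Agent.Lib.helper16.CohFinite.isCoh_of_finite_sections _
    (fun U : X.affineOpens => U.1) (fun U => U.2) (iSup_affineOpens_eq_top X) (fun U => ?_)
  let φ : Γ(X, U.1) →+* Γ(Z, i ⁻¹ᵁ U.1) := (i.app U.1).hom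
  have hφ : Function.Surjective φ := i.app_surjective U.1 U.2
  let l : Γ(X, U.1) →ₗ[Γ(X, U.1)] Γ((pushforward i).obj (Coh.structureModule Z), U.1) :=
    { toFun := fun a => (φ a : Γ(Z, i ⁻¹ᵁ U.1))
      map_add' := fun a b => map_add φ a b
      map_smul' := fun a b => by
        show φ (a * b) = φ a * φ b
        exact map_mul φ a b }
  exact Module.Finite.of_surjective l hφ

end PushO

section Chain

variable [IsNoetherian X] [IsIntegral Z] (hyp : Hyp i P) (U : X.affineOpens)
  (H : Z.Modules) [H.IsQuasicoherent]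

theorem shortExact_cokernel {C : Type*} [Category C] [Abelian C] {A B : C} (f : A ⟶ B) [Mono f] :
    (ShortComplex.mk f (cokernel.π f) (cokernel.condition f)).ShortExact :=
  { exact := ShortComplex.exact_of_g_is_cokernel _ (cokernelIsCokernel f)
    mono_f := inferInstanceAs (Mono f)
    epi_g := inferInstanceAs (Epi (cokernel.π f)) }

include hyp in
/-- **the generic point argument**: if `P` holds for `i_* H` with `H` of generic rank one, it holds
for `i_* I` for every quasi-coherent ideal `I` with a nonzero section over `V = i⁻¹ U`. -/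
theorem P_push_ideal_of_rankOne (hcohH : Coh.IsCoh ((pushforward i).obj H))
    (hPH : P ((pushforward i).obj H)) (s' : Γ(H, i ⁻¹ᵁ U.1))
    (hs' : ∀ r : Γ(Z, i ⁻¹ᵁ U.1), r • s' = 0 → r = 0)
    (b' : Γ(Z, i ⁻¹ᵁ U.1)) (hb'0 : b' ≠ 0)
    (hb' : ∀ n : Γ(H, i ⁻¹ᵁ U.1), ∃ c' : Γ(Z, i ⁻¹ᵁ U.1), b' • n = c' • s')
    (I : Z.Modules) (ι : I ⟶ Coh.structureModule Z) [Mono ι] [I.IsQuasicoherent]
    (x₀ : Γ(I, i ⁻¹ᵁ U.1)) (hx₀ : (ι.app (i ⁻¹ᵁ U.1)).hom x₀ ≠ 0) :
    P ((pushforward i).obj I) := by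
  let V : Z.Opens := i ⁻¹ᵁ U.1
  have hV : IsAffineOpen V := U.2.preimage i
  have hVne : (V : Set Z).Nonempty := by
    by_contra hVe
    have hbot : V = ⊥ := by
      ext x
      simp only [Opens.coe_bot, Set.mem_empty_iff_false, iff_false]
      exact fun hx => hVe ⟨x, hx⟩
    apply hb'0
    haveI : Subsingleton Γ(Z, V) := by
      rw [hbot]
      infer_instance
    exact Subsingleton.elim _ _
  haveI : Nonempty V := ⟨⟨hVne.some, hVne.some_mem⟩⟩
  haveI : IsDomain Γ(Z, V) := IsIntegral.component_integral V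
  haveI : IsLocallyNoetherian Z := LocallyOfFiniteType.isLocallyNoetherian i
  obtain ⟨J, ιJ, β, hιJ, hJq, hβ, one, hone, hβone⟩ := exists_ideal_image H V hV hVne s' hs'
  haveI := hιJ
  haveI := hJq
  haveI := hβ
  haveI := isQuasicoherent_image_ηV H V
  haveI : (jj H V).IsQuasicoherent :=
    Groth.Agent.Lib.helper7.QCohPushQC.isQuasicoherent_pushforward V.ι (H.restrict V.ι)
  haveI : (kernel (ηV H V)).IsQuasicoherent :=
    Groth.Agent.Lib.helper7.CohKer.isQuasicoherent_kernel (ηV H V)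
  -- `H` and its image in `j_* j^* H`
  have hST := shortExact_kernel_image (ηV H V)
  have h1 : P ((pushforward i).obj H) ↔ P ((pushforward i).obj (Abelian.image (ηV H V))) :=
    P_iff_of_small_kernel hyp U _ hST hcohH (1 : Γ(Z, V)) one_ne_zero
      (fun t => by rw [eq_zero_of_kernel_ηV H V t]; exact smul_zero _)
  have hcohHbar : Coh.IsCoh ((pushforward i).obj (Abelian.image (ηV H V))) :=
    (isCoh_push_of_shortExact _ hST hcohH).2
  -- the conductor ideal `J`
  haveI : (cokernel β).IsQuasicoherent :=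
    Groth.Agent.Lib.helper7.CohKer.isQuasicoherent_cokernel β
  have hSC := shortExact_cokernel β
  have h2 : P ((pushforward i).obj J) ↔ P ((pushforward i).obj (Abelian.image (ηV H V))) :=
    P_iff_of_small_cokernel hyp U _ hSC hcohHbar b' hb'0
      (fun c => smul_cokernel_eq_zero H V hV s' b' hb' β one hβone c)
  have hcohJ : Coh.IsCoh ((pushforward i).obj J) := (isCoh_push_of_shortExact _ hSC hcohHbar).1
  -- the intersection `I ∩ J`
  haveI := isQuasicoherent_interMod ι ιJ
  haveI : (cokernel (interι₂ ι ιJ)).IsQuasicoherent :=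
    Groth.Agent.Lib.helper7.CohKer.isQuasicoherent_cokernel _
  haveI : (cokernel (interι₁ ι ιJ)).IsQuasicoherent :=
    Groth.Agent.Lib.helper7.CohKer.isQuasicoherent_cokernel _
  have hSK₂ := shortExact_cokernel (interι₂ ι ιJ)
  have h3 : P ((pushforward i).obj (interMod ι ιJ)) ↔ P ((pushforward i).obj J) :=
    P_iff_of_small_cokernel hyp U _ hSK₂ hcohJ _ hx₀
      (fun q => smul_cokernel_interι₂ ι ιJ V hV x₀ q)
  have hcohI : Coh.IsCoh ((pushforward i).obj I) := by
    haveI : ((pushforward i).obj I).IsQuasicoherent :=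
      Groth.Agent.Lib.helper16.QCohAffinePush.isQuasicoherent_push i I
    exact Groth.Agent.S0046.result X _ _ ((pushforward i).map ι) (isCoh_push_structureModule i) ‹_›
  have hSK₁ := shortExact_cokernel (interι₁ ι ιJ)
  have hone' : (show Γ(Z, V) from (ιJ.app V).hom one) ≠ 0 := by
    rw [hone]
    exact one_ne_zero
  have h4 : P ((pushforward i).obj (interMod ι ιJ)) ↔ P ((pushforward i).obj I) :=
    P_iff_of_small_cokernel hyp U _ hSK₁ hcohI _ hone'
      (fun q => smul_cokernel_interι₁ ι ιJ V hV one q)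
  exact h4.mp (h3.mpr (h2.mpr (h1.mp hPH)))

end Chain

section Unit

variable (i) (G : X.Modules) [G.IsQuasicoherent]

/-- the unit `G ⟶ i_* i^* G` of a closed immersion -/
noncomputable abbrev unitOf : G ⟶ (pushforward i).obj ((Scheme.Modules.pullback i).obj G) :=
  (pullbackPushforwardAdjunction i).unit.app G

/-- the unit on sections, with values in sections of `i^* G` -/
noncomputable def unitSec (U : X.Opens) :
    Γ(G, U) →+ Γ((Scheme.Modules.pullback i).obj G, i ⁻¹ᵁ U) :=
  ((unitOf i G).app U).hom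

theorem isBC_unitSec {U : X.Opens} (hU : IsAffineOpen U) :
    IsBC (i.app U).hom (unitSec i G U) := by
  have hV : IsAffineOpen (i ⁻¹ᵁ U) := hU.preimage i
  have hbc := isBC_ρ i hU hV le_rfl G
  rw [Scheme.Hom.appLE_eq_app] at hbc
  have : ρ i (le_refl (i ⁻¹ᵁ U)) G = unitSec i G U := by
    ext a
    exact Groth.Agent.Lib.helper8.ClosedImmUnit.ρ_self_apply i G U a
  rw [this] at hbc
  exact hbc

theorem unitOf_app_surjective {U : X.Opens} (hU : IsAffineOpen U) :
    Function.Surjective ((unitOf i G).app U).hom := by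
  have h : Function.Surjective (unitSec i G U) :=
    IsBC.surjective_of_surjective (isBC_unitSec i G hU) (i.app_surjective U hU)
  exact h

theorem unitOf_app_eq_zero_iff {U : X.Opens} (hU : IsAffineOpen U) (t : Γ(G, U)) :
    ((unitOf i G).app U).hom t = 0 ↔
      t ∈ i.ker.ideal ⟨U, hU⟩ • (⊤ : Submodule Γ(X, U) Γ(G, U)) := by
  rw [Scheme.Hom.ker_apply]
  have h := IsBC.eq_zero_iff_of_surjective (isBC_unitSec i G hU) (i.app_surjective U hU) t
  exact h

instance epi_unitOf : Epi (unitOf i G) :=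
  Groth.Agent.Lib.helper16.QCohEpi.epi_of_surjective_on_basis _ {U | IsAffineOpen U}
    X.isBasis_affineOpens (fun _ hU => unitOf_app_surjective i G hU)

end Unit

section Core

variable [IsNoetherian X] [IsIntegral Z] (hyp : Hyp i P)

include hyp in
/-- **the dévissage core**: if `P` holds for a coherent `G`, killed by a power of the ideal of the
integral closed subscheme `i : Z ⟶ X`, of rank one at the generic point of `Z` (in terms of sections
over an affine open `U`), then `P` holds for `i_* I` for every quasi-coherent ideal `I` of `O_Z` with a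
nonzero section over `i⁻¹ U`. -/
theorem core (G : X.Modules) (hG : Coh.IsCoh G)
    (hGk : ∃ n : ℕ, ClSub.KilledByIdeal (i.ker ^ n) G) (hPG : P G) (U : X.affineOpens)
    (hGa : ∃ b : Γ(X, U.1), b ∉ i.ker.ideal U ∧
      ∀ x ∈ i.ker.ideal U • (⊤ : Submodule Γ(X, U.1) Γ(G, U.1)), b • x = 0)
    (hGb : ∃ s : Γ(G, U.1),
      (∀ a : Γ(X, U.1), a • s ∈ i.ker.ideal U • (⊤ : Submodule Γ(X, U.1) Γ(G, U.1)) →
        a ∈ i.ker.ideal U) ∧
      ∃ b : Γ(X, U.1), b ∉ i.ker.ideal U ∧ ∀ m : Γ(G, U.1), ∃ c : Γ(X, U.1), b • m = c • s)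
    (I : Z.Modules) (ι : I ⟶ Coh.structureModule Z) [Mono ι] [I.IsQuasicoherent]
    (x₀ : Γ(I, i ⁻¹ᵁ U.1)) (hx₀ : (ι.app (i ⁻¹ᵁ U.1)).hom x₀ ≠ 0) :
    P ((pushforward i).obj I) := by
  haveI : G.IsQuasicoherent := hG.1
  let H : Z.Modules := (Scheme.Modules.pullback i).obj G
  haveI : H.IsQuasicoherent := Groth.Agent.Lib.helper16.QCohPullback.isQuasicoherent_pullback i G
  let u : G ⟶ (pushforward i).obj H := unitOf i G
  haveI : ((pushforward i).obj H).IsQuasicoherent :=
    Groth.Agent.Lib.helper16.QCohAffinePush.isQuasicoherent_push i H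
  haveI : (kernel u).IsQuasicoherent := Groth.Agent.Lib.helper7.CohKer.isQuasicoherent_kernel u
  have hcohH : Coh.IsCoh ((pushforward i).obj H) :=
    ⟨inferInstance, Groth.Agent.Lib.helper7.CohKer.isFiniteType_of_epi u hG.2⟩
  have hcohT : Coh.IsCoh (kernel u) := Groth.Agent.S0046.result X G _ (kernel.ι u) hG ‹_›
  -- the kernel of the unit is small
  obtain ⟨n, hn⟩ := hGk
  obtain ⟨b₀, hb₀, hb₀k⟩ := hGa
  have hsmallT : Small i (kernel u) := by
    refine ⟨hcohT, ⟨n, fun W a ha t => ?_⟩, U, b₀, hb₀, fun t => ?_⟩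
    · apply Groth.Agent.S2542.injective_app_of_mono (kernel.ι u) W.1
      have h1 : ((kernel.ι u).app W.1).hom (a • (show Γ(kernel u, W.1) from t)) =
          a • ((kernel.ι u).app W.1).hom t := Hom.app_smul (kernel.ι u) a t
      exact (h1.trans (hn W a ha _)).trans (map_zero ((kernel.ι u).app W.1).hom).symm
    · apply Groth.Agent.S2542.injective_app_of_mono (kernel.ι u) U.1
      have h1 : ((kernel.ι u).app U.1).hom (b₀ • t) = b₀ • ((kernel.ι u).app U.1).hom t :=
        Hom.app_smul (kernel.ι u) b₀ t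
      have h2 : ((kernel.ι u).app U.1).hom t ∈
          i.ker.ideal U • (⊤ : Submodule Γ(X, U.1) Γ(G, U.1)) := by
        rw [← unitOf_app_eq_zero_iff i G U.2]
        rw [← ConcreteCategory.comp_apply, ← Hom.comp_app, kernel.condition]
        rfl
      exact (h1.trans (hb₀k _ h2)).trans (map_zero ((kernel.ι u).app U.1).hom).symm
  have hPT : P (kernel u) := hyp.small _ hsmallT
  -- `P` holds for `i_* i^* G`
  have hSu : (ShortComplex.mk (kernel.ι u) u (kernel.condition u)).ShortExact :=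
    { exact := ShortComplex.exact_of_f_is_kernel _ (kernelIsKernel u)
      mono_f := inferInstanceAs (Mono (kernel.ι u))
      epi_g := inferInstanceAs (Epi (unitOf i G)) }
  have hPH : P ((pushforward i).obj H) :=
    (hyp.tot _ hSu hcohT hG hcohH ⟨n, hn⟩).1 hPT hPG
  -- rank one data on `V = i⁻¹ U`
  obtain ⟨s, hs, b, hb, hbs⟩ := hGb
  let φ : Γ(X, U.1) →+* Γ(Z, i ⁻¹ᵁ U.1) := (i.app U.1).hom
  have hφs : Function.Surjective φ := i.app_surjective U.1 U.2
  have hφk : ∀ a : Γ(X, U.1), φ a = 0 ↔ a ∈ i.ker.ideal U := by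
    intro a
    rw [Scheme.Hom.ker_apply, RingHom.mem_ker]
  let s' : Γ(H, i ⁻¹ᵁ U.1) := (u.app U.1).hom s
  have hlin : ∀ (a : Γ(X, U.1)) (m : Γ(G, U.1)),
      (φ a • (show Γ(H, i ⁻¹ᵁ U.1) from (u.app U.1).hom m) : Γ(H, i ⁻¹ᵁ U.1)) =
        (u.app U.1).hom (a • m) := by
    intro a m
    have h2 : (u.app U.1).hom (a • m) = a • (u.app U.1).hom m := Hom.app_smul u a m
    rw [h2]
    rfl
  refine P_push_ideal_of_rankOne hyp U H hcohH hPH s' ?_ (φ b) ?_ ?_ I ι x₀ hx₀
  · intro r hr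
    obtain ⟨a, rfl⟩ := hφs r
    rw [hφk]
    apply hs
    rw [← unitOf_app_eq_zero_iff i G U.2]
    have h3 := hlin a s
    exact h3.symm.trans hr
  · intro h0
    exact hb ((hφk b).mp h0)
  · intro n'
    obtain ⟨m, rfl⟩ := unitOf_app_surjective i G U.2 n'
    obtain ⟨c, hc⟩ := hbs m
    refine ⟨φ c, ?_⟩
    have h4 := hlin b m
    have h5 := hlin c s
    exact h4.trans ((congrArg (u.app U.1).hom hc).trans h5.symm)

end Core

end Groth.Agent.Lib.helper8.Dev
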