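import Mathlib
import Groth.Agent.Lib.Helper8.DevCore
import Groth.Agent.Lib.Helper16.CohStalk

set_option autoImplicit false
universe u
open CategoryTheory CategoryTheory.Limits AlgebraicGeometry TopologicalSpace Opposite

namespace Groth.Agent.Lib.helper8.Dev

open Groth.Agent.Lib.helper8.PullbackUnit Scheme.Modules Groth.Agent.Lib.helper8.SchemeSupport

variable {X Z : Scheme.{u}}

section Generic

variable (i : Z ⟶ X) [IsClosedImmersion i] [IsIntegral Z]

theorem genericPoint_mem_basicOpen_iff {V : Z.Opens} (f : Γ(Z, V)) :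
    genericPoint Z ∈ Z.basicOpen f ↔ f ≠ 0 := by
  constructor
  · rintro h rfl
    rw [Scheme.basicOpen_zero] at h
    exact h
  · intro hf
    have hne : (Z.basicOpen f : Set Z).Nonempty := by
      rw [Set.nonempty_iff_ne_empty]
      intro he
      apply hf
      rw [← AlgebraicGeometry.basicOpen_eq_bot_iff]
      exact SetLike.coe_injective he
    exact ((genericPoint_spec Z).mem_open_set_iff (Z.basicOpen f).2).mpr
      (by rw [Set.univ_inter]; exact hne)

omit [IsClosedImmersion i] in
/-- the generic point of `Z` lies in `D(a)` iff `a` does not vanish on `Z` -/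
theorem map_genericPoint_mem_basicOpen_iff {U : X.Opens} (a : Γ(X, U)) :
    i (genericPoint Z) ∈ X.basicOpen a ↔ (i.app U).hom a ≠ 0 := by
  have h1 : i ⁻¹ᵁ X.basicOpen a = Z.basicOpen ((i.app U).hom a) := Scheme.preimage_basicOpen i a
  have h2 : i (genericPoint Z) ∈ X.basicOpen a ↔ genericPoint Z ∈ i ⁻¹ᵁ X.basicOpen a := Iff.rfl
  rw [h2, h1, genericPoint_mem_basicOpen_iff]

omit [IsClosedImmersion i] in
theorem map_genericPoint_mem_iff (U : X.Opens) :
    i (genericPoint Z) ∈ U ↔ ((i ⁻¹ᵁ U : Z.Opens) : Set Z).Nonempty := by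
  have h2 : i (genericPoint Z) ∈ U ↔ genericPoint Z ∈ i ⁻¹ᵁ U := Iff.rfl
  rw [h2]
  have := (genericPoint_spec Z).mem_open_set_iff (i ⁻¹ᵁ U).2
  rw [Set.univ_inter] at this
  exact this

theorem mem_ker_ideal_iff (U : X.affineOpens) (a : Γ(X, U.1)) :
    a ∈ i.ker.ideal U ↔ i (genericPoint Z) ∉ X.basicOpen a := by
  rw [map_genericPoint_mem_basicOpen_iff, Scheme.Hom.ker_apply, RingHom.mem_ker, not_not]

/-- the prime ideal of the image of the generic point is the kernel ideal -/
theorem primeIdealOf_eq_ker_ideal (U : X.affineOpens) (hξ : i (genericPoint Z) ∈ U.1) :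
    (U.2.primeIdealOf ⟨i (genericPoint Z), hξ⟩).asIdeal = i.ker.ideal U := by
  ext a
  rw [mem_ker_ideal_iff, Groth.Agent.Lib.helper28.mem_basicOpen_iff U.2 _ hξ a, not_not]

end Generic

section Supp

theorem support_eq_annI_support (F : X.Modules) (hF : Coh.IsCoh F) :
    CohB1.support F = ((annI F hF).support : Set X) := by
  haveI : F.IsQuasicoherent := hF.1
  exact (annIdeal_support F hF.2).symm

theorem killedByIdeal_iff_le_annI (𝔞 : X.IdealSheafData) (F : X.Modules) (hF : Coh.IsCoh F) :
    ClSub.KilledByIdeal 𝔞 F ↔ 𝔞 ≤ annI F hF := by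
  constructor
  · intro h U a ha
    rw [mem_annI_iff]
    exact fun t => h U a ha t
  · intro h U a ha m
    exact (mem_annI_iff F hF U a).mp (h U ha) m

theorem annI_le_of_epi {F F'' : X.Modules} (p : F ⟶ F'') [Epi p] (hF : Coh.IsCoh F)
    (hF'' : Coh.IsCoh F'') : annI F hF ≤ annI F'' hF'' := by
  haveI : F.IsQuasicoherent := hF.1
  haveI : F''.IsQuasicoherent := hF''.1
  intro U a ha
  rw [mem_annI_iff] at ha ⊢
  intro t
  obtain ⟨t', rfl⟩ := Groth.Agent.Lib.helper16.QCohEpi.surjective_app_of_epi p U.2 t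
  have h1 : (p.app U.1).hom (a • t') = a • (p.app U.1).hom t' := Hom.app_smul p a t'
  rw [← h1, ha, map_zero]

theorem support_subset_of_mono {F' F : X.Modules} (f : F' ⟶ F) [Mono f] (hF' : Coh.IsCoh F')
    (hF : Coh.IsCoh F) : CohB1.support F' ⊆ CohB1.support F := by
  rw [support_eq_annI_support F' hF', support_eq_annI_support F hF]
  exact Scheme.IdealSheafData.support_antitone (annI_le_of_mono f hF' hF)

theorem support_subset_of_epi {F F'' : X.Modules} (p : F ⟶ F'') [Epi p] (hF : Coh.IsCoh F)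
    (hF'' : Coh.IsCoh F'') : CohB1.support F'' ⊆ CohB1.support F := by
  rw [support_eq_annI_support F'' hF'', support_eq_annI_support F hF]
  exact Scheme.IdealSheafData.support_antitone (annI_le_of_epi p hF hF'')

variable (i : Z ⟶ X) [IsClosedImmersion i]

theorem support_subset_range_of_killed (F : X.Modules) (hF : Coh.IsCoh F) (n : ℕ)
    (hk : ClSub.KilledByIdeal (i.ker ^ n) F) : CohB1.support F ⊆ Set.range i := by
  rw [support_eq_annI_support F hF]
  have h1 := Scheme.IdealSheafData.support_antitone ((killedByIdeal_iff_le_annI _ F hF).mp hk)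
  have h2 : ((i.ker ^ n).support : Set X) ⊆ Set.range i := by
    rcases Nat.eq_zero_or_pos n with hn | hn
    · subst hn
      rw [pow_zero]
      intro x hx
      exact hx.elim
    · rw [Scheme.IdealSheafData.support_pow _ n hn.ne', Scheme.Hom.support_ker,
        i.isClosedEmbedding.isClosed_range.closure_eq]
  exact fun x hx => h2 (h1 hx)

theorem exists_killed_of_support_subset [IsNoetherian X] (G : X.Modules) (hG : Coh.IsCoh G)
    (hsupp : CohB1.support G ⊆ Set.range i) : ∃ n : ℕ, ClSub.KilledByIdeal (i.ker ^ n) G := by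
  rw [support_eq_annI_support G hG] at hsupp
  have h1 : (annI G hG).support ≤ i.ker.support := by
    intro x hx
    have := hsupp hx
    show x ∈ (i.ker.support : Set X)
    rw [Scheme.Hom.support_ker, i.isClosedEmbedding.isClosed_range.closure_eq]
    exact this
  have h2 : i.ker.radical ≤ (annI G hG).radical := by
    rw [← Scheme.IdealSheafData.vanishingIdeal_support, ← Scheme.IdealSheafData.vanishingIdeal_support]
    exact Scheme.IdealSheafData.vanishingIdeal_antimono h1
  obtain ⟨n, hn⟩ := exists_radical_pow_le (annI G hG)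
  refine ⟨n, (killedByIdeal_iff_le_annI _ G hG).mpr (le_trans ?_ hn)⟩
  intro U
  rw [Scheme.IdealSheafData.ideal_pow, Scheme.IdealSheafData.ideal_pow]
  refine Ideal.pow_right_mono ?_ n
  exact (Scheme.IdealSheafData.le_radical i.ker U).trans (h2 U)

end Supp

section Small

variable (i : Z ⟶ X) [IsClosedImmersion i] [IsIntegral Z]

theorem map_genericPoint_mem_of_ker_ne_top (U : X.affineOpens) (b : Γ(X, U.1))
    (hb : b ∉ i.ker.ideal U) : i (genericPoint Z) ∈ U.1 := by
  rw [mem_ker_ideal_iff, not_not] at hb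
  exact X.basicOpen_le b hb

/-- a small module has vanishing stalk at the generic point -/
theorem map_genericPoint_notMem_support_of_small (F' : X.Modules) (h : Small i F') :
    i (genericPoint Z) ∉ CohB1.support F' := by
  obtain ⟨hF', -, U, b, hb, hkill⟩ := h
  have hξ := map_genericPoint_mem_of_ker_ne_top i U b hb
  rw [support_eq_annI_support F' hF']
  intro hmem
  rw [SetLike.mem_coe, Scheme.IdealSheafData.mem_support_iff_of_mem (U := U) hξ,
    Scheme.mem_zeroLocus_iff] at hmem
  have h1 : b ∈ (annI F' hF').ideal U := (mem_annI_iff F' hF' U b).mpr hkill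
  apply hmem b h1
  rw [mem_ker_ideal_iff, not_not] at hb
  exact hb

omit [IsIntegral Z] in
theorem support_subset_range_of_small (F' : X.Modules) (h : Small i F') :
    CohB1.support F' ⊆ Set.range i := by
  obtain ⟨hF', ⟨n, hn⟩, -⟩ := h
  exact support_subset_range_of_killed i F' hF' n hn

omit [IsIntegral Z] in
/-- a nonzero module on `Z` has a nonzero section over the preimage of an affine open of `X` -/
theorem exists_section_ne_zero (I : Z.Modules) (hI : ¬ IsZero I) :
    ∃ (U : X.affineOpens) (x₀ : Γ(I, i ⁻¹ᵁ U.1)), x₀ ≠ 0 := by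
  by_contra hcon
  push Not at hcon
  apply hI
  apply isZero_of_isZero_push i I
  refine Groth.Agent.Lib.helper8.PinchMod.isZero_of_subsingleton_sections (fun U hU => ?_)
  refine ⟨fun a b => ?_⟩
  have ha : (show Γ(I, i ⁻¹ᵁ U) from a) = 0 := hcon ⟨U, hU⟩ a
  have hb : (show Γ(I, i ⁻¹ᵁ U) from b) = 0 := hcon ⟨U, hU⟩ b
  exact ha.trans hb.symm

/-- the direct image of a nonzero ideal of an integral closed subscheme is supported everywhere on
it -/
theorem range_subset_support_push [IsNoetherian X] (I : Z.Modules)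
    (ι : I ⟶ Coh.structureModule Z) [Mono ι] [I.IsQuasicoherent] (hI : ¬ IsZero I)
    (hc : Coh.IsCoh ((pushforward i).obj I)) :
    Set.range i ⊆ CohB1.support ((pushforward i).obj I) := by
  obtain ⟨U, x₀, hx₀⟩ := exists_section_ne_zero i I hI
  have hιx₀ : (ι.app (i ⁻¹ᵁ U.1)).hom x₀ ≠ 0 := by
    intro h0
    apply hx₀
    apply Groth.Agent.S2542.injective_app_of_mono ι (i ⁻¹ᵁ U.1)
    rw [h0, map_zero]
  have hVne : ((i ⁻¹ᵁ U.1 : Z.Opens) : Set Z).Nonempty := by
    by_contra hVe
    have hbot : i ⁻¹ᵁ U.1 = ⊥ := by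
      ext x
      simp only [Opens.coe_bot, Set.mem_empty_iff_false, iff_false]
      exact fun hx => hVe ⟨x, hx⟩
    apply hιx₀
    haveI : Subsingleton Γ(Z, i ⁻¹ᵁ U.1) := by
      rw [hbot]
      infer_instance
    exact Subsingleton.elim (α := Γ(Z, i ⁻¹ᵁ U.1)) _ _
  have hξ : i (genericPoint Z) ∈ U.1 := (map_genericPoint_mem_iff i U.1).mpr hVne
  haveI : Nonempty (i ⁻¹ᵁ U.1 : Z.Opens) := ⟨⟨hVne.some, hVne.some_mem⟩⟩
  haveI : IsDomain Γ(Z, i ⁻¹ᵁ U.1) := IsIntegral.component_integral _
  have hmem : i (genericPoint Z) ∈ CohB1.support ((pushforward i).obj I) := by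
    rw [support_eq_annI_support _ hc, SetLike.mem_coe,
      Scheme.IdealSheafData.mem_support_iff_of_mem (U := U) hξ, Scheme.mem_zeroLocus_iff]
    intro f hf
    rw [← mem_ker_ideal_iff, Scheme.Hom.ker_apply, RingHom.mem_ker]
    have h1 := (mem_annI_iff _ hc U f).mp hf x₀
    have h2 : ((i.app U.1).hom f • x₀ : Γ(I, i ⁻¹ᵁ U.1)) = 0 := h1
    have h3 := congrArg (ι.app (i ⁻¹ᵁ U.1)).hom h2
    rw [Hom.app_smul, map_zero, structureModule_smul] at h3
    rcases (mul_eq_zero (M₀ := Γ(Z, i ⁻¹ᵁ U.1))).mp h3 with h4 | h4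
    · exact h4
    · exact absurd h4 hιx₀
  have hclosed : IsClosed (CohB1.support ((pushforward i).obj I)) := by
    rw [support_eq_annI_support _ hc]
    exact (annI _ hc).support.isClosed
  have hcl : closure {i (genericPoint Z)} = Set.range i := by
    have h1 : closure {genericPoint Z} = (Set.univ : Set Z) := (genericPoint_spec Z)
    rw [← Set.image_singleton, i.isClosedEmbedding.closure_image_eq, h1, Set.image_univ]
  rw [← hcl]
  exact hclosed.closure_subset_iff.mpr (Set.singleton_subset_iff.mpr hmem)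

end Small

section RankOneData

open Groth.Agent.Lib.helper16.CohStalk

variable (i : Z ⟶ X) [IsClosedImmersion i] [IsIntegral Z] [IsNoetherian X]

/-- section-level data of a coherent module whose stalk at the generic point of `Z` is the residue
field -/
theorem rankOne_data (G : X.Modules) (hG : Coh.IsCoh G) (U : X.affineOpens)
    (hξ : i (genericPoint Z) ∈ U.1)
    (e : ↑(G.presheaf.stalk (i (genericPoint Z))) ≃ₗ[X.presheaf.stalk (i (genericPoint Z))]
      IsLocalRing.ResidueField (X.presheaf.stalk (i (genericPoint Z)))) :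
    (∃ b : Γ(X, U.1), b ∉ i.ker.ideal U ∧
      ∀ x ∈ i.ker.ideal U • (⊤ : Submodule Γ(X, U.1) Γ(G, U.1)), b • x = 0) ∧
    (∃ s : Γ(G, U.1),
      (∀ a : Γ(X, U.1), a • s ∈ i.ker.ideal U • (⊤ : Submodule Γ(X, U.1) Γ(G, U.1)) →
        a ∈ i.ker.ideal U) ∧
      ∃ b : Γ(X, U.1), b ∉ i.ker.ideal U ∧ ∀ m : Γ(G, U.1), ∃ c : Γ(X, U.1), b • m = c • s) := by
  haveI : G.IsQuasicoherent := hG.1
  letI := TopCat.Presheaf.algebra_section_stalk X.presheaf (⟨i (genericPoint Z), hξ⟩ : U.1)
  letI := modStalk G (i (genericPoint Z)) hξ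
  haveI := isScalarTower_stalk G (i (genericPoint Z)) hξ
  haveI : IsLocalization.AtPrime (X.presheaf.stalk (i (genericPoint Z)))
      (U.2.primeIdealOf ⟨i (genericPoint Z), hξ⟩).asIdeal :=
    U.2.isLocalization_stalk ⟨i (genericPoint Z), hξ⟩
  haveI := isLocalizedModule_stalk G U.2 (i (genericPoint Z)) hξ
  haveI : Module.Finite Γ(X, U.1) Γ(G, U.1) :=
    Groth.Agent.Lib.helper16.CohFinite.finite_sections_of_isCoh G hG U.2
  haveI : IsNoetherianRing Γ(X, U.1) := IsLocallyNoetherian.component_noetherian U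
  have h1 := exists_smul_smul_eq_zero (U.2.primeIdealOf ⟨i (genericPoint Z), hξ⟩).asIdeal
    (germLin G (i (genericPoint Z)) hξ) e
  have h2 := exists_generic_generator (U.2.primeIdealOf ⟨i (genericPoint Z), hξ⟩).asIdeal
    (germLin G (i (genericPoint Z)) hξ) e
  rw [primeIdealOf_eq_ker_ideal i U hξ] at h1 h2
  exact ⟨h1, h2⟩

end RankOneData

end Groth.Agent.Lib.helper8.Dev
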