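import Mathlib.AlgebraicGeometry.Morphisms.Proper
import Mathlib.AlgebraicGeometry.Morphisms.Immersion
import Mathlib.AlgebraicGeometry.PullbackCarrier

/-!
Descent of separatedness / quasi-compactness / properness along surjective universally closed
morphisms (helper8).  (Stacks 09MQ, 03GN.)
-/

set_option autoImplicit false
universe u

open CategoryTheory CategoryTheory.Limits AlgebraicGeometry

namespace Groth.Agent.Lib.helper8

variable {T T' S : Scheme.{u}}

/-- If `h : T ⟶ T'` is surjective and `h ≫ u` is quasi-compact then `u` is quasi-compact. -/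
theorem quasiCompact_of_comp_surjective (h : T ⟶ T') (u : T' ⟶ S) [Surjective h]
    [QuasiCompact (h ≫ u)] : QuasiCompact u := by
  constructor
  intro U hU hUc
  have h1 : IsCompact ((h ≫ u).base ⁻¹' U) := QuasiCompact.isCompact_preimage U hU hUc
  have h2 : u.base ⁻¹' U = h.base '' ((h ≫ u).base ⁻¹' U) := by
    ext y
    constructor
    · intro hy
      obtain ⟨t, rfl⟩ := h.surjective y
      exact ⟨t, hy, rfl⟩
    · rintro ⟨t, ht, rfl⟩
      exact ht
  rw [h2]
  exact h1.image h.continuous

/-- If `h : T ⟶ T'` is surjective and universally closed and `h ≫ u` is separated then `u` is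
separated. -/
theorem isSeparated_of_comp_surjective_universallyClosed (h : T ⟶ T') (u : T' ⟶ S) [Surjective h]
    [UniversallyClosed h] [IsSeparated (h ≫ u)] : IsSeparated u := by
  let m : pullback (h ≫ u) (h ≫ u) ⟶ pullback u u :=
    pullback.map (h ≫ u) (h ≫ u) u u h h (𝟙 S) ((Category.comp_id _).trans rfl)
      ((Category.comp_id _).trans rfl)
  haveI : UniversallyClosed m :=
    MorphismProperty.pullbackMap (P := @UniversallyClosed) (f := h ≫ u) (g := h ≫ u) (f' := u)
      (g' := u) (i₁ := h) (i₂ := h) inferInstance inferInstance rfl rfl
  have hcomm : pullback.diagonal (h ≫ u) ≫ m = h ≫ pullback.diagonal u := by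
    apply pullback.hom_ext
    · simp only [m, Category.assoc, pullback.lift_fst, pullback.map, pullback.diagonal_fst,
        Category.comp_id]
      rw [← Category.assoc, pullback.diagonal_fst, Category.id_comp]
    · simp only [m, Category.assoc, pullback.lift_snd, pullback.map, pullback.diagonal_snd,
        Category.comp_id]
      rw [← Category.assoc, pullback.diagonal_snd, Category.id_comp]
  have hr : Set.range (pullback.diagonal u).base =
      m.base '' Set.range (pullback.diagonal (h ≫ u)).base := by
    rw [← Set.range_comp]
    have h1 : (m.base ∘ (pullback.diagonal (h ≫ u)).base) =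
        ((pullback.diagonal u).base ∘ h.base) := by
      funext t
      have := congrArg (fun φ : T ⟶ pullback u u => φ.base t) hcomm
      exact this
    rw [h1, Set.range_comp, Set.range_eq_univ.mpr h.surjective, Set.image_univ]
  have hcl : IsClosed (Set.range (pullback.diagonal u).base) := by
    rw [hr]
    exact m.isClosedMap _ (pullback.diagonal (h ≫ u)).isClosedEmbedding.isClosed_range
  exact ⟨IsClosedImmersion.of_isPreimmersion _ hcl⟩

end Groth.Agent.Lib.helper8
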