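import Groth.Prelude.Def_ClSub2
import Mathlib.AlgebraicGeometry.PullbackCarrier
import Mathlib.AlgebraicGeometry.IdealSheaf.Functorial

/-!
Helper lemmas about `ClSub.IsProperOver` (helper8).
-/

set_option autoImplicit false
universe u

open CategoryTheory CategoryTheory.Limits AlgebraicGeometry

namespace Groth.Agent.Lib.helper8

variable {X S : Scheme.{u}}

/-- If `j : P ⟶ X` is a closed immersion with `P` proper over `S`, then the range of `j` is
proper over `S`. -/
theorem isProperOver_range_of_isClosedImmersion (f : X ⟶ S) {P : Scheme.{u}} (j : P ⟶ X)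
    [IsClosedImmersion j] [IsProper (j ≫ f)] : ClSub.IsProperOver f (Set.range j.base) := by
  have hcl : IsClosed (Set.range j.base) := j.isClosedEmbedding.isClosed_range
  refine ⟨hcl, ?_⟩
  set I' := Scheme.IdealSheafData.vanishingIdeal ⟨Set.range j.base, hcl⟩ with hI'
  have H : j.ker ≤ I'.subschemeι.ker := by
    rw [Scheme.IdealSheafData.ker_subschemeι, hI',
      ← Scheme.IdealSheafData.le_support_iff_le_vanishingIdeal]
    exact j.range_subset_ker_support
  let l : I'.subscheme ⟶ P := IsClosedImmersion.lift j I'.subschemeι H
  have hl : l ≫ j = I'.subschemeι := IsClosedImmersion.lift_fac j I'.subschemeι H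
  haveI : IsClosedImmersion (l ≫ j) := by rw [hl]; infer_instance
  haveI : IsClosedImmersion l := IsClosedImmersion.of_comp l j
  have : I'.subschemeι ≫ f = l ≫ (j ≫ f) := by rw [← Category.assoc, hl]
  rw [this]
  infer_instance

end Groth.Agent.Lib.helper8
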