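import Mathlib
import Groth.Agent.Lib.Helper8.SchemeSupport
import Groth.Agent.Lib.Helper8.ProperDescent
import Groth.Agent.Lib.Helper8.ProperOver

/-!
# Properness of the (scheme-theoretic) support (helper8)

* `isProper_of_comp_surjective`
* `isProper_annIdeal_subschemeι_comp`: if `Supp F` is proper over `S` so is the scheme-theoretic
  support
* `isClosed_support`, `subsingleton_sections_of_isEmpty`, `support_subset_range_of_iso`
-/

set_option autoImplicit false
universe u
open CategoryTheory AlgebraicGeometry TopologicalSpace Opposite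

namespace Groth.Agent.Lib.helper8.SchemeSupport

section Proper

variable {T T' S : Scheme.{u}}

theorem isProper_of_comp_surjective (r : T ⟶ T') (u : T' ⟶ S) [UniversallyClosed r]
    [Surjective r] [LocallyOfFiniteType u] [IsProper (r ≫ u)] : IsProper u := by
  haveI : UniversallyClosed u := UniversallyClosed.of_comp_surjective r u
  haveI : IsSeparated u := isSeparated_of_comp_surjective_universallyClosed r u
  exact {}

end Proper

section SupportProper

open Scheme.Modules

variable {X S : Scheme.{u}} (f : X ⟶ S) (F : X.Modules) [F.IsQuasicoherent]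
  (hft : SheafOfModules.IsFiniteType (R := X.ringCatSheaf) F)

/-- if the support of `F` is proper over `S` (with reduced structure), then so is the
scheme-theoretic support -/
theorem isProper_annIdeal_subschemeι_comp [LocallyOfFiniteType f]
    (h : ClSub.IsProperOver f {x | ¬ Subsingleton (ToType (F.presheaf.stalk x))}) :
    IsProper ((annIdeal F hft).subschemeι ≫ f) := by
  obtain ⟨hc, hp⟩ := h
  set J := annIdeal F hft with hJ
  set I₀ := Scheme.IdealSheafData.vanishingIdeal
    ⟨{x | ¬ Subsingleton (ToType (F.presheaf.stalk x))}, hc⟩ with hI₀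
  have hsupp : (J.support : Set X) = {x | ¬ Subsingleton (ToType (F.presheaf.stalk x))} :=
    annIdeal_support F hft
  have hle : J ≤ I₀ := by
    rw [hI₀, ← Scheme.IdealSheafData.le_support_iff_le_vanishingIdeal]
    intro x hx
    rw [← SetLike.mem_coe, hsupp]
    exact hx
  let r := Scheme.IdealSheafData.inclusion hle
  have hr : r ≫ J.subschemeι = I₀.subschemeι := Scheme.IdealSheafData.inclusion_subschemeι hle
  haveI : IsClosedImmersion (r ≫ J.subschemeι) := by rw [hr]; infer_instance
  haveI : IsClosedImmersion r := IsClosedImmersion.of_comp r J.subschemeι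
  haveI : Surjective r := by
    constructor
    intro z
    have h1 : J.subschemeι z ∈ Set.range I₀.subschemeι := by
      rw [Scheme.IdealSheafData.range_subschemeι, hI₀,
        Scheme.IdealSheafData.coe_support_vanishingIdeal]
      have : J.subschemeι z ∈ Set.range J.subschemeι := ⟨z, rfl⟩
      rw [Scheme.IdealSheafData.range_subschemeι, hsupp] at this
      exact this
    obtain ⟨w, hw⟩ := h1
    refine ⟨w, ?_⟩
    apply J.subschemeι.isClosedEmbedding.injective
    rw [← hw, ← hr]
    rfl
  haveI : IsProper (r ≫ (J.subschemeι ≫ f)) := by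
    rw [← Category.assoc, hr]
    exact hp
  exact isProper_of_comp_surjective r (J.subschemeι ≫ f)

end SupportProper

section SupportRange

open Scheme.Modules

variable {X : Scheme.{u}} (F : X.Modules)

theorem isClosed_support [F.IsQuasicoherent]
    (hft : SheafOfModules.IsFiniteType (R := X.ringCatSheaf) F) :
    IsClosed {x | ¬ Subsingleton (ToType (F.presheaf.stalk x))} := by
  rw [← annIdeal_support F hft]
  exact (annIdeal F hft).support.isClosed

theorem subsingleton_sections_of_isEmpty {Z : Scheme.{u}} (G : Z.Modules) (W : Z.Opens)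
    (hW : ∀ z : Z, z ∉ W) : Subsingleton Γ(G, W) := by
  refine ⟨fun a b => ?_⟩
  refine TopCat.Presheaf.IsSheaf.section_ext G.isSheaf (U := op W) ?_
  intro x hx
  exact (hW x hx).elim

/-- the support of `i_* G` is contained in the range of `i` -/
theorem support_subset_range_of_iso {Z : Scheme.{u}} (i : Z ⟶ X) [IsClosedImmersion i]
    (G : Z.Modules) (e : (pushforward i).obj G ≅ F) :
    {x | ¬ Subsingleton (ToType (F.presheaf.stalk x))} ⊆ Set.range i := by
  intro x hx
  by_contra hxr
  apply hx
  let U : X.Opens := ⟨(Set.range i)ᶜ, i.isClosedEmbedding.isClosed_range.isOpen_compl⟩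
  have hxU : x ∈ U := hxr
  have key : ∀ t : ToType (F.presheaf.stalk x), t = 0 := by
    intro t
    obtain ⟨V, hxV, s, rfl⟩ := TopCat.Presheaf.exists_germ_eq F.presheaf t
    have hW : ∀ z : Z, z ∉ i ⁻¹ᵁ (V ⊓ U) := fun z hz => hz.2 ⟨z, rfl⟩
    haveI : Subsingleton Γ(G, i ⁻¹ᵁ (V ⊓ U)) := subsingleton_sections_of_isEmpty G _ hW
    have h1 : F.presheaf.map (homOfLE (inf_le_left : V ⊓ U ≤ V)).op s = 0 := by
      have hinj : Function.Injective (e.inv.app (V ⊓ U)).hom := by
        refine Function.LeftInverse.injective (g := (e.hom.app (V ⊓ U)).hom) fun y => ?_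
        have : (e.inv ≫ e.hom).app (V ⊓ U) = 𝟙 _ := by rw [e.inv_hom_id]; rfl
        exact congr($(this).hom y)
      apply hinj
      exact Subsingleton.elim (α := Γ(G, i ⁻¹ᵁ (V ⊓ U))) _ _
    have h2 := TopCat.Presheaf.germ_res_apply F.presheaf (homOfLE (inf_le_left : V ⊓ U ≤ V)) x
      ⟨hxV, hxU⟩ s
    rw [← h2, h1, map_zero]
  exact ⟨fun a b => (key a).trans (key b).symm⟩

end SupportRange

end Groth.Agent.Lib.helper8.SchemeSupport
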