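import Mathlib
import Groth.Agent.Lib.Helper8.DevSupp
import Groth.Agent.Lib.Helper8.SupportProper

set_option autoImplicit false
universe u
open CategoryTheory CategoryTheory.Limits AlgebraicGeometry TopologicalSpace Opposite

namespace Groth.Agent.Lib.helper8.Dev

open Groth.Agent.Lib.helper8.PullbackUnit Scheme.Modules Groth.Agent.Lib.helper8.SchemeSupport

variable {X : Scheme.{u}}

section Master

/-- the dévissage filtration, with embeddings of the steps into `M` -/
theorem exists_filtration' [IsNoetherian X] (M : X.Modules) (hM : Coh.IsCoh M) :
    ∃ (m : ℕ) (F : ℕ → X.Modules) (φ : (j : ℕ) → (F j ⟶ F (j + 1))),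
      IsZero (F 0) ∧ Nonempty (F m ≅ M) ∧ (∀ j, Coh.IsCoh (F j)) ∧
      (∀ j, ∃ ψ : F j ⟶ M, Mono ψ) ∧ ∀ j < m, Mono (φ j) ∧
        ∃ (Z : Scheme.{u}) (i : Z ⟶ X), IsClosedImmersion i ∧ IsIntegral Z ∧
          ∃ (I : Z.Modules) (ι : I ⟶ Coh.structureModule Z), Mono ι ∧ Coh.IsQCoh I ∧ ¬ IsZero I ∧
            Nonempty (cokernel (φ j) ≅ (Coh.push i).obj I) := by
  classical
  obtain ⟨m, c, h0, hm, hq, hgood⟩ := hasChain_top M hM
  refine ⟨m, fun j => ((c j : Subobject M) : X.Modules),
    fun j => if h : c j ≤ c (j + 1) then Subobject.ofLE (c j) (c (j + 1)) h else 0,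
    ?_, ?_, fun j => ?_, fun j => ⟨(c j).arrow, inferInstance⟩, fun j hj => ?_⟩
  · show IsZero ((c 0 : Subobject M) : X.Modules)
    rw [h0]
    exact IsZero.of_iso (isZero_zero _) Subobject.botCoeIsoZero
  · show Nonempty (((c m : Subobject M) : X.Modules) ≅ M)
    rw [hm]
    exact ⟨asIso (⊤ : Subobject M).arrow⟩
  · exact Groth.Agent.S0046.result X M _ (c j).arrow hM (hq j)
  · obtain ⟨h, Z, i, hi, hZ, I, ι, hι, hIq, hI0, ⟨e⟩⟩ := hgood j hj
    have hφ : (if h : c j ≤ c (j + 1) then Subobject.ofLE (c j) (c (j + 1)) h else 0) =
        Subobject.ofLE (c j) (c (j + 1)) h := dif_pos h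
    refine ⟨?_, Z, i, hi, hZ, I, ι, hι, hIq, hI0, ?_⟩
    · show Mono (if h : c j ≤ c (j + 1) then Subobject.ofLE (c j) (c (j + 1)) h else 0)
      rw [hφ]
      infer_instance
    · show Nonempty (cokernel (if h : c j ≤ c (j + 1) then Subobject.ofLE (c j) (c (j + 1)) h
        else 0) ≅ (Coh.push i).obj I)
      rw [hφ]
      exact ⟨e⟩

theorem isClosed_support_of_isCoh (F : X.Modules) (hF : Coh.IsCoh F) :
    IsClosed (CohB1.support F) := by
  rw [support_eq_annI_support F hF]
  exact (annI F hF).support.isClosed

/-- **master dévissage theorem** (two-of-three form, with supports in a subset `T`) -/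
theorem devissage_master [IsNoetherian X] (P : X.Modules → Prop)
    (hP : ∀ M N : X.Modules, Nonempty (M ≅ N) → P M → P N) (T : Set X)
    (h0 : ∀ N : X.Modules, IsZero N → P N)
    (h₁ : ∀ S : ShortComplex X.Modules, S.ShortExact → Coh.IsCoh S.X₁ → Coh.IsCoh S.X₂ →
      Coh.IsCoh S.X₃ → CohB1.support S.X₂ ⊆ T →
      (P S.X₁ → P S.X₂ → P S.X₃) ∧ (P S.X₁ → P S.X₃ → P S.X₂) ∧ (P S.X₂ → P S.X₃ → P S.X₁))
    (hgen : ∀ (Z : Scheme.{u}) (i : Z ⟶ X) [IsClosedImmersion i] [IsIntegral Z],
      Set.range i ⊆ T →
      (∀ (I : Z.Modules) (ι : I ⟶ Coh.structureModule Z), Mono ι → Coh.IsQCoh I →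
        P ((Coh.push i).obj I)) ∨
      (∃ G : X.Modules, Coh.IsCoh G ∧ CohB1.support G ⊆ Set.range i ∧
        Nonempty (↑(G.presheaf.stalk (i (genericPoint Z))) ≃ₗ[X.presheaf.stalk
          (i (genericPoint Z))] IsLocalRing.ResidueField (X.presheaf.stalk (i (genericPoint Z)))) ∧
        P G))
    (M : X.Modules) (hM : Coh.IsCoh M) (hsupp : CohB1.support M ⊆ T) : P M := by
  -- Noetherian induction on closed subsets
  have key : ∀ C : Closeds X, ∀ F : X.Modules, Coh.IsCoh F → CohB1.support F ⊆ (C : Set X) →
      CohB1.support F ⊆ T → P F := by
    intro C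
    induction C using WellFoundedLT.induction with
    | ind C ih =>
      intro F hF hFC hFT
      obtain ⟨m, Fj, φ, hF0, ⟨e⟩, hFc, hψ, hstep⟩ := exists_filtration' F hF
      have hsub : ∀ j, CohB1.support (Fj j) ⊆ CohB1.support F := by
        intro j
        obtain ⟨ψ, hψm⟩ := hψ j
        exact support_subset_of_mono ψ (hFc j) hF
      have hall : ∀ j, j ≤ m → P (Fj j) := by
        intro j
        induction j with
        | zero => exact fun _ => h0 _ hF0
        | succ j ihj =>
          intro hj
          have hj' : j < m := hj
          obtain ⟨hmono, Z, i, hi, hZ, I, ι, hι, hIq, hI0, ⟨e'⟩⟩ := hstep j hj'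
          haveI := hi
          haveI := hZ
          haveI := hι
          haveI : I.IsQuasicoherent := hIq
          have hQc : Coh.IsCoh (cokernel (φ j)) :=
            Groth.Agent.Lib.helper7.CohKer.isCoh_cokernel (hFc j) (hFc (j + 1)) (φ j)
          have hcI : Coh.IsCoh ((pushforward i).obj I) :=
            Groth.Agent.Lib.helper7.CohKer.isCoh_of_iso e' hQc
          -- the support of the quotient
          have hQsupp : CohB1.support (cokernel (φ j)) ⊆ CohB1.support F :=
            (support_subset_of_epi (cokernel.π (φ j)) (hFc (j + 1)) hQc).trans (hsub (j + 1))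
          have hIsupp : CohB1.support ((pushforward i).obj I) ⊆ CohB1.support F :=
            (support_subset_of_mono e'.inv hcI hQc).trans hQsupp
          have hrange : Set.range i ⊆ CohB1.support F :=
            (range_subset_support_push i I ι hI0 hcI).trans hIsupp
          have hPI : P ((pushforward i).obj I) := by
            by_cases hC : Set.range i = (C : Set X)
            · -- the generic case
              rcases hgen Z i (hrange.trans hFT) with hall' | ⟨G, hG, hGs, ⟨eG⟩, hPG⟩
              · exact hall' I ι hι hIq
              · have hyp : Hyp i P :=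
                  { iso := hP
                    tot := fun S hS h1 h2 h3 ⟨n, hn⟩ =>
                      h₁ S hS h1 h2 h3 ((support_subset_range_of_killed i S.X₂ h2 n hn).trans
                        (hrange.trans hFT))
                    small := fun F' hF' => by
                      have hs1 := support_subset_range_of_small i F' hF'
                      have hs2 := map_genericPoint_notMem_support_of_small i F' hF'
                      let C' : Closeds X := ⟨CohB1.support F', isClosed_support_of_isCoh F' hF'.1⟩
                      have hlt : C' < C := by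
                        refine lt_of_le_of_ne ?_ ?_
                        · intro x hx
                          have : x ∈ Set.range i := hs1 hx
                          rw [hC] at this
                          exact this
                        · intro heq
                          apply hs2
                          have h3 : i (genericPoint Z) ∈ (C : Set X) := by
                            rw [← hC]
                            exact ⟨_, rfl⟩
                          rw [← heq] at h3
                          exact h3
                      exact ih C' hlt F' hF'.1 (le_refl _) (hs1.trans (hrange.trans hFT)) }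
                obtain ⟨U, x₀, hx₀⟩ := exists_section_ne_zero i I hI0
                have hιx₀ : (ι.app (i ⁻¹ᵁ U.1)).hom x₀ ≠ 0 := by
                  intro h0'
                  apply hx₀
                  apply Groth.Agent.S2542.injective_app_of_mono ι (i ⁻¹ᵁ U.1)
                  rw [h0', map_zero]
                have hVne : ((i ⁻¹ᵁ U.1 : Z.Opens) : Set Z).Nonempty := by
                  by_contra hVe
                  have hbot : i ⁻¹ᵁ U.1 = ⊥ := by
                    ext x
                    simp only [Opens.coe_bot, Set.mem_empty_iff_false, iff_false]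
                    exact fun hx => hVe ⟨x, hx⟩
                  apply hιx₀
                  haveI : Subsingleton Γ(Z, i ⁻¹ᵁ U.1) := by
                    rw [hbot]
                    infer_instance
                  exact Subsingleton.elim (α := Γ(Z, i ⁻¹ᵁ U.1)) _ _
                have hξ : i (genericPoint Z) ∈ U.1 := (map_genericPoint_mem_iff i U.1).mpr hVne
                obtain ⟨hGa, hGb⟩ := rankOne_data i G hG U hξ eG
                exact core hyp G hG (exists_killed_of_support_subset i G hG hGs) hPG U hGa hGb
                  I ι x₀ hιx₀
            · -- the support is smaller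
              let C' : Closeds X := ⟨Set.range i, i.isClosedEmbedding.isClosed_range⟩
              have hlt : C' < C := by
                refine lt_of_le_of_ne (fun x hx => hFC (hrange hx)) ?_
                intro heq
                exact hC (congrArg (fun D : Closeds X => (D : Set X)) heq)
              have hs : CohB1.support ((pushforward i).obj I) ⊆ Set.range i :=
                support_subset_range_of_iso _ i I (Iso.refl _)
              exact ih C' hlt _ hcI hs (hs.trans (hrange.trans hFT))
          have hPQ : P (cokernel (φ j)) := hP _ _ ⟨e'.symm⟩ hPI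
          have hS := @shortExact_cokernel X.Modules _ _ _ _ (φ j) hmono
          exact (h₁ _ hS (hFc j) (hFc (j + 1)) hQc ((hsub (j + 1)).trans hFT)).2.1
            (ihj hj'.le) hPQ
      exact hP _ _ ⟨e⟩ (hall m le_rfl)
  exact key ⟨CohB1.support M, isClosed_support_of_isCoh M hM⟩ M hM (le_refl _) hsupp

end Master

end Groth.Agent.Lib.helper8.Dev
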