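import Mathlib
import Groth.Agent.Lib.Helper8.DevMaster

set_option autoImplicit false
universe u
open CategoryTheory CategoryTheory.Limits AlgebraicGeometry TopologicalSpace Opposite

namespace Groth.Agent.Lib.helper8.Dev

open Groth.Agent.Lib.helper8.PullbackUnit Scheme.Modules

variable {Z : Scheme.{u}}

attribute [local instance] Abelian.hasFiniteBiproducts

section Biprod

theorem sum_app {ι : Type*} (s : Finset ι) {F G : Z.Modules} (f : ι → (F ⟶ G)) (W : Z.Opens)
    (x : Γ(F, W)) :
    ((∑ k ∈ s, f k).app W).hom x = ∑ k ∈ s, ((f k).app W).hom x := by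
  classical
  induction s using Finset.induction_on with
  | empty =>
    rw [Finset.sum_empty, Finset.sum_empty]
    rfl
  | insert a s ha ih =>
    rw [Finset.sum_insert ha, Finset.sum_insert ha, Hom.add_app, ← ih]
    rfl

variable {d : ℕ} (f : Fin d → Z.Modules)

/-- a section of a finite biproduct is the sum of its components -/
theorem biproduct_section_eq (W : Z.Opens) (x : Γ(⨁ f, W)) :
    x = ∑ k, ((biproduct.ι f k).app W).hom (((biproduct.π f k).app W).hom x) := by
  have h := biproduct.total (f := f)
  have h1 : ((∑ k, biproduct.π f k ≫ biproduct.ι f k).app W).hom x = x := by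
    rw [h]
    rfl
  rw [sum_app] at h1
  exact h1.symm

theorem biproduct_desc_app {H : Z.Modules} (β : ∀ k, f k ⟶ H) (W : Z.Opens) (x : Γ(⨁ f, W)) :
    ((biproduct.desc β).app W).hom x = ∑ k, ((β k).app W).hom (((biproduct.π f k).app W).hom x) := by
  have h1 : biproduct.desc β = ∑ k, biproduct.π f k ≫ β k := biproduct.desc_eq
  rw [h1, sum_app]
  rfl

theorem biproduct_desc_ι_app {H : Z.Modules} (β : ∀ k, f k ⟶ H) (W : Z.Opens) (k : Fin d)
    (y : Γ(f k, W)) :
    ((biproduct.desc β).app W).hom (((biproduct.ι f k).app W).hom y) = ((β k).app W).hom y := by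
  rw [← ConcreteCategory.comp_apply, ← Hom.comp_app, biproduct.ι_desc]

/-- a finite biproduct of quasi-coherent modules is quasi-coherent -/
theorem isQuasicoherent_biproduct : ∀ {d : ℕ} (f : Fin d → Z.Modules)
    (_ : ∀ k, (f k).IsQuasicoherent), (⨁ f).IsQuasicoherent := by
  intro d
  induction d with
  | zero =>
    intro f _
    refine Groth.Agent.Lib.helper7.CohKer.isQuasicoherent_of_isZero ?_
    rw [IsZero.iff_id_eq_zero]
    apply biproduct.hom_ext
    intro k
    exact k.elim0
  | succ d ih =>
    intro f hf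
    let g : Fin d → Z.Modules := fun k => f k.succ
    haveI : (⨁ g).IsQuasicoherent := ih g (fun k => hf k.succ)
    haveI : (f 0).IsQuasicoherent := hf 0
    let p : ⨁ f ⟶ ⨁ g := biproduct.lift (fun k => biproduct.π f k.succ)
    let s : ⨁ g ⟶ ⨁ f := biproduct.desc (fun k => biproduct.ι f k.succ)
    have hsp : s ≫ p = 𝟙 _ := by
      apply biproduct.hom_ext
      intro l
      apply biproduct.hom_ext'
      intro k
      simp only [s, p, Category.assoc, biproduct.lift_π, biproduct.ι_desc_assoc, Category.id_comp]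
      rw [biproduct.ι_π, biproduct.ι_π]
      by_cases h : k = l
      · subst h
        simp only [dif_pos]
      · have h' : k.succ ≠ l.succ := fun e => h (Fin.succ_injective _ e)
        simp [h, h']
    have h0p : biproduct.ι f 0 ≫ p = 0 := by
      apply biproduct.hom_ext
      intro l
      simp only [p, Category.assoc, biproduct.lift_π, zero_comp]
      rw [biproduct.ι_π_ne]
      exact (Fin.succ_ne_zero l).symm
    have hid : biproduct.π f 0 ≫ biproduct.ι f 0 + p ≫ s = 𝟙 _ := by
      apply biproduct.hom_ext'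
      intro m
      apply biproduct.hom_ext
      intro n
      simp only [Preadditive.comp_add, Preadditive.add_comp, Category.assoc, Category.comp_id]
      refine Fin.cases ?_ (fun m' => ?_) m
      · rw [biproduct.ι_π_self_assoc, ← Category.assoc (biproduct.ι f 0) p, h0p]
        simp
      · rw [biproduct.ι_π_ne_assoc _ (Fin.succ_ne_zero m')]
        simp only [zero_comp, zero_add, p, s]
        rw [← Category.assoc, ← Category.assoc]
        have : (biproduct.ι f m'.succ ≫ biproduct.lift fun k : Fin d => biproduct.π f k.succ) =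
            biproduct.ι g m' := by
          apply biproduct.hom_ext
          intro l
          simp only [Category.assoc, biproduct.lift_π]
          rw [biproduct.ι_π, biproduct.ι_π]
          by_cases h : m' = l
          · subst h
            simp only [dif_pos]
          · have h' : m'.succ ≠ l.succ := fun e => h (Fin.succ_injective _ e)
            simp [h, h']
        rw [this, biproduct.ι_desc]
    let S : ShortComplex Z.Modules := ShortComplex.mk (biproduct.ι f 0) p h0p
    have hS : S.ShortExact := by
      have hsplit : S.Splitting :=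
        { r := biproduct.π f 0
          s := s
          f_r := biproduct.ι_π_self f 0
          s_g := hsp
          id := hid }
      exact hsplit.shortExact
    haveI : S.X₁.IsQuasicoherent := inferInstanceAs (f 0).IsQuasicoherent
    haveI : S.X₃.IsQuasicoherent := inferInstanceAs (⨁ g).IsQuasicoherent
    exact Groth.Agent.Lib.helper7.QCohExt.isQuasicoherent_of_extension S hS

end Biprod

section LI

variable [IsIntegral Z] (H : Z.Modules) [H.IsQuasicoherent] (V : Z.Opens)

/-- generically independent sections over `V` stay independent over every open (after restriction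
to its intersection with `V`) -/
theorem eq_zero_of_sum_smul_eq_zero (hV : IsAffineOpen V) {d : ℕ} (s : Fin d → Γ(H, V))
    (hs : LinearIndependent Γ(Z, V) s) (W : Z.Opens) (r : Fin d → Γ(Z, W))
    (hr : ∑ k, ((Z.presheaf.map (homOfLE (V.ι.image_preimage_le W)).op (r k) :
        Γ(Z, V.ι ''ᵁ V.ι ⁻¹ᵁ W)) •
        (H.presheaf.map (homOfLE (V.ι_image_le (V.ι ⁻¹ᵁ W))).op (s k) :
          Γ(H, V.ι ''ᵁ V.ι ⁻¹ᵁ W)) : Γ(H, V.ι ''ᵁ V.ι ⁻¹ᵁ W)) = 0) (hVne : (V : Set Z).Nonempty) :
    ∀ k, r k = 0 := by
  classical
  by_cases hW : (W : Set Z).Nonempty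
  swap
  · have hbot : W = ⊥ := by
      ext x
      simp only [Opens.coe_bot, Set.mem_empty_iff_false, iff_false]
      exact fun hx => hW ⟨x, hx⟩
    subst hbot
    exact fun k => Subsingleton.elim (α := Γ(Z, (⊥ : Z.Opens))) _ _
  obtain ⟨x, hxW, hxV⟩ := nonempty_preirreducible_inter W.2 V.2 hW hVne
  obtain ⟨f, hfW, hxf⟩ := hV.exists_basicOpen_le (V := W) ⟨x, hxW⟩ hxV
  have hDV : Z.basicOpen f ≤ V := Z.basicOpen_le f
  have hDW' : Z.basicOpen f ≤ V.ι ''ᵁ V.ι ⁻¹ᵁ W := by
    rw [Scheme.Hom.image_preimage_eq_opensRange_inf, Scheme.Opens.opensRange_ι]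
    exact le_inf hDV hfW
  haveI : Nonempty V := ⟨⟨x, hxV⟩⟩
  haveI : Nonempty (Z.basicOpen f) := ⟨⟨x, hxf⟩⟩
  haveI : IsDomain Γ(Z, V) := IsIntegral.component_integral V
  have hf0 : f ≠ 0 := by
    rintro rfl
    rw [Scheme.basicOpen_zero] at hxf
    exact hxf
  -- restrict to `D(f)`
  let rD : Fin d → Γ(Z, Z.basicOpen f) := fun k => Z.presheaf.map (homOfLE hfW).op (r k)
  let sD : Fin d → Γ(H, Z.basicOpen f) := fun k => H.presheaf.map (homOfLE hDV).op (s k)
  have h3 : ∑ k, rD k • sD k = 0 := by
    have h4 := (congrArg (H.presheaf.map (homOfLE hDW').op).hom hr).trans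
      (map_zero (H.presheaf.map (homOfLE hDW').op).hom)
    rw [map_sum] at h4
    refine Eq.trans (Finset.sum_congr rfl (fun k _ => ?_)) h4
    have h5 := Scheme.Modules.map_smul H (homOfLE hDW')
      (Z.presheaf.map (homOfLE (V.ι.image_preimage_le W)).op (r k))
      (H.presheaf.map (homOfLE (V.ι_image_le (V.ι ⁻¹ᵁ W))).op (s k))
    rw [Groth.Agent.Lib.helper7.map_map] at h5
    have e1 : Z.presheaf.map (homOfLE hDW').op
        (Z.presheaf.map (homOfLE (V.ι.image_preimage_le W)).op (r k)) = rD k := by
      rw [← ConcreteCategory.comp_apply, ← Functor.map_comp]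
      rfl
    rw [e1] at h5
    exact h5.symm
  haveI := hV.isLocalization_basicOpen f
  obtain ⟨⟨_, n, rfl⟩, hb⟩ := IsLocalization.exist_integer_multiples_of_finite
    (Submonoid.powers f) rD
  choose b hb' using hb
  have hb'' : ∀ k, Z.presheaf.map (homOfLE hDV).op (b k) =
      Z.presheaf.map (homOfLE hDV).op (f ^ n) * rD k := by
    intro k
    have := hb' k
    rw [Algebra.smul_def] at this
    exact this
  have h5 : H.presheaf.map (homOfLE hDV).op (∑ k, b k • s k) = 0 := by
    rw [map_sum]
    have h6 : ∀ k ∈ Finset.univ, H.presheaf.map (homOfLE hDV).op (b k • s k) =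
        Z.presheaf.map (homOfLE hDV).op (f ^ n) • (rD k • sD k) := by
      intro k _
      rw [Scheme.Modules.map_smul, hb'' k, mul_smul]
    rw [Finset.sum_congr rfl h6, ← Finset.smul_sum, h3, smul_zero]
  obtain ⟨m, hm⟩ := Groth.Agent.Lib.helper7.exists_pow_smul_eq_zero_of_isAffineOpen hV H f
    (∑ k, b k • s k) h5
  rw [Finset.smul_sum] at hm
  have hm' : ∑ k, (f ^ m * b k) • s k = 0 := by
    refine Eq.trans (Finset.sum_congr rfl (fun k _ => ?_)) hm
    rw [mul_smul]
  have h6 := Fintype.linearIndependent_iff.mp hs _ hm'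
  have hu : IsUnit (Z.presheaf.map (homOfLE hDV).op (f ^ n)) := by
    rw [map_pow]
    exact (RingedSpace.isUnit_res_basicOpen Z.toRingedSpace f).pow n
  intro k
  have hb0 : b k = 0 := by
    rcases mul_eq_zero.mp (h6 k) with h7 | h7
    · exact absurd (pow_eq_zero_iff (M₀ := Γ(Z, V)) (fun h0 => by
        rw [h0, pow_zero] at h7; exact one_ne_zero h7) |>.mp h7) hf0
    · exact h7
  have h8 := hb'' k
  rw [hb0, map_zero] at h8
  have hrD0 : rD k = 0 := (hu.mul_right_eq_zero).mp h8.symm
  exact map_injective_of_isIntegral (X := Z) (homOfLE hfW) (hrD0.trans (map_zero _).symm)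

end LI

end Groth.Agent.Lib.helper8.Dev
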