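import Mathlib
import Groth.Agent.Lib.Helper8.FormalBasic
import Groth.Agent.Lib.Helper7.QCohZero
import Groth.Agent.Lib.Helper7.CohKer
import Groth.Agent.Lib.Helper16.QCohFibre
import Groth.Agent.S0046

/-!
# Formal functions, principal ideal: the sheaf-level constructions (helper8)

`I = (a)`, `K m = I^m M ⊆ M`.  The maps `e m : M ↠ K m` (multiplication by `a^m`),
`θ : K m₁ ↠ K m₂` (multiplication by `a^(m₂ - m₁)`), which is an isomorphism once the kernels of
`a^m` on `M` have stabilised, and the inclusions `j : K m₂ ↪ K m₁`.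
-/

set_option autoImplicit false
universe u
open CategoryTheory CategoryTheory.Limits AlgebraicGeometry Opposite TopologicalSpace

namespace Groth.Agent.Lib.helper8.FF

open Formal Groth.Agent.Lib.Helper18

section Abstract

variable {C : Type*} [Category C] [Abelian C]

/-- if `ker (ψ ≫ ψ') = ker ψ`, the map induced by `ψ'` on the image of `ψ` is mono. -/
theorem mono_of_kernel_stable {M K K' M' M'' : C} (e : M ⟶ K) [Epi e] (ι : K ⟶ M') (θ : K ⟶ K')
    (ι' : K' ⟶ M'') (ψ' : M' ⟶ M'') (hθ : θ ≫ ι' = ι ≫ ψ') [Mono ι]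
    (hst : ∀ (T : C) (t : T ⟶ M), t ≫ (e ≫ ι) ≫ ψ' = 0 → t ≫ e ≫ ι = 0) : Mono θ := by
  apply Preadditive.mono_of_cancel_zero
  intro T t ht
  have hp1 : Epi (pullback.fst t e) := inferInstance
  have hcond : pullback.fst t e ≫ t = pullback.snd t e ≫ e := pullback.condition
  have h1 : pullback.snd t e ≫ (e ≫ ι) ≫ ψ' = 0 := by
    rw [Category.assoc, ← hθ, ← Category.assoc, ← Category.assoc, ← hcond, Category.assoc,
      Category.assoc, ← Category.assoc t, ht, zero_comp, comp_zero]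
  have h2 := hst _ _ h1
  rw [← Category.assoc, ← hcond, Category.assoc] at h2
  have h3 : t ≫ ι = 0 := by
    rw [← cancel_epi (pullback.fst t e), h2, comp_zero]
  rw [← cancel_mono ι, h3, zero_comp]

end Abstract

variable {A : Type u} [CommRing A] {X : Scheme.{u}} [X.Over (Spec (CommRingCat.of A))]

/-- a module which is a quotient of a quasi-coherent module and a submodule of a quasi-coherent
module is quasi-coherent. -/
theorem isQuasicoherent_of_epi_mono {M K M' : X.Modules} [M.IsQuasicoherent] [M'.IsQuasicoherent]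
    (e : M ⟶ K) [Epi e] (ι : K ⟶ M') [Mono ι] : K.IsQuasicoherent := by
  haveI : StrongEpi e := strongEpi_of_epi e
  let i1 : K ≅ Limits.image (e ≫ ι) := image.isoStrongEpiMono e ι rfl
  let i2 : Abelian.image (e ≫ ι) ≅ Limits.image (e ≫ ι) := Abelian.imageIsoImage (e ≫ ι)
  haveI : (cokernel (e ≫ ι)).IsQuasicoherent :=
    Groth.Agent.Lib.helper7.CohKer.isQuasicoherent_cokernel (e ≫ ι)
  haveI : (Abelian.image (e ≫ ι)).IsQuasicoherent :=
    Groth.Agent.Lib.helper7.CohKer.isQuasicoherent_kernel (cokernel.π (e ≫ ι))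
  exact Groth.Agent.Lib.helper16.QCohFibre.isQuasicoherent_of_iso (i2 ≪≫ i1.symm)

section Principal

variable (a : A) (M : X.Modules)

/-- `a ^ m ∈ (a) ^ m` -/
lemma pow_mem_span_pow (m : ℕ) : a ^ m ∈ (Ideal.span {a}) ^ m :=
  Ideal.pow_mem_pow (Ideal.mem_span_singleton_self a) m

lemma mul_mem_span_pow {m₁ m₂ : ℕ} (h : m₁ ≤ m₂) (c : A) (hc : c ∈ (Ideal.span {a}) ^ m₁) :
    a ^ (m₂ - m₁) * c ∈ (Ideal.span {a}) ^ m₂ := by
  have h1 : m₂ = (m₂ - m₁) + m₁ := (Nat.sub_add_cancel h).symm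
  rw [h1, pow_add, Nat.add_sub_cancel]
  exact Ideal.mul_mem_mul (pow_mem_span_pow a _) hc

/-- `K m = (a)^m M` -/
noncomputable abbrev KK (m : ℕ) : X.Modules := Sb ((Ideal.span {a}) ^ m) M

noncomputable abbrev kι (m : ℕ) : KK a M m ⟶ M := sbι ((Ideal.span {a}) ^ m) M

/-- multiplication by `a^m`, as a map `M ⟶ K m` -/
noncomputable def ee (m : ℕ) : M ⟶ KK a M m := sbLift M (pow_mem_span_pow a m)

@[reassoc (attr := simp)]
lemma ee_ι (m : ℕ) : ee a M m ≫ kι a M m = smulMod A M (a ^ m) := sbLift_ι M _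

instance epi_ee (m : ℕ) : Epi (ee a M m) := by
  classical
  have hex : ∀ c : ((Ideal.span {a}) ^ m : Ideal A), ∃ d : A, d * a ^ m = (c : A) := by
    intro c
    obtain ⟨c, hc⟩ := c
    rw [Ideal.span_singleton_pow, Ideal.mem_span_singleton'] at hc
    exact hc
  choose d hd using hex
  have hfac : sbCover ((Ideal.span {a}) ^ m) M =
      Sigma.desc (fun c => smulMod A M (d c)) ≫ ee a M m := by
    apply Sigma.hom_ext
    intro c
    rw [ι_sbCover, ← Category.assoc, Sigma.ι_desc, ← cancel_mono (sbι ((Ideal.span {a}) ^ m) M),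
      sbLift_ι, Category.assoc]
    have : ee a M m ≫ sbι ((Ideal.span {a}) ^ m) M = smulMod A M (a ^ m) := ee_ι a M m
    rw [this, ← smulMod_mul', hd c]
  exact epi_of_epi_fac hfac.symm

/-- multiplication by `a^(m₂ - m₁)`, as a map `K m₁ ⟶ K m₂` -/
noncomputable def θθ {m₁ m₂ : ℕ} (h : m₁ ≤ m₂) : KK a M m₁ ⟶ KK a M m₂ :=
  sbMul (a ^ (m₂ - m₁)) (mul_mem_span_pow a h) M

@[reassoc (attr := simp)]
lemma θθ_ι {m₁ m₂ : ℕ} (h : m₁ ≤ m₂) :
    θθ a M h ≫ kι a M m₂ = kι a M m₁ ≫ smulMod A M (a ^ (m₂ - m₁)) := sbMul_ι _ _ M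

lemma ee_θθ {m₁ m₂ : ℕ} (h : m₁ ≤ m₂) : ee a M m₁ ≫ θθ a M h = ee a M m₂ := by
  rw [← cancel_mono (kι a M m₂), Category.assoc, θθ_ι, ← Category.assoc, ee_ι, ee_ι,
    ← smulMod_mul', ← pow_add, Nat.add_sub_cancel' h]

instance epi_θθ {m₁ m₂ : ℕ} (h : m₁ ≤ m₂) : Epi (θθ a M h) :=
  epi_of_epi_fac (ee_θθ a M h)

/-- the inclusion `K m₂ ⟶ K m₁` -/
noncomputable def jj {m₁ m₂ : ℕ} (h : m₁ ≤ m₂) : KK a M m₂ ⟶ KK a M m₁ :=
  sbIncl (Ideal.pow_le_pow_right h) M

@[reassoc (attr := simp)]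
lemma jj_ι {m₁ m₂ : ℕ} (h : m₁ ≤ m₂) : jj a M h ≫ kι a M m₁ = kι a M m₂ := sbIncl_ι _ M

lemma jj_comp {m₁ m₂ m₃ : ℕ} (h : m₁ ≤ m₂) (h' : m₂ ≤ m₃) :
    jj a M h' ≫ jj a M h = jj a M (h.trans h') := by
  rw [← cancel_mono (kι a M m₁)]
  simp

lemma θθ_jj {m₁ m₂ : ℕ} (h : m₁ ≤ m₂) :
    θθ a M h ≫ jj a M h = smulMod A (KK a M m₁) (a ^ (m₂ - m₁)) := by
  rw [← cancel_mono (kι a M m₁), Category.assoc, jj_ι, θθ_ι, smulMod_naturality]

lemma jj_θθ {m₁ m₂ : ℕ} (h : m₁ ≤ m₂) :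
    jj a M h ≫ θθ a M h = smulMod A (KK a M m₂) (a ^ (m₂ - m₁)) := by
  rw [← cancel_mono (kι a M m₂), Category.assoc, θθ_ι, ← Category.assoc, jj_ι, smulMod_naturality]

/-- the kernels of `a^m` on a coherent module stabilise -/
theorem exists_kernel_stable [IsNoetherian X] (hM : Coh.IsCoh M) :
    ∃ c : ℕ, ∀ m : ℕ, c ≤ m → ∀ (k : ℕ) (T : X.Modules) (t : T ⟶ M),
      t ≫ smulMod A M (a ^ m) ≫ smulMod A M (a ^ k) = 0 → t ≫ smulMod A M (a ^ m) = 0 := by
  haveI : M.IsQuasicoherent := hM.1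
  let F : ℕ →o Subobject M :=
    ⟨fun n => kernelSubobject (smulMod A M (a ^ n)), by
      intro m n hmn
      obtain ⟨k, rfl⟩ := Nat.exists_eq_add_of_le hmn
      show kernelSubobject (smulMod A M (a ^ m)) ≤ kernelSubobject (smulMod A M (a ^ (m + k)))
      rw [pow_add, smulMod_mul']
      exact kernelSubobject_comp_le _ _⟩
  have hq : ∀ n, ((F n : Subobject M) : X.Modules).IsQuasicoherent := by
    intro n
    haveI : (kernel (smulMod A M (a ^ n))).IsQuasicoherent :=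
      Groth.Agent.Lib.helper7.CohKer.isQuasicoherent_kernel _
    exact Groth.Agent.Lib.helper16.QCohFibre.isQuasicoherent_of_iso
      (kernelSubobjectIso (smulMod A M (a ^ n))).symm
  obtain ⟨c, hc⟩ := Groth.Agent.Lib.helper7.QCohZero.acc_qcoh_subobjects X M hM F hq
  refine ⟨c, fun m hm k T t ht => ?_⟩
  have h1 : F (m + k) = F m := by rw [hc (m + k) (by omega), hc m hm]
  have h2 : (kernelSubobject (smulMod A M (a ^ (m + k)))).Factors t := by
    rw [kernelSubobject_factors_iff, pow_add, smulMod_mul']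
    exact ht
  have h3 : (kernelSubobject (smulMod A M (a ^ m))).Factors t := by
    have : kernelSubobject (smulMod A M (a ^ (m + k))) = kernelSubobject (smulMod A M (a ^ m)) := h1
    rw [← this]
    exact h2
  exact (kernelSubobject_factors_iff _ _).mp h3

/-- past the stabilisation index, `θ` is an isomorphism -/
theorem isIso_θθ {c : ℕ}
    (hc : ∀ m : ℕ, c ≤ m → ∀ (k : ℕ) (T : X.Modules) (t : T ⟶ M),
      t ≫ smulMod A M (a ^ m) ≫ smulMod A M (a ^ k) = 0 → t ≫ smulMod A M (a ^ m) = 0)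
    {m₁ m₂ : ℕ} (h : m₁ ≤ m₂) (hm : c ≤ m₁) : IsIso (θθ a M h) := by
  haveI : Mono (θθ a M h) := by
    refine mono_of_kernel_stable (ee a M m₁) (kι a M m₁) (θθ a M h) (kι a M m₂)
      (smulMod A M (a ^ (m₂ - m₁))) (θθ_ι a M h) ?_
    intro T t ht
    rw [ee_ι] at ht ⊢
    exact hc m₁ hm _ T t ht
  exact isIso_of_mono_of_epi _

/-- `K m` is coherent -/
theorem isCoh_KK [IsNoetherian X] (hM : Coh.IsCoh M) (m : ℕ) : Coh.IsCoh (KK a M m) := by
  haveI : M.IsQuasicoherent := hM.1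
  have hq : (KK a M m).IsQuasicoherent := isQuasicoherent_of_epi_mono (ee a M m) (kι a M m)
  exact Groth.Agent.S0046.result X M _ (kι a M m) hM hq

end Principal

end Groth.Agent.Lib.helper8.FF
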