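import Mathlib
import Groth.Agent.Lib.Helper8.FormalPrincipal

/-!
# Formal functions: iterated quotients (helper8)

* `Qmap 𝔞 φ : M / 𝔞 M ⟶ N / 𝔞 N`, functoriality of the quotient.
* `qqIso 𝔞 𝔟 M : M / (𝔞 ⊔ 𝔟) M ≅ (M / 𝔞 M) / 𝔟 (M / 𝔞 M)`, natural in `𝔞`, `𝔟`.
* `isCoh_Q` : `M / 𝔞 M` is coherent for `M` coherent and `𝔞` finitely generated.
-/

set_option autoImplicit false
universe u
open CategoryTheory CategoryTheory.Limits AlgebraicGeometry Opposite TopologicalSpace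

namespace Groth.Agent.Lib.helper8.FF

open Formal Groth.Agent.Lib.Helper18

variable {A : Type u} [CommRing A] {X : Scheme.{u}} [X.Over (Spec (CommRingCat.of A))]

/-- functoriality of `M ↦ M / 𝔞 M`. -/
noncomputable def Qmap (𝔞 : Ideal A) {M N : X.Modules} (φ : M ⟶ N) : Q 𝔞 M ⟶ Q 𝔞 N :=
  cokernel.desc _ (φ ≫ qπ 𝔞 N) (by
    apply smulFamily_comp_eq_zero
    intro a ha
    rw [← Category.assoc, smulMod_naturality, Category.assoc, smulMod_qπ N ha, comp_zero])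

@[reassoc (attr := simp)]
lemma qπ_Qmap (𝔞 : Ideal A) {M N : X.Modules} (φ : M ⟶ N) :
    qπ 𝔞 M ≫ Qmap 𝔞 φ = φ ≫ qπ 𝔞 N := cokernel.π_desc _ _ _

lemma Qmap_qTrans {𝔞 𝔟 : Ideal A} (h : 𝔞 ≤ 𝔟) {M N : X.Modules} (φ : M ⟶ N) :
    Qmap 𝔞 φ ≫ qTrans h N = qTrans h M ≫ Qmap 𝔟 φ := by
  rw [← cancel_epi (qπ 𝔞 M)]
  simp

/-- `M / (𝔞 ⊔ 𝔟) M ⟶ (M / 𝔞 M) / 𝔟 (M / 𝔞 M)`. -/
noncomputable def qqHom (𝔞 𝔟 : Ideal A) (M : X.Modules) : Q (𝔞 ⊔ 𝔟) M ⟶ Q 𝔟 (Q 𝔞 M) :=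
  cokernel.desc _ (qπ 𝔞 M ≫ qπ 𝔟 (Q 𝔞 M)) (by
    apply smulFamily_comp_eq_zero
    intro c hc
    obtain ⟨x, hx, y, hy, rfl⟩ := Submodule.mem_sup.mp hc
    rw [smulMod_add, Preadditive.add_comp, ← Category.assoc, smulMod_qπ M hx, zero_comp, zero_add,
      ← Category.assoc, smulMod_naturality, Category.assoc, smulMod_qπ _ hy, comp_zero])

@[reassoc (attr := simp)]
lemma qπ_qqHom (𝔞 𝔟 : Ideal A) (M : X.Modules) :
    qπ (𝔞 ⊔ 𝔟) M ≫ qqHom 𝔞 𝔟 M = qπ 𝔞 M ≫ qπ 𝔟 (Q 𝔞 M) := cokernel.π_desc _ _ _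

/-- the inverse of `qqHom`. -/
noncomputable def qqInv (𝔞 𝔟 : Ideal A) (M : X.Modules) : Q 𝔟 (Q 𝔞 M) ⟶ Q (𝔞 ⊔ 𝔟) M :=
  cokernel.desc _ (qTrans (le_sup_left : 𝔞 ≤ 𝔞 ⊔ 𝔟) M) (by
    apply smulFamily_comp_eq_zero
    intro y hy
    rw [smulMod_naturality, smulMod_Q M (Ideal.mem_sup_right hy), comp_zero])

@[reassoc (attr := simp)]
lemma qπ_qqInv (𝔞 𝔟 : Ideal A) (M : X.Modules) :
    qπ 𝔟 (Q 𝔞 M) ≫ qqInv 𝔞 𝔟 M = qTrans (le_sup_left : 𝔞 ≤ 𝔞 ⊔ 𝔟) M := cokernel.π_desc _ _ _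

/-- `M / (𝔞 ⊔ 𝔟) M ≅ (M / 𝔞 M) / 𝔟 (M / 𝔞 M)`. -/
noncomputable def qqIso (𝔞 𝔟 : Ideal A) (M : X.Modules) : Q (𝔞 ⊔ 𝔟) M ≅ Q 𝔟 (Q 𝔞 M) where
  hom := qqHom 𝔞 𝔟 M
  inv := qqInv 𝔞 𝔟 M
  hom_inv_id := by
    rw [← cancel_epi (qπ (𝔞 ⊔ 𝔟) M)]
    simp
  inv_hom_id := by
    rw [← cancel_epi (qπ 𝔟 (Q 𝔞 M)), ← cancel_epi (qπ 𝔞 M)]
    simp

instance (𝔞 𝔟 : Ideal A) (M : X.Modules) : IsIso (qqHom 𝔞 𝔟 M) :=
  (qqIso 𝔞 𝔟 M).isIso_hom

/-- naturality of `qqHom` in the second ideal. -/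
lemma qqHom_trans_right (𝔞 : Ideal A) {𝔟' 𝔟 : Ideal A} (h : 𝔟' ≤ 𝔟) (M : X.Modules) :
    qqHom 𝔞 𝔟' M ≫ qTrans h (Q 𝔞 M) = qTrans (sup_le_sup_left h 𝔞) M ≫ qqHom 𝔞 𝔟 M := by
  rw [← cancel_epi (qπ (𝔞 ⊔ 𝔟') M)]
  simp

/-- naturality of `qqHom` in the first ideal. -/
lemma qqHom_trans_left {𝔞' 𝔞 : Ideal A} (h : 𝔞' ≤ 𝔞) (𝔟 : Ideal A) (M : X.Modules) :
    qqHom 𝔞' 𝔟 M ≫ Qmap 𝔟 (qTrans h M) = qTrans (sup_le_sup_right h 𝔟) M ≫ qqHom 𝔞 𝔟 M := by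
  rw [← cancel_epi (qπ (𝔞' ⊔ 𝔟) M)]
  simp

/-! ### coherence of the quotients -/

/-- `M / 𝔞 M` is the cokernel of `𝔞 M ⟶ M`. -/
noncomputable def qIsoCokernel (𝔞 : Ideal A) (M : X.Modules) : Q 𝔞 M ≅ cokernel (sbι 𝔞 M) :=
  (Abelian.epiIsCokernelOfKernel (limit.cone (parallelPair (qπ 𝔞 M) 0))
    (limit.isLimit _)).coconePointUniqueUpToIso (colimit.isColimit _)

lemma smulFamily_bot (M : X.Modules) : smulFamily (⊥ : Ideal A) M = 0 := by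
  apply Sigma.hom_ext
  intro c
  rw [ι_smulFamily, comp_zero]
  have : (c : A) = 0 := (Submodule.mem_bot A).mp c.2
  rw [this, smulMod_zero]

/-- `M / 0 M ≅ M`. -/
noncomputable def qBotIso (M : X.Modules) : Q (⊥ : Ideal A) M ≅ M :=
  cokernel.mapIso (smulFamily (⊥ : Ideal A) M) (0 : (∐ fun _ : (⊥ : Ideal A) => M) ⟶ M)
    (Iso.refl _) (Iso.refl _) (by rw [smulFamily_bot]; simp) ≪≫ cokernelZeroIsoTarget

/-- `(a) M` is coherent. -/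
theorem isCoh_Sb_span [IsNoetherian X] (a : A) (M : X.Modules) (hM : Coh.IsCoh M) :
    Coh.IsCoh (Sb (Ideal.span {a}) M) := by
  haveI : M.IsQuasicoherent := hM.1
  have ha : a ∈ Ideal.span {a} := Ideal.mem_span_singleton_self a
  haveI : Epi (sbLift M ha) := by
    classical
    have hex : ∀ c : (Ideal.span {a} : Ideal A), ∃ d : A, d * a = (c : A) := by
      intro c
      obtain ⟨c, hc⟩ := c
      rw [Ideal.mem_span_singleton'] at hc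
      exact hc
    choose d hd using hex
    have hfac : sbCover (Ideal.span {a}) M =
        Sigma.desc (fun c => smulMod A M (d c)) ≫ sbLift M ha := by
      apply Sigma.hom_ext
      intro c
      rw [ι_sbCover, ← Category.assoc, Sigma.ι_desc, ← cancel_mono (sbι (Ideal.span {a}) M),
        sbLift_ι, Category.assoc, sbLift_ι, ← smulMod_mul', hd c]
    exact epi_of_epi_fac hfac.symm
  have hq : (Sb (Ideal.span {a}) M).IsQuasicoherent :=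
    isQuasicoherent_of_epi_mono (sbLift M ha) (sbι (Ideal.span {a}) M)
  exact Groth.Agent.S0046.result X M _ (sbι (Ideal.span {a}) M) hM hq

/-- `M / (a) M` is coherent. -/
theorem isCoh_Q_span [IsNoetherian X] (a : A) (M : X.Modules) (hM : Coh.IsCoh M) :
    Coh.IsCoh (Q (Ideal.span {a}) M) :=
  Groth.Agent.Lib.helper7.CohKer.isCoh_of_iso (qIsoCokernel (Ideal.span {a}) M).symm
    (Groth.Agent.Lib.helper7.CohKer.isCoh_cokernel (isCoh_Sb_span a M hM) hM _)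

/-- `M / 𝔞 M` is coherent for `𝔞` finitely generated. -/
theorem isCoh_Q_span_finset [IsNoetherian X] (s : Finset A) :
    ∀ (M : X.Modules), Coh.IsCoh M → Coh.IsCoh (Q (Ideal.span (s : Set A)) M) := by
  classical
  induction s using Finset.induction_on with
  | empty =>
    intro M hM
    have h0 : Ideal.span ((∅ : Finset A) : Set A) = ⊥ := by simp
    rw [h0]
    exact Groth.Agent.Lib.helper7.CohKer.isCoh_of_iso (qBotIso M).symm hM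
  | insert a s _ ih =>
    intro M hM
    have h1 : Ideal.span ((insert a s : Finset A) : Set A) =
        Ideal.span {a} ⊔ Ideal.span (s : Set A) := by
      rw [Finset.coe_insert, Ideal.span_insert]
    rw [h1]
    exact Groth.Agent.Lib.helper7.CohKer.isCoh_of_iso (qqIso _ _ M).symm
      (ih _ (isCoh_Q_span a M hM))

theorem isCoh_Q [IsNoetherianRing A] [IsNoetherian X] (𝔞 : Ideal A) (M : X.Modules)
    (hM : Coh.IsCoh M) : Coh.IsCoh (Q 𝔞 M) := by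
  obtain ⟨s, rfl⟩ := (isNoetherianRing_iff_ideal_fg A).mp inferInstance 𝔞
  exact isCoh_Q_span_finset s M hM

end Groth.Agent.Lib.helper8.FF
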