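import Mathlib

/-!
# Graded systems with commuting degree-one operators: Hilbert's basis theorem (helper8)

A *graded system* over a ring `A` is a sequence of `A`-modules `H k` with commuting `A`-linear maps
`t i k : H k → H (k + 1)`, `i : σ`. The direct sum `⨁ k, H k` is a module over `MvPolynomial σ A`
(`PMod`), `X i` acting through `t i`.

* `pmod_finite`: if every `H k` is finite over `A` and the `t i k` are jointly surjective for
  `k ≥ k₀`, then `PMod` is a finite `MvPolynomial σ A`-module.
* `hilbert_basis`: under the same hypotheses with `A` Noetherian and `σ` finite, every graded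
  subsystem `H' k ⊆ H k` (stable under the `t i`) is generated in bounded degrees:
  `H' (k + 1) ≤ ⨆ i, (H' k).map (t i k)` for `k ≥ k₁`.
-/

set_option autoImplicit false
universe u v w

namespace Groth.Agent.Lib.helper8.Rees

open DirectSum

section Alg

variable {A : Type u} [CommRing A] {σ : Type v} (H : ℕ → Type w)
  [∀ k, AddCommGroup (H k)] [∀ k, Module A (H k)]
  (t : σ → ∀ k, H k →ₗ[A] H (k + 1))

/-- the degree-one endomorphism of `⨁ k, H k` induced by `t i` -/
noncomputable def T (i : σ) : (⨁ k, H k) →ₗ[A] (⨁ k, H k) :=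
  DirectSum.toModule A ℕ (⨁ k, H k) (fun k => (DirectSum.lof A ℕ H (k + 1)).comp (t i k))

lemma T_lof (i : σ) (k : ℕ) (x : H k) :
    T H t i (DirectSum.lof A ℕ H k x) = DirectSum.lof A ℕ H (k + 1) (t i k x) := by
  simp [T]

lemma T_apply_succ (i : σ) (e : ⨁ k, H k) (k : ℕ) : (T H t i e) (k + 1) = t i k (e k) := by
  classical
  induction e using DirectSum.induction_on with
  | zero => simp
  | of k' x =>
    rw [← DirectSum.lof_eq_of A, T_lof, DirectSum.lof_eq_of, DirectSum.lof_eq_of]
    by_cases h : k' = k
    · subst h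
      rw [DirectSum.of_eq_same, DirectSum.of_eq_same]
    · rw [DirectSum.of_eq_of_ne _ _ _ (by omega : k + 1 ≠ k' + 1),
        DirectSum.of_eq_of_ne _ _ _ (Ne.symm h), map_zero]
  | add x y hx hy => rw [map_add, DirectSum.add_apply, hx, hy, DirectSum.add_apply, map_add]

variable (hcomm : ∀ (i j : σ) (k : ℕ) (x : H k), t i (k + 1) (t j k x) = t j (k + 1) (t i k x))

include hcomm in
lemma T_commute (i j : σ) : Commute (T H t i) (T H t j) := by
  show T H t i * T H t j = T H t j * T H t i
  apply DirectSum.linearMap_ext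
  intro k
  ext x
  simp only [LinearMap.coe_comp, Function.comp_apply, Module.End.mul_apply, T_lof]
  rw [hcomm]

include hcomm in
lemma isMulCommutative_adjoin_T :
    IsMulCommutative (Algebra.adjoin A (Set.range (T H t))) :=
  Algebra.isMulCommutative_adjoin A (by
    rintro _ ⟨i, rfl⟩ _ ⟨j, rfl⟩
    exact T_commute H t hcomm i j)

open scoped IsMulCommutative in
/-- the ring homomorphism `MvPolynomial σ A → End (⨁ H k)`, `X i ↦ T i` -/
noncomputable def ringHom : MvPolynomial σ A →+* Module.End A (⨁ k, H k) :=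
  haveI := isMulCommutative_adjoin_T H t hcomm
  ((Algebra.adjoin A (Set.range (T H t))).val.toRingHom).comp
    (MvPolynomial.aeval (R := A) (S₁ := Algebra.adjoin A (Set.range (T H t)))
      (fun i => (⟨T H t i, Algebra.subset_adjoin ⟨i, rfl⟩⟩ :
        Algebra.adjoin A (Set.range (T H t))))).toRingHom

open scoped IsMulCommutative in
lemma ringHom_X (i : σ) : ringHom H t hcomm (MvPolynomial.X i) = T H t i := by
  haveI := isMulCommutative_adjoin_T H t hcomm
  simp [ringHom]

open scoped IsMulCommutative in
lemma ringHom_C (a : A) :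
    ringHom H t hcomm (MvPolynomial.C a) = a • (1 : Module.End A (⨁ k, H k)) := by
  haveI := isMulCommutative_adjoin_T H t hcomm
  simp only [ringHom, AlgHom.toRingHom_eq_coe, RingHom.coe_comp, RingHom.coe_coe,
    Function.comp_apply, MvPolynomial.aeval_C]
  rw [Algebra.algebraMap_eq_smul_one]
  rfl

/-- `⨁ k, H k` as a module over `MvPolynomial σ A` (type synonym) -/
@[nolint unusedArguments]
def PMod (_hcomm : ∀ (i j : σ) (k : ℕ) (x : H k), t i (k + 1) (t j k x) = t j (k + 1) (t i k x)) :
    Type w := ⨁ k, H k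

noncomputable instance : AddCommGroup (PMod H t hcomm) := inferInstanceAs (AddCommGroup (⨁ k, H k))

noncomputable instance : Module (MvPolynomial σ A) (PMod H t hcomm) :=
  Module.compHom (⨁ k, H k) (ringHom H t hcomm)

/-- the identity map `⨁ H k → PMod` -/
def toP (e : ⨁ k, H k) : PMod H t hcomm := e

/-- the identity map `PMod → ⨁ H k` -/
def ofP (e : PMod H t hcomm) : ⨁ k, H k := e

lemma smul_def (p : MvPolynomial σ A) (e : PMod H t hcomm) :
    p • e = toP H t hcomm (ringHom H t hcomm p (ofP H t hcomm e)) := rfl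

lemma X_smul (i : σ) (e : PMod H t hcomm) :
    (MvPolynomial.X i : MvPolynomial σ A) • e = toP H t hcomm (T H t i (ofP H t hcomm e)) := by
  rw [smul_def, ringHom_X]

lemma C_smul (a : A) (e : PMod H t hcomm) :
    (MvPolynomial.C a : MvPolynomial σ A) • e = toP H t hcomm (a • ofP H t hcomm e) := by
  rw [smul_def, ringHom_C]
  rfl

/-- an additive subgroup closed under `C a •` and `X i •` is closed under the polynomial action -/
lemma smul_mem_of_closed (S : AddSubgroup (PMod H t hcomm))
    (hC : ∀ (a : A) (e : PMod H t hcomm), e ∈ S → (MvPolynomial.C a : MvPolynomial σ A) • e ∈ S)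
    (hX : ∀ (i : σ) (e : PMod H t hcomm), e ∈ S → (MvPolynomial.X i : MvPolynomial σ A) • e ∈ S)
    (p : MvPolynomial σ A) : ∀ e : PMod H t hcomm, e ∈ S → p • e ∈ S := by
  induction p using MvPolynomial.induction_on with
  | C a => exact hC a
  | add p q hp hq =>
    intro e he
    rw [add_smul]
    exact S.add_mem (hp e he) (hq e he)
  | mul_X p i hp =>
    intro e he
    rw [mul_smul]
    exact hp _ (hX i e he)

lemma toP_lof_mem_of_closed (S : AddSubgroup (PMod H t hcomm))
    (h : ∀ (k : ℕ) (x : H k), toP H t hcomm (DirectSum.lof A ℕ H k x) ∈ S) (e : PMod H t hcomm) :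
    e ∈ S := by
  classical
  change ⨁ k, H k at e
  induction e using DirectSum.induction_on with
  | zero => exact S.zero_mem
  | of k x => exact h k x
  | add x y hx hy => exact S.add_mem hx hy

/-- **finite generation**: finite pieces, jointly surjective from `k₀` on -/
theorem pmod_finite (hfin : ∀ k, Module.Finite A (H k)) (k₀ : ℕ)
    (hjs : ∀ k, k₀ ≤ k → ⨆ i, LinearMap.range (t i k) = ⊤) :
    Module.Finite (MvPolynomial σ A) (PMod H t hcomm) := by
  classical
  choose G hG using fun k => (hfin k).fg_top
  let gens : Set (PMod H t hcomm) :=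
    ⋃ k ∈ Finset.range (k₀ + 1), (fun x => toP H t hcomm (DirectSum.lof A ℕ H k x)) '' (G k : Set (H k))
  have hgens : gens.Finite :=
    Set.Finite.biUnion (Finset.finite_toSet _) (fun k _ => (G k).finite_toSet.image _)
  refine ⟨⟨hgens.toFinset, ?_⟩⟩
  rw [Set.Finite.coe_toFinset]
  set W := Submodule.span (MvPolynomial σ A) gens with hW
  have key : ∀ (k : ℕ) (x : H k), toP H t hcomm (DirectSum.lof A ℕ H k x) ∈ W := by
    intro k
    induction k with
    | zero =>
      intro x
      have hx : x ∈ Submodule.span A (G 0 : Set (H 0)) := by rw [hG 0]; trivial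
      induction hx using Submodule.span_induction with
      | mem y hy =>
        refine Submodule.subset_span (Set.mem_biUnion (Finset.mem_range.mpr (Nat.succ_pos _)) ?_)
        exact ⟨y, hy, rfl⟩
      | zero => rw [map_zero]; exact W.zero_mem
      | add y z _ _ hy hz => rw [map_add]; exact W.add_mem hy hz
      | smul a y _ hy =>
        rw [map_smul]
        have := W.smul_mem (MvPolynomial.C a) hy
        rwa [C_smul] at this
    | succ k ih =>
      intro x
      by_cases hk : k + 1 ≤ k₀
      · have hx : x ∈ Submodule.span A (G (k + 1) : Set (H (k + 1))) := by rw [hG (k + 1)]; trivial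
        induction hx using Submodule.span_induction with
        | mem y hy =>
          have hk2 : k + 1 ∈ Finset.range (k₀ + 1) := Finset.mem_range.mpr (by omega)
          refine Submodule.subset_span (Set.mem_biUnion hk2 ?_)
          exact ⟨y, hy, rfl⟩
        | zero => rw [map_zero]; exact W.zero_mem
        | add y z _ _ hy hz => rw [map_add]; exact W.add_mem hy hz
        | smul a y _ hy =>
          rw [map_smul]
          have := W.smul_mem (MvPolynomial.C a) hy
          rwa [C_smul] at this
      · have hk' : k₀ ≤ k := by omega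
        have hx : x ∈ ⨆ i, LinearMap.range (t i k) := by rw [hjs k hk']; trivial
        induction hx using Submodule.iSup_induction' with
        | mem i y hy =>
          obtain ⟨z, rfl⟩ := hy
          have := W.smul_mem (MvPolynomial.X i) (ih z)
          rw [X_smul] at this
          change toP H t hcomm (T H t i (DirectSum.lof A ℕ H k z)) ∈ W at this
          rwa [T_lof] at this
        | zero => rw [map_zero]; exact W.zero_mem
        | add y z _ _ hy hz => rw [map_add]; exact W.add_mem hy hz
  rw [eq_top_iff]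
  intro e _
  exact toP_lof_mem_of_closed H t hcomm W.toAddSubgroup key e

include hcomm in
/-- **Hilbert's basis theorem for graded systems** -/
theorem hilbert_basis [Finite σ] [IsNoetherianRing A] (hfin : ∀ k, Module.Finite A (H k)) (k₀ : ℕ)
    (hjs : ∀ k, k₀ ≤ k → ⨆ i, LinearMap.range (t i k) = ⊤)
    (H' : ∀ k, Submodule A (H k)) (hH' : ∀ i k, (H' k).map (t i k) ≤ H' (k + 1)) :
    ∃ k₁, ∀ k, k₁ ≤ k → H' (k + 1) ≤ ⨆ i, (H' k).map (t i k) := by
  classical
  haveI := pmod_finite H t hcomm hfin k₀ hjs
  haveI : IsNoetherian (MvPolynomial σ A) (PMod H t hcomm) := isNoetherian_of_isNoetherianRing_of_finite _ _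
  -- the submodule of `PMod` attached to `H'`
  let E₀ : AddSubgroup (PMod H t hcomm) :=
    { carrier := {e | ∀ k, (ofP H t hcomm e) k ∈ H' k}
      zero_mem' := fun k => (H' k).zero_mem
      add_mem' := fun {a b} ha hb k => (H' k).add_mem (ha k) (hb k)
      neg_mem' := fun {a} ha k => (H' k).neg_mem (ha k) }
  have hE₀C : ∀ (a : A) (e : PMod H t hcomm), e ∈ E₀ →
      (MvPolynomial.C a : MvPolynomial σ A) • e ∈ E₀ := by
    intro a e he k
    rw [C_smul]
    exact (H' k).smul_mem a (he k)
  have hE₀X : ∀ (i : σ) (e : PMod H t hcomm), e ∈ E₀ →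
      (MvPolynomial.X i : MvPolynomial σ A) • e ∈ E₀ := by
    intro i e he k
    rw [X_smul]
    cases k with
    | zero =>
      change (T H t i (ofP H t hcomm e)) 0 ∈ H' 0
      have : (T H t i (ofP H t hcomm e)) 0 = 0 := by
        generalize ofP H t hcomm e = e'
        induction e' using DirectSum.induction_on with
        | zero => simp
        | of k' x =>
          rw [← DirectSum.lof_eq_of A, T_lof, DirectSum.lof_eq_of]
          exact DirectSum.of_eq_of_ne _ _ _ (by omega)
        | add x y hx hy => rw [map_add, DirectSum.add_apply, hx, hy, add_zero]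
      rw [this]
      exact (H' 0).zero_mem
    | succ k =>
      change (T H t i (ofP H t hcomm e)) (k + 1) ∈ H' (k + 1)
      rw [T_apply_succ]
      exact hH' i k ⟨_, he k, rfl⟩
  let E' : Submodule (MvPolynomial σ A) (PMod H t hcomm) :=
    { E₀ with
      smul_mem' := fun p e he => smul_mem_of_closed H t hcomm E₀ hE₀C hE₀X p e he }
  obtain ⟨G, hG⟩ := (IsNoetherian.noetherian E' : E'.FG)
  -- degree bound of the generators
  let d : ℕ := G.sup (fun g => (DFinsupp.support (ofP H t hcomm g)).sup id)
  have hd : ∀ g ∈ G, ∀ k, d < k → (ofP H t hcomm g) k = 0 := by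
    intro g hg k hk
    by_contra hne
    have h1 : k ∈ DFinsupp.support (ofP H t hcomm g) := DFinsupp.mem_support_iff.mpr hne
    have h2 : k ≤ (DFinsupp.support (ofP H t hcomm g)).sup id := Finset.le_sup (f := id) h1
    have h3 : (DFinsupp.support (ofP H t hcomm g)).sup id ≤ d :=
      Finset.le_sup (f := fun g => (DFinsupp.support (ofP H t hcomm g)).sup id) hg
    omega
  refine ⟨d, fun k hk => ?_⟩
  let V₀ : AddSubgroup (PMod H t hcomm) :=
    { carrier := {e | e ∈ E₀ ∧ ∀ k, d ≤ k → (ofP H t hcomm e) (k + 1) ∈ ⨆ i, (H' k).map (t i k)}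
      zero_mem' := ⟨E₀.zero_mem, fun k _ => Submodule.zero_mem _⟩
      add_mem' := fun {a b} ha hb => ⟨E₀.add_mem ha.1 hb.1, fun k hk =>
        Submodule.add_mem _ (ha.2 k hk) (hb.2 k hk)⟩
      neg_mem' := fun {a} ha => ⟨E₀.neg_mem ha.1, fun k hk => Submodule.neg_mem _ (ha.2 k hk)⟩ }
  have hV₀C : ∀ (a : A) (e : PMod H t hcomm), e ∈ V₀ →
      (MvPolynomial.C a : MvPolynomial σ A) • e ∈ V₀ := by
    intro a e he
    refine ⟨hE₀C a e he.1, fun k hk => ?_⟩
    rw [C_smul]
    exact Submodule.smul_mem _ a (he.2 k hk)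
  have hV₀X : ∀ (i : σ) (e : PMod H t hcomm), e ∈ V₀ →
      (MvPolynomial.X i : MvPolynomial σ A) • e ∈ V₀ := by
    intro i e he
    refine ⟨hE₀X i e he.1, fun k _ => ?_⟩
    rw [X_smul]
    change (T H t i (ofP H t hcomm e)) (k + 1) ∈ _
    rw [T_apply_succ]
    exact Submodule.mem_iSup_of_mem i ⟨_, he.1 k, rfl⟩
  let V : Submodule (MvPolynomial σ A) (PMod H t hcomm) :=
    { V₀ with
      smul_mem' := fun p e he => smul_mem_of_closed H t hcomm V₀ hV₀C hV₀X p e he }
  have hGV : (G : Set (PMod H t hcomm)) ⊆ V := by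
    intro g hg
    have hgE : g ∈ E' := hG ▸ Submodule.subset_span hg
    refine ⟨hgE, fun k' hk' => ?_⟩
    rw [hd g hg (k' + 1) (by omega)]
    exact Submodule.zero_mem _
  have hEV : E' ≤ V := by
    rw [← hG]
    exact Submodule.span_le.mpr hGV
  intro x hx
  have hmem : toP H t hcomm (DirectSum.lof A ℕ H (k + 1) x) ∈ E' := by
    intro k'
    change (DirectSum.lof A ℕ H (k + 1) x) k' ∈ H' k'
    rw [DirectSum.lof_eq_of]
    by_cases h : k + 1 = k'
    · subst h
      rw [DirectSum.of_eq_same]
      exact hx
    · rw [DirectSum.of_eq_of_ne _ _ _ (Ne.symm h)]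
      exact (H' k').zero_mem
  have := (hEV hmem).2 k hk
  change (DirectSum.lof A ℕ H (k + 1) x) (k + 1) ∈ _ at this
  rwa [DirectSum.lof_eq_of, DirectSum.of_eq_same] at this

end Alg

end Groth.Agent.Lib.helper8.Rees
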