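import Mathlib
import Groth.Prelude.Def_Coh
import Groth.Agent.Lib.Helper8.ReesAlg
import Groth.Agent.Lib.Helper16.QCohEpi
import Groth.Agent.Lib.Helper7.CohKer

/-!
# Graded systems of coherent modules with commuting degree-one operators (helper8)

`Sys X σ`: a sequence of `O_X`-modules `obj k` with commuting maps `τ i k : obj k ⟶ obj (k + 1)`.
For `j : σ` the kernel, cokernel and image systems of `τ j`.
`Good 𝓜 s` (for `s : Finset σ`): the `obj k` are coherent and on every affine open the maps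
`τ i k`, `i ∈ s`, are jointly surjective on sections for `k` large.

* `Good.coker`: `Good 𝓜 (insert j s) → Good (𝓜.coker j) s`.
* `Good.ker`: `Good 𝓜 (insert j s) → Good (𝓜.ker j) s` (Hilbert's basis theorem on affine opens).
* `Good.isZero_of_empty`: `Good 𝓜 ∅` implies `obj (k + 1) = 0` for `k` large (`X` quasi-compact).
-/

set_option autoImplicit false
universe u

namespace Groth.Agent.Lib.helper8.Rees

open CategoryTheory CategoryTheory.Limits AlgebraicGeometry Opposite TopologicalSpace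

section Abstract

variable {C : Type*} [Category C] [Abelian C]

/-- `0 → ker f → X → im f → 0`. -/
theorem shortExact_kernel_image {X Y : C} (f : X ⟶ Y) :
    (ShortComplex.mk (kernel.ι f) (Abelian.factorThruImage f) (by
      rw [← cancel_mono (Abelian.image.ι f), Category.assoc, Abelian.image.fac, kernel.condition,
        zero_comp])).ShortExact := by
  refine ShortComplex.ShortExact.mk' ?_ inferInstance inferInstance
  refine ShortComplex.exact_of_f_is_kernel _ ?_
  exact isKernelOfComp (f := Abelian.factorThruImage f) (Abelian.image.ι f) f (kernelIsKernel f) _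
    (Abelian.image.fac f)

/-- `0 → im f → Y → coker f → 0`. -/
theorem shortExact_image_cokernel {X Y : C} (f : X ⟶ Y) :
    (ShortComplex.mk (Abelian.image.ι f) (cokernel.π f) (kernel.condition _)).ShortExact := by
  refine ShortComplex.ShortExact.mk' ?_ inferInstance inferInstance
  exact ShortComplex.exact_of_f_is_kernel _ (kernelIsKernel (cokernel.π f))

end Abstract

variable {X : Scheme.{u}} {σ : Type*}

/-- a graded system of `O_X`-modules with commuting degree-one operators indexed by `σ` -/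
structure Sys (X : Scheme.{u}) (σ : Type*) where
  /-- the graded pieces -/
  obj : ℕ → X.Modules
  /-- the operators -/
  τ : σ → ∀ k, obj k ⟶ obj (k + 1)
  comm : ∀ i j k, τ i k ≫ τ j (k + 1) = τ j k ≫ τ i (k + 1)

namespace Sys

variable (𝓜 : Sys X σ) (j : σ)

/-- the kernel system of `τ j` -/
noncomputable def ker : Sys X σ where
  obj k := kernel (𝓜.τ j k)
  τ i k := kernel.map (𝓜.τ j k) (𝓜.τ j (k + 1)) (𝓜.τ i k) (𝓜.τ i (k + 1)) (𝓜.comm j i k)
  comm i i' k := by
    apply equalizer.hom_ext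
    simp only [Category.assoc, kernel.lift_ι, kernel.map, kernel.lift_ι_assoc]
    rw [𝓜.comm i i' k]

/-- the cokernel system of `τ j` (`obj k` is a quotient of `𝓜.obj (k + 1)`) -/
noncomputable def coker : Sys X σ where
  obj k := cokernel (𝓜.τ j k)
  τ i k := cokernel.map (𝓜.τ j k) (𝓜.τ j (k + 1)) (𝓜.τ i k) (𝓜.τ i (k + 1)) (𝓜.comm j i k)
  comm i i' k := by
    apply coequalizer.hom_ext
    simp only [cokernel.map, cokernel.π_desc_assoc, Category.assoc, cokernel.π_desc]
    rw [← Category.assoc, ← Category.assoc, 𝓜.comm i i' (k + 1)]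

/-- the inclusion of the kernel -/
noncomputable def kerι (k : ℕ) : (𝓜.ker j).obj k ⟶ 𝓜.obj k := kernel.ι (𝓜.τ j k)

instance (k : ℕ) : Mono (𝓜.kerι j k) := by dsimp only [kerι, ker]; infer_instance

@[reassoc (attr := simp)]
lemma kerι_τ (k : ℕ) : 𝓜.kerι j k ≫ 𝓜.τ j k = 0 := by
  dsimp only [kerι, ker]
  exact kernel.condition _

@[reassoc (attr := simp)]
lemma ker_τ_kerι (i : σ) (k : ℕ) :
    (𝓜.ker j).τ i k ≫ 𝓜.kerι j (k + 1) = 𝓜.kerι j k ≫ 𝓜.τ i k := by
  dsimp only [kerι, ker, kernel.map]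
  exact kernel.lift_ι _ _ _

/-- the projection to the cokernel -/
noncomputable def cokerπ (k : ℕ) : 𝓜.obj (k + 1) ⟶ (𝓜.coker j).obj k := cokernel.π (𝓜.τ j k)

instance (k : ℕ) : Epi (𝓜.cokerπ j k) := by dsimp only [cokerπ, coker]; infer_instance

@[reassoc (attr := simp)]
lemma τ_cokerπ (k : ℕ) : 𝓜.τ j k ≫ 𝓜.cokerπ j k = 0 := by
  dsimp only [cokerπ, coker]
  exact cokernel.condition _

@[reassoc (attr := simp)]
lemma cokerπ_coker_τ (i : σ) (k : ℕ) :
    𝓜.cokerπ j k ≫ (𝓜.coker j).τ i k = 𝓜.τ i (k + 1) ≫ 𝓜.cokerπ j (k + 1) := by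
  dsimp only [cokerπ, coker, cokernel.map]
  exact cokernel.π_desc _ _ _

/-- the image system of `τ j` (`obj k` is a submodule of `𝓜.obj (k + 1)`) -/
noncomputable def im : Sys X σ where
  obj k := kernel (𝓜.cokerπ j k)
  τ i k := kernel.map (𝓜.cokerπ j k) (𝓜.cokerπ j (k + 1)) (𝓜.τ i (k + 1))
    ((𝓜.coker j).τ i k) (𝓜.cokerπ_coker_τ j i k)
  comm i i' k := by
    apply equalizer.hom_ext
    simp only [Category.assoc, kernel.lift_ι, kernel.map, kernel.lift_ι_assoc]
    rw [𝓜.comm i i' (k + 1)]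

/-- the inclusion of the image -/
noncomputable def imι (k : ℕ) : (𝓜.im j).obj k ⟶ 𝓜.obj (k + 1) := kernel.ι (𝓜.cokerπ j k)

/-- the projection to the image -/
noncomputable def toIm (k : ℕ) : 𝓜.obj k ⟶ (𝓜.im j).obj k :=
  kernel.lift (𝓜.cokerπ j k) (𝓜.τ j k) (𝓜.τ_cokerπ j k)

instance (k : ℕ) : Mono (𝓜.imι j k) := by dsimp only [imι, im]; infer_instance

instance (k : ℕ) : Epi (𝓜.toIm j k) := by
  dsimp only [toIm, im, cokerπ]
  exact inferInstanceAs (Epi (Abelian.factorThruImage (𝓜.τ j k)))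

@[reassoc (attr := simp)]
lemma toIm_imι (k : ℕ) : 𝓜.toIm j k ≫ 𝓜.imι j k = 𝓜.τ j k := by
  dsimp only [toIm, imι, im]
  exact kernel.lift_ι _ _ _

@[reassoc (attr := simp)]
lemma imι_cokerπ (k : ℕ) : 𝓜.imι j k ≫ 𝓜.cokerπ j k = 0 := by
  dsimp only [imι, im]
  exact kernel.condition _

@[reassoc (attr := simp)]
lemma im_τ_ι (i : σ) (k : ℕ) :
    (𝓜.im j).τ i k ≫ 𝓜.imι j (k + 1) = 𝓜.imι j k ≫ 𝓜.τ i (k + 1) := by
  dsimp only [imι, im, kernel.map]
  exact kernel.lift_ι _ _ _

@[reassoc (attr := simp)]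
lemma toIm_im_τ (i : σ) (k : ℕ) :
    𝓜.toIm j k ≫ (𝓜.im j).τ i k = 𝓜.τ i k ≫ 𝓜.toIm j (k + 1) := by
  rw [← cancel_mono (𝓜.imι j (k + 1)), Category.assoc, im_τ_ι, toIm_imι_assoc, Category.assoc,
    toIm_imι, 𝓜.comm j i k]

@[reassoc (attr := simp)]
lemma kerι_toIm (k : ℕ) : 𝓜.kerι j k ≫ 𝓜.toIm j k = 0 := by
  rw [← cancel_mono (𝓜.imι j k), Category.assoc, toIm_imι, kerι_τ, zero_comp]

/-- `0 → ker → 𝓜_k → im → 0` -/
noncomputable abbrev sesKerIm (k : ℕ) : ShortComplex X.Modules :=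
  ShortComplex.mk (𝓜.kerι j k) (𝓜.toIm j k) (𝓜.kerι_toIm j k)

theorem shortExact_ker_im (k : ℕ) : (𝓜.sesKerIm j k).ShortExact :=
  shortExact_kernel_image (𝓜.τ j k)

/-- the morphism of short exact sequences induced by `τ i` -/
noncomputable def sesKerImMap (i : σ) (k : ℕ) : 𝓜.sesKerIm j k ⟶ 𝓜.sesKerIm j (k + 1) where
  τ₁ := (𝓜.ker j).τ i k
  τ₂ := 𝓜.τ i k
  τ₃ := (𝓜.im j).τ i k
  comm₁₂ := by simp [sesKerIm]
  comm₂₃ := by simp [sesKerIm]

/-- `0 → im → 𝓜_{k+1} → coker → 0` -/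
noncomputable abbrev sesImCoker (k : ℕ) : ShortComplex X.Modules :=
  ShortComplex.mk (𝓜.imι j k) (𝓜.cokerπ j k) (𝓜.imι_cokerπ j k)

theorem shortExact_im_coker (k : ℕ) : (𝓜.sesImCoker j k).ShortExact :=
  shortExact_image_cokernel (𝓜.τ j k)

end Sys

section Sections

open Scheme.Modules

/-- the sections functor `Γ(-,U) : X.Modules ⥤ Ab` -/
noncomputable abbrev secFunctor (U : X.Opens) : X.Modules ⥤ Ab.{u} :=
  Scheme.Modules.toPresheaf X ⋙ (evaluation (Opens ↥X)ᵒᵖ Ab.{u}).obj (op U)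

instance (U : X.Opens) : PreservesFiniteLimits (secFunctor (X := X) U) := by
  haveI : PreservesFiniteLimits ((evaluation (Opens ↥X)ᵒᵖ Ab.{u}).obj (op U)) := inferInstance
  haveI : PreservesFiniteLimits (Scheme.Modules.toPresheaf X) := inferInstance
  exact comp_preservesFiniteLimits _ _

instance (U : X.Opens) : (secFunctor (X := X) U).PreservesZeroMorphisms where
  map_zero _ _ := rfl

/-- a morphism of modules as a linear map on sections -/
noncomputable def appLin {M N : X.Modules} (φ : M ⟶ N) (U : X.Opens) :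
    Γ(M, U) →ₗ[Γ(X, U)] Γ(N, U) where
  toFun := (φ.app U).hom
  map_add' := map_add _
  map_smul' r x := Hom.app_smul φ r x

@[simp] lemma appLin_apply {M N : X.Modules} (φ : M ⟶ N) (U : X.Opens) (x : Γ(M, U)) :
    appLin φ U x = (φ.app U).hom x := rfl

lemma appLin_comp {M N P : X.Modules} (φ : M ⟶ N) (ψ : N ⟶ P) (U : X.Opens) :
    appLin (φ ≫ ψ) U = (appLin ψ U).comp (appLin φ U) := rfl

lemma appLin_comp_apply {M N P : X.Modules} (φ : M ⟶ N) (ψ : N ⟶ P) (U : X.Opens) (x : Γ(M, U)) :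
    appLin (φ ≫ ψ) U x = appLin ψ U (appLin φ U x) := rfl

lemma appLin_zero {M N : X.Modules} (U : X.Opens) : appLin (0 : M ⟶ N) U = 0 := rfl

theorem appLin_injective_of_mono {M N : X.Modules} (φ : M ⟶ N) [Mono φ] (U : X.Opens) :
    Function.Injective (appLin φ U) := by
  have h2 : Mono ((secFunctor U).map φ) := inferInstance
  exact (AddCommGrpCat.mono_iff_injective _).mp h2

theorem range_appLin_kernel_ι {M N : X.Modules} (φ : M ⟶ N) (U : X.Opens) :
    LinearMap.range (appLin (kernel.ι φ) U) = LinearMap.ker (appLin φ U) := by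
  let S : ShortComplex X.Modules := ShortComplex.mk (kernel.ι φ) φ (kernel.condition φ)
  have hS : S.Exact := ShortComplex.exact_of_f_is_kernel _ (kernelIsKernel φ)
  have h1 : (S.map (secFunctor U)).Exact :=
    hS.map_of_mono_of_preservesKernel (secFunctor U) (inferInstanceAs (Mono (kernel.ι φ)))
      inferInstance
  have h2 := (ShortComplex.ab_exact_iff_function_exact _).mp h1
  ext x
  constructor
  · rintro ⟨y, rfl⟩
    exact (h2 _).2 ⟨y, rfl⟩
  · intro hx
    obtain ⟨y, hy⟩ := (h2 x).1 hx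
    exact ⟨y, hy⟩

theorem appLin_surjective_of_epi {M N : X.Modules} [M.IsQuasicoherent] [N.IsQuasicoherent]
    (φ : M ⟶ N) [Epi φ] {U : X.Opens} (hU : IsAffineOpen U) : Function.Surjective (appLin φ U) :=
  Groth.Agent.Lib.helper16.QCohEpi.surjective_app_of_epi φ hU

end Sections

section Good

open Scheme.Modules

/-- a graded system is good for the set of variables `s` if its pieces are coherent and on every
affine open the operators `τ i`, `i ∈ s`, are jointly surjective in large degrees -/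
def Good (𝓜 : Sys X σ) (s : Finset σ) : Prop :=
  (∀ k, Coh.IsCoh (𝓜.obj k)) ∧ ∀ U : X.Opens, IsAffineOpen U → ∃ k₀, ∀ k, k₀ ≤ k →
    (⨆ i : s, LinearMap.range (appLin (𝓜.τ i k) U)) = ⊤

variable [DecidableEq σ] {𝓜 : Sys X σ} {j : σ} {s : Finset σ}

theorem Good.coker (h : Good 𝓜 (insert j s)) : Good (𝓜.coker j) s := by
  refine ⟨fun k => Groth.Agent.Lib.helper7.CohKer.isCoh_cokernel (h.1 k) (h.1 (k + 1)) _, ?_⟩
  intro U hU
  obtain ⟨k₀, hk₀⟩ := h.2 U hU
  refine ⟨k₀, fun k hk => ?_⟩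
  rw [eq_top_iff]
  intro y hy
  clear hy
  haveI : (𝓜.obj (k + 1 + 1)).IsQuasicoherent := (h.1 _).1
  haveI : ((𝓜.coker j).obj (k + 1)).IsQuasicoherent :=
    (Groth.Agent.Lib.helper7.CohKer.isCoh_cokernel (h.1 (k + 1)) (h.1 (k + 1 + 1)) _).1
  obtain ⟨x, rfl⟩ := appLin_surjective_of_epi (𝓜.cokerπ j (k + 1)) hU y
  have hx : x ∈ ⨆ i : (insert j s : Finset σ), LinearMap.range (appLin (𝓜.τ i (k + 1)) U) := by
    rw [hk₀ (k + 1) (by omega)]
    trivial
  induction hx using Submodule.iSup_induction' with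
  | mem i z hz =>
    obtain ⟨w, rfl⟩ := hz
    by_cases hij : (i : σ) = j
    · rw [← appLin_comp_apply, hij, Sys.τ_cokerπ, appLin_zero]
      exact Submodule.zero_mem _
    · have his : (i : σ) ∈ s := by
        have := i.2
        rw [Finset.mem_insert] at this
        exact this.resolve_left hij
      rw [← appLin_comp_apply, ← Sys.cokerπ_coker_τ, appLin_comp_apply]
      exact Submodule.mem_iSup_of_mem (⟨i, his⟩ : s) ⟨_, rfl⟩
  | zero => rw [map_zero]; exact Submodule.zero_mem _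
  | add a b _ _ ha hb => rw [map_add]; exact Submodule.add_mem _ ha hb

theorem Good.ker [IsLocallyNoetherian X] (h : Good 𝓜 (insert j s)) : Good (𝓜.ker j) s := by
  refine ⟨fun k => Groth.Agent.Lib.helper7.CohKer.isCoh_kernel (h.1 k) (h.1 (k + 1)) _, ?_⟩
  intro U hU
  obtain ⟨k₀, hk₀⟩ := h.2 U hU
  haveI : IsNoetherianRing Γ(X, U) := IsLocallyNoetherian.component_noetherian ⟨U, hU⟩
  -- Hilbert's basis theorem for the system of sections over `U`
  have hcomm : ∀ (i i' : (insert j s : Finset σ)) (k : ℕ) (x : Γ(𝓜.obj k, U)),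
      appLin (𝓜.τ i (k + 1)) U (appLin (𝓜.τ i' k) U x) =
        appLin (𝓜.τ i' (k + 1)) U (appLin (𝓜.τ i k) U x) := by
    intro i i' k x
    rw [← appLin_comp_apply, ← appLin_comp_apply, 𝓜.comm]
  have hstab : ∀ (i : (insert j s : Finset σ)) (k : ℕ),
      (LinearMap.ker (appLin (𝓜.τ j k) U)).map (appLin (𝓜.τ i k) U) ≤
        LinearMap.ker (appLin (𝓜.τ j (k + 1)) U) := by
    rintro i k _ ⟨x, hx, rfl⟩
    rw [LinearMap.mem_ker, ← appLin_comp_apply, 𝓜.comm, appLin_comp_apply]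
    rw [SetLike.mem_coe, LinearMap.mem_ker] at hx
    rw [hx, map_zero]
  obtain ⟨k₁, hk₁⟩ := hilbert_basis (A := Γ(X, U)) (σ := (insert j s : Finset σ))
    (fun k => Γ(𝓜.obj k, U)) (fun i k => appLin (𝓜.τ i k) U) hcomm
    (fun k => Groth.Agent.Lib.helper16.CohFinite.finite_sections_of_isCoh (𝓜.obj k) (h.1 k) hU)
    k₀ hk₀ (fun k => LinearMap.ker (appLin (𝓜.τ j k) U)) hstab
  refine ⟨k₁, fun k hk => ?_⟩
  rw [eq_top_iff]
  have hinj := appLin_injective_of_mono (𝓜.kerι j (k + 1)) U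
  rw [← Submodule.map_le_map_iff_of_injective hinj, Submodule.map_top]
  have hr : ∀ k, LinearMap.range (appLin (𝓜.kerι j k) U) = LinearMap.ker (appLin (𝓜.τ j k) U) :=
    fun k => range_appLin_kernel_ι (𝓜.τ j k) U
  rw [hr (k + 1)]
  refine (hk₁ k hk).trans ?_
  refine iSup_le (fun i => ?_)
  by_cases hij : (i : σ) = j
  · rintro _ ⟨x, hx, rfl⟩
    rw [SetLike.mem_coe, LinearMap.mem_ker] at hx
    rw [hij, hx]
    exact Submodule.zero_mem _
  · have his : (i : σ) ∈ s := by
      have := i.2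
      rw [Finset.mem_insert] at this
      exact this.resolve_left hij
    rw [Submodule.map_iSup]
    refine le_trans ?_ (le_iSup _ (⟨i, his⟩ : s))
    rw [← hr k, LinearMap.range_eq_map, LinearMap.range_eq_map, ← Submodule.map_comp,
      ← Submodule.map_comp, ← appLin_comp, ← appLin_comp, Sys.ker_τ_kerι]

omit [DecidableEq σ] in
theorem Good.isZero_of_empty [CompactSpace X] (h : Good 𝓜 ∅) :
    ∃ k₁, ∀ k, k₁ ≤ k → IsZero (𝓜.obj (k + 1)) := by
  classical
  obtain ⟨t, ht, hcov⟩ := (isCompact_iff_finite_and_eq_biUnion_affineOpens (X := X)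
    (U := ⊤)).mp (by simpa using isCompact_univ)
  choose k₀ hk₀ using fun U : X.affineOpens => h.2 U.1 U.2
  refine ⟨ht.toFinset.sup k₀, fun k hk => ?_⟩
  haveI : (𝓜.obj (k + 1)).IsQuasicoherent := (h.1 _).1
  have hsub : ∀ U : t, Subsingleton Γ(𝓜.obj (k + 1), (U : X.affineOpens).1) := by
    intro U
    have h1 : k₀ U ≤ k := le_trans (Finset.le_sup (f := k₀) (ht.mem_toFinset.mpr U.2)) hk
    have h2 := hk₀ U k h1
    haveI : IsEmpty (∅ : Finset σ) := ⟨fun x => Finset.notMem_empty _ x.2⟩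
    rw [iSup_of_empty] at h2
    exact ⟨fun a b => by
      have ha : a ∈ (⊥ : Submodule Γ(X, (U : X.affineOpens).1) Γ(𝓜.obj (k + 1), (U : X.affineOpens).1)) := by
        rw [h2]; trivial
      have hb : b ∈ (⊥ : Submodule Γ(X, (U : X.affineOpens).1) Γ(𝓜.obj (k + 1), (U : X.affineOpens).1)) := by
        rw [h2]; trivial
      rw [(Submodule.mem_bot _).mp ha, (Submodule.mem_bot _).mp hb]⟩
  haveI : Epi (0 : 𝓜.obj (k + 1) ⟶ 𝓜.obj (k + 1)) := by
    refine Groth.Agent.Lib.helper16.QCohEpi.epi_of_surjective_on_affine_cover _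
      (fun U : t => (U : X.affineOpens).1) (fun U => (U : X.affineOpens).2) ?_ ?_
    · intro x
      have hx : x ∈ (⊤ : X.Opens) := trivial
      rw [hcov] at hx
      simp only [Opens.mem_iSup] at hx
      obtain ⟨U, hU, hxU⟩ := hx
      exact ⟨⟨U, hU⟩, hxU⟩
    · intro U y
      haveI := hsub U
      exact ⟨0, Subsingleton.elim _ _⟩
  exact IsZero.of_epi_zero (𝓜.obj (k + 1)) (𝓜.obj (k + 1))

end Good

end Groth.Agent.Lib.helper8.Rees
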