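import Mathlib
import Groth.Agent.Lib.Helper8.ReesSys
import Groth.Agent.Lib.Helper8.FormalBasic

/-!
# Finite generation of the cohomology of a graded system (helper8; EGA III 3.3.1)

`A` Noetherian, `X` a quasi-compact locally Noetherian scheme over `Spec A` whose coherent modules
have finite cohomology over `A` (e.g. `X` proper over `A`). For a graded system `𝓜` of coherent
modules which is good for the finite set of variables `s`, the graded `A[T_i]`-module
`⨁_k H^p(X, 𝓜_k)` is finitely generated: the maps `H^p(τ_i) : H^p(𝓜_k) → H^p(𝓜_{k+1})`, `i ∈ s`,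
are jointly surjective for `k` large (`exists_jointly_surjective`).

The proof is by induction on `s`, through the kernel and cokernel systems of one variable and
Hilbert's basis theorem for graded systems.
-/

set_option autoImplicit false
universe u

namespace Groth.Agent.Lib.helper8.Rees

open CategoryTheory CategoryTheory.Limits AlgebraicGeometry Opposite TopologicalSpace
open Groth.Agent.Lib.Helper18

variable {X : Scheme.{u}} {σ : Type*}

section Basic

variable (A : Type u) [CommRing A] [X.Over (Spec (CommRingCat.of A))]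

lemma mapOver_comp {M N P : X.Modules} (f : M ⟶ N) (g : N ⟶ P) (n : ℕ) :
    HH.mapOver A (f ≫ g) n = (HH.mapOver A g n).comp (HH.mapOver A f n) := by
  ext x
  simp only [HH.mapOver_apply, LinearMap.comp_apply]
  exact HH.map_comp_apply f g n x

lemma mapOver_comp_apply {M N P : X.Modules} (f : M ⟶ N) (g : N ⟶ P) (n : ℕ)
    (x : Coh.HH X M n) :
    HH.mapOver A (f ≫ g) n x = HH.mapOver A g n (HH.mapOver A f n x) := by
  rw [mapOver_comp]; rfl

lemma subsingleton_HH_of_isZero {M : X.Modules} (hM : IsZero M) (n : ℕ) :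
    Subsingleton (Coh.HH X M n) := by
  refine ⟨fun a b => ?_⟩
  have h : ∀ x : Coh.HH X M n, x = 0 := by
    intro x
    have h1 : HH.map (𝟙 M) n x = x := by rw [HH.map_id]; rfl
    have h2 : (𝟙 M) = 0 := hM.eq_of_src _ _
    rw [h2, HH.map_zero] at h1
    exact h1.symm
  rw [h a, h b]

end Basic

section Main

variable (A : Type u) [CommRing A] [IsNoetherianRing A] [X.Over (Spec (CommRingCat.of A))]
  [IsLocallyNoetherian X] [CompactSpace X]
  (hfin : ∀ (N : X.Modules), Coh.IsCoh N → ∀ q, Module.Finite A (Coh.HH X N q))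

include hfin in
/-- **finite generation of `⨁_k H^p(X, 𝓜_k)`** -/
theorem exists_jointly_surjective [DecidableEq σ] (s : Finset σ) :
    ∀ (𝓜 : Sys X σ), Good 𝓜 s → ∀ p : ℕ, ∃ k₁, ∀ k, k₁ ≤ k →
      (⨆ i : s, LinearMap.range (HH.mapOver A (𝓜.τ i k) p)) = ⊤ := by
  induction s using Finset.induction_on with
  | empty =>
    intro 𝓜 h𝓜 p
    obtain ⟨k₁, hk₁⟩ := h𝓜.isZero_of_empty
    refine ⟨k₁, fun k hk => ?_⟩
    haveI := subsingleton_HH_of_isZero (hk₁ k hk) p
    exact Subsingleton.elim _ _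
  | insert j s' hj ih =>
    intro 𝓜 h𝓜 p
    have hQ : Good (𝓜.coker j) s' := h𝓜.coker
    have hT : Good (𝓜.ker j) s' := h𝓜.ker
    obtain ⟨kQ, hkQ⟩ := ih (𝓜.coker j) hQ p
    obtain ⟨kT, hkT⟩ := ih (𝓜.ker j) hT (p + 1)
    -- the subsystem `B` of `H^p(𝓠)`
    obtain ⟨kB, hkB⟩ := hilbert_basis (A := A) (σ := (s' : Finset σ))
      (fun k => Coh.HH X ((𝓜.coker j).obj k) p)
      (fun i k => HH.mapOver A ((𝓜.coker j).τ i k) p)
      (fun i i' k x => by
        rw [← mapOver_comp_apply, ← mapOver_comp_apply, (𝓜.coker j).comm])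
      (fun k => hfin _ (hQ.1 k) p) kQ hkQ
      (fun k => LinearMap.range (HH.mapOver A (𝓜.cokerπ j k) p))
      (by
        rintro i k _ ⟨_, ⟨y, rfl⟩, rfl⟩
        refine ⟨HH.mapOver A (𝓜.τ i (k + 1)) p y, ?_⟩
        rw [← mapOver_comp_apply, ← mapOver_comp_apply, Sys.cokerπ_coker_τ])
    -- the subsystem `C` of `H^{p+1}(𝓣)`
    obtain ⟨kC, hkC⟩ := hilbert_basis (A := A) (σ := (s' : Finset σ))
      (fun k => Coh.HH X ((𝓜.ker j).obj k) (p + 1))
      (fun i k => HH.mapOver A ((𝓜.ker j).τ i k) (p + 1))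
      (fun i i' k x => by
        rw [← mapOver_comp_apply, ← mapOver_comp_apply, (𝓜.ker j).comm])
      (fun k => hfin _ (hT.1 k) (p + 1)) kT hkT
      (fun k => LinearMap.range (HH.δOver (𝓜.shortExact_ker_im j k) A p))
      (by
        rintro i k _ ⟨_, ⟨w, rfl⟩, rfl⟩
        refine ⟨HH.mapOver A ((𝓜.im j).τ i k) p w, ?_⟩
        exact FF.δ_naturality (𝓜.shortExact_ker_im j k) (𝓜.shortExact_ker_im j (k + 1))
          (𝓜.sesKerImMap j i k) p w)
    refine ⟨max kB kC + 1, fun K hK => ?_⟩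
    obtain ⟨k, rfl⟩ : ∃ k, K = k + 1 := ⟨K - 1, by omega⟩
    have hkB' : kB ≤ k := by omega
    have hkC' : kC ≤ k := by omega
    set S : Submodule A (Coh.HH X (𝓜.obj (k + 1 + 1)) p) :=
      ⨆ i : (insert j s' : Finset σ), LinearMap.range (HH.mapOver A (𝓜.τ i (k + 1)) p) with hS
    have hSmem : ∀ i : σ, i ∈ insert j s' →
        LinearMap.range (HH.mapOver A (𝓜.τ i (k + 1)) p) ≤ S := fun i hi =>
      le_iSup (fun i : (insert j s' : Finset σ) =>
        LinearMap.range (HH.mapOver A (𝓜.τ i (k + 1)) p)) ⟨i, hi⟩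
    -- Step 2: `H^p(𝓘_{k+1})` is generated by the images of `𝓘_k` and of `𝓜_{k+1}`
    have step2 : LinearMap.range (HH.mapOver A (𝓜.imι j (k + 1)) p) ≤ S := by
      set S' : Submodule A (Coh.HH X ((𝓜.im j).obj (k + 1)) p) :=
        (⨆ i : s', LinearMap.range (HH.mapOver A ((𝓜.im j).τ i k) p)) ⊔
          LinearMap.range (HH.mapOver A (𝓜.toIm j (k + 1)) p) with hS'
      have hS'top : S' = ⊤ := by
        rw [eq_top_iff]
        intro w _
        have hw : HH.δOver (𝓜.shortExact_ker_im j (k + 1)) A p w ∈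
            ⨆ i : s', (LinearMap.range (HH.δOver (𝓜.shortExact_ker_im j k) A p)).map
              (HH.mapOver A ((𝓜.ker j).τ i k) (p + 1)) := hkC k hkC' ⟨w, rfl⟩
        have hle : (⨆ i : s', (LinearMap.range (HH.δOver (𝓜.shortExact_ker_im j k) A p)).map
              (HH.mapOver A ((𝓜.ker j).τ i k) (p + 1))) ≤
            S'.map (HH.δOver (𝓜.shortExact_ker_im j (k + 1)) A p) := by
          refine iSup_le (fun i => ?_)
          rintro _ ⟨_, ⟨w', rfl⟩, rfl⟩
          refine ⟨HH.mapOver A ((𝓜.im j).τ i k) p w', ?_, ?_⟩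
          · exact Submodule.mem_sup_left (Submodule.mem_iSup_of_mem i ⟨w', rfl⟩)
          · exact FF.δ_naturality (𝓜.shortExact_ker_im j k) (𝓜.shortExact_ker_im j (k + 1))
              (𝓜.sesKerImMap j i k) p w'
        obtain ⟨s₀, hs₀, hs₀w⟩ := hle hw
        have hker : HH.δOver (𝓜.shortExact_ker_im j (k + 1)) A p (w - s₀) = 0 := by
          rw [map_sub, hs₀w, sub_self]
        obtain ⟨u, hu⟩ := (HH.exactOver₃ (𝓜.shortExact_ker_im j (k + 1)) A p (w - s₀)).1 hker
        have : w = s₀ + HH.mapOver A (𝓜.toIm j (k + 1)) p u := by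
          change HH.mapOver A (𝓜.toIm j (k + 1)) p u = w - s₀ at hu
          rw [hu]; abel
        rw [this]
        exact Submodule.add_mem _ hs₀ (Submodule.mem_sup_right ⟨u, rfl⟩)
      rw [LinearMap.range_eq_map, ← hS'top, hS', Submodule.map_sup, Submodule.map_iSup]
      refine sup_le (iSup_le (fun i => ?_)) ?_
      · rw [LinearMap.range_eq_map, ← Submodule.map_comp, ← mapOver_comp, Sys.im_τ_ι,
          mapOver_comp, Submodule.map_comp]
        refine le_trans (Submodule.map_mono le_top) ?_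
        rw [← LinearMap.range_eq_map]
        exact hSmem i (Finset.mem_insert_of_mem i.2)
      · rw [LinearMap.range_eq_map, ← Submodule.map_comp, ← mapOver_comp, Sys.toIm_imι,
          ← LinearMap.range_eq_map]
        exact hSmem j (Finset.mem_insert_self j s')
    -- Step 1
    rw [eq_top_iff]
    intro x _
    have hx : HH.mapOver A (𝓜.cokerπ j (k + 1)) p x ∈
        ⨆ i : s', (LinearMap.range (HH.mapOver A (𝓜.cokerπ j k) p)).map
          (HH.mapOver A ((𝓜.coker j).τ i k) p) := hkB k hkB' ⟨x, rfl⟩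
    have hle : (⨆ i : s', (LinearMap.range (HH.mapOver A (𝓜.cokerπ j k) p)).map
          (HH.mapOver A ((𝓜.coker j).τ i k) p)) ≤ S.map (HH.mapOver A (𝓜.cokerπ j (k + 1)) p) := by
      refine iSup_le (fun i => ?_)
      rintro _ ⟨_, ⟨y, rfl⟩, rfl⟩
      refine ⟨HH.mapOver A (𝓜.τ i (k + 1)) p y,
        hSmem i (Finset.mem_insert_of_mem i.2) ⟨y, rfl⟩, ?_⟩
      rw [← mapOver_comp_apply, ← mapOver_comp_apply, Sys.cokerπ_coker_τ]
    obtain ⟨s₀, hs₀, hs₀x⟩ := hle hx
    have hker : HH.mapOver A (𝓜.cokerπ j (k + 1)) p (x - s₀) = 0 := by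
      rw [map_sub, hs₀x, sub_self]
    obtain ⟨w, hw⟩ := (HH.exactOver₂ (𝓜.shortExact_im_coker j (k + 1)) A p (x - s₀)).1 hker
    have : x = s₀ + HH.mapOver A (𝓜.imι j (k + 1)) p w := by
      change HH.mapOver A (𝓜.imι j (k + 1)) p w = x - s₀ at hw
      rw [hw]; abel
    rw [this]
    exact Submodule.add_mem _ hs₀ (step2 ⟨w, rfl⟩)

end Main

end Groth.Agent.Lib.helper8.Rees
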