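import Mathlib
import Groth.Agent.Lib.Helper8.ReesCoh
import Groth.Agent.Lib.Helper8.FormalQuot
import Groth.Agent.Lib.Helper8.DevRankD

/-!
# The Rees system `(I^k F)_k` of a coherent module (helper8; EGA III 3.3.2)

For generators `a : Fin r → A` of an ideal `I`, the graded system `k ↦ I^k F` with operators
"multiplication by `a i`" is good; hence for `X` proper over a Noetherian ring `A` the maps
`a_i : H^p(X, I^k F) → H^p(X, I^(k+1) F)` are jointly surjective for `k` large
(`rees_jointly_surjective`).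
-/

set_option autoImplicit false
universe u

namespace Groth.Agent.Lib.helper8.Rees

open CategoryTheory CategoryTheory.Limits AlgebraicGeometry Opposite TopologicalSpace
open Groth.Agent.Lib.Helper18 Groth.Agent.Lib.helper8.FF Formal

attribute [local instance] Abelian.hasFiniteBiproducts

section Alg

variable {A : Type u} [CommRing A] {r : ℕ} (a : Fin r → A)

/-- elements of `(a) * J` are combinations `∑ a i * f i` with `f i ∈ J` -/
lemma exists_sum_of_mem_mul (J : Ideal A) (c : A) (hc : c ∈ Ideal.span (Set.range a) * J) :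
    ∃ f : Fin r → A, (∀ i, f i ∈ J) ∧ c = ∑ i, a i * f i := by
  induction hc using Submodule.mul_induction_on' with
  | mem_mul_mem x hx y hy =>
    obtain ⟨b, rfl⟩ := Ideal.mem_span_range_iff_exists_fun.mp hx
    refine ⟨fun i => b i * y, fun i => J.mul_mem_left _ hy, ?_⟩
    rw [Finset.sum_mul]
    refine Finset.sum_congr rfl (fun i _ => ?_)
    ring
  | add x _ y _ hx hy =>
    obtain ⟨f, hf, rfl⟩ := hx
    obtain ⟨g, hg, rfl⟩ := hy
    refine ⟨fun i => f i + g i, fun i => J.add_mem (hf i) (hg i), ?_⟩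
    rw [← Finset.sum_add_distrib]
    refine Finset.sum_congr rfl (fun i _ => ?_)
    ring

end Alg

variable {A : Type u} [CommRing A] {X : Scheme.{u}} [X.Over (Spec (CommRingCat.of A))]
  {r : ℕ} (a : Fin r → A) (F : X.Modules)

lemma mul_mem_pow_succ (i : Fin r) (k : ℕ) :
    ∀ c ∈ Ideal.span (Set.range a) ^ k, a i * c ∈ Ideal.span (Set.range a) ^ (k + 1) := by
  intro c hc
  rw [pow_succ']
  exact Ideal.mul_mem_mul (Ideal.subset_span ⟨i, rfl⟩) hc

/-- the Rees system `k ↦ I^k F`, `I = (a_1, …, a_r)` -/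
noncomputable def reesSys : Sys X (Fin r) where
  obj k := Sb (Ideal.span (Set.range a) ^ k) F
  τ i k := sbMul (a i) (mul_mem_pow_succ a i k) F
  comm i j k := by
    rw [← cancel_mono (sbι (Ideal.span (Set.range a) ^ (k + 1 + 1)) F)]
    simp only [Category.assoc, sbMul_ι, sbMul_ι_assoc]
    rw [← smulMod_mul, ← smulMod_mul, mul_comm]

/-- the inclusion `I^k F ⟶ F` -/
noncomputable def rι (k : ℕ) : (reesSys a F).obj k ⟶ F := sbι (Ideal.span (Set.range a) ^ k) F

instance (k : ℕ) : Mono (rι a F k) := by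
  dsimp only [rι, reesSys]
  exact inferInstanceAs (Mono (kernel.ι _))

@[reassoc]
lemma τ_rι (i : Fin r) (k : ℕ) :
    (reesSys a F).τ i k ≫ rι a F (k + 1) = rι a F k ≫ smulMod A F (a i) :=
  sbMul_ι (a i) (mul_mem_pow_succ a i k) F

/-- multiplication by `c ∈ I^k` as a map `F ⟶ I^k F` -/
noncomputable def rLift (k : ℕ) {c : A} (hc : c ∈ Ideal.span (Set.range a) ^ k) :
    F ⟶ (reesSys a F).obj k := sbLift F hc

@[reassoc]
lemma rLift_rι (k : ℕ) {c : A} (hc : c ∈ Ideal.span (Set.range a) ^ k) :
    rLift a F k hc ≫ rι a F k = smulMod A F c := sbLift_ι F hc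

lemma smulMod_sum (s : Finset (Fin r)) (φ : Fin r → A) :
    smulMod A F (∑ i ∈ s, φ i) = ∑ i ∈ s, smulMod A F (φ i) := by
  classical
  induction s using Finset.induction_on with
  | empty => simp [smulMod_zero]
  | insert j s hj ih => rw [Finset.sum_insert hj, Finset.sum_insert hj, smulMod_add, ih]

/-- the multiplication maps are jointly epimorphic -/
theorem epi_desc_reesSys (k : ℕ) :
    Epi (biproduct.desc (fun i => (reesSys a F).τ i k)) := by
  constructor
  intro Z g h hgh
  have hext : ∀ (c : A) (hc : c ∈ Ideal.span (Set.range a) ^ (k + 1)),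
      rLift a F (k + 1) hc ≫ g = rLift a F (k + 1) hc ≫ h := by
    intro c hc
    obtain ⟨f, hf, hcf⟩ := exists_sum_of_mem_mul a (Ideal.span (Set.range a) ^ k) c
      (by rw [← pow_succ']; exact hc)
    have key : rLift a F (k + 1) hc = ∑ i, rLift a F k (hf i) ≫
        biproduct.ι (fun _ : Fin r => (reesSys a F).obj k) i ≫
          biproduct.desc (fun i => (reesSys a F).τ i k) := by
      rw [← cancel_mono (rι a F (k + 1)), rLift_rι, Preadditive.sum_comp]
      have h1 : ∀ i, (rLift a F k (hf i) ≫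
          biproduct.ι (fun _ : Fin r => (reesSys a F).obj k) i ≫
            biproduct.desc (fun i => (reesSys a F).τ i k)) ≫ rι a F (k + 1) =
              smulMod A F (a i * f i) := by
        intro i
        rw [biproduct.ι_desc, Category.assoc, τ_rι, rLift_rι_assoc, ← smulMod_mul]
      rw [Finset.sum_congr rfl (fun i _ => h1 i), ← smulMod_sum, ← hcf]
    rw [key, Preadditive.sum_comp, Preadditive.sum_comp]
    refine Finset.sum_congr rfl (fun i _ => ?_)
    simp only [Category.assoc]
    rw [hgh]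
  apply sb_hom_ext
  intro c
  rw [← Category.assoc, ← Category.assoc, ι_sbCover]
  exact hext c c.2

variable [IsNoetherianRing A] [IsNoetherian X]

theorem isCoh_reesSys (hF : Coh.IsCoh F) (k : ℕ) : Coh.IsCoh ((reesSys a F).obj k) :=
  Groth.Agent.Lib.helper7.CohKer.isCoh_kernel hF (isCoh_Q _ F hF) _

theorem good_reesSys (hF : Coh.IsCoh F) : Good (reesSys a F) Finset.univ := by
  refine ⟨isCoh_reesSys a F hF, fun U hU => ⟨0, fun k _ => ?_⟩⟩
  rw [eq_top_iff]
  intro y _
  haveI := epi_desc_reesSys a F k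
  haveI : ∀ k, ((reesSys a F).obj k).IsQuasicoherent := fun k => (isCoh_reesSys a F hF k).1
  haveI : (⨁ fun _ : Fin r => (reesSys a F).obj k).IsQuasicoherent :=
    Groth.Agent.Lib.helper8.Dev.isQuasicoherent_biproduct _ (fun _ => inferInstance)
  obtain ⟨x, rfl⟩ := appLin_surjective_of_epi
    (biproduct.desc (fun i => (reesSys a F).τ i k)) hU y
  rw [appLin_apply, Groth.Agent.Lib.helper8.Dev.biproduct_desc_app]
  refine Submodule.sum_mem _ (fun i _ => ?_)
  exact Submodule.mem_iSup_of_mem (⟨i, Finset.mem_univ i⟩ : (Finset.univ : Finset (Fin r)))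
    ⟨_, rfl⟩

/-- **Rees finiteness**: the multiplication maps `H^p(I^k F) → H^p(I^(k+1) F)` by the generators
are jointly surjective for `k` large. -/
theorem rees_jointly_surjective
    (hfin : ∀ (N : X.Modules), Coh.IsCoh N → ∀ q, Module.Finite A (Coh.HH X N q))
    (hF : Coh.IsCoh F) (p : ℕ) :
    ∃ k₁, ∀ k, k₁ ≤ k →
      (⨆ i : Fin r, LinearMap.range (HH.mapOver A ((reesSys a F).τ i k) p)) = ⊤ := by
  haveI : IsLocallyNoetherian X := inferInstance
  haveI : CompactSpace X := inferInstance
  obtain ⟨k₁, hk₁⟩ := exists_jointly_surjective A hfin Finset.univ (reesSys a F)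
    (good_reesSys a F hF) p
  refine ⟨k₁, fun k hk => ?_⟩
  rw [eq_top_iff, ← hk₁ k hk]
  refine iSup_le (fun i => ?_)
  exact le_iSup (fun i : Fin r => LinearMap.range (HH.mapOver A ((reesSys a F).τ i k) p)) i.1

end Groth.Agent.Lib.helper8.Rees
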