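import Mathlib
import Groth.Agent.Lib.Helper8.ReesIdeal

/-!
# Relations among the maps `sbMul`, `sbIncl`, `sbLift`, `sbι` (helper8)

Sheaf-level relations, and their consequences on cohomology, used to deduce the corollaries of
Rees finiteness (EGA III 3.3.2, 4.1.5).
-/

set_option autoImplicit false
universe u

namespace Groth.Agent.Lib.helper8.Rees

open CategoryTheory CategoryTheory.Limits AlgebraicGeometry Opposite TopologicalSpace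
open Groth.Agent.Lib.Helper18 Groth.Agent.Lib.helper8.FF Formal

variable {A : Type u} [CommRing A] {X : Scheme.{u}} [X.Over (Spec (CommRingCat.of A))]

section SheafLevel

variable (M : X.Modules)

lemma sbIncl_comp {𝔞 𝔟 𝔠 : Ideal A} (h : 𝔞 ≤ 𝔟) (h' : 𝔟 ≤ 𝔠) :
    sbIncl h M ≫ sbIncl h' M = sbIncl (h.trans h') M := by
  rw [← cancel_mono (sbι 𝔠 M)]
  simp

lemma sbIncl_refl (𝔞 : Ideal A) : sbIncl (le_refl 𝔞) M = 𝟙 _ := by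
  rw [← cancel_mono (sbι 𝔞 M)]
  simp

lemma sbMul_sbIncl {𝔞 𝔟 : Ideal A} (c : A) (h : ∀ x ∈ 𝔞, c * x ∈ 𝔟) (h' : 𝔟 ≤ 𝔞) :
    sbMul c h M ≫ sbIncl h' M = smulMod A (Sb 𝔞 M) c := by
  rw [← cancel_mono (sbι 𝔞 M), Category.assoc, sbIncl_ι, sbMul_ι, smulMod_naturality]

lemma sbIncl_sbMul {𝔞 𝔟 : Ideal A} (c : A) (h : ∀ x ∈ 𝔞, c * x ∈ 𝔟) (h' : 𝔟 ≤ 𝔞) :
    sbIncl h' M ≫ sbMul c h M = smulMod A (Sb 𝔟 M) c := by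
  rw [← cancel_mono (sbι 𝔟 M), Category.assoc, sbMul_ι, sbIncl_ι_assoc, smulMod_naturality]

lemma sbι_sbLift {𝔞 : Ideal A} {c : A} (hc : c ∈ 𝔞) :
    sbι 𝔞 M ≫ sbLift M hc = smulMod A (Sb 𝔞 M) c := by
  rw [← cancel_mono (sbι 𝔞 M), Category.assoc, sbLift_ι, smulMod_naturality]

lemma sbMul_comp {𝔞 𝔟 𝔠 : Ideal A} (c c' : A) (h : ∀ x ∈ 𝔞, c * x ∈ 𝔟)
    (h' : ∀ x ∈ 𝔟, c' * x ∈ 𝔠) (h'' : ∀ x ∈ 𝔞, (c' * c) * x ∈ 𝔠) :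
    sbMul c h M ≫ sbMul c' h' M = sbMul (c' * c) h'' M := by
  rw [← cancel_mono (sbι 𝔠 M), Category.assoc, sbMul_ι, sbMul_ι_assoc, sbMul_ι, smulMod_mul]

lemma sbIncl_sbMul_comm {𝔞 𝔞' 𝔟 𝔟' : Ideal A} (c : A) (h : ∀ x ∈ 𝔞, c * x ∈ 𝔟)
    (h' : ∀ x ∈ 𝔞', c * x ∈ 𝔟') (ha : 𝔞 ≤ 𝔞') (hb : 𝔟 ≤ 𝔟') :
    sbIncl ha M ≫ sbMul c h' M = sbMul c h M ≫ sbIncl hb M := by
  rw [← cancel_mono (sbι 𝔟' M), Category.assoc, Category.assoc, sbMul_ι, sbIncl_ι, sbMul_ι,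
    sbIncl_ι_assoc]

lemma sbMul_one {𝔞 𝔟 : Ideal A} (h : ∀ x ∈ 𝔞, (1 : A) * x ∈ 𝔟) :
    sbMul 1 h M = sbIncl (fun x hx => by simpa using h x hx) M := by
  rw [← cancel_mono (sbι 𝔟 M), sbMul_ι, sbIncl_ι, smulMod_one, Category.comp_id]

end SheafLevel

end Groth.Agent.Lib.helper8.Rees
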