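import Mathlib
import Groth.Agent.Lib.Helper8.ReesMaps

/-!
# Consequences of Rees finiteness on cohomology (helper8; EGA III 3.3.2, 4.1.5, 4.1.7)

`I = (a_1, …, a_r)`, `E k = H^p(X, I^k F)`. With `mu i k : E k → E (k+1)` (multiplication by `a i`),
`inc : E n → E k` (`k ≤ n`), `jj k : E k → H^p(X, F)`, we assume the `mu i k` jointly surjective for
`k ≥ k₁` (`rees_jointly_surjective`) and deduce Artin–Rees type statements.
-/

set_option autoImplicit false
universe u

namespace Groth.Agent.Lib.helper8.Rees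

open CategoryTheory CategoryTheory.Limits AlgebraicGeometry Opposite TopologicalSpace
open Groth.Agent.Lib.Helper18 Groth.Agent.Lib.helper8.FF Formal

variable {A : Type u} [CommRing A] {X : Scheme.{u}} [X.Over (Spec (CommRingCat.of A))]

section Alg

lemma map_mem_smul_top {M N : Type*} [AddCommGroup M] [Module A M] [AddCommGroup N] [Module A N]
    (f : M →ₗ[A] N) {J : Ideal A} {x : M} (hx : x ∈ J • (⊤ : Submodule A M)) :
    f x ∈ J • (⊤ : Submodule A N) := by
  induction hx using Submodule.smul_induction_on' with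
  | smul c hc y _ =>
    rw [map_smul]
    exact Submodule.smul_mem_smul hc trivial
  | add x _ y _ hx hy =>
    rw [map_add]
    exact add_mem hx hy

end Alg

section Coh

variable {r : ℕ} (a : Fin r → A) (F : X.Modules) (p : ℕ)

/-- `H^p(X, I^k F)` -/
abbrev EE (k : ℕ) : Type u := Coh.HH X (Sb (Ideal.span (Set.range a) ^ k) F) p

/-- the map `H^p(I^n F) → H^p(I^k F)` for `k ≤ n` -/
noncomputable def inc {k n : ℕ} (h : k ≤ n) : EE a F p n →ₗ[A] EE a F p k :=
  HH.mapOver A (sbIncl (Ideal.pow_le_pow_right h) F) p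

/-- multiplication by `a i`: `H^p(I^k F) → H^p(I^(k+1) F)` -/
noncomputable def mu (i : Fin r) (k : ℕ) : EE a F p k →ₗ[A] EE a F p (k + 1) :=
  HH.mapOver A (sbMul (a i) (mul_mem_pow_succ a i k) F) p

lemma mu_eq (i : Fin r) (k : ℕ) :
    mu a F p i k = HH.mapOver A ((reesSys a F).τ i k) p := rfl

/-- `H^p(I^k F) → H^p(F)` -/
noncomputable def jj (k : ℕ) : EE a F p k →ₗ[A] Coh.HH X F p :=
  HH.mapOver A (sbι (Ideal.span (Set.range a) ^ k) F) p

/-- multiplication by `c ∈ I^k` as a map `H^p(F) → H^p(I^k F)` -/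
noncomputable def lft (k : ℕ) {c : A} (hc : c ∈ Ideal.span (Set.range a) ^ k) :
    Coh.HH X F p →ₗ[A] EE a F p k :=
  HH.mapOver A (sbLift F hc) p

lemma mapOver_smulMod (M : X.Modules) (c : A) (x : Coh.HH X M p) :
    HH.mapOver A (smulMod A M c) p x = c • x := rfl

lemma mapOver_id (M : X.Modules) (x : Coh.HH X M p) : HH.mapOver A (𝟙 M) p x = x := by
  rw [HH.mapOver_apply, HH.map_id]
  rfl

lemma inc_mu (i : Fin r) (k : ℕ) (x : EE a F p k) :
    inc a F p (Nat.le_succ k) (mu a F p i k x) = a i • x := by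
  unfold inc mu
  rw [← mapOver_comp_apply, sbMul_sbIncl]
  rfl

lemma inc_comp {k n m : ℕ} (h : k ≤ n) (h' : n ≤ m) (x : EE a F p m) :
    inc a F p h (inc a F p h' x) = inc a F p (h.trans h') x := by
  unfold inc
  rw [← mapOver_comp_apply, sbIncl_comp]

lemma inc_refl (k : ℕ) (x : EE a F p k) : inc a F p (le_refl k) x = x := by
  unfold inc
  rw [show sbIncl (Ideal.pow_le_pow_right (le_refl k)) F = 𝟙 _ from sbIncl_refl F _, mapOver_id]

lemma jj_mu (i : Fin r) (k : ℕ) (x : EE a F p k) :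
    jj a F p (k + 1) (mu a F p i k x) = a i • jj a F p k x := by
  unfold jj mu
  rw [← mapOver_comp_apply, sbMul_ι, mapOver_comp_apply]
  rfl

lemma jj_inc {k n : ℕ} (h : k ≤ n) (x : EE a F p n) :
    jj a F p k (inc a F p h x) = jj a F p n x := by
  unfold jj inc
  rw [← mapOver_comp_apply, sbIncl_ι]

lemma lft_jj (k : ℕ) {c : A} (hc : c ∈ Ideal.span (Set.range a) ^ k) (x : EE a F p k) :
    lft a F p k hc (jj a F p k x) = c • x := by
  unfold lft jj
  rw [← mapOver_comp_apply, sbι_sbLift]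
  rfl

lemma inc_mu_comm {k n : ℕ} (h : k ≤ n) (i : Fin r) (x : EE a F p n) :
    inc a F p (Nat.succ_le_succ h) (mu a F p i n x) = mu a F p i k (inc a F p h x) := by
  unfold inc mu
  rw [← mapOver_comp_apply, ← mapOver_comp_apply]
  have := sbIncl_sbMul_comm F (a i) (mul_mem_pow_succ a i n) (mul_mem_pow_succ a i k)
    (Ideal.pow_le_pow_right h) (Ideal.pow_le_pow_right (Nat.succ_le_succ h))
  rw [this]

lemma mu_comm (i j : Fin r) (k : ℕ) (x : EE a F p k) :
    mu a F p i (k + 1) (mu a F p j k x) = mu a F p j (k + 1) (mu a F p i k x) := by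
  have e : sbMul (a j) (mul_mem_pow_succ a j k) F ≫ sbMul (a i) (mul_mem_pow_succ a i (k + 1)) F =
      sbMul (a i) (mul_mem_pow_succ a i k) F ≫ sbMul (a j) (mul_mem_pow_succ a j (k + 1)) F :=
    (reesSys a F).comm j i k
  unfold mu
  rw [← mapOver_comp_apply, ← mapOver_comp_apply, e]

/-- multiplication by `c ∈ I` moves `jj`-images one step up -/
lemma smul_jj_mem_range {c : A} (hc : c ∈ Ideal.span (Set.range a)) (k : ℕ) (x : EE a F p k) :
    c • jj a F p k x ∈ LinearMap.range (jj a F p (k + 1)) := by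
  have h : ∀ y ∈ Ideal.span (Set.range a) ^ k, c * y ∈ Ideal.span (Set.range a) ^ (k + 1) := by
    intro y hy
    rw [pow_succ']
    exact Ideal.mul_mem_mul hc hy
  refine ⟨HH.mapOver A (sbMul c h F) p x, ?_⟩
  unfold jj
  rw [← mapOver_comp_apply, sbMul_ι, mapOver_comp_apply]
  rfl

/-- the main induction: if the subsystem `S` is generated in degrees `≥ k₀` then the image of
`S n` in `E k` lies in `I^(n-k) S k`. -/
theorem map_inc_le (S : ∀ k, Submodule A (EE a F p k)) (k₀ : ℕ)
    (hgen : ∀ n, k₀ ≤ n → S (n + 1) ≤ ⨆ i, (S n).map (mu a F p i n))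
    {k n : ℕ} (hk : k₀ ≤ k) (h : k ≤ n) :
    (S n).map (inc a F p h) ≤ (Ideal.span (Set.range a)) ^ (n - k) • S k := by
  induction n, h using Nat.le_induction with
  | base =>
    rw [Nat.sub_self, pow_zero, Ideal.one_eq_top, Submodule.top_smul]
    rintro _ ⟨x, hx, rfl⟩
    rw [inc_refl]
    exact hx
  | succ n h ih =>
    rintro _ ⟨x, hx, rfl⟩
    have hx' := hgen n (hk.trans h) hx
    refine Submodule.iSup_induction (fun i => (S n).map (mu a F p i n))
      (motive := fun x => inc a F p (Nat.le_succ_of_le h) x ∈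
        (Ideal.span (Set.range a)) ^ (n + 1 - k) • S k) hx' ?_ ?_ ?_
    · rintro i _ ⟨y, hy, rfl⟩
      have e : inc a F p (Nat.le_succ_of_le h) (mu a F p i n y) = a i • inc a F p h y := by
        rw [← inc_comp a F p h (Nat.le_succ n), inc_mu, map_smul]
      rw [e, Nat.succ_sub h, pow_succ', Submodule.mul_smul]
      exact Submodule.smul_mem_smul (Ideal.subset_span ⟨i, rfl⟩) (ih ⟨y, hy, rfl⟩)
    · rw [map_zero]
      exact zero_mem _
    · intro x y hx hy
      rw [map_add]
      exact add_mem hx hy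

section JS

variable (k₁ : ℕ) (hjs : ∀ k, k₁ ≤ k → (⨆ i, LinearMap.range (mu a F p i k)) = ⊤)

include hjs

/-- (EGA III 3.3.2-type) the image of `H^p(I^n F)` in `H^p(I^k F)` lies in `I^(n-k) H^p(I^k F)`
for `k ≥ k₁`. -/
theorem range_inc_le {k n : ℕ} (hk : k₁ ≤ k) (h : k ≤ n) :
    LinearMap.range (inc a F p h) ≤
      (Ideal.span (Set.range a)) ^ (n - k) • (⊤ : Submodule A (EE a F p k)) := by
  have := map_inc_le a F p (fun _ => ⊤) k₁ (fun n hn => by
    simp only [Submodule.map_top]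
    rw [hjs n hn]) hk h
  rwa [Submodule.map_top] at this

theorem range_inc_add_le (n m : ℕ) (h : k₁ ≤ n + m) :
    LinearMap.range (inc a F p (Nat.le_add_right n m)) ≤
      (Ideal.span (Set.range a)) ^ (m - (k₁ - n)) • (⊤ : Submodule A (EE a F p n)) := by
  by_cases hn : k₁ ≤ n
  · have := range_inc_le a F p k₁ hjs hn (Nat.le_add_right n m)
    rw [Nat.add_sub_cancel_left] at this
    rwa [Nat.sub_eq_zero_iff_le.mpr hn, Nat.sub_zero]
  · rintro _ ⟨x, rfl⟩
    have h1 : n ≤ k₁ := by omega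
    rw [← inc_comp a F p h1 h]
    apply map_mem_smul_top
    have := range_inc_le a F p k₁ hjs (le_refl k₁) h ⟨x, rfl⟩
    rwa [show n + m - k₁ = m - (k₁ - n) by omega] at this

theorem range_jj_succ {k : ℕ} (hk : k₁ ≤ k) :
    LinearMap.range (jj a F p (k + 1)) =
      (Ideal.span (Set.range a)) • LinearMap.range (jj a F p k) := by
  apply le_antisymm
  · rintro _ ⟨x, rfl⟩
    have hx : x ∈ ⨆ i, LinearMap.range (mu a F p i k) := by
      rw [hjs k hk]; trivial
    refine Submodule.iSup_induction (fun i => LinearMap.range (mu a F p i k))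
      (motive := fun x => jj a F p (k + 1) x ∈
        (Ideal.span (Set.range a)) • LinearMap.range (jj a F p k)) hx ?_ ?_ ?_
    · rintro i _ ⟨y, rfl⟩
      rw [jj_mu]
      exact Submodule.smul_mem_smul (Ideal.subset_span ⟨i, rfl⟩) ⟨y, rfl⟩
    · rw [map_zero]
      exact zero_mem _
    · intro x y hx hy
      rw [map_add]
      exact add_mem hx hy
  · rw [Submodule.smul_le]
    rintro c hc _ ⟨y, rfl⟩
    exact smul_jj_mem_range a F p hc k y

theorem range_jj_le {n : ℕ} (hn : k₁ ≤ n) :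
    LinearMap.range (jj a F p n) ≤
      (Ideal.span (Set.range a)) ^ (n - k₁) • (⊤ : Submodule A (Coh.HH X F p)) := by
  rintro _ ⟨x, rfl⟩
  rw [← jj_inc a F p hn]
  apply map_mem_smul_top
  exact range_inc_le a F p k₁ hjs (le_refl k₁) hn ⟨x, rfl⟩

/-- finite generation of `⨁ H^p(I^k F)` over the Rees algebra, in the form: `H^p(I^(k+r) F)` is
generated by the images of `H^p(I^k F)` under multiplication by the elements of `I^r`. -/
theorem iSup_range_sbMul_eq_top {k : ℕ} (hk : k₁ ≤ k) (r' : ℕ) (𝔟 : Ideal A)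
    (h𝔟 : (Ideal.span (Set.range a)) ^ (k + r') = 𝔟)
    (hmul : ∀ c ∈ (Ideal.span (Set.range a)) ^ r', ∀ x ∈ (Ideal.span (Set.range a)) ^ k,
      c * x ∈ 𝔟) :
    (⨆ c : ↥((Ideal.span (Set.range a)) ^ r'),
      LinearMap.range (HH.mapOver A (sbMul (c : A) (hmul c c.2) F) p)) = ⊤ := by
  subst h𝔟
  induction r' with
  | zero =>
    rw [eq_top_iff]
    intro y _
    have h1 : (1 : A) ∈ (Ideal.span (Set.range a)) ^ 0 := by simp
    refine Submodule.mem_iSup_of_mem ⟨1, h1⟩ ⟨y, ?_⟩
    have : sbMul (1 : A) (hmul 1 h1) F = 𝟙 _ := by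
      rw [sbMul_one]
      exact sbIncl_refl F _
    rw [this, mapOver_id]
  | succ r' ih =>
    have ih' := ih (fun c hc x hx => by
      rw [pow_add, mul_comm]; exact Ideal.mul_mem_mul hc hx)
    rw [eq_top_iff]
    intro y _
    have hy : y ∈ ⨆ i, LinearMap.range (mu a F p i (k + r')) := by
      rw [hjs (k + r') (by omega)]; trivial
    refine Submodule.iSup_induction (fun i => LinearMap.range (mu a F p i (k + r')))
      (motive := fun y => y ∈ ⨆ c : ↥((Ideal.span (Set.range a)) ^ (r' + 1)),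
        LinearMap.range (HH.mapOver A (sbMul (c : A) (hmul c c.2) F) p)) hy ?_ (zero_mem _)
      (fun _ _ => add_mem)
    rintro i _ ⟨z, rfl⟩
    have hz : z ∈ ⨆ c : ↥((Ideal.span (Set.range a)) ^ r'),
        LinearMap.range (HH.mapOver A (sbMul (c : A) (fun x hx => by
          rw [pow_add, mul_comm]; exact Ideal.mul_mem_mul c.2 hx) F) p) := by
      rw [ih']; trivial
    refine Submodule.iSup_induction _
      (motive := fun z => mu a F p i (k + r') z ∈
        ⨆ c : ↥((Ideal.span (Set.range a)) ^ (r' + 1)),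
          LinearMap.range (HH.mapOver A (sbMul (c : A) (hmul c c.2) F) p)) hz ?_
      (by rw [map_zero]; exact zero_mem _)
      (fun _ _ hx hy => by rw [map_add]; exact add_mem hx hy)
    rintro c _ ⟨w, rfl⟩
    have hc : a i * (c : A) ∈ (Ideal.span (Set.range a)) ^ (r' + 1) := by
      rw [pow_succ']
      exact Ideal.mul_mem_mul (Ideal.subset_span ⟨i, rfl⟩) c.2
    refine Submodule.mem_iSup_of_mem ⟨a i * c, hc⟩ ⟨w, ?_⟩
    unfold mu
    rw [← mapOver_comp_apply, sbMul_comp]

end JS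

section Kernel

variable [IsNoetherianRing A] (hfinE : ∀ k, Module.Finite A (EE a F p k))
  (k₁ : ℕ) (hjs : ∀ k, k₁ ≤ k → (⨆ i, LinearMap.range (mu a F p i k)) = ⊤)

include hfinE hjs in
/-- the kernels of `H^p(I^k F) → H^p(F)` form a subsystem generated in bounded degrees. -/
theorem exists_ker_generated : ∃ c₀, ∀ k, c₀ ≤ k →
    LinearMap.ker (jj a F p (k + 1)) ≤
      ⨆ i, (LinearMap.ker (jj a F p k)).map (mu a F p i k) := by
  refine hilbert_basis (fun k => EE a F p k) (fun i k => mu a F p i k) (mu_comm a F p) hfinE k₁ hjs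
    (fun k => LinearMap.ker (jj a F p k)) ?_
  rintro i k _ ⟨x, hx, rfl⟩
  have hx' : jj a F p k x = 0 := hx
  rw [LinearMap.mem_ker, jj_mu, hx', smul_zero]

omit [IsNoetherianRing A] in
lemma smul_ker_jj_eq_zero (k : ℕ) {c : A} (hc : c ∈ Ideal.span (Set.range a) ^ k)
    {x : EE a F p k} (hx : x ∈ LinearMap.ker (jj a F p k)) : c • x = 0 := by
  rw [← lft_jj a F p k hc, LinearMap.mem_ker.mp hx, map_zero]

omit [IsNoetherianRing A] in
lemma pow_smul_ker_jj (k : ℕ) :
    (Ideal.span (Set.range a)) ^ k • LinearMap.ker (jj a F p k) = ⊥ := by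
  rw [eq_bot_iff, Submodule.smul_le]
  intro c hc x hx
  rw [smul_ker_jj_eq_zero a F p k hc hx]
  exact zero_mem _

include hfinE hjs in
/-- (EGA III 4.1.7.2-type) there is `c` such that for `n ≥ c` the kernel of `H^p(I^n F) → H^p(F)`
equals the kernel of `H^p(I^n F) → H^p(I^(n-c) F)`. -/
theorem exists_ker_jj_eq : ∃ c, ∀ n, c ≤ n → ∀ x : EE a F p n,
    jj a F p n x = 0 ↔ inc a F p (Nat.sub_le n c) x = 0 := by
  obtain ⟨c₀, hc₀⟩ := exists_ker_generated a F p hfinE k₁ hjs
  have hC : ∀ m, c₀ ≤ m → ∀ x : EE a F p (c₀ + m), jj a F p (c₀ + m) x = 0 →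
      inc a F p (Nat.le_add_left m c₀) x = 0 := by
    intro m hm
    induction m, hm using Nat.le_induction with
    | base =>
      intro x hx
      have h1 := map_inc_le a F p (fun k => LinearMap.ker (jj a F p k)) c₀ hc₀ (le_refl c₀)
        (Nat.le_add_left c₀ c₀) ⟨x, hx, rfl⟩
      rw [Nat.add_sub_cancel, pow_smul_ker_jj] at h1
      exact h1
    | succ m hm ih =>
      intro x hx
      have hx' := hc₀ (c₀ + m) (Nat.le_add_right c₀ m) hx
      refine Submodule.iSup_induction
        (fun i => (LinearMap.ker (jj a F p (c₀ + m))).map (mu a F p i (c₀ + m)))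
        (motive := fun x => inc a F p (Nat.le_add_left (m + 1) c₀) x = 0) hx' ?_ ?_ ?_
      · rintro i _ ⟨y, hy, rfl⟩
        have := inc_mu_comm a F p (Nat.le_add_left m c₀) i y
        rw [ih y hy, map_zero] at this
        exact this
      · exact map_zero _
      · intro x y hx hy
        rw [map_add, hx, hy, add_zero]
  refine ⟨c₀ + c₀, fun n h x => ⟨fun hx => ?_, fun hx => ?_⟩⟩
  · obtain ⟨m, rfl⟩ : ∃ m, n = c₀ + m := ⟨n - c₀, by omega⟩
    have hm : c₀ ≤ m := by omega
    have h1 := hC m hm x hx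
    have h2 : c₀ + m - (c₀ + c₀) ≤ m := by omega
    rw [← inc_comp a F p h2 (Nat.le_add_left m c₀), h1, map_zero]
  · rw [← jj_inc a F p (Nat.sub_le n (c₀ + c₀)), hx, map_zero]

end Kernel

section ML

variable [IsNoetherianRing A] (hfinE : ∀ k, Module.Finite A (EE a F (p + 1) k))
  (k₁ : ℕ) (hjs : ∀ k, k₁ ≤ k → (⨆ i, LinearMap.range (mu a F (p + 1) i k)) = ⊤)

include hfinE hjs in
/-- (EGA III 4.1.7.3-type, uniform Mittag-Leffler) there is `c` such that for `k ≥ n + c` the image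
of `H^p(F/I^(k+1)F) → H^p(F/I^(n+1)F)` lies in the image of `H^p(F)`. -/
theorem exists_range_qTrans_le : ∃ c, ∀ (n k : ℕ) (h : n ≤ k), n + c ≤ k →
    ∀ y : Coh.HH X (Q ((Ideal.span (Set.range a)) ^ (k + 1)) F) p, ∃ x : Coh.HH X F p,
      HH.mapOver A (qTrans (Ideal.pow_le_pow_right (Nat.succ_le_succ h)) F) p y =
        HH.mapOver A (qπ ((Ideal.span (Set.range a)) ^ (n + 1)) F) p x := by
  obtain ⟨c, hc⟩ := exists_ker_jj_eq a F (p + 1) hfinE k₁ hjs
  refine ⟨c, fun n k h hnk y => ?_⟩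
  have hk := ses_shortExact ((Ideal.span (Set.range a)) ^ (k + 1)) F
  have hn := ses_shortExact ((Ideal.span (Set.range a)) ^ (n + 1)) F
  have hd : jj a F (p + 1) (k + 1) (HH.δOver hk A p y) = 0 :=
    (HH.exactOver₁ hk A p).apply_apply_eq_zero y
  have h1 : inc a F (p + 1) (Nat.sub_le (k + 1) c) (HH.δOver hk A p y) = 0 :=
    (hc (k + 1) (by omega) _).1 hd
  have h2 : inc a F (p + 1) (Nat.succ_le_succ h) (HH.δOver hk A p y) = 0 := by
    have h3 : n + 1 ≤ k + 1 - c := by omega
    rw [← inc_comp a F (p + 1) h3 (Nat.sub_le (k + 1) c), h1, map_zero]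
  have hnat := FF.δ_naturality hk hn
    (sesMap (Ideal.pow_le_pow_right (Nat.succ_le_succ h)) F) p y
  have h4 : HH.δOver hn A p
      (HH.mapOver A (qTrans (Ideal.pow_le_pow_right (Nat.succ_le_succ h)) F) p y) = 0 :=
    hnat.trans h2
  obtain ⟨x, hx⟩ := (HH.exactOver₃ hn A p _).1 h4
  exact ⟨x, hx.symm⟩

end ML

end Coh

end Groth.Agent.Lib.helper8.Rees
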