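import Mathlib
import Groth.Agent.Lib.Helper8.ReesConseq
import Groth.Prelude.Def_Formal2
import Groth.Prelude.Def_ega3

/-!
# Corollaries of Rees finiteness in the Prelude's vocabulary (helper8; EGA III 3.3.2, 4.1.5, 4.1.7)

`A` Noetherian, `I` an ideal, `X` Noetherian over `Spec A` such that all coherent modules have
finite cohomology over `A` (hypothesis `hfin`, e.g. `X` proper over `A`), `F` coherent.
-/

set_option autoImplicit false
universe u

namespace Groth.Agent.Lib.helper8.Rees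

open CategoryTheory CategoryTheory.Limits AlgebraicGeometry Opposite TopologicalSpace
open Groth.Agent.Lib.Helper18 Groth.Agent.Lib.helper8.FF Formal

variable {A : Type u} [CommRing A] {X : Scheme.{u}} [X.Over (Spec (CommRingCat.of A))]

section Completion

lemma qπ_completion_map (I : Ideal A) (M : X.Modules) {n k : ℕ} (h : n ≤ k) :
    qπ (I ^ (k + 1)) M ≫ (Formal.completion I M).map (homOfLE h).op = qπ (I ^ (n + 1)) M := by
  induction k, h using Nat.le_induction with
  | base =>
    have e1 : (Formal.completion I M).map (homOfLE (le_refl n)).op = 𝟙 (Q (I ^ (n + 1)) M) :=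
      (Formal.completion I M).map_id (op n)
    exact (congrArg (fun f => qπ (I ^ (n + 1)) M ≫ f) e1).trans (Category.comp_id _)
  | succ k h ih =>
    have e : (homOfLE (Nat.le_succ_of_le h)).op =
        (homOfLE (Nat.le_add_right k 1)).op ≫ (homOfLE h).op := rfl
    have e2 : (Formal.completion I M).map (homOfLE (Nat.le_add_right k 1)).op =
        modPowTrans I (k + 1) M := Functor.ofOpSequence_map_homOfLE_succ _ k
    have e3 : qπ (I ^ (k + 1 + 1)) M ≫
        (Formal.completion I M).map (homOfLE (Nat.le_add_right k 1)).op = qπ (I ^ (k + 1)) M :=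
      (congrArg (fun f => qπ (I ^ (k + 1 + 1)) M ≫ f) e2).trans (modPowπ_trans I (k + 1) M)
    have e4 : (Formal.completion I M).map (homOfLE (Nat.le_succ_of_le h)).op =
        (Formal.completion I M).map (homOfLE (Nat.le_add_right k 1)).op ≫
          (Formal.completion I M).map (homOfLE h).op := by
      rw [e, CategoryTheory.Functor.map_comp]
    calc qπ (I ^ (k + 1 + 1)) M ≫ (Formal.completion I M).map (homOfLE (Nat.le_succ_of_le h)).op
        = qπ (I ^ (k + 1 + 1)) M ≫
          ((Formal.completion I M).map (homOfLE (Nat.le_add_right k 1)).op ≫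
            (Formal.completion I M).map (homOfLE h).op) := congrArg _ e4
      _ = (qπ (I ^ (k + 1 + 1)) M ≫
          (Formal.completion I M).map (homOfLE (Nat.le_add_right k 1)).op) ≫
            (Formal.completion I M).map (homOfLE h).op := (Category.assoc _ _ _).symm
      _ = qπ (I ^ (k + 1)) M ≫ (Formal.completion I M).map (homOfLE h).op :=
          congrArg (fun f => f ≫ (Formal.completion I M).map (homOfLE h).op) e3
      _ = _ := ih

lemma completion_map (I : Ideal A) (M : X.Modules) {n k : ℕ} (h : n ≤ k) :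
    (Formal.completion I M).map (homOfLE h).op =
      qTrans (Ideal.pow_le_pow_right (Nat.succ_le_succ h)) M := by
  have h1 : qπ (I ^ (k + 1)) M ≫ (Formal.completion I M).map (homOfLE h).op =
      qπ (I ^ (k + 1)) M ≫ qTrans (Ideal.pow_le_pow_right (Nat.succ_le_succ h)) M :=
    (qπ_completion_map I M h).trans (qπ_qTrans _ M).symm
  exact (cancel_epi (qπ (I ^ (k + 1)) M)).mp h1

end Completion

section Gens

lemma exists_gens [IsNoetherianRing A] (I : Ideal A) :
    ∃ (r : ℕ) (a : Fin r → A), Ideal.span (Set.range a) = I :=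
  Submodule.fg_iff_exists_fin_generating_family.mp (IsNoetherian.noetherian I)

end Gens

section Ker

variable {r : ℕ} (a : Fin r → A) (F : X.Modules) (p : ℕ)

lemma ker_toHHmodPow (n : ℕ) :
    ((Formal.toHHmodPow (Ideal.span (Set.range a)) F p n).ker : Set (Coh.HH X F p)) =
      (LinearMap.range (jj a F p (n + 1)) : Set (Coh.HH X F p)) := by
  ext x
  rw [SetLike.mem_coe, AddMonoidHom.mem_ker]
  exact HH.exactOver₂ (ses_shortExact ((Ideal.span (Set.range a)) ^ (n + 1)) F) A p x

end Ker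

section Final

variable [IsNoetherianRing A] [IsNoetherian X]
  (hfin : ∀ (N : X.Modules), Coh.IsCoh N → ∀ q, Module.Finite A (Coh.HH X N q))

include hfin

theorem s0853 (I : Ideal A) (F : X.Modules) (hF : Coh.IsCoh F) (p : ℕ) :
    ∃ c : ℕ, ∀ (n m : ℕ), c ≤ n + m →
      Set.range (Sheaf.H.map ((SheafOfModules.toSheaf _).map
        (Formal2.idealPowIncl I (Nat.le_add_right n m) F)) p) ⊆
        SetLike.coe (I ^ (m - (c - n)) •
          (⊤ : Submodule A (Coh.HH X (Formal2.idealPowMod I n F) p))) := by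
  obtain ⟨r, a, rfl⟩ := exists_gens I
  obtain ⟨k₁, hk₁⟩ := rees_jointly_surjective a F hfin hF p
  refine ⟨k₁, fun n m h => ?_⟩
  rintro _ ⟨x, rfl⟩
  exact range_inc_add_le a F p k₁ hk₁ n m h ⟨x, rfl⟩

theorem s4461 (I : Ideal A) (M : X.Modules) (hM : Coh.IsCoh M) (p : ℕ) :
    ∃ k₀ : ℕ, ∀ k : ℕ, k₀ ≤ k →
      ((Formal.toHHmodPow I M p (k + 1)).ker : Set (Coh.HH X M p)) =
        ((I • Submodule.span A ((Formal.toHHmodPow I M p k).ker : Set (Coh.HH X M p)) :
          Submodule A (Coh.HH X M p)) : Set (Coh.HH X M p)) := by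
  obtain ⟨r, a, rfl⟩ := exists_gens I
  obtain ⟨k₁, hk₁⟩ := rees_jointly_surjective a M hfin hM p
  refine ⟨k₁, fun k hk => ?_⟩
  rw [ker_toHHmodPow, ker_toHHmodPow, Submodule.span_eq,
    range_jj_succ a M p k₁ hk₁ (by omega : k₁ ≤ k + 1)]

theorem s0057 (I : Ideal A) (M : X.Modules) (hM : Coh.IsCoh M) (p : ℕ) :
    ∃ c : ℕ, ∀ n : ℕ, c ≤ n →
      ((Formal.toHHmodPow I M p n).ker : Set (Coh.HH X M p)) ⊆
        ((I ^ (n - c) • (⊤ : Submodule A (Coh.HH X M p)) : Submodule A (Coh.HH X M p)) :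
          Set (Coh.HH X M p)) := by
  obtain ⟨r, a, rfl⟩ := exists_gens I
  obtain ⟨k₁, hk₁⟩ := rees_jointly_surjective a M hfin hM p
  refine ⟨k₁, fun n hn => ?_⟩
  rw [ker_toHHmodPow]
  intro x hx
  have h1 := range_jj_le a M p k₁ hk₁ (by omega : k₁ ≤ n + 1) hx
  exact Submodule.smul_mono_left (Ideal.pow_le_pow_right (by omega)) h1

theorem s0837 (I : Ideal A) (F : X.Modules) (hF : Coh.IsCoh F) (p : ℕ) :
    ∃ c : ℕ, ∀ (n : ℕ) (h : c ≤ n),
      (Sheaf.H.map ((SheafOfModules.toSheaf _).map (Formal2.idealPowModι I n F)) p).ker =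
        (Sheaf.H.map ((SheafOfModules.toSheaf _).map
          (Formal2.idealPowIncl I (Nat.sub_le n c) F)) p).ker := by
  obtain ⟨r, a, rfl⟩ := exists_gens I
  obtain ⟨k₁, hk₁⟩ := rees_jointly_surjective a F hfin hF p
  obtain ⟨c, hc⟩ := exists_ker_jj_eq a F p (fun k => hfin _ (isCoh_reesSys a F hF k) p) k₁ hk₁
  refine ⟨c, fun n h => ?_⟩
  ext x
  rw [AddMonoidHom.mem_ker, AddMonoidHom.mem_ker]
  exact hc n h x

theorem s0058 (I : Ideal A) (M : X.Modules) (hM : Coh.IsCoh M) (p : ℕ) :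
    ∃ c : ℕ, ∀ (n k : ℕ) (h : n ≤ k), n + c ≤ k →
      Set.range (Sheaf.H.map ((SheafOfModules.toSheaf X.ringCatSheaf).map
        ((Formal.completion I M).map (homOfLE h).op)) p) =
          Set.range (Formal.toHHmodPow I M p n) := by
  obtain ⟨r, a, rfl⟩ := exists_gens I
  obtain ⟨k₁, hk₁⟩ := rees_jointly_surjective a M hfin hM (p + 1)
  obtain ⟨c, hc⟩ := exists_range_qTrans_le a M p
    (fun k => hfin _ (isCoh_reesSys a M hM k) (p + 1)) k₁ hk₁
  refine ⟨c, fun n k h hnk => ?_⟩
  rw [completion_map]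
  apply Set.Subset.antisymm
  · rintro _ ⟨y, rfl⟩
    obtain ⟨x, hx⟩ := hc n k h hnk y
    exact ⟨x, hx.symm⟩
  · rintro _ ⟨x, rfl⟩
    refine ⟨Formal.toHHmodPow (Ideal.span (Set.range a)) M p k x, ?_⟩
    change HH.mapOver A (qTrans _ M) p (HH.mapOver A (qπ _ M) p x) =
      HH.mapOver A (qπ _ M) p x
    rw [← mapOver_comp_apply, qπ_qTrans]

end Final

section IdealMul

variable (J : Ideal A) (M : X.Modules)

/-- the image-style `J · M` of `CohIII` is the kernel-style `Sb J M` -/
noncomputable def eI : CohIII.idealMul J M ≅ Sb J M :=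
  (Abelian.imageIsoImage (smulFamily J M)).symm

@[reassoc]
lemma eI_inv_ι : (eI J M).inv ≫ CohIII.idealMulι J M = sbι J M :=
  Abelian.imageIsoImage_hom_comp_image_ι (smulFamily J M)

@[reassoc]
lemma eI_hom_ι : (eI J M).hom ≫ sbι J M = CohIII.idealMulι J M := by
  rw [← eI_inv_ι, Iso.hom_inv_id_assoc]

lemma mulMap_ι (I : Ideal A) (c : I) :
    CohIII.mulMap I J M c ≫ CohIII.idealMulι (I * J) M =
      CohIII.idealMulι J M ≫ smulMod A M (c : A) :=
  Limits.image.map_ι (CohIII.mulSq I J M c)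

lemma mulMap_eq (I : Ideal A) (c : I) :
    CohIII.mulMap I J M c =
      (eI J M).hom ≫ sbMul (c : A) (fun _ hx => Ideal.mul_mem_mul c.2 hx) M ≫
        (eI (I * J) M).inv := by
  haveI : Mono (CohIII.idealMulι (I * J) M) := inferInstanceAs (Mono (Limits.image.ι _))
  rw [← cancel_mono (CohIII.idealMulι (I * J) M), mulMap_ι, Category.assoc, Category.assoc,
    eI_inv_ι, sbMul_ι, eI_hom_ι_assoc]

end IdealMul

section Final2

variable [IsNoetherianRing A] [IsNoetherian X]
  (hfin : ∀ (N : X.Modules), Coh.IsCoh N → ∀ q, Module.Finite A (Coh.HH X N q))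

include hfin

theorem s2435 (m : Ideal A) (F : X.Modules) (hF : Coh.IsCoh F) (p : ℕ) :
    ∃ k₀ : ℕ, ∀ k : ℕ, k₀ ≤ k → ∀ r : ℕ,
      (⨆ a : ↥(m ^ r), (CohIII.HmulMap (m ^ r) (m ^ k) F a p).range) = ⊤ := by
  obtain ⟨r₀, a, rfl⟩ := exists_gens m
  obtain ⟨k₁, hk₁⟩ := rees_jointly_surjective a F hfin hF p
  refine ⟨k₁, fun k hk r => ?_⟩
  have hD := iSup_range_sbMul_eq_top a F p k₁ hk₁ hk r
    ((Ideal.span (Set.range a)) ^ r * (Ideal.span (Set.range a)) ^ k)
    (by rw [pow_add, mul_comm]) (fun c hc x hx => Ideal.mul_mem_mul hc hx)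
  rw [eq_top_iff]
  intro y _
  -- transport `y` to `Sb`
  have hy : HH.mapOver A (eI ((Ideal.span (Set.range a)) ^ r * (Ideal.span (Set.range a)) ^ k) F).hom
      p y ∈ ⨆ c : ↥((Ideal.span (Set.range a)) ^ r), LinearMap.range (HH.mapOver A
        (sbMul (c : A) (fun x (hx : x ∈ (Ideal.span (Set.range a)) ^ k) =>
          Ideal.mul_mem_mul c.2 hx) F) p) := by
    rw [hD]; trivial
  have key : ∀ z ∈ ⨆ c : ↥((Ideal.span (Set.range a)) ^ r), LinearMap.range (HH.mapOver A
        (sbMul (c : A) (fun x (hx : x ∈ (Ideal.span (Set.range a)) ^ k) =>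
          Ideal.mul_mem_mul c.2 hx) F) p),
      HH.mapOver A
        (eI ((Ideal.span (Set.range a)) ^ r * (Ideal.span (Set.range a)) ^ k) F).inv p z ∈
        ⨆ c : ↥((Ideal.span (Set.range a)) ^ r), (CohIII.HmulMap ((Ideal.span (Set.range a)) ^ r)
          ((Ideal.span (Set.range a)) ^ k) F c p).range := by
    intro z hz
    refine Submodule.iSup_induction _
      (motive := fun z => HH.mapOver A
        (eI ((Ideal.span (Set.range a)) ^ r * (Ideal.span (Set.range a)) ^ k) F).inv p z ∈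
        ⨆ c : ↥((Ideal.span (Set.range a)) ^ r), (CohIII.HmulMap ((Ideal.span (Set.range a)) ^ r)
          ((Ideal.span (Set.range a)) ^ k) F c p).range) hz ?_ ?_ ?_
    · rintro c _ ⟨w, rfl⟩
      refine AddSubgroup.mem_iSup_of_mem c
        ⟨HH.mapOver A (eI ((Ideal.span (Set.range a)) ^ k) F).inv p w, ?_⟩
      change HH.mapOver A (CohIII.mulMap _ _ F c) p
        (HH.mapOver A (eI ((Ideal.span (Set.range a)) ^ k) F).inv p w) = _
      rw [mulMap_eq, ← mapOver_comp_apply, ← mapOver_comp_apply, Iso.inv_hom_id_assoc]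
    · rw [map_zero]
      exact zero_mem _
    · intro x y hx hy
      rw [map_add]
      exact add_mem hx hy
  have := key _ hy
  rwa [← mapOver_comp_apply, Iso.hom_inv_id, mapOver_id] at this

end Final2

end Groth.Agent.Lib.helper8.Rees
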