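import Mathlib
import Groth.Agent.Lib.Helper8.FormalPullback
import Groth.Agent.Lib.Helper8.ReesFinal

/-!
# Coherent formal modules killed by a power of `I` (helper8)

`IsCok J g`: the morphism `g : P ⟶ R` is a cokernel of `smulFamily J P` (i.e. `R = P / J P` via `g`).
For a coherent formal module `F` all transition composites `F_m ⟶ F_n` are of this form
(`isCok_map`). If a fixed power `I^c` kills every `F_n` the system is eventually constant and
`F ≅ (F_c / I^(n+1) F_c)_n` (`exists_completion_iso`).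
-/

set_option autoImplicit false
universe u

namespace Groth.Agent.Lib.helper8.FTors

open CategoryTheory CategoryTheory.Limits AlgebraicGeometry Opposite TopologicalSpace
open Formal Groth.Agent.Lib.Helper18 Groth.Agent.Lib.helper8.FF Groth.Agent.Lib.helper8.FPull

variable {A : Type u} [CommRing A] {X : Scheme.{u}} [X.Over (Spec (CommRingCat.of A))]

/-- `g` is a cokernel of `smulFamily J P` -/
def IsCok (J : Ideal A) {P R : X.Modules} (g : P ⟶ R) : Prop :=
  ∃ h : smulFamily J P ≫ g = 0, IsIso (cokernel.desc _ g h)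

section Basic

variable {J : Ideal A} {P R : X.Modules} {g : P ⟶ R}

noncomputable def IsCok.isColimit (h : IsCok J g) : IsColimit (CokernelCofork.ofπ g h.1) :=
  haveI := h.2
  isColimit_of_isIso_cokernel_desc _ _ h.1

lemma isCok_of_isColimit (h0 : smulFamily J P ≫ g = 0)
    (hc : IsColimit (CokernelCofork.ofπ g h0)) : IsCok J g :=
  ⟨h0, isIso_cokernel_desc_of_isColimit _ _ h0 hc⟩

lemma IsCok.epi (h : IsCok J g) : Epi g := by
  have e : g = cokernel.π _ ≫ cokernel.desc _ g h.1 := (cokernel.π_desc _ _ _).symm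
  haveI := h.2
  rw [e]
  infer_instance

lemma IsCok.smulMod_comp (h : IsCok J g) {a : A} (ha : a ∈ J) : smulMod A P a ≫ g = 0 := by
  rw [← ι_smulFamily J P ⟨a, ha⟩, Category.assoc, h.1, comp_zero]

lemma smulFamily_eq_zero_of_killedBy (hk : KilledBy J P) : smulFamily J P = 0 := by
  apply Sigma.hom_ext
  intro a
  rw [ι_smulFamily, comp_zero]
  exact hk a a.2

lemma isCok_of_isIso_of_killedBy (g : P ⟶ R) [IsIso g] (hk : KilledBy J P) : IsCok J g := by
  have h0 : smulFamily J P = 0 := smulFamily_eq_zero_of_killedBy hk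
  refine isCok_of_isColimit (by rw [h0, zero_comp]) ?_
  exact CokernelCofork.IsColimit.ofπ' g _ (fun k _ => ⟨inv g ≫ k, by simp⟩)

lemma IsCok.exists_iso (h : IsCok J g) : ∃ θ : Q J P ≅ R, qπ J P ≫ θ.hom = g :=
  ⟨haveI := h.2; asIso (cokernel.desc _ g h.1), cokernel.π_desc _ _ _⟩

lemma IsCok.isIso_of_killedBy (h : IsCok J g) (hk : KilledBy J P) : IsIso g :=
  CokernelCofork.IsColimit.isIso_π _ h.isColimit (smulFamily_eq_zero_of_killedBy hk)

end Basic

lemma IsCok.comp {𝔞 𝔟 : Ideal A} (hle : 𝔞 ≤ 𝔟) {P P' P'' : X.Modules} {t : P ⟶ P'} {g : P' ⟶ P''}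
    (ht : IsCok 𝔞 t) (hg : IsCok 𝔟 g) : IsCok 𝔟 (t ≫ g) := by
  haveI := ht.epi
  haveI := hg.epi
  have h0 : smulFamily 𝔟 P ≫ t ≫ g = 0 := by
    apply smulFamily_comp_eq_zero
    intro a ha
    rw [← Category.assoc, smulMod_naturality, Category.assoc, hg.smulMod_comp ha, comp_zero]
  refine isCok_of_isColimit h0 (CokernelCofork.IsColimit.ofπ' _ _ (fun {Z} k hk => ?_))
  have h1 : smulFamily 𝔞 P ≫ k = 0 := smulFamily_comp_eq_zero k (fun a ha => by
    rw [← ι_smulFamily 𝔟 P ⟨a, hle ha⟩, Category.assoc, hk, comp_zero])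
  let k' := CokernelCofork.IsColimit.desc' ht.isColimit k h1
  have hk' : t ≫ k'.1 = k := k'.2
  have h2 : smulFamily 𝔟 P' ≫ k'.1 = 0 := smulFamily_comp_eq_zero _ (fun a ha => by
    rw [← cancel_epi t, comp_zero, ← Category.assoc, ← smulMod_naturality, Category.assoc, hk',
      ← ι_smulFamily 𝔟 P ⟨a, ha⟩, Category.assoc, hk, comp_zero])
  let k'' := CokernelCofork.IsColimit.desc' hg.isColimit k'.1 h2
  have hk'' : g ≫ k''.1 = k'.1 := k''.2
  exact ⟨k''.1, by rw [Category.assoc, hk'', hk']⟩

lemma IsCok.precomp_iso {J : Ideal A} {P P' R : X.Modules} (e : P ⟶ P') [IsIso e] {g : P' ⟶ R}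
    (hg : IsCok J g) : IsCok J (e ≫ g) := by
  haveI := hg.epi
  have h0 : smulFamily J P ≫ e ≫ g = 0 := by
    apply smulFamily_comp_eq_zero
    intro a ha
    rw [← Category.assoc, smulMod_naturality, Category.assoc, hg.smulMod_comp ha, comp_zero]
  refine isCok_of_isColimit h0 (CokernelCofork.IsColimit.ofπ' _ _ (fun {Z} k hk => ?_))
  have h2 : smulFamily J P' ≫ inv e ≫ k = 0 := smulFamily_comp_eq_zero _ (fun a ha => by
    rw [← Category.assoc, smulMod_naturality, Category.assoc, ← ι_smulFamily J P ⟨a, ha⟩,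
      Category.assoc, hk, comp_zero, comp_zero])
  let l := CokernelCofork.IsColimit.desc' hg.isColimit (inv e ≫ k) h2
  have hl : g ≫ l.1 = inv e ≫ k := l.2
  exact ⟨l.1, by rw [Category.assoc, hl, IsIso.hom_inv_id_assoc]⟩

section Main

variable (I : Ideal A) (F : ℕᵒᵖ ⥤ X.Modules) (hF : IsCohFormal I F)

include hF

lemma isCok_step (n : ℕ) : IsCok (I ^ (n + 1)) (F.map (homOfLE (Nat.le_succ n)).op) := hF.2.2 n

omit hF in
lemma map_succ_comp {n m : ℕ} (h : n ≤ m) :
    F.map (homOfLE (Nat.le_succ_of_le h)).op =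
      F.map (homOfLE (Nat.le_succ m)).op ≫ F.map (homOfLE h).op := by
  rw [← F.map_comp]
  rfl

lemma isCok_map {n m : ℕ} (h : n ≤ m) : IsCok (I ^ (n + 1)) (F.map (homOfLE h).op) := by
  induction m, h using Nat.le_induction with
  | base =>
    have e : F.map (homOfLE (le_refl n)).op = 𝟙 _ := F.map_id _
    rw [e]
    exact isCok_of_isIso_of_killedBy _ (hF.2.1 n)
  | succ m h ih =>
    rw [map_succ_comp F h]
    exact IsCok.comp (Ideal.pow_le_pow_right (Nat.succ_le_succ h)) (isCok_step I F hF m) ih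

lemma isIso_map {c : ℕ} (hc : ∀ n : ℕ, KilledBy (I ^ c) (F.obj (op n))) {k m : ℕ} (h : k ≤ m)
    (hk : c ≤ k + 1) : IsIso (F.map (homOfLE h).op) := by
  induction m, h using Nat.le_induction with
  | base =>
    have e : F.map (homOfLE (le_refl k)).op = 𝟙 _ := F.map_id _
    rw [e]
    infer_instance
  | succ m h ih =>
    rw [map_succ_comp F h]
    haveI := ih
    haveI : IsIso (F.map (homOfLE (Nat.le_succ m)).op) :=
      (isCok_step I F hF m).isIso_of_killedBy (fun a ha =>
        hc (m + 1) a (Ideal.pow_le_pow_right (by omega) ha))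
    infer_instance

/-- a coherent formal module killed by a fixed power of `I` is the system of quotients of one of
its terms -/
theorem exists_completion_iso (hc : ∃ c : ℕ, ∀ n : ℕ, KilledBy (I ^ c) (F.obj (op n))) :
    ∃ M : X.Modules, Coh.IsCoh M ∧ Nonempty (Formal.completion I M ≅ F) := by
  obtain ⟨c, hc⟩ := hc
  refine ⟨F.obj (op c), hF.1 c, ?_⟩
  have hiso : ∀ n, IsIso (F.map (homOfLE (le_max_right n c)).op) :=
    fun n => isIso_map I F hF hc _ (Nat.le_succ c)
  let p : ∀ n, F.obj (op c) ⟶ F.obj (op n) := fun n =>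
    haveI := hiso n
    inv (F.map (homOfLE (le_max_right n c)).op) ≫ F.map (homOfLE (le_max_left n c)).op
  have hp : ∀ n, IsCok (I ^ (n + 1)) (p n) := fun n =>
    haveI := hiso n
    IsCok.precomp_iso _ (isCok_map I F hF (le_max_left n c))
  have hcompat : ∀ (n m : ℕ) (h : n ≤ m), p m ≫ F.map (homOfLE h).op = p n := by
    intro n m h
    haveI := hiso n
    haveI := hiso m
    have hu : max n c ≤ max m c := max_le_max_right c h
    have e1 : F.map (homOfLE (le_max_right m c)).op =
        F.map (homOfLE hu).op ≫ F.map (homOfLE (le_max_right n c)).op := by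
      rw [← F.map_comp]; rfl
    have e2 : F.map (homOfLE (le_max_right m c)).op ≫ p m ≫ F.map (homOfLE h).op =
        F.map (homOfLE (h.trans (le_max_left m c))).op := by
      dsimp only [p]
      rw [Category.assoc, IsIso.hom_inv_id_assoc, ← F.map_comp]
      rfl
    have e3 : F.map (homOfLE (le_max_right m c)).op ≫ p n =
        F.map (homOfLE (h.trans (le_max_left m c))).op := by
      dsimp only [p]
      rw [e1, Category.assoc, IsIso.hom_inv_id_assoc, ← F.map_comp]
      rfl
    rw [← cancel_epi (F.map (homOfLE (le_max_right m c)).op), e2, e3]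
  choose θ hθ using fun n => (hp n).exists_iso
  refine ⟨NatIso.ofComponents (fun n => θ n.unop) ?_⟩
  intro m n f
  induction m using Opposite.rec with | _ m => ?_
  induction n using Opposite.rec with | _ n => ?_
  have h : n ≤ m := f.unop.le
  have ef : f = (homOfLE h).op := rfl
  rw [ef]
  have key : qπ (I ^ (m + 1)) (F.obj (op c)) ≫
      ((Formal.completion I (F.obj (op c))).map (homOfLE h).op ≫ (θ n).hom) =
      qπ (I ^ (m + 1)) (F.obj (op c)) ≫ ((θ m).hom ≫ F.map (homOfLE h).op) := by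
    calc qπ (I ^ (m + 1)) (F.obj (op c)) ≫
          ((Formal.completion I (F.obj (op c))).map (homOfLE h).op ≫ (θ n).hom)
        = (qπ (I ^ (m + 1)) (F.obj (op c)) ≫
          (Formal.completion I (F.obj (op c))).map (homOfLE h).op) ≫ (θ n).hom :=
          (Category.assoc _ _ _).symm
      _ = qπ (I ^ (n + 1)) (F.obj (op c)) ≫ (θ n).hom :=
          congrArg (fun z => z ≫ (θ n).hom)
            (Groth.Agent.Lib.helper8.Rees.qπ_completion_map I (F.obj (op c)) h)
      _ = p n := hθ n
      _ = p m ≫ F.map (homOfLE h).op := (hcompat n m h).symm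
      _ = (qπ (I ^ (m + 1)) (F.obj (op c)) ≫ (θ m).hom) ≫ F.map (homOfLE h).op := by rw [hθ m]
      _ = _ := Category.assoc _ _ _
  exact (cancel_epi (qπ (I ^ (m + 1)) (F.obj (op c)))).mp key

end Main

end Groth.Agent.Lib.helper8.FTors
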