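import Mathlib
import Groth.Agent.Lib.Helper8.FormalTorsion

/-!
# The completion `(M / I^(n+1) M)_n` of a coherent module (helper8)

* `isCok_qπ`, `isCok_qTrans`: the projections `M ⟶ M / 𝔞 M` and `M / 𝔞 M ⟶ M / 𝔟 M` are cokernels
  (`FTors.IsCok`).
* `IsCok.desc`: factorisation through an `IsCok` morphism.
* `isCohFormal_completion`: the completion of a coherent module is a coherent formal module.
* `completionMap`, `completionIso`: functoriality of `Formal.completion I`.
* `isCok_pullback_map`, `pullbackQIso`, `completionPullbackIso`: `f^*` commutes with completion.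
-/

set_option autoImplicit false
universe u

namespace Groth.Agent.Lib.helper8.FCompl

open CategoryTheory CategoryTheory.Limits AlgebraicGeometry Opposite TopologicalSpace
open Formal Groth.Agent.Lib.Helper18 Groth.Agent.Lib.helper8.FF Groth.Agent.Lib.helper8.FPull
open Groth.Agent.Lib.helper8.FTors Groth.Agent.Lib.helper8.Rees

section Basic

variable {A : Type u} [CommRing A] {X : Scheme.{u}} [X.Over (Spec (CommRingCat.of A))]

lemma isCok_qπ (𝔞 : Ideal A) (M : X.Modules) : IsCok 𝔞 (qπ 𝔞 M) :=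
  isCok_of_isColimit (cokernel.condition _) (cokernelIsCokernel _)

/-- factorisation through an `IsCok` morphism -/
lemma IsCok.desc {J : Ideal A} {P R Z : X.Modules} {g : P ⟶ R} (hg : IsCok J g) (k : P ⟶ Z)
    (hZ : KilledBy J Z) : ∃ l : R ⟶ Z, g ≫ l = k := by
  have h2 : smulFamily J P ≫ k = 0 := smulFamily_comp_eq_zero _ (fun a ha => by
    rw [smulMod_naturality, hZ a ha, comp_zero])
  exact ⟨(CokernelCofork.IsColimit.desc' hg.isColimit k h2).1,
    (CokernelCofork.IsColimit.desc' hg.isColimit k h2).2⟩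

lemma killedBy_Q (𝔞 : Ideal A) (M : X.Modules) : KilledBy 𝔞 (Q 𝔞 M) :=
  fun _ ha => smulMod_Q M ha

lemma isCok_qTrans {𝔞 𝔟 : Ideal A} (h : 𝔞 ≤ 𝔟) (M : X.Modules) : IsCok 𝔟 (qTrans h M) := by
  have h0 : smulFamily 𝔟 (Q 𝔞 M) ≫ qTrans h M = 0 := smulFamily_comp_eq_zero _ (fun a ha => by
    rw [smulMod_naturality, smulMod_Q M ha, comp_zero])
  haveI : Epi (qTrans h M) := epi_of_epi_fac (qπ_qTrans h M)
  refine isCok_of_isColimit h0 (CokernelCofork.IsColimit.ofπ' _ _ (fun {Z} k hk => ?_))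
  have h1 : smulFamily 𝔟 M ≫ qπ 𝔞 M ≫ k = 0 := smulFamily_comp_eq_zero _ (fun a ha => by
    rw [← Category.assoc, smulMod_naturality, Category.assoc, ← ι_smulFamily 𝔟 (Q 𝔞 M) ⟨a, ha⟩,
      Category.assoc, hk, comp_zero, comp_zero])
  let l := CokernelCofork.IsColimit.desc' (isCok_qπ 𝔟 M).isColimit (qπ 𝔞 M ≫ k) h1
  have hl : qπ 𝔟 M ≫ l.1 = qπ 𝔞 M ≫ k := l.2
  refine ⟨l.1, ?_⟩
  rw [← cancel_epi (qπ 𝔞 M), ← Category.assoc, qπ_qTrans, hl]

/-- the completion of a coherent module is a coherent formal module -/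
theorem isCohFormal_completion [IsNoetherianRing A] [IsNoetherian X] (I : Ideal A) (M : X.Modules)
    (hM : Coh.IsCoh M) : IsCohFormal I (Formal.completion I M) := by
  refine ⟨fun n => isCoh_Q _ M hM, fun n => killedBy_Q _ M, fun n => ?_⟩
  have e : (Formal.completion I M).map (homOfLE (Nat.le_succ n)).op =
      qTrans (Ideal.pow_le_pow_right (Nat.succ_le_succ (Nat.le_succ n))) M := completion_map I M _
  have h := isCok_qTrans (Ideal.pow_le_pow_right (Nat.succ_le_succ (Nat.le_succ n)) :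
    I ^ (n + 1 + 1) ≤ I ^ (n + 1)) M
  rw [← e] at h
  exact h

/-- functoriality of the completion -/
noncomputable def completionMap (I : Ideal A) {M N : X.Modules} (φ : M ⟶ N) :
    Formal.completion I M ⟶ Formal.completion I N where
  app n := Qmap (I ^ (n.unop + 1)) φ
  naturality := by
    intro n k g
    have hle : k.unop ≤ n.unop := leOfHom g.unop
    have eg : g = (homOfLE hle).op := Quiver.Hom.unop_inj (Subsingleton.elim _ _)
    rw [eg, completion_map, completion_map]
    exact (Qmap_qTrans _ φ).symm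

lemma completionMap_app (I : Ideal A) {M N : X.Modules} (φ : M ⟶ N) (n : ℕ) :
    (completionMap I φ).app (op n) = Qmap (I ^ (n + 1)) φ := rfl

lemma Qmap_id (𝔞 : Ideal A) (M : X.Modules) : Qmap 𝔞 (𝟙 M) = 𝟙 _ := by
  rw [← cancel_epi (qπ 𝔞 M)]
  simp

lemma Qmap_comp (𝔞 : Ideal A) {M N P : X.Modules} (φ : M ⟶ N) (ψ : N ⟶ P) :
    Qmap 𝔞 (φ ≫ ψ) = Qmap 𝔞 φ ≫ Qmap 𝔞 ψ := by
  rw [← cancel_epi (qπ 𝔞 M)]
  simp

/-- the completion of an isomorphism -/
noncomputable def completionIso (I : Ideal A) {M N : X.Modules} (e : M ≅ N) :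
    Formal.completion I M ≅ Formal.completion I N where
  hom := completionMap I e.hom
  inv := completionMap I e.inv
  hom_inv_id := by
    apply NatTrans.ext
    funext n
    change Qmap _ e.hom ≫ Qmap _ e.inv = 𝟙 _
    rw [← Qmap_comp, e.hom_inv_id, Qmap_id]
  inv_hom_id := by
    apply NatTrans.ext
    funext n
    change Qmap _ e.inv ≫ Qmap _ e.hom = 𝟙 _
    rw [← Qmap_comp, e.inv_hom_id, Qmap_id]

end Basic

section Pullback

variable {X Y : Scheme.{u}} (f : X ⟶ Y)
variable {A : Type u} [CommRing A] [X.Over (Spec (CommRingCat.of A))]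
  [Y.Over (Spec (CommRingCat.of A))]
  (hf : f ≫ (Y ↘ Spec (CommRingCat.of A)) = X ↘ Spec (CommRingCat.of A))

include hf

/-- `f^*` preserves cokernels of `smulFamily` -/
lemma isCok_pullback_map {J : Ideal A} {P R : Y.Modules} {g : P ⟶ R} (hg : IsCok J g) :
    IsCok J ((Scheme.Modules.pullback f).map g) := by
  have h0 := hg.1
  have hz : smulFamily J ((Scheme.Modules.pullback f).obj P) ≫
      (Scheme.Modules.pullback f).map g = 0 := by
    rw [← sigmaComparison_smulFamily f hf, Category.assoc, ← Functor.map_comp, h0,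
      Functor.map_zero, comp_zero]
  have hc := hg.isColimit
  have hc' := CokernelCofork.mapIsColimit _ hc (Scheme.Modules.pullback f)
  have hc'' := isCokernelEpiComp hc'
    (sigmaComparison (Scheme.Modules.pullback f) (fun _ : ↥J => P))
    (sigmaComparison_smulFamily f hf J P).symm
  exact isCok_of_isColimit hz hc''

/-- `f^*(M / 𝔞 M) ≅ f^*M / 𝔞 f^*M` -/
noncomputable def pullbackQIso (𝔞 : Ideal A) (M : Y.Modules) :
    Q 𝔞 ((Scheme.Modules.pullback f).obj M) ≅ (Scheme.Modules.pullback f).obj (Q 𝔞 M) :=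
  (isCok_pullback_map f hf (isCok_qπ 𝔞 M)).exists_iso.choose

lemma qπ_pullbackQIso_hom (𝔞 : Ideal A) (M : Y.Modules) :
    qπ 𝔞 ((Scheme.Modules.pullback f).obj M) ≫ (pullbackQIso f hf 𝔞 M).hom =
      (Scheme.Modules.pullback f).map (qπ 𝔞 M) :=
  (isCok_pullback_map f hf (isCok_qπ 𝔞 M)).exists_iso.choose_spec

lemma pullbackQIso_hom_qTrans {𝔞 𝔟 : Ideal A} (h : 𝔞 ≤ 𝔟) (M : Y.Modules) :
    (pullbackQIso f hf 𝔞 M).hom ≫ (Scheme.Modules.pullback f).map (qTrans h M) =
      qTrans h _ ≫ (pullbackQIso f hf 𝔟 M).hom := by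
  rw [← cancel_epi (qπ 𝔞 ((Scheme.Modules.pullback f).obj M)), ← Category.assoc,
    qπ_pullbackQIso_hom, ← Functor.map_comp, qπ_qTrans, ← Category.assoc, qπ_qTrans,
    qπ_pullbackQIso_hom]

/-- `f^*` commutes with completion -/
noncomputable def completionPullbackIso (I : Ideal A) (M : Y.Modules) :
    Formal.completion I ((Scheme.Modules.pullback f).obj M) ≅
      Formal.completion I M ⋙ Scheme.Modules.pullback f :=
  NatIso.ofComponents (fun n => pullbackQIso f hf (I ^ (n.unop + 1)) M) (by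
    intro n k g
    have hle : k.unop ≤ n.unop := leOfHom g.unop
    have eg : g = (homOfLE hle).op := Quiver.Hom.unop_inj (Subsingleton.elim _ _)
    rw [eg]
    change (Formal.completion I _).map (homOfLE hle).op ≫ (pullbackQIso f hf _ M).hom =
      (pullbackQIso f hf _ M).hom ≫
        (Scheme.Modules.pullback f).map ((Formal.completion I M).map (homOfLE hle).op)
    rw [completion_map, completion_map]
    exact (pullbackQIso_hom_qTrans f hf _ M).symm)

end Pullback

end Groth.Agent.Lib.helper8.FCompl
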