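import Groth.Agent.Lib.Helper17.FlatOver7
import Groth.Agent.Lib.Helper8.DevAnn
import Groth.Agent.Lib.Helper16.QCohEpi

/-!
# Exactness of stalks for `O_X`-modules (helper8)

Uses `helper17.FlatOver7.stalkLin` (the `O_{X,x}`-linear stalk map).
* `stalkAdd_injective_of_mono`: mono ⇒ injective on stalks.
* `stalkAdd_exact`: left exact sequence ⇒ exact on stalks.
* `stalkAdd_surjective_of_epi`: epi of quasi-coherent modules ⇒ surjective on stalks.
* `length_stalk_add`: additivity of the length of stalks in short exact sequences of quasi-coherent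
  modules.
-/

set_option autoImplicit false
set_option linter.style.haveILetI false
universe u
open CategoryTheory CategoryTheory.Limits AlgebraicGeometry TopologicalSpace Opposite

namespace Groth.Agent.Lib.helper8.StalkLen

open Scheme.Modules Groth.Agent.Lib.helper17.FlatOver7

variable {X : Scheme.{u}}

theorem stalkAdd_injective_of_mono {F G : X.Modules} (φ : F ⟶ G) [Mono φ] (x : X) :
    Function.Injective (stalkAdd φ x) := by
  rw [injective_iff_map_eq_zero]
  intro m hm
  obtain ⟨U, hxU, s, rfl⟩ := F.presheaf.exists_germ_eq m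
  rw [stalkAdd_germ] at hm
  obtain ⟨W, hxW, iU, iV, h⟩ := TopCat.Presheaf.germ_eq G.presheaf x hxU hxU
    ((φ.app U).hom s) 0 (hm.trans (map_zero _).symm)
  have hWU : W ≤ U := iU.le
  have h1 : (φ.app W).hom (F.presheaf.map (homOfLE hWU).op s) = 0 := by
    rw [Groth.Agent.Lib.helper16.QCohEpi.app_map]
    exact h.trans (map_zero _)
  have h2 : F.presheaf.map (homOfLE hWU).op s = 0 :=
    Groth.Agent.S2542.injective_app_of_mono φ W (h1.trans (map_zero _).symm)
  have h3 := TopCat.Presheaf.germ_res_apply F.presheaf (homOfLE hWU) x hxW s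
  rw [← h3]
  exact (congrArg _ h2).trans (map_zero _)

theorem stalkAdd_exact {F G H : X.Modules} (f : F ⟶ G) (g : G ⟶ H) [Mono f]
    (w : f ≫ g = 0) (hex : (ShortComplex.mk f g w).Exact) (x : X) :
    Function.Exact (stalkAdd f x) (stalkAdd g x) := by
  intro m
  constructor
  · intro hm
    obtain ⟨U, hxU, s, rfl⟩ := G.presheaf.exists_germ_eq m
    rw [stalkAdd_germ] at hm
    obtain ⟨W, hxW, iU, iV, h⟩ := TopCat.Presheaf.germ_eq H.presheaf x hxU hxU
      ((g.app U).hom s) 0 (hm.trans (map_zero _).symm)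
    have hWU : W ≤ U := iU.le
    have h1 : (g.app W).hom (G.presheaf.map (homOfLE hWU).op s) = 0 := by
      rw [Groth.Agent.Lib.helper16.QCohEpi.app_map]
      exact h.trans (map_zero _)
    obtain ⟨t, ht⟩ := Groth.Agent.Lib.helper8.Dev.exists_app_eq_of_exact f g w hex W _ h1
    refine ⟨(F.presheaf.germ W x hxW).hom t, ?_⟩
    rw [stalkAdd_germ, ht]
    exact TopCat.Presheaf.germ_res_apply G.presheaf (homOfLE hWU) x hxW s
  · rintro ⟨m', rfl⟩
    rw [← stalkAdd_comp, w]
    obtain ⟨U, hxU, s, rfl⟩ := F.presheaf.exists_germ_eq m'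
    rw [stalkAdd_germ]
    exact (congrArg _ (rfl : ((0 : F ⟶ H).app U).hom s = 0)).trans (map_zero _)

theorem stalkAdd_surjective_of_epi {G H : X.Modules} [G.IsQuasicoherent] [H.IsQuasicoherent]
    (g : G ⟶ H) [Epi g] (x : X) : Function.Surjective (stalkAdd g x) := by
  intro m
  obtain ⟨U, hxU, s, rfl⟩ := H.presheaf.exists_germ_eq m
  obtain ⟨_, ⟨W, hW : IsAffineOpen W, rfl⟩, hxW, hWU⟩ :=
    X.isBasis_affineOpens.exists_subset_of_mem_open hxU U.2
  have hWU' : W ≤ U := hWU
  obtain ⟨t, ht⟩ := Groth.Agent.Lib.helper16.QCohEpi.surjective_app_of_epi g hW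
    (H.presheaf.map (homOfLE hWU').op s)
  refine ⟨(G.presheaf.germ W x hxW).hom t, ?_⟩
  rw [stalkAdd_germ, ht]
  exact TopCat.Presheaf.germ_res_apply H.presheaf (homOfLE hWU') x hxW s

/-- additivity of the length of stalks in a short exact sequence of quasi-coherent modules -/
theorem length_stalk_add (T : ShortComplex X.Modules) (hT : T.ShortExact)
    [T.X₂.IsQuasicoherent] [T.X₃.IsQuasicoherent] (x : X) :
    Module.length (X.presheaf.stalk x) (T.X₂.presheaf.stalk x) =
      Module.length (X.presheaf.stalk x) (T.X₁.presheaf.stalk x) +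
        Module.length (X.presheaf.stalk x) (T.X₃.presheaf.stalk x) := by
  haveI := hT.mono_f
  haveI := hT.epi_g
  exact Module.length_eq_add_of_exact (stalkLin T.f x) (stalkLin T.g x)
    (stalkAdd_injective_of_mono T.f x) (stalkAdd_surjective_of_epi T.g x)
    (stalkAdd_exact T.f T.g T.zero hT.exact x)

end Groth.Agent.Lib.helper8.StalkLen
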