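import Mathlib
import Groth.Agent.Lib.Helper8.PullbackUnit2
import Groth.Agent.Lib.Helper16.QCohPush
import Groth.Agent.Lib.Helper7.QCohPushQC

/-!
# Flat base change for quasi-coherent modules (helper8)

For a cartesian square `g' : X' ⟶ X`, `f' : X' ⟶ Y'`, `f : X ⟶ Y`, `g : Y' ⟶ Y` with `f` qcqs and `g`
flat, and `F` quasi-coherent on `X`, the base change map `g^* f_* F ⟶ f'_* g'^* F` is an isomorphism
(`isIso_baseChange_of_flat_qcqs`).

Ingredients:
* `tlift k hk : R' ⊗[R] N →ₗ[R'] P` for a semilinear `k : N →+ P`; `isBC_iff_bijective_tlift`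
* `tlift_injective_of_cover`, `tlift_bijective_of_cover`: Čech-type gluing of injectivity/bijectivity
  of the comparison maps along a finite cover, for `R → R'` flat
* `ρ_smul`, `ρ_res`: semilinearity and naturality of `ρ` on arbitrary opens
* `κ M W hW h e halg : Γ(Y', V') ⊗[Γ(Y, V)] Γ(M, W) → Γ(g'^* M, g'⁻¹ W ∩ f'⁻¹ V')` and
  `κ_bijective_of_isAffineOpen`, `κ_injective_of_isCompact`, `κ_bijective_of_isQuasiSeparated`
-/

set_option autoImplicit false
universe u
open CategoryTheory TensorProduct AlgebraicGeometry TopologicalSpace Opposite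

namespace Groth.Agent.Lib.helper8.FlatBC

open Groth.Agent.Lib.helper8.PullbackUnit

section Abstract

variable {R R' : Type u} [CommRing R] [CommRing R'] [Algebra R R']

section tlift

variable {N P : Type u} [AddCommGroup N] [Module R N] [AddCommGroup P] [Module R' P]
  (k : N →+ P) (hk : ∀ (r : R) (n : N), k (r • n) = algebraMap R R' r • k n)

/-- the `R'`-linear map `R' ⊗ N → P` induced by a semilinear map `k : N → P` -/
noncomputable def tlift : R' ⊗[R] N →ₗ[R'] P :=
  letI : Module R P := Module.compHom P (algebraMap R R')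
  haveI : IsScalarTower R R' P := ⟨fun r b n => by
    show (r • b) • n = algebraMap R R' r • (b • n)
    rw [Algebra.smul_def, mul_smul]⟩
  LinearMap.liftBaseChange R' { toFun := k, map_add' := k.map_add, map_smul' := hk }

@[simp]
theorem tlift_tmul (a : R') (n : N) : tlift k hk (a ⊗ₜ n) = a • k n := by
  letI : Module R P := Module.compHom P (algebraMap R R')
  haveI : IsScalarTower R R' P := ⟨fun r b n => by
    show (r • b) • n = algebraMap R R' r • (b • n)
    rw [Algebra.smul_def, mul_smul]⟩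
  exact LinearMap.liftBaseChange_tmul _ _ _ _

theorem isBC_iff_bijective_tlift : IsBC (algebraMap R R') k ↔ Function.Bijective (tlift k hk) := by
  letI : Module R P := Module.compHom P (algebraMap R R')
  haveI : IsScalarTower R R' P := ⟨fun r b n => by
    show (r • b) • n = algebraMap R R' r • (b • n)
    rw [Algebra.smul_def, mul_smul]⟩
  let kl : N →ₗ[R] P := { toFun := k, map_add' := k.map_add, map_smul' := hk }
  constructor
  · intro h
    have hb := IsBC.isBaseChange kl h
    have : (tlift k hk : R' ⊗[R] N → P) = hb.equiv := by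
      ext x
      induction x with
      | zero => simp
      | tmul a n => rw [tlift_tmul, hb.equiv_tmul]; rfl
      | add x y hx hy => rw [map_add, map_add, hx, hy]
    rw [this]
    exact hb.equiv.bijective
  · intro h
    have hb : IsBaseChange R' kl :=
      IsBaseChange.of_equiv (LinearEquiv.ofBijective (tlift k hk) h) (fun x => by
        show tlift k hk (1 ⊗ₜ x) = k x
        rw [tlift_tmul, one_smul])
    exact IsBC.of_isBaseChange kl hb

variable {N₂ P₂ : Type u} [AddCommGroup N₂] [Module R N₂] [AddCommGroup P₂] [Module R' P₂]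
  (k₂ : N₂ →+ P₂) (hk₂ : ∀ (r : R) (n : N₂), k₂ (r • n) = algebraMap R R' r • k₂ n)
  (r : N →ₗ[R] N₂) (r' : P →ₗ[R'] P₂)

theorem tlift_comm (hcomm : ∀ n, r' (k n) = k₂ (r n)) (x : R' ⊗[R] N) :
    r' (tlift k hk x) = tlift k₂ hk₂ (r.lTensor R' x) := by
  induction x with
  | zero => simp
  | tmul a n => rw [tlift_tmul, LinearMap.lTensor_tmul, tlift_tmul, map_smul, hcomm]
  | add x y hx hy => simp only [map_add, hx, hy]

end tlift

section Pi

variable {ι : Type u} [Finite ι] {Ni : ι → Type u} [∀ i, AddCommGroup (Ni i)]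
  [∀ i, Module R (Ni i)]

omit [Finite ι] in
theorem piRight_apply [Fintype ι] [DecidableEq ι] (z : R' ⊗[R] (∀ i, Ni i)) (i : ι) :
    TensorProduct.piRight R R' R' Ni z i =
      (LinearMap.proj i : (∀ i, Ni i) →ₗ[R] Ni i).lTensor R' z := by
  induction z with
  | zero => simp
  | tmul a n => rfl
  | add x y hx hy => rw [map_add, map_add, Pi.add_apply, hx, hy]

/-- an element of `R' ⊗ ∏ Nᵢ` is zero iff all its components are -/
theorem eq_zero_of_lTensor_proj_eq_zero (y : R' ⊗[R] (∀ i, Ni i))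
    (hy : ∀ i, (LinearMap.proj i : (∀ i, Ni i) →ₗ[R] Ni i).lTensor R' y = 0) : y = 0 := by
  classical
  cases nonempty_fintype ι
  apply (TensorProduct.piRight R R' R' Ni).injective
  rw [map_zero]
  funext i
  rw [piRight_apply, hy]
  rfl

/-- any family of elements of `R' ⊗ Nᵢ` comes from an element of `R' ⊗ ∏ Nᵢ` -/
theorem exists_lTensor_proj_eq (y : ∀ i, R' ⊗[R] Ni i) :
    ∃ z : R' ⊗[R] (∀ i, Ni i),
      ∀ i, (LinearMap.proj i : (∀ i, Ni i) →ₗ[R] Ni i).lTensor R' z = y i := by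
  classical
  cases nonempty_fintype ι
  refine ⟨(TensorProduct.piRight R R' R' Ni).symm y, fun i => ?_⟩
  rw [← piRight_apply, LinearEquiv.apply_symm_apply]

end Pi

section Cover

variable [Module.Flat R R'] {ι : Type u} [Finite ι]
  {N P : Type u} [AddCommGroup N] [Module R N] [AddCommGroup P] [Module R' P]
  (k : N →+ P) (hk : ∀ (r : R) (n : N), k (r • n) = algebraMap R R' r • k n)
  {Ni Pi : ι → Type u} [∀ i, AddCommGroup (Ni i)] [∀ i, Module R (Ni i)]
  [∀ i, AddCommGroup (Pi i)] [∀ i, Module R' (Pi i)]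
  (ki : ∀ i, Ni i →+ Pi i)
  (hki : ∀ i (r : R) (n : Ni i), ki i (r • n) = algebraMap R R' r • ki i n)
  (res : ∀ i, N →ₗ[R] Ni i) (res' : ∀ i, P →ₗ[R'] Pi i)
  (hcomm : ∀ i n, res' i (k n) = ki i (res i n))

include hcomm in
/-- **B1**: injectivity of the base change comparison map passes to finite unions. -/
theorem tlift_injective_of_cover
    (hinjN : ∀ n : N, (∀ i, res i n = 0) → n = 0)
    (H : ∀ i, Function.Injective (tlift (ki i) (hki i))) :
    Function.Injective (tlift k hk) := by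
  rw [injective_iff_map_eq_zero]
  intro x hx
  let ψ : N →ₗ[R] (∀ i, Ni i) := LinearMap.pi res
  have hψ : Function.Injective ψ := by
    rw [injective_iff_map_eq_zero]
    intro n hn
    exact hinjN n (fun i => congrFun hn i)
  have hψ' : Function.Injective (ψ.lTensor R') :=
    Module.Flat.lTensor_preserves_injective_linearMap ψ hψ
  apply hψ'
  rw [map_zero]
  apply eq_zero_of_lTensor_proj_eq_zero
  intro i
  rw [← LinearMap.comp_apply, ← LinearMap.lTensor_comp]
  have : (LinearMap.proj i : (∀ i, Ni i) →ₗ[R] Ni i) ∘ₗ ψ = res i := rfl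
  rw [this]
  apply H i
  rw [← tlift_comm k hk (ki i) (hki i) (res i) (res' i) (hcomm i), hx, map_zero, map_zero]

variable {Nij Pij : ι → ι → Type u} [∀ i j, AddCommGroup (Nij i j)] [∀ i j, Module R (Nij i j)]
  [∀ i j, AddCommGroup (Pij i j)] [∀ i j, Module R' (Pij i j)]
  (kij : ∀ i j, Nij i j →+ Pij i j)
  (hkij : ∀ i j (r : R) (n : Nij i j), kij i j (r • n) = algebraMap R R' r • kij i j n)
  (r1 : ∀ i j, Ni i →ₗ[R] Nij i j) (r2 : ∀ i j, Ni j →ₗ[R] Nij i j)
  (r1' : ∀ i j, Pi i →ₗ[R'] Pij i j) (r2' : ∀ i j, Pi j →ₗ[R'] Pij i j)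
  (hcomm1 : ∀ i j n, r1' i j (ki i n) = kij i j (r1 i j n))
  (hcomm2 : ∀ i j n, r2' i j (ki j n) = kij i j (r2 i j n))

include hcomm hcomm1 hcomm2 in
/-- **B2**: bijectivity of the base change comparison map passes to finite unions, if it is known
to be injective on the pairwise intersections. -/
theorem tlift_bijective_of_cover
    (hinjN : ∀ n : N, (∀ i, res i n = 0) → n = 0)
    (hglueN : ∀ s : (∀ i, Ni i), (∀ i j, r1 i j (s i) = r2 i j (s j)) → ∃ n, ∀ i, res i n = s i)
    (hcompN : ∀ i j n, r1 i j (res i n) = r2 i j (res j n))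
    (hinjP : ∀ p : P, (∀ i, res' i p = 0) → p = 0)
    (hcompP : ∀ i j p, r1' i j (res' i p) = r2' i j (res' j p))
    (H : ∀ i, Function.Bijective (tlift (ki i) (hki i)))
    (H2 : ∀ i j, Function.Injective (tlift (kij i j) (hkij i j))) :
    Function.Bijective (tlift k hk) := by
  refine ⟨tlift_injective_of_cover k hk ki hki res res' hcomm hinjN (fun i => (H i).1), ?_⟩
  intro p
  let ψ : N →ₗ[R] (∀ i, Ni i) := LinearMap.pi res
  let δ : (∀ i, Ni i) →ₗ[R] (∀ ij : ι × ι, Nij ij.1 ij.2) :=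
    LinearMap.pi (fun ij => r1 ij.1 ij.2 ∘ₗ LinearMap.proj ij.1 - r2 ij.1 ij.2 ∘ₗ LinearMap.proj ij.2)
  have hex : Function.Exact ψ δ := by
    intro s
    constructor
    · intro hs
      obtain ⟨n, hn⟩ := hglueN s (fun i j => by
        have := congrFun hs (i, j)
        exact sub_eq_zero.mp this)
      exact ⟨n, funext hn⟩
    · rintro ⟨n, rfl⟩
      funext ij
      exact sub_eq_zero.mpr (hcompN ij.1 ij.2 n)
  have hex' := Module.Flat.lTensor_exact R' hex
  -- the local preimages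
  choose y hy using fun i => (H i).2 (res' i p)
  obtain ⟨z, hz⟩ := exists_lTensor_proj_eq (R := R) (R' := R') y
  have hδz : δ.lTensor R' z = 0 := by
    apply eq_zero_of_lTensor_proj_eq_zero
    rintro ⟨i, j⟩
    rw [← LinearMap.comp_apply, ← LinearMap.lTensor_comp]
    have : (LinearMap.proj (⟨i, j⟩ : ι × ι) :
        (∀ ij : ι × ι, Nij ij.1 ij.2) →ₗ[R] Nij i j) ∘ₗ δ =
        r1 i j ∘ₗ LinearMap.proj i - r2 i j ∘ₗ LinearMap.proj j := rfl
    rw [this, LinearMap.lTensor_sub, LinearMap.sub_apply, LinearMap.lTensor_comp,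
      LinearMap.lTensor_comp, LinearMap.comp_apply, LinearMap.comp_apply, hz, hz, sub_eq_zero]
    apply H2 i j
    rw [← tlift_comm (ki i) (hki i) (kij i j) (hkij i j) (r1 i j) (r1' i j) (hcomm1 i j),
      ← tlift_comm (ki j) (hki j) (kij i j) (hkij i j) (r2 i j) (r2' i j) (hcomm2 i j), hy, hy,
      hcompP]
  obtain ⟨x, hx⟩ := (hex' z).mp hδz
  refine ⟨x, ?_⟩
  rw [← sub_eq_zero]
  apply hinjP
  intro i
  rw [map_sub, sub_eq_zero, tlift_comm k hk (ki i) (hki i) (res i) (res' i) (hcomm i), ← hy i,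
    ← hz i, ← hx, ← LinearMap.comp_apply, ← LinearMap.lTensor_comp]
  rfl

end Cover

end Abstract

section Geom

open Scheme.Modules

section rho

variable {X Y : Scheme.{u}} (g : Y ⟶ X) {U : X.Opens} {V : Y.Opens} (e : V ≤ g ⁻¹ᵁ U)
  (A : X.Modules)

/-- semilinearity of `ρ` for arbitrary opens -/
theorem ρ_smul (s : Γ(X, U)) (a : Γ(A, U)) :
    ρ g e A (s • a) = (g.appLE U V e).hom s • ρ g e A a := by
  rw [ρ_apply, ρ_apply]
  have h1 : (((pullbackPushforwardAdjunction g).unit.app A).app U).hom (s • a) =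
      s • (((pullbackPushforwardAdjunction g).unit.app A).app U).hom a :=
    Hom.app_smul _ s a
  rw [h1]
  have h2 : (s • (((pullbackPushforwardAdjunction g).unit.app A).app U).hom a :
      Γ((pushforward g).obj ((pullback g).obj A), U)) =
      ((g.app U).hom s • (show Γ((pullback g).obj A, g ⁻¹ᵁ U) from
        (((pullbackPushforwardAdjunction g).unit.app A).app U).hom a) :
          Γ((pullback g).obj A, g ⁻¹ᵁ U)) := rfl
  rw [h2]
  exact Scheme.Modules.map_smul ((pullback g).obj A) (homOfLE e) _ _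

/-- compatibility of `ρ` with restrictions -/
theorem ρ_res {U₁ : X.Opens} {V₁ : Y.Opens} (e₁ : V₁ ≤ g ⁻¹ᵁ U₁) (hU : U₁ ≤ U) (hV : V₁ ≤ V)
    (a : Γ(A, U)) :
    ((pullback g).obj A).presheaf.map (homOfLE hV).op (ρ g e A a) =
      ρ g e₁ A (A.presheaf.map (homOfLE hU).op a) := by
  rw [ρ_apply, ρ_apply]
  have h1 := Groth.Agent.Lib.helper16.QCohEpi.app_map
    ((pullbackPushforwardAdjunction g).unit.app A) hU a
  refine Eq.trans ?_ (congrArg
    (((pullback g).obj A).presheaf.map (homOfLE e₁).op) h1.symm)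
  generalize (((pullbackPushforwardAdjunction g).unit.app A).app U).hom a = x
  change ((pullback g).obj A).presheaf.map _ (((pullback g).obj A).presheaf.map _ x) =
    ((pullback g).obj A).presheaf.map _ (((pullback g).obj A).presheaf.map _ x)
  rw [← ConcreteCategory.comp_apply, ← ConcreteCategory.comp_apply, ← Functor.map_comp,
    ← Functor.map_comp]
  rfl

end rho

variable {X Y X' Y' : Scheme.{u}} {f : X ⟶ Y} {g : Y' ⟶ Y} {g' : X' ⟶ X} {f' : X' ⟶ Y'}

/-- `g'⁻¹ W ∩ f'⁻¹ V'` -/
def sharp (g' : X' ⟶ X) (f' : X' ⟶ Y') (V' : Y'.Opens) (W : X.Opens) : X'.Opens :=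
  g' ⁻¹ᵁ W ⊓ f' ⁻¹ᵁ V'

theorem sharp_mono (g' : X' ⟶ X) (f' : X' ⟶ Y') (V' : Y'.Opens) {W₁ W₂ : X.Opens} (hW : W₁ ≤ W₂) :
    sharp g' f' V' W₁ ≤ sharp g' f' V' W₂ :=
  inf_le_inf_right _ (fun _ hx => hW hx)

/-- `Γ(M, W)` as a `Γ(Y, V)`-module, for `W ≤ f⁻¹ V` -/
def NW (f : X ⟶ Y) (M : X.Modules) (V : Y.Opens) (W : X.Opens) (_ : W ≤ f ⁻¹ᵁ V) : Type u :=
  Γ(M, W)

/-- `Γ(g'^* M, g'⁻¹ W ∩ f'⁻¹ V')` as a `Γ(Y', V')`-module -/
def PW (g' : X' ⟶ X) (f' : X' ⟶ Y') (M : X.Modules) (V' : Y'.Opens) (W : X.Opens) : Type u :=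
  Γ((pullback g').obj M, sharp g' f' V' W)

variable (M : X.Modules) {V : Y.Opens} {V' : Y'.Opens} (W : X.Opens) (hW : W ≤ f ⁻¹ᵁ V)

noncomputable instance : AddCommGroup (NW f M V W hW) :=
  (inferInstance : AddCommGroup Γ(M, W))

noncomputable instance : Module Γ(Y, V) (NW f M V W hW) :=
  Module.compHom Γ(M, W) (f.appLE V W hW).hom

noncomputable instance : AddCommGroup (PW g' f' M V' W) :=
  (inferInstance : AddCommGroup Γ((pullback g').obj M, sharp g' f' V' W))

noncomputable instance : Module Γ(Y', V') (PW g' f' M V' W) :=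
  Module.compHom Γ((pullback g').obj M, sharp g' f' V' W)
    (f'.appLE V' (sharp g' f' V' W) inf_le_right).hom

theorem NW_smul (r : Γ(Y, V)) (n : NW f M V W hW) :
    r • n = ((f.appLE V W hW).hom r • (show Γ(M, W) from n) : Γ(M, W)) := rfl

theorem PW_smul (r : Γ(Y', V')) (p : PW g' f' M V' W) :
    r • p = ((f'.appLE V' (sharp g' f' V' W) inf_le_right).hom r •
      (show Γ((pullback g').obj M, sharp g' f' V' W) from p) :
        Γ((pullback g').obj M, sharp g' f' V' W)) := rfl

/-- the comparison map on `W` -/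
noncomputable def kW : NW f M V W hW →+ PW g' f' M V' W :=
  ρ g' (inf_le_left : sharp g' f' V' W ≤ g' ⁻¹ᵁ W) M

/-! ### restriction maps -/

section Res

variable {W₁ W₂ : X.Opens} (hW₂ : W₂ ≤ f ⁻¹ᵁ V) (h12 : W₁ ≤ W₂)

/-- restriction `Γ(M, W₂) → Γ(M, W₁)` as a `Γ(Y, V)`-linear map -/
noncomputable def resN : NW f M V W₂ hW₂ →ₗ[Γ(Y, V)] NW f M V W₁ (h12.trans hW₂) where
  toFun n := M.presheaf.map (homOfLE h12).op (show Γ(M, W₂) from n)
  map_add' a b := map_add _ _ _
  map_smul' r n := by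
    rw [NW_smul, NW_smul]
    refine (Scheme.Modules.map_smul M (homOfLE h12) _ _).trans ?_
    have h2 : X.presheaf.map (homOfLE h12).op ((f.appLE V W₂ hW₂).hom r) =
        (f.appLE V W₁ (h12.trans hW₂)).hom r :=
      congr($(Scheme.Hom.appLE_map f hW₂ (homOfLE h12).op).hom r)
    exact congrArg (fun t => (t • (M.presheaf.map (homOfLE h12).op (show Γ(M, W₂) from n)) :
      Γ(M, W₁))) h2

/-- restriction on the pullback side as a `Γ(Y', V')`-linear map -/
noncomputable def resP : PW g' f' M V' W₂ →ₗ[Γ(Y', V')] PW g' f' M V' W₁ where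
  toFun p := ((pullback g').obj M).presheaf.map (homOfLE (sharp_mono g' f' V' h12)).op
    (show Γ((pullback g').obj M, sharp g' f' V' W₂) from p)
  map_add' a b := map_add _ _ _
  map_smul' r p := by
    rw [PW_smul, PW_smul]
    refine (Scheme.Modules.map_smul ((pullback g').obj M)
      (homOfLE (sharp_mono g' f' V' h12)) _ _).trans ?_
    have h2 : X'.presheaf.map (homOfLE (sharp_mono g' f' V' h12)).op
        ((f'.appLE V' (sharp g' f' V' W₂) inf_le_right).hom r) =
        (f'.appLE V' (sharp g' f' V' W₁) inf_le_right).hom r :=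
      congr($(Scheme.Hom.appLE_map f' (inf_le_right : sharp g' f' V' W₂ ≤ f' ⁻¹ᵁ V')
        (homOfLE (sharp_mono g' f' V' h12)).op).hom r)
    exact congrArg (fun t => (t • (((pullback g').obj M).presheaf.map
      (homOfLE (sharp_mono g' f' V' h12)).op
        (show Γ((pullback g').obj M, sharp g' f' V' W₂) from p)) :
      Γ((pullback g').obj M, sharp g' f' V' W₁))) h2

theorem resP_kW (n : NW f M V W₂ hW₂) :
    resP (g' := g') (f' := f') (V' := V') M h12 (kW M W₂ hW₂ n) =
      kW M W₁ (h12.trans hW₂) (resN M hW₂ h12 n) :=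
  ρ_res g' (inf_le_left : sharp g' f' V' W₂ ≤ g' ⁻¹ᵁ W₂) M
    (inf_le_left : sharp g' f' V' W₁ ≤ g' ⁻¹ᵁ W₁) h12 (sharp_mono g' f' V' h12) n

end Res

variable (h : IsPullback g' f' f g) (e : V' ≤ g ⁻¹ᵁ V)

include h in
theorem appLE_square :
    f.appLE V W hW ≫ g'.appLE W (sharp g' f' V' W) inf_le_left =
      g.appLE V V' e ≫ f'.appLE V' (sharp g' f' V' W) inf_le_right := by
  rw [Scheme.Hom.appLE_comp_appLE, Scheme.Hom.appLE_comp_appLE]
  congr 1
  exact h.w

variable [Algebra Γ(Y, V) Γ(Y', V')] (halg : algebraMap Γ(Y, V) Γ(Y', V') = (g.appLE V V' e).hom)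

include h halg in
theorem kW_smul (r : Γ(Y, V)) (n : NW f M V W hW) :
    kW (g' := g') (f' := f') (V' := V') M W hW (r • n) =
      algebraMap Γ(Y, V) Γ(Y', V') r • kW (g' := g') (f' := f') (V' := V') M W hW n := by
  rw [NW_smul, PW_smul, halg]
  have h1 := ρ_smul g' (inf_le_left : sharp g' f' V' W ≤ g' ⁻¹ᵁ W) M
    ((f.appLE V W hW).hom r) n
  refine h1.trans ?_
  have h2 : (g'.appLE W (sharp g' f' V' W) inf_le_left).hom ((f.appLE V W hW).hom r) =
      (f'.appLE V' (sharp g' f' V' W) inf_le_right).hom ((g.appLE V V' e).hom r) :=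
    congr($(appLE_square W hW h e).hom r)
  exact congrArg (fun t => (t • (ρ g' (inf_le_left : sharp g' f' V' W ≤ g' ⁻¹ᵁ W) M n) :
    Γ((pullback g').obj M, sharp g' f' V' W))) h2


/-- the comparison map `Γ(Y', V') ⊗ Γ(M, W) → Γ(g'^* M, g'⁻¹ W ∩ f'⁻¹ V')` -/
noncomputable def κ : Γ(Y', V') ⊗[Γ(Y, V)] NW f M V W hW →ₗ[Γ(Y', V')] PW g' f' M V' W :=
  tlift (kW M W hW) (kW_smul M W hW h e halg)

include h e hW in
omit [Algebra Γ(Y, V) Γ(Y', V')] in
theorem isAffineOpen_sharp (hV : IsAffineOpen V) (hV' : IsAffineOpen V') (hWa : IsAffineOpen W) :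
    IsAffineOpen (sharp g' f' V' W) := by
  have : IsAffine _ := hV
  have : IsAffine _ := hV'
  have : IsAffine _ := hWa
  exact .of_isIso (Scheme.Hom.isPullback_resLE h e hW (rfl : sharp g' f' V' W = _)).isoPullback.hom

/-- **Stage A**: the comparison map is bijective on affine opens. -/
theorem κ_bijective_of_isAffineOpen [M.IsQuasicoherent] (hV : IsAffineOpen V)
    (hV' : IsAffineOpen V') (hWa : IsAffineOpen W) :
    Function.Bijective (κ M W hW h e halg) := by
  rw [κ, ← isBC_iff_bijective_tlift]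
  have hsa : IsAffineOpen (sharp g' f' V' W) := isAffineOpen_sharp W hW h e hV hV' hWa
  have hK := isBC_ρ g' hWa hsa (inf_le_left : sharp g' f' V' W ≤ g' ⁻¹ᵁ W) M
  have hpo : IsPushout (CommRingCat.ofHom (algebraMap Γ(Y, V) Γ(Y', V')))
      (CommRingCat.ofHom (f.appLE V W hW).hom)
      (CommRingCat.ofHom (f'.appLE V' (sharp g' f' V' W) inf_le_right).hom)
      (CommRingCat.ofHom (g'.appLE W (sharp g' f' V' W) inf_le_left).hom) := by
    rw [halg]
    have := (isIso_pushoutSection_iff h e hW (rfl : sharp g' f' V' W = _)).mp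
      (isIso_pushoutSection_of_isAffineOpen h e hW rfl hV hV' hWa)
    exact this.flip
  letI : Module Γ(X, W) (NW f M V W hW) := (inferInstance : Module Γ(X, W) Γ(M, W))
  letI : Module Γ(X', sharp g' f' V' W) (PW g' f' M V' W) :=
    (inferInstance : Module Γ(X', sharp g' f' V' W) Γ((pullback g').obj M, sharp g' f' V' W))
  exact IsBC.cancel' hpo (fun r n => rfl) (fun r p => rfl) hK

section Covers

variable {ι : Type u} (Wi : ι → X.Opens) (hle : ∀ i, Wi i ≤ W) (hcov : W ≤ ⨆ i, Wi i)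

include hcov in
theorem NW_eq_zero_of_cover (n : NW f M V W hW) (hn : ∀ i, resN M hW (hle i) n = 0) : n = 0 := by
  apply TopCat.Sheaf.eq_of_locally_eq' ⟨M.presheaf, M.isSheaf⟩ Wi W (fun i => homOfLE (hle i)) hcov
  intro i
  have h1 : M.presheaf.map (homOfLE (hle i)).op (show Γ(M, W) from n) = 0 := hn i
  have h2 : M.presheaf.map (homOfLE (hle i)).op (0 : Γ(M, W)) = 0 := map_zero _
  exact h1.trans h2.symm

include hcov in
theorem NW_glue (s : ∀ i, NW f M V (Wi i) ((hle i).trans hW))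
    (hs : ∀ i j, resN M ((hle i).trans hW) (inf_le_left : Wi i ⊓ Wi j ≤ Wi i) (s i) =
      resN M ((hle j).trans hW) (inf_le_right : Wi i ⊓ Wi j ≤ Wi j) (s j)) :
    ∃ n : NW f M V W hW, ∀ i, resN M hW (hle i) n = s i := by
  obtain ⟨n, hn, -⟩ := TopCat.Sheaf.existsUnique_gluing' ⟨M.presheaf, M.isSheaf⟩ Wi W
    (fun i => homOfLE (hle i)) hcov (fun i => (show Γ(M, Wi i) from s i)) (fun i j => hs i j)
  exact ⟨n, hn⟩

include hcov in
theorem sharp_le_iSup : sharp g' f' V' W ≤ ⨆ i, sharp g' f' V' (Wi i) := by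
  intro x hx
  obtain ⟨i, hi⟩ := Opens.mem_iSup.mp (hcov hx.1)
  exact Opens.mem_iSup.mpr ⟨i, hi, hx.2⟩

include hcov in
theorem PW_eq_zero_of_cover (p : PW g' f' M V' W)
    (hp : ∀ i, resP (g' := g') (f' := f') (V' := V') M (hle i) p = 0) : p = 0 := by
  apply TopCat.Sheaf.eq_of_locally_eq' ⟨((pullback g').obj M).presheaf, ((pullback g').obj M).isSheaf⟩
    (fun i => sharp g' f' V' (Wi i)) (sharp g' f' V' W)
    (fun i => homOfLE (sharp_mono g' f' V' (hle i))) (sharp_le_iSup W Wi hcov)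
  intro i
  have h1 : ((pullback g').obj M).presheaf.map (homOfLE (sharp_mono g' f' V' (hle i))).op
      (show Γ((pullback g').obj M, sharp g' f' V' W) from p) = 0 := hp i
  have h2 : ((pullback g').obj M).presheaf.map (homOfLE (sharp_mono g' f' V' (hle i))).op
      (0 : Γ((pullback g').obj M, sharp g' f' V' W)) = 0 := map_zero _
  exact h1.trans h2.symm

theorem resN_resN {W₁ W₂ W₃ : X.Opens} (hW₃ : W₃ ≤ f ⁻¹ᵁ V) (h23 : W₂ ≤ W₃) (h12 : W₁ ≤ W₂)
    (n : NW f M V W₃ hW₃) :
    resN M (h23.trans hW₃) h12 (resN M hW₃ h23 n) = resN M hW₃ (h12.trans h23) n :=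
  Groth.Agent.Lib.helper7.map_map M h23 h12 n

theorem resP_resP {W₁ W₂ W₃ : X.Opens} (h23 : W₂ ≤ W₃) (h12 : W₁ ≤ W₂)
    (p : PW g' f' M V' W₃) :
    resP (g' := g') (f' := f') (V' := V') M h12 (resP M h23 p) = resP M (h12.trans h23) p :=
  Groth.Agent.Lib.helper7.map_map ((pullback g').obj M) (sharp_mono g' f' V' h23)
    (sharp_mono g' f' V' h12) p

variable [Finite ι] [Module.Flat Γ(Y, V) Γ(Y', V')]

include hcov in
/-- **Stage B** (abstract form): injectivity passes to finite unions. -/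
theorem κ_injective_of_cover
    (H : ∀ i, Function.Injective (κ M (Wi i) ((hle i).trans hW) h e halg)) :
    Function.Injective (κ M W hW h e halg) :=
  tlift_injective_of_cover (kW M W hW) (kW_smul M W hW h e halg)
    (fun i => kW M (Wi i) ((hle i).trans hW))
    (fun i => kW_smul M (Wi i) ((hle i).trans hW) h e halg)
    (fun i => resN M hW (hle i)) (fun i => resP M (hle i))
    (fun i n => resP_kW M hW (hle i) n)
    (NW_eq_zero_of_cover M W hW Wi hle hcov) H

include hcov in
/-- **Stage C** (abstract form): bijectivity passes to finite unions, given injectivity on the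
pairwise intersections. -/
theorem κ_bijective_of_cover
    (H : ∀ i, Function.Bijective (κ M (Wi i) ((hle i).trans hW) h e halg))
    (H2 : ∀ i j, Function.Injective (κ M (Wi i ⊓ Wi j)
      ((inf_le_left.trans (hle i)).trans hW) h e halg)) :
    Function.Bijective (κ M W hW h e halg) :=
  tlift_bijective_of_cover (kW M W hW) (kW_smul M W hW h e halg)
    (fun i => kW M (Wi i) ((hle i).trans hW))
    (fun i => kW_smul M (Wi i) ((hle i).trans hW) h e halg)
    (fun i => resN M hW (hle i)) (fun i => resP M (hle i))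
    (fun i n => resP_kW M hW (hle i) n)
    (fun i j => kW M (Wi i ⊓ Wi j) ((inf_le_left.trans (hle i)).trans hW))
    (fun i j => kW_smul M (Wi i ⊓ Wi j) ((inf_le_left.trans (hle i)).trans hW) h e halg)
    (fun i j => resN M ((hle i).trans hW) (inf_le_left : Wi i ⊓ Wi j ≤ Wi i))
    (fun i j => resN M ((hle j).trans hW) (inf_le_right : Wi i ⊓ Wi j ≤ Wi j))
    (fun i j => resP M (inf_le_left : Wi i ⊓ Wi j ≤ Wi i))
    (fun i j => resP M (inf_le_right : Wi i ⊓ Wi j ≤ Wi j))
    (fun i j n => resP_kW M ((hle i).trans hW) (inf_le_left : Wi i ⊓ Wi j ≤ Wi i) n)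
    (fun i j n => resP_kW M ((hle j).trans hW) (inf_le_right : Wi i ⊓ Wi j ≤ Wi j) n)
    (NW_eq_zero_of_cover M W hW Wi hle hcov)
    (NW_glue M W hW Wi hle hcov)
    (fun i j n => by
      rw [resN_resN, resN_resN])
    (PW_eq_zero_of_cover M W Wi hle hcov)
    (fun i j p => by
      rw [resP_resP, resP_resP])
    H H2

end Covers

section Compact

variable [M.IsQuasicoherent] [Module.Flat Γ(Y, V) Γ(Y', V')]

/-- **Stage B**: the comparison map is injective for `W` compact. -/
theorem κ_injective_of_isCompact (hV : IsAffineOpen V) (hV' : IsAffineOpen V')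
    (hWc : IsCompact (W : Set X)) : Function.Injective (κ M W hW h e halg) := by
  obtain ⟨I, hI, eW⟩ := isCompact_iff_finite_and_eq_biUnion_affineOpens.mp hWc
  haveI := hI.to_subtype
  have hle : ∀ i : I, (i.1 : X.Opens) ≤ W := fun i => by
    rw [eW]
    exact le_iSup₂ (f := fun (i : X.affineOpens) (_ : i ∈ I) => (i : X.Opens)) i.1 i.2
  have hcov : W ≤ ⨆ i : I, (i.1 : X.Opens) := by
    rw [iSup_subtype]
    exact eW.le
  exact κ_injective_of_cover M W hW h e halg (fun i : I => (i.1 : X.Opens)) hle hcov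
    (fun i => (κ_bijective_of_isAffineOpen M _ _ h e halg hV hV' i.1.2).1)

/-- **Stage C**: the comparison map is bijective for `W` compact and quasi-separated. -/
theorem κ_bijective_of_isQuasiSeparated (hV : IsAffineOpen V) (hV' : IsAffineOpen V')
    (hWc : IsCompact (W : Set X)) (hWq : IsQuasiSeparated (W : Set X)) :
    Function.Bijective (κ M W hW h e halg) := by
  obtain ⟨I, hI, eW⟩ := isCompact_iff_finite_and_eq_biUnion_affineOpens.mp hWc
  haveI := hI.to_subtype
  have hle : ∀ i : I, (i.1 : X.Opens) ≤ W := fun i => by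
    rw [eW]
    exact le_iSup₂ (f := fun (i : X.affineOpens) (_ : i ∈ I) => (i : X.Opens)) i.1 i.2
  have hcov : W ≤ ⨆ i : I, (i.1 : X.Opens) := by
    rw [iSup_subtype]
    exact eW.le
  exact κ_bijective_of_cover M W hW h e halg (fun i : I => (i.1 : X.Opens)) hle hcov
    (fun i => κ_bijective_of_isAffineOpen M _ _ h e halg hV hV' i.1.2)
    (fun i j => κ_injective_of_isCompact M _ _ h e halg hV hV'
      (hWq _ _ (hle i) i.1.1.2 i.1.2.isCompact (hle j) j.1.1.2 j.1.2.isCompact))

end Compact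

end Geom

section Main

variable {X Y X' Y' : Scheme.{u}} (f : X ⟶ Y) (g : Y' ⟶ Y) (g' : X' ⟶ X) (f' : X' ⟶ Y')
  (h : IsPullback g' f' f g)

open Scheme.Modules

/-- the identity `Γ(f_* F, V) ≃ Γ(F, f⁻¹ V)`, as a `Γ(Y, V)`-linear equivalence -/
noncomputable def eN (F : X.Modules) (V : Y.Opens) :
    Γ((pushforward f).obj F, V) ≃ₗ[Γ(Y, V)] NW f F V (f ⁻¹ᵁ V) le_rfl where
  toFun a := a
  invFun a := a
  map_add' a b := rfl
  map_smul' r a := by
    have h0 : (r • a : Γ((pushforward f).obj F, V)) =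
        ((f.app V).hom r • (show Γ(F, f ⁻¹ᵁ V) from a) : Γ(F, f ⁻¹ᵁ V)) := rfl
    refine h0.trans (Eq.trans ?_ (NW_smul F (f ⁻¹ᵁ V) le_rfl r a).symm)
    have h1 : f.app V = f.appLE V (f ⁻¹ᵁ V) le_rfl := (Scheme.Hom.appLE_eq_app f).symm
    rw [h1]
  left_inv a := rfl
  right_inv a := rfl

variable {f g' f'} in
/-- the restriction `Γ(f'_* g'^* F, V') ≃ Γ(g'^* F, g'⁻¹ W ∩ f'⁻¹ V')` (the two opens being equal),
as a `Γ(Y', V')`-linear equivalence -/
noncomputable def eP (F : X.Modules) {V' : Y'.Opens} {W : X.Opens}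
    (hs : sharp g' f' V' W = f' ⁻¹ᵁ V') :
    Γ((pushforward f').obj ((pullback g').obj F), V') ≃ₗ[Γ(Y', V')] PW g' f' F V' W where
  toFun p := ((pullback g').obj F).presheaf.map (homOfLE hs.le).op
    (show Γ((pullback g').obj F, f' ⁻¹ᵁ V') from p)
  invFun p := ((pullback g').obj F).presheaf.map (homOfLE hs.ge).op
    (show Γ((pullback g').obj F, sharp g' f' V' W) from p)
  map_add' a b := map_add _ _ _
  map_smul' r p := by
    have h0 : (r • p : Γ((pushforward f').obj ((pullback g').obj F), V')) =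
        ((f'.app V').hom r • (show Γ((pullback g').obj F, f' ⁻¹ᵁ V') from p) :
          Γ((pullback g').obj F, f' ⁻¹ᵁ V')) := rfl
    refine (congrArg (((pullback g').obj F).presheaf.map (homOfLE hs.le).op) h0).trans ?_
    refine (Scheme.Modules.map_smul ((pullback g').obj F) (homOfLE hs.le) _ _).trans ?_
    refine Eq.trans ?_ (PW_smul F W r _).symm
    have h2 : X'.presheaf.map (homOfLE hs.le).op ((f'.app V').hom r) =
        (f'.appLE V' (sharp g' f' V' W) inf_le_right).hom r := by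
      have h3 := congr($(Scheme.Hom.appLE_map f' (le_refl (f' ⁻¹ᵁ V')) (homOfLE hs.le).op).hom r)
      rw [Scheme.Hom.appLE_eq_app] at h3
      exact h3
    exact congrArg (fun t => (t • (((pullback g').obj F).presheaf.map (homOfLE hs.le).op
      (show Γ((pullback g').obj F, f' ⁻¹ᵁ V') from p)) :
        Γ((pullback g').obj F, sharp g' f' V' W))) h2
  left_inv p := by
    show ((pullback g').obj F).presheaf.map (homOfLE hs.ge).op
      (((pullback g').obj F).presheaf.map (homOfLE hs.le).op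
        (show Γ((pullback g').obj F, f' ⁻¹ᵁ V') from p)) = p
    rw [Groth.Agent.Lib.helper7.map_map, Groth.Agent.Lib.helper7.map_self]
  right_inv p := by
    show ((pullback g').obj F).presheaf.map (homOfLE hs.le).op
      (((pullback g').obj F).presheaf.map (homOfLE hs.ge).op
        (show Γ((pullback g').obj F, sharp g' f' V' W) from p)) = p
    rw [Groth.Agent.Lib.helper7.map_map, Groth.Agent.Lib.helper7.map_self]

/-- **Flat base change** (EGA III 1.4.15 in degree 0; Stacks 02KH): for `f` quasi-compact and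
quasi-separated, `g` flat and `F` quasi-coherent, the base change map `g^* f_* F ⟶ f'_* g'^* F` is
an isomorphism. -/
theorem isIso_baseChange_of_flat_qcqs [QuasiCompact f] [QuasiSeparated f] [Flat g]
    (F : X.Modules) [F.IsQuasicoherent] :
    IsIso (((pullbackPushforwardAdjunction g).homEquiv ((pushforward f).obj F)
        ((pushforward f').obj ((pullback g').obj F))).symm
      ((pushforward f).map ((pullbackPushforwardAdjunction g').unit.app F) ≫
        (pushforwardComp g' f).hom.app ((pullback g').obj F) ≫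
        (pushforwardCongr h.w).hom.app ((pullback g').obj F) ≫
        (pushforwardComp f' g).inv.app ((pullback g').obj F))) := by
  haveI : ((pushforward f).obj F).IsQuasicoherent :=
    Groth.Agent.Lib.helper7.QCohPushQC.isQuasicoherent_pushforward f F
  refine isIso_homEquiv_symm_of_isBC g _
    {V' | IsAffineOpen V' ∧ ∃ V : Y.Opens, IsAffineOpen V ∧ V' ≤ g ⁻¹ᵁ V}
    (isBasis_affine_preimage g) ?_
  rintro V' ⟨hV', V, hV, e⟩
  refine ⟨hV', V, hV, e, ?_⟩
  have e' : f' ⁻¹ᵁ V' ≤ g' ⁻¹ᵁ (f ⁻¹ᵁ V) := by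
    intro x hx
    show f (g' x) ∈ V
    have : f (g' x) = g (f' x) := by
      rw [← Scheme.Hom.comp_apply, ← Scheme.Hom.comp_apply, h.w]
    rw [this]
    exact e hx
  have hρ : ∀ a, ρv g e ((pushforward f).map ((pullbackPushforwardAdjunction g').unit.app F) ≫
      (pushforwardComp g' f).hom.app ((pullback g').obj F) ≫
      (pushforwardCongr h.w).hom.app ((pullback g').obj F) ≫
      (pushforwardComp f' g).inv.app ((pullback g').obj F)) a = ρ g' e' F a := by
    intro a
    rw [ρv_apply, ρ_apply]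
    generalize hx : (((pullbackPushforwardAdjunction g').unit.app F).app (f ⁻¹ᵁ V)).hom a = x
    change ((pullback g').obj F).presheaf.map _ (((pullback g').obj F).presheaf.map _
      ((((pullbackPushforwardAdjunction g').unit.app F).app (f ⁻¹ᵁ V)).hom a)) = _
    rw [hx, ← ConcreteCategory.comp_apply, ← Functor.map_comp]
    rfl
  letI : Algebra Γ(Y, V) Γ(Y', V') := (g.appLE V V' e).hom.toAlgebra
  haveI : Module.Flat Γ(Y, V) Γ(Y', V') := Flat.flat_appLE g hV hV' e
  have halg : algebraMap Γ(Y, V) Γ(Y', V') = (g.appLE V V' e).hom := rfl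
  have hbij := κ_bijective_of_isQuasiSeparated F (f ⁻¹ᵁ V) le_rfl h e halg hV hV'
    (f.isCompact_preimage hV.isCompact) (f.isQuasiSeparated_preimage hV.isQuasiSeparated)
  have hbc : IsBC (g.appLE V V' e).hom (kW (g' := g') (f' := f') (V' := V') F (f ⁻¹ᵁ V) le_rfl) :=
    (isBC_iff_bijective_tlift _ (kW_smul F (f ⁻¹ᵁ V) le_rfl h e halg)).mpr hbij
  -- transport
  have hs : sharp g' f' V' (f ⁻¹ᵁ V) = f' ⁻¹ᵁ V' := inf_eq_right.mpr e'
  refine hbc.of_equiv (eN f F V) (eP F hs) _ (fun a => ?_)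
  rw [hρ]
  show ((pullback g').obj F).presheaf.map (homOfLE hs.le).op (ρ g' e' F a) =
    ρ g' (inf_le_left : sharp g' f' V' (f ⁻¹ᵁ V) ≤ g' ⁻¹ᵁ (f ⁻¹ᵁ V)) F a
  have h4 := ρ_res g' e' F (inf_le_left : sharp g' f' V' (f ⁻¹ᵁ V) ≤ g' ⁻¹ᵁ (f ⁻¹ᵁ V)) le_rfl hs.le
    (show Γ(F, f ⁻¹ᵁ V) from a)
  rw [Groth.Agent.Lib.helper7.map_self] at h4
  exact h4

end Main

end Groth.Agent.Lib.helper8.FlatBC
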