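import Mathlib
import Groth.Agent.Lib.Helper8.FlatBC

/-!
# Five lemmas for base-change maps along a flat ring map (helper8)

`IsBC (algebraMap R R') k` (helper8 `PullbackUnit.IsBC`) says that the semilinear additive map
`k : N → P` exhibits the `R'`-module `P` as `R' ⊗[R] N`.  For `R → R'` flat this property passes to
the middle term of a map of five-term exact sequences (`isBC_five`), to the first term of a
left exact sequence (`isBC_left`), and holds for maps between trivial modules.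

`IsBCMap α β φ` is the same notion for additive groups with explicit ring actions
`α : A →+* AddMonoid.End N`, `β : B →+* AddMonoid.End P` (no `Module` instances needed).
-/

set_option autoImplicit false
universe u
open CategoryTheory TensorProduct

namespace Groth.Agent.Lib.helper8.FlatCohBC

open Groth.Agent.Lib.helper8.PullbackUnit Groth.Agent.Lib.helper8.FlatBC

section Five

variable {R R' : Type u} [CommRing R] [CommRing R'] [Algebra R R'] [Module.Flat R R']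
variable {N₁ N₂ N₃ N₄ N₅ P₁ P₂ P₃ P₄ P₅ : Type u}
  [AddCommGroup N₁] [AddCommGroup N₂] [AddCommGroup N₃] [AddCommGroup N₄] [AddCommGroup N₅]
  [Module R N₁] [Module R N₂] [Module R N₃] [Module R N₄] [Module R N₅]
  [AddCommGroup P₁] [AddCommGroup P₂] [AddCommGroup P₃] [AddCommGroup P₄] [AddCommGroup P₅]
  [Module R' P₁] [Module R' P₂] [Module R' P₃] [Module R' P₄] [Module R' P₅]
  (f₁ : N₁ →ₗ[R] N₂) (f₂ : N₂ →ₗ[R] N₃) (f₃ : N₃ →ₗ[R] N₄) (f₄ : N₄ →ₗ[R] N₅)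
  (g₁ : P₁ →ₗ[R'] P₂) (g₂ : P₂ →ₗ[R'] P₃) (g₃ : P₃ →ₗ[R'] P₄) (g₄ : P₄ →ₗ[R'] P₅)
  (k₁ : N₁ →+ P₁) (k₂ : N₂ →+ P₂) (k₃ : N₃ →+ P₃) (k₄ : N₄ →+ P₄) (k₅ : N₅ →+ P₅)

omit [Module.Flat R R'] in
theorem isBC_of_subsingleton [Subsingleton N₁] [Subsingleton P₁] : IsBC (algebraMap R R') k₁ := by
  have hk : ∀ (r : R) (n : N₁), k₁ (r • n) = algebraMap R R' r • k₁ n :=
    fun _ _ => Subsingleton.elim _ _
  rw [isBC_iff_bijective_tlift k₁ hk]
  haveI : Subsingleton (R' ⊗[R] N₁) := by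
    refine ⟨fun x y => ?_⟩
    have h0 : ∀ z : R' ⊗[R] N₁, z = 0 := by
      intro z
      induction z with
      | zero => rfl
      | tmul a n => rw [Subsingleton.elim n 0, tmul_zero]
      | add x y hx hy => rw [hx, hy, add_zero]
    rw [h0 x, h0 y]
  exact ⟨fun _ _ _ => Subsingleton.elim _ _, fun y => ⟨0, Subsingleton.elim _ _⟩⟩

/-- **five lemma** for base change along a flat ring map -/
theorem isBC_five
    (hc₁ : ∀ n, g₁ (k₁ n) = k₂ (f₁ n)) (hc₂ : ∀ n, g₂ (k₂ n) = k₃ (f₂ n))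
    (hc₃ : ∀ n, g₃ (k₃ n) = k₄ (f₃ n)) (hc₄ : ∀ n, g₄ (k₄ n) = k₅ (f₄ n))
    (hf₁ : Function.Exact f₁ f₂) (hf₂ : Function.Exact f₂ f₃) (hf₃ : Function.Exact f₃ f₄)
    (hg₁ : Function.Exact g₁ g₂) (hg₂ : Function.Exact g₂ g₃) (hg₃ : Function.Exact g₃ g₄)
    (hk₃ : ∀ (r : R) (n : N₃), k₃ (r • n) = algebraMap R R' r • k₃ n)
    (h₁ : IsBC (algebraMap R R') k₁) (h₂ : IsBC (algebraMap R R') k₂)
    (h₄ : IsBC (algebraMap R R') k₄) (h₅ : IsBC (algebraMap R R') k₅) :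
    IsBC (algebraMap R R') k₃ := by
  rw [isBC_iff_bijective_tlift k₃ hk₃]
  have b₁ := (isBC_iff_bijective_tlift k₁ h₁.map_smul).mp h₁
  have b₂ := (isBC_iff_bijective_tlift k₂ h₂.map_smul).mp h₂
  have b₄ := (isBC_iff_bijective_tlift k₄ h₄.map_smul).mp h₄
  have b₅ := (isBC_iff_bijective_tlift k₅ h₅.map_smul).mp h₅
  refine AddMonoidHom.bijective_of_surjective_of_bijective_of_bijective_of_injective
    (f₁.lTensor R').toAddMonoidHom (f₂.lTensor R').toAddMonoidHom (f₃.lTensor R').toAddMonoidHom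
    (f₄.lTensor R').toAddMonoidHom
    g₁.toAddMonoidHom g₂.toAddMonoidHom g₃.toAddMonoidHom g₄.toAddMonoidHom
    (tlift k₁ h₁.map_smul).toAddMonoidHom (tlift k₂ h₂.map_smul).toAddMonoidHom
    (tlift k₃ hk₃).toAddMonoidHom (tlift k₄ h₄.map_smul).toAddMonoidHom
    (tlift k₅ h₅.map_smul).toAddMonoidHom ?_ ?_ ?_ ?_
    (Module.Flat.lTensor_exact R' hf₁) (Module.Flat.lTensor_exact R' hf₂)
    (Module.Flat.lTensor_exact R' hf₃) hg₁ hg₂ hg₃ b₁.2 b₂ b₄ b₅.1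
  · ext x
    exact tlift_comm k₁ h₁.map_smul k₂ h₂.map_smul f₁ g₁ hc₁ x
  · ext x
    exact tlift_comm k₂ h₂.map_smul k₃ hk₃ f₂ g₂ hc₂ x
  · ext x
    exact tlift_comm k₃ hk₃ k₄ h₄.map_smul f₃ g₃ hc₃ x
  · ext x
    exact tlift_comm k₄ h₄.map_smul k₅ h₅.map_smul f₄ g₄ hc₄ x

/-- base change for the first term of a left exact sequence -/
theorem isBC_left
    (hc₁ : ∀ n, g₁ (k₁ n) = k₂ (f₁ n)) (hc₂ : ∀ n, g₂ (k₂ n) = k₃ (f₂ n))
    (hf₀ : Function.Injective f₁) (hg₀ : Function.Injective g₁)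
    (hf₁ : Function.Exact f₁ f₂) (hg₁ : Function.Exact g₁ g₂)
    (hk₁ : ∀ (r : R) (n : N₁), k₁ (r • n) = algebraMap R R' r • k₁ n)
    (h₂ : IsBC (algebraMap R R') k₂) (h₃ : IsBC (algebraMap R R') k₃) :
    IsBC (algebraMap R R') k₁ := by
  rw [isBC_iff_bijective_tlift k₁ hk₁]
  have b₂ := (isBC_iff_bijective_tlift k₂ h₂.map_smul).mp h₂
  have b₃ := (isBC_iff_bijective_tlift k₃ h₃.map_smul).mp h₃
  refine AddMonoidHom.bijective_of_bijective_of_injective_of_left_exact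
    (f₁.lTensor R').toAddMonoidHom (f₂.lTensor R').toAddMonoidHom
    g₁.toAddMonoidHom g₂.toAddMonoidHom
    (tlift k₁ hk₁).toAddMonoidHom (tlift k₂ h₂.map_smul).toAddMonoidHom
    (tlift k₃ h₃.map_smul).toAddMonoidHom ?_ ?_
    (Module.Flat.lTensor_exact R' hf₁) hg₁ b₂ b₃.1
    (Module.Flat.lTensor_preserves_injective_linearMap f₁ hf₀) hg₀
  · ext x
    exact tlift_comm k₁ hk₁ k₂ h₂.map_smul f₁ g₁ hc₁ x
  · ext x
    exact tlift_comm k₂ h₂.map_smul k₃ h₃.map_smul f₂ g₂ hc₂ x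

end Five

end Groth.Agent.Lib.helper8.FlatCohBC
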