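import Mathlib
import Groth.Agent.Lib.Helper8.FlatCohBC1

/-!
# Flat base change on `Ext`-groups in the second variable (helper8)

`C` an abelian category, `A → B` a flat map of commutative rings, `F`, `G` objects of `C` with actions
`αF : A →+* End F`, `βG : B →+* End G` and an equivariant morphism `η : F ⟶ G`.  For `Z : C` the groups
`Ext Z F q`, `Ext Z G q` become modules over `A`, `B` (type synonym `ExtM`), and `BCAt αF βG η Z` says
that for all `q` the map `η_* : Ext Z F q → Ext Z G q` is a base change along `A → B`.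

* `bcAt_X₃`: for a short exact sequence `0 → X₁ → X₂ → X₃ → 0`, `BCAt X₁` and `BCAt X₂` imply
  `BCAt X₃`;
* `bcAt_X₂`: `BCAt X₁` and `BCAt X₃` imply `BCAt X₂`;
* `bcAt_biprod`, `bcAt_of_iso`.
-/

set_option autoImplicit false
universe u v w
open CategoryTheory CategoryTheory.Abelian CategoryTheory.Limits

namespace Groth.Agent.Lib.helper8.FlatCohBC

open Groth.Agent.Lib.helper8.PullbackUnit

variable {C : Type v} [Category.{w} C] [Abelian C] [HasExt.{u} C]
variable {A : Type u} [CommRing A]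

section Module

variable {F : C} (α : A →+* End F)

/-- `Ext Z F q` with the `A`-module structure induced by `α : A →+* End F`. -/
def ExtM (_ : A →+* End F) (Z : C) (q : ℕ) : Type u := Ext.{u} Z F q

noncomputable instance (Z : C) (q : ℕ) : AddCommGroup (ExtM α Z q) :=
  inferInstanceAs (AddCommGroup (Ext.{u} Z F q))

/-- the element of `ExtM` attached to an element of `Ext` -/
def ExtM.of {Z : C} {q : ℕ} (x : Ext.{u} Z F q) : ExtM α Z q := x

/-- the underlying element of `Ext` -/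
def ExtM.val {Z : C} {q : ℕ} (x : ExtM α Z q) : Ext.{u} Z F q := x

noncomputable instance (Z : C) (q : ℕ) : Module A (ExtM α Z q) where
  smul a x := (Ext.mk₀ (α a)).postcomp Z (add_zero q) x
  one_smul x := by
    show (x : Ext.{u} Z F q).comp (Ext.mk₀ (α 1)) (add_zero q) = x
    rw [map_one]
    exact Ext.comp_mk₀_id _
  mul_smul a b x := by
    show (x : Ext.{u} Z F q).comp (Ext.mk₀ (α (a * b))) (add_zero q) =
      (Ext.comp (Ext.comp (x : Ext.{u} Z F q) (Ext.mk₀ (α b)) (add_zero q)) (Ext.mk₀ (α a))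
        (add_zero q))
    rw [map_mul, End.mul_def, Ext.comp_assoc_of_third_deg_zero, Ext.mk₀_comp_mk₀]
  smul_zero a := map_zero _
  smul_add a x y := map_add _ x y
  add_smul a b x := by
    show (x : Ext.{u} Z F q).comp (Ext.mk₀ (α (a + b))) (add_zero q) =
      (x : Ext.{u} Z F q).comp (Ext.mk₀ (α a)) (add_zero q) +
        (x : Ext.{u} Z F q).comp (Ext.mk₀ (α b)) (add_zero q)
    rw [map_add, Ext.mk₀_add, Ext.comp_add]
  zero_smul x := by
    show (x : Ext.{u} Z F q).comp (Ext.mk₀ (α 0)) (add_zero q) = 0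
    rw [map_zero, Ext.mk₀_zero, Ext.comp_zero]

lemma ExtM.smul_def {Z : C} {q : ℕ} (a : A) (x : ExtM α Z q) :
    a • x = (x : Ext.{u} Z F q).comp (Ext.mk₀ (α a)) (add_zero q) := rfl

/-- precomposition with an `Ext`-class, as a linear map -/
noncomputable def precompLin {Z Z' : C} {p : ℕ} (y : Ext.{u} Z' Z p) {q n : ℕ} (h : p + q = n) :
    ExtM α Z q →ₗ[A] ExtM α Z' n where
  toFun x := y.comp (x : Ext.{u} Z F q) h
  map_add' x x' := Ext.comp_add y _ _ h
  map_smul' a x := by
    show y.comp ((x : Ext.{u} Z F q).comp (Ext.mk₀ (α a)) (add_zero q)) h =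
      (y.comp (x : Ext.{u} Z F q) h).comp (Ext.mk₀ (α a)) (add_zero n)
    rw [Ext.comp_assoc_of_third_deg_zero]

lemma precompLin_apply {Z Z' : C} {p : ℕ} (y : Ext.{u} Z' Z p) {q n : ℕ} (h : p + q = n)
    (x : ExtM α Z q) : precompLin α y h x = y.comp (x : Ext.{u} Z F q) h := rfl

end Module

section BC

variable {B : Type u} [CommRing B] [Algebra A B]
variable {F G : C} (αF : A →+* End F) (βG : B →+* End G) (η : F ⟶ G)

/-- postcomposition with `η`, on `ExtM` -/
noncomputable def postη (Z : C) (q : ℕ) : ExtM αF Z q →+ ExtM βG Z q :=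
  (Ext.mk₀ η).postcomp Z (add_zero q)

lemma postη_apply (Z : C) (q : ℕ) (x : ExtM αF Z q) :
    postη αF βG η Z q x = (x : Ext.{u} Z F q).comp (Ext.mk₀ η) (add_zero q) := rfl

/-- `η_* : Ext Z F q → Ext Z G q` is a base change along `A → B` for all `q`. -/
def BCAt (Z : C) : Prop := ∀ q : ℕ, IsBC (algebraMap A B) (postη αF βG η Z q)

variable (hη : ∀ a : A, αF a ≫ η = η ≫ βG (algebraMap A B a))

include hη in
lemma postη_smul (Z : C) (q : ℕ) (a : A) (x : ExtM αF Z q) :
    postη αF βG η Z q (a • x) = algebraMap A B a • postη αF βG η Z q x := by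
  show ((x : Ext.{u} Z F q).comp (Ext.mk₀ (αF a)) (add_zero q)).comp (Ext.mk₀ η) (add_zero q) =
    ((x : Ext.{u} Z F q).comp (Ext.mk₀ η) (add_zero q)).comp (Ext.mk₀ (βG (algebraMap A B a)))
      (add_zero q)
  rw [Ext.comp_assoc_of_third_deg_zero, Ext.comp_assoc_of_third_deg_zero, Ext.mk₀_comp_mk₀,
    Ext.mk₀_comp_mk₀, hη]

lemma postη_precomp {Z Z' : C} {p : ℕ} (y : Ext.{u} Z' Z p) {q n : ℕ} (h : p + q = n)
    (x : ExtM αF Z q) :
    precompLin βG y h (postη αF βG η Z q x) = postη αF βG η Z' n (precompLin αF y h x) := by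
  show y.comp ((x : Ext.{u} Z F q).comp (Ext.mk₀ η) (add_zero q)) h =
    (y.comp (x : Ext.{u} Z F q) h).comp (Ext.mk₀ η) (add_zero n)
  rw [Ext.comp_assoc_of_third_deg_zero]

end BC

section Iso

variable {F : C} (α : A →+* End F)

/-- precomposition with an isomorphism, as a linear equivalence -/
noncomputable def precompEquiv {Z Z' : C} (e : Z ≅ Z') (q : ℕ) : ExtM α Z' q ≃ₗ[A] ExtM α Z q :=
  LinearEquiv.ofLinearMap (precompLin α (Ext.mk₀ e.hom) (zero_add q))
    (precompLin α (Ext.mk₀ e.inv) (zero_add q))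
    (by
      ext x
      show (Ext.mk₀ e.hom).comp ((Ext.mk₀ e.inv).comp (x : Ext.{u} Z F q) (zero_add q))
        (zero_add q) = x
      rw [← Ext.comp_assoc (Ext.mk₀ e.hom) (Ext.mk₀ e.inv) (x : Ext.{u} Z F q) (add_zero 0)
        (zero_add q) (by omega), Ext.mk₀_comp_mk₀, e.hom_inv_id, Ext.mk₀_id_comp])
    (by
      ext x
      show (Ext.mk₀ e.inv).comp ((Ext.mk₀ e.hom).comp (x : Ext.{u} Z' F q) (zero_add q))
        (zero_add q) = x
      rw [← Ext.comp_assoc (Ext.mk₀ e.inv) (Ext.mk₀ e.hom) (x : Ext.{u} Z' F q) (add_zero 0)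
        (zero_add q) (by omega), Ext.mk₀_comp_mk₀, e.inv_hom_id, Ext.mk₀_id_comp])

lemma precompEquiv_apply {Z Z' : C} (e : Z ≅ Z') (q : ℕ) (x : ExtM α Z' q) :
    precompEquiv α e q x = (Ext.mk₀ e.hom).comp (x : Ext.{u} Z' F q) (zero_add q) := rfl

end Iso

section BCIso

variable {B : Type u} [CommRing B] [Algebra A B]
variable {F G : C} (αF : A →+* End F) (βG : B →+* End G) (η : F ⟶ G)

theorem bcAt_of_iso {Z Z' : C} (e : Z ≅ Z') (h : BCAt αF βG η Z) : BCAt αF βG η Z' := by
  intro q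
  exact (h q).of_equiv (precompEquiv αF e q) (precompEquiv βG e q) _
    (fun n => postη_precomp αF βG η (Ext.mk₀ e.hom) (zero_add q) n)

end BCIso

section Exact

variable {F : C} (α : A →+* End F) {S : ShortComplex C} (hS : S.ShortExact)

include hS in
lemma exact_gf (n : ℕ) :
    Function.Exact (precompLin α (Ext.mk₀ S.g) (zero_add n))
      (precompLin α (Ext.mk₀ S.f) (zero_add n)) := by
  have h := Ext.contravariant_sequence_exact₂' hS F n
  rw [ShortComplex.ab_exact_iff_function_exact] at h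
  exact h

lemma exact_fδ (n₀ n₁ : ℕ) (h : 1 + n₀ = n₁) :
    Function.Exact (precompLin α (Ext.mk₀ S.f) (zero_add n₀))
      (precompLin α hS.extClass h) := by
  have h' := Ext.contravariant_sequence_exact₁' hS F n₀ n₁ h
  rw [ShortComplex.ab_exact_iff_function_exact] at h'
  exact h'

lemma exact_δg (n₀ n₁ : ℕ) (h : 1 + n₀ = n₁) :
    Function.Exact (precompLin α hS.extClass h)
      (precompLin α (Ext.mk₀ S.g) (zero_add n₁)) := by
  have h' := Ext.contravariant_sequence_exact₃' hS F n₀ n₁ h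
  rw [ShortComplex.ab_exact_iff_function_exact] at h'
  exact h'

include hS in
lemma injective_precomp_g :
    Function.Injective (precompLin α (Ext.mk₀ S.g) (zero_add 0)) := by
  haveI := hS.epi_g
  exact Ext.precomp_mk₀_injective_of_epi F S.g

end Exact

section TwoOfThree

variable {B : Type u} [CommRing B] [Algebra A B] [Module.Flat A B]
variable {F G : C} (αF : A →+* End F) (βG : B →+* End G) (η : F ⟶ G)
  (hη : ∀ a : A, αF a ≫ η = η ≫ βG (algebraMap A B a))
  {S : ShortComplex C} (hS : S.ShortExact)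

include hη hS in
theorem bcAt_X₃ (h₁ : BCAt αF βG η S.X₁) (h₂ : BCAt αF βG η S.X₂) : BCAt αF βG η S.X₃ := by
  intro q
  cases q with
  | zero =>
    exact isBC_left (precompLin αF (Ext.mk₀ S.g) (zero_add 0))
      (precompLin αF (Ext.mk₀ S.f) (zero_add 0))
      (precompLin βG (Ext.mk₀ S.g) (zero_add 0)) (precompLin βG (Ext.mk₀ S.f) (zero_add 0))
      (postη αF βG η S.X₃ 0) (postη αF βG η S.X₂ 0) (postη αF βG η S.X₁ 0)
      (fun n => postη_precomp αF βG η _ _ n) (fun n => postη_precomp αF βG η _ _ n)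
      (injective_precomp_g αF hS) (injective_precomp_g βG hS)
      (exact_gf αF hS 0) (exact_gf βG hS 0)
      (fun a n => postη_smul αF βG η hη _ _ a n) (h₂ 0) (h₁ 0)
  | succ q =>
    exact isBC_five (precompLin αF (Ext.mk₀ S.f) (zero_add q))
      (precompLin αF hS.extClass (add_comm 1 q))
      (precompLin αF (Ext.mk₀ S.g) (zero_add (q + 1)))
      (precompLin αF (Ext.mk₀ S.f) (zero_add (q + 1)))
      (precompLin βG (Ext.mk₀ S.f) (zero_add q))
      (precompLin βG hS.extClass (add_comm 1 q))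
      (precompLin βG (Ext.mk₀ S.g) (zero_add (q + 1)))
      (precompLin βG (Ext.mk₀ S.f) (zero_add (q + 1)))
      (postη αF βG η S.X₂ q) (postη αF βG η S.X₁ q) (postη αF βG η S.X₃ (q + 1))
      (postη αF βG η S.X₂ (q + 1)) (postη αF βG η S.X₁ (q + 1))
      (fun n => postη_precomp αF βG η _ _ n) (fun n => postη_precomp αF βG η _ _ n)
      (fun n => postη_precomp αF βG η _ _ n) (fun n => postη_precomp αF βG η _ _ n)
      (exact_fδ αF hS q (q + 1) (add_comm 1 q)) (exact_δg αF hS q (q + 1) (add_comm 1 q))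
      (exact_gf αF hS (q + 1))
      (exact_fδ βG hS q (q + 1) (add_comm 1 q)) (exact_δg βG hS q (q + 1) (add_comm 1 q))
      (exact_gf βG hS (q + 1))
      (fun a n => postη_smul αF βG η hη _ _ a n) (h₂ q) (h₁ q) (h₂ (q + 1)) (h₁ (q + 1))

omit [Module.Flat A B] in
lemma exact_zero_of_injective {R : Type u} [CommRing R] {N₂ N₃ : Type u} [AddCommGroup N₂]
    [Module R N₂] [AddCommGroup N₃] [Module R N₃] (f : N₂ →ₗ[R] N₃) (hf : Function.Injective f) :
    Function.Exact (0 : PUnit.{u + 1} →ₗ[R] N₂) f := by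
  intro y
  constructor
  · intro hy
    exact ⟨PUnit.unit, (hf (hy.trans (map_zero f).symm)).symm⟩
  · rintro ⟨_, rfl⟩
    exact map_zero f

include hη hS in
theorem bcAt_X₂ (h₁ : BCAt αF βG η S.X₁) (h₃ : BCAt αF βG η S.X₃) : BCAt αF βG η S.X₂ := by
  intro q
  cases q with
  | zero =>
    exact isBC_five (0 : PUnit.{u + 1} →ₗ[A] ExtM αF S.X₃ 0)
      (precompLin αF (Ext.mk₀ S.g) (zero_add 0))
      (precompLin αF (Ext.mk₀ S.f) (zero_add 0))
      (precompLin αF hS.extClass (add_zero 1))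
      (0 : PUnit.{u + 1} →ₗ[B] ExtM βG S.X₃ 0)
      (precompLin βG (Ext.mk₀ S.g) (zero_add 0))
      (precompLin βG (Ext.mk₀ S.f) (zero_add 0))
      (precompLin βG hS.extClass (add_zero 1))
      (0 : PUnit.{u + 1} →+ PUnit.{u + 1}) (postη αF βG η S.X₃ 0) (postη αF βG η S.X₂ 0)
      (postη αF βG η S.X₁ 0) (postη αF βG η S.X₃ 1)
      (fun n => (map_zero _).symm) (fun n => postη_precomp αF βG η _ _ n)
      (fun n => postη_precomp αF βG η _ _ n) (fun n => postη_precomp αF βG η _ _ n)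
      (exact_zero_of_injective _ (injective_precomp_g αF hS)) (exact_gf αF hS 0)
      (exact_fδ αF hS 0 1 (add_zero 1))
      (exact_zero_of_injective _ (injective_precomp_g βG hS)) (exact_gf βG hS 0)
      (exact_fδ βG hS 0 1 (add_zero 1))
      (fun a n => postη_smul αF βG η hη _ _ a n) (isBC_of_subsingleton _) (h₃ 0) (h₁ 0) (h₃ 1)
  | succ q =>
    exact isBC_five (precompLin αF hS.extClass (add_comm 1 q))
      (precompLin αF (Ext.mk₀ S.g) (zero_add (q + 1)))
      (precompLin αF (Ext.mk₀ S.f) (zero_add (q + 1)))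
      (precompLin αF hS.extClass (add_comm 1 (q + 1)))
      (precompLin βG hS.extClass (add_comm 1 q))
      (precompLin βG (Ext.mk₀ S.g) (zero_add (q + 1)))
      (precompLin βG (Ext.mk₀ S.f) (zero_add (q + 1)))
      (precompLin βG hS.extClass (add_comm 1 (q + 1)))
      (postη αF βG η S.X₁ q) (postη αF βG η S.X₃ (q + 1)) (postη αF βG η S.X₂ (q + 1))
      (postη αF βG η S.X₁ (q + 1)) (postη αF βG η S.X₃ (q + 1 + 1))
      (fun n => postη_precomp αF βG η _ _ n) (fun n => postη_precomp αF βG η _ _ n)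
      (fun n => postη_precomp αF βG η _ _ n) (fun n => postη_precomp αF βG η _ _ n)
      (exact_δg αF hS q (q + 1) (add_comm 1 q)) (exact_gf αF hS (q + 1))
      (exact_fδ αF hS (q + 1) (q + 1 + 1) (add_comm 1 (q + 1)))
      (exact_δg βG hS q (q + 1) (add_comm 1 q)) (exact_gf βG hS (q + 1))
      (exact_fδ βG hS (q + 1) (q + 1 + 1) (add_comm 1 (q + 1)))
      (fun a n => postη_smul αF βG η hη _ _ a n) (h₁ q) (h₃ (q + 1)) (h₁ (q + 1))
      (h₃ (q + 1 + 1))

include hη in
theorem bcAt_biprod (Z₁ Z₂ : C) (h₁ : BCAt αF βG η Z₁) (h₂ : BCAt αF βG η Z₂) :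
    BCAt αF βG η (Z₁ ⊞ Z₂) :=
  bcAt_X₂ αF βG η hη
    (S := ShortComplex.mk (biprod.inl : Z₁ ⟶ Z₁ ⊞ Z₂) (biprod.snd : Z₁ ⊞ Z₂ ⟶ Z₂) (by simp))
    (ShortComplex.Splitting.ofHasBinaryBiproduct Z₁ Z₂).shortExact h₁ h₂

end TwoOfThree

end Groth.Agent.Lib.helper8.FlatCohBC
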