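import Mathlib
import Groth.Prelude.Def_CohTop
import Groth.Agent.Lib.Helper8.FlatCohBC2
import Groth.Agent.Lib.Helper21.LocMV
import Groth.Agent.Lib.Helper27.CohPsh

/-!
# Flat base change on sheaf cohomology of a topological space: Mayer–Vietoris step (helper8)

`X` a topological space, `F`, `G` abelian sheaves with actions `αF : A →+* End F`,
`βG : B →+* End G`, `η : F ⟶ G` equivariant, `A → B` flat.  `BCOn αF βG η W` says that for all `q`
the map `H^q(W, F) → H^q(W, G)` is a base change along `A → B`.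

* `bcOn_sup`: Mayer–Vietoris step;
* `isBC_zero_of_sections`: in degree `0`, it suffices that `F(W) → G(W)` is a base change;
* `bcOn_of_sections`: `BCOn W` when higher cohomology of `F`, `G` on `W` vanishes and
  `F(W) → G(W)` is a base change.
* `bcAt_const`: from `BCOn ⊤` to the `Ext`-groups out of the constant sheaf (`Sheaf.H`).
-/

set_option autoImplicit false
universe u
open CategoryTheory CategoryTheory.Abelian CategoryTheory.Limits Opposite TopologicalSpace

namespace Groth.Agent.Lib.helper8.FlatCohBC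

open Groth.Agent.Lib.helper8.PullbackUnit Groth.Agent.Lib.helper21.LocMV
open Groth.Agent.Lib.helper7 Groth.Agent.Lib.helper27

variable {X : TopCat.{u}} {A B : Type u} [CommRing A] [CommRing B] [Algebra A B]
variable {F G : CohTop.Ab X} (αF : A →+* End F) (βG : B →+* End G) (η : F ⟶ G)

/-- `H^q(W, F) → H^q(W, G)` is a base change along `A → B`, for all `q`. -/
def BCOn (W : Opens X) : Prop := BCAt.{u} αF βG η ((Zf X).obj W)

theorem bcOn_sup [Module.Flat A B]
    (hη : ∀ a : A, αF a ≫ η = η ≫ βG (algebraMap A B a)) (U V : Opens X)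
    (hU : BCOn αF βG η U) (hV : BCOn αF βG η V) (hUV : BCOn αF βG η (U ⊓ V)) :
    BCOn αF βG η (U ⊔ V) :=
  bcAt_X₃.{u} αF βG η hη (Opens.mayerVietorisSquare U V).shortComplex_shortExact hUV
    (bcAt_biprod.{u} αF βG η hη _ _ hU hV)

section Zero

variable {F' : CohTop.Ab X} (α : A →+* End F')

/-- `Ext^0(ℤ_W, F) ≃ F(W)`, linearly -/
noncomputable def e₀Lin (W : Opens X) [Module A (F'.obj.obj (op W))]
    (hA : ∀ (a : A) (m : F'.obj.obj (op W)), a • m = (α a).hom.app (op W) m) :
    ExtM.{u} α ((Zf X).obj W) 0 ≃ₗ[A] F'.obj.obj (op W) :=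
  { CohPsh.e₀ (Opens.grothendieckTopology X) F' W with
    map_smul' := fun a x => by
      obtain ⟨b, rfl⟩ := (Ext.mk₀_bijective _ _).2 (x : Ext.{u} ((Zf X).obj W) F' 0)
      show CohPsh.e₀ (Opens.grothendieckTopology X) F' W
          ((Ext.mk₀ b).comp (Ext.mk₀ (α a)) (add_zero 0)) =
        a • CohPsh.e₀ (Opens.grothendieckTopology X) F' W (Ext.mk₀ b)
      rw [Ext.mk₀_comp_mk₀, CohPsh.e₀_mk₀, CohPsh.e₀_mk₀, hA]
      exact FreeYoneda.homEquiv_naturality_right _ W (α a) b }

lemma e₀Lin_apply (W : Opens X) [Module A (F'.obj.obj (op W))]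
    (hA : ∀ (a : A) (m : F'.obj.obj (op W)), a • m = (α a).hom.app (op W) m)
    (x : ExtM.{u} α ((Zf X).obj W) 0) :
    e₀Lin α W hA x = CohPsh.e₀ (Opens.grothendieckTopology X) F' W x := rfl

end Zero

theorem isBC_zero_of_sections (W : Opens X) [Module A (F.obj.obj (op W))]
    [Module B (G.obj.obj (op W))]
    (hA : ∀ (a : A) (m : F.obj.obj (op W)), a • m = (αF a).hom.app (op W) m)
    (hB : ∀ (b : B) (m : G.obj.obj (op W)), b • m = (βG b).hom.app (op W) m)
    (h : IsBC (algebraMap A B) (η.hom.app (op W)).hom) :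
    IsBC (algebraMap A B) (postη.{u} αF βG η ((Zf X).obj W) 0) := by
  refine h.of_equiv (e₀Lin αF W hA) (e₀Lin βG W hB) _ (fun x => ?_)
  obtain ⟨b, rfl⟩ := (Ext.mk₀_bijective _ _).2 (x : Ext.{u} ((Zf X).obj W) F 0)
  show CohPsh.e₀ (Opens.grothendieckTopology X) G W
      ((Ext.mk₀ b).comp (Ext.mk₀ η) (add_zero 0)) =
    η.hom.app (op W) (CohPsh.e₀ (Opens.grothendieckTopology X) F W (Ext.mk₀ b))
  rw [Ext.mk₀_comp_mk₀, CohPsh.e₀_mk₀, CohPsh.e₀_mk₀]
  exact FreeYoneda.homEquiv_naturality_right _ W η b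

theorem bcOn_of_sections (W : Opens X) [Module A (F.obj.obj (op W))]
    [Module B (G.obj.obj (op W))]
    (hA : ∀ (a : A) (m : F.obj.obj (op W)), a • m = (αF a).hom.app (op W) m)
    (hB : ∀ (b : B) (m : G.obj.obj (op W)), b • m = (βG b).hom.app (op W) m)
    (h : IsBC (algebraMap A B) (η.hom.app (op W)).hom)
    (hF : ∀ q : ℕ, Subsingleton (CohTop.HU F (q + 1) W))
    (hG : ∀ q : ℕ, Subsingleton (CohTop.HU G (q + 1) W)) :
    BCOn αF βG η W := by
  intro q
  cases q with
  | zero => exact isBC_zero_of_sections αF βG η W hA hB h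
  | succ q =>
    haveI : Subsingleton (ExtM.{u} αF ((Zf X).obj W) (q + 1)) := hF q
    haveI : Subsingleton (ExtM.{u} βG ((Zf X).obj W) (q + 1)) := hG q
    exact isBC_of_subsingleton _

/-- from `⊤` to the constant sheaf -/
theorem bcAt_const (h : BCOn αF βG η ⊤) :
    BCAt.{u} αF βG η ((constantSheaf (Opens.grothendieckTopology X) AddCommGrpCat.{u}).obj
      (AddCommGrpCat.of (ULift.{u} ℤ))) :=
  bcAt_of_iso.{u} αF βG η
    (E1Deg.freeSheafIsoConstant (Opens.grothendieckTopology X) isTerminalTop) h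

end Groth.Agent.Lib.helper8.FlatCohBC
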