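import Mathlib
import Groth.Prelude.Def_Coh
import Groth.Agent.Lib.Helper8.FlatCohBC3
import Groth.Agent.Lib.Helper8.PullbackUnit2
import Groth.Agent.Lib.Helper8.FlatBC
import Groth.Agent.Lib.Helper21.QcInduction
import Groth.Agent.Lib.Helper18.HHPush
import Groth.Agent.Lib.Helper27.SerreVan3
import Groth.Agent.Lib.Helper16.QCohAffinePush
import Groth.Agent.Lib.Helper16.QCohPullback

/-!
# Flat base change of cohomology over an affine base (helper8)

`A → B` flat, `X` qcqs over `Spec A`, `g' : X' ⟶ X` exhibiting `X' = X ×_A Spec B`, `M` quasi-coherent on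
`X`.  Then `B ⊗[A] H^i(X, M) ≃ₗ[B] H^i(X', g'^* M)` (`nonempty_tensor_equiv`).

* `isPushout_sections`: for `W ⊆ X` affine, `Γ(X', g'⁻¹ W) = Γ(X, W) ⊗_A B`;
* `αM`, `βM`, `ηM`, `hηM`: the actions of `A` on `M`, of `B` on `g'_* g'^* M` and the unit;
* `bcOn_of_isAffineOpen`, `bcOn_top`: `H^q(W, M) → H^q(W, g'_* g'^* M)` is a base change along `A → B`,
  for `W` affine, resp. `W = ⊤` (Mayer–Vietoris induction);
* `nonempty_tensor_equiv`.
-/

set_option autoImplicit false
universe u
open CategoryTheory CategoryTheory.Abelian CategoryTheory.Limits Opposite TopologicalSpace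
open AlgebraicGeometry

namespace Groth.Agent.Lib.helper8.FlatCohBC

open Groth.Agent.Lib.helper8.PullbackUnit Groth.Agent.Lib.helper21.LocMV
open Groth.Agent.Lib.helper7 Groth.Agent.Lib.helper27 Groth.Agent.Lib.Helper18

section Pushout

variable {A B : Type u} [CommRing A] [CommRing B] [Algebra A B]
variable {X X' : Scheme.{u}} (fX : X ⟶ Spec (CommRingCat.of A)) (fX' : X' ⟶ Spec (CommRingCat.of B))
  (g' : X' ⟶ X)
  (h : IsPullback g' fX' fX (Spec.map (CommRingCat.ofHom (algebraMap A B))))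

/-- `A → Γ(X, W)` -/
noncomputable def secAlg (W : X.Opens) : A →+* Γ(X, W) :=
  (Coh.resTop X (op W)).comp (Coh.toGlobal fX)

include h in
theorem isPushout_sections (W : X.Opens) (hW : IsAffineOpen W) :
    IsPushout (CommRingCat.ofHom (algebraMap A B)) (CommRingCat.ofHom (secAlg fX W))
      (CommRingCat.ofHom (secAlg fX' (g' ⁻¹ᵁ W)))
      (CommRingCat.ofHom (g'.appLE W (g' ⁻¹ᵁ W) le_rfl).hom) := by
  have hUY : g' ⁻¹ᵁ W = g' ⁻¹ᵁ W ⊓ fX' ⁻¹ᵁ ⊤ := by simp
  have h1 := (isIso_pushoutSection_iff h (US := ⊤) (UT := ⊤) (UX := W) le_top le_top hUY).mp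
    (isIso_pushoutSection_of_isAffineOpen h le_top le_top hUY (isAffineOpen_top _)
      (isAffineOpen_top _) hW)
  refine IsPushout.of_iso h1.flip (Scheme.ΓSpecIso (CommRingCat.of A))
    (Scheme.ΓSpecIso (CommRingCat.of B)) (Iso.refl _) (Iso.refl _) ?_ ?_ ?_ ?_
  · have e1 : Scheme.Hom.appLE (Spec.map (CommRingCat.ofHom (algebraMap A B))) ⊤ ⊤ le_top =
        (Spec.map (CommRingCat.ofHom (algebraMap A B))).appTop :=
      Scheme.Hom.appLE_eq_app _
    rw [e1]
    exact Scheme.ΓSpecIso_naturality (CommRingCat.ofHom (algebraMap A B))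
  · rw [Iso.refl_hom, Category.comp_id]
    have : CommRingCat.ofHom (secAlg fX W) = (Scheme.ΓSpecIso (CommRingCat.of A)).inv ≫
        fX.appTop ≫ X.presheaf.map (homOfLE (le_top : W ≤ ⊤)).op := rfl
    rw [this, Iso.hom_inv_id_assoc]
    rfl
  · rw [Iso.refl_hom, Category.comp_id]
    have : CommRingCat.ofHom (secAlg fX' (g' ⁻¹ᵁ W)) = (Scheme.ΓSpecIso (CommRingCat.of B)).inv ≫
        fX'.appTop ≫ X'.presheaf.map (homOfLE (le_top : g' ⁻¹ᵁ W ≤ ⊤)).op := rfl
    rw [this, Iso.hom_inv_id_assoc]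
    rfl
  · rw [Iso.refl_hom, Iso.refl_hom, Category.comp_id, Category.id_comp]
    rfl

end Pushout

section Actions

variable {X X' : Scheme.{u}}

/-- `Γ(X, O_X)` acts on the underlying abelian sheaf of an `O_X`-module -/
noncomputable def smulEnd (M : X.Modules) : Coh.Γtop X →+* End (Coh.toAb M) where
  toFun r := Coh.smulAb M r
  map_one' := Coh.smulAb_one M
  map_mul' r s := by rw [End.mul_def]; exact Coh.smulAb_mul M r s
  map_zero' := Coh.smulAb_zero M
  map_add' := Coh.smulAb_add M

/-- `Γ(X', O_X')` acts on the underlying abelian sheaf of `g'_* N` -/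
noncomputable def pushEnd (g' : X' ⟶ X) (N : X'.Modules) :
    Coh.Γtop X' →+* End (Coh.toAb ((Coh.push g').obj N)) where
  toFun r := (Coh.pushAb g').map (Coh.smulAb N r)
  map_one' := by rw [Coh.smulAb_one]; exact (Coh.pushAb g').map_id _
  map_mul' r s := by
    show (Coh.pushAb g').map (Coh.smulAb N (r * s)) =
      (Coh.pushAb g').map (Coh.smulAb N s) ≫ (Coh.pushAb g').map (Coh.smulAb N r)
    rw [Coh.smulAb_mul, Functor.map_comp]
  map_zero' := by
    show (Coh.pushAb g').map (Coh.smulAb N 0) = 0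
    rw [Coh.smulAb_zero, Functor.map_zero]
  map_add' r s := by
    show (Coh.pushAb g').map (Coh.smulAb N (r + s)) =
      (Coh.pushAb g').map (Coh.smulAb N r) + (Coh.pushAb g').map (Coh.smulAb N s)
    rw [Coh.smulAb_add, Functor.map_add]

end Actions

section Main

variable {A B : Type u} [CommRing A] [CommRing B] [Algebra A B]
variable {X X' : Scheme.{u}} (fX : X ⟶ Spec (CommRingCat.of A)) (fX' : X' ⟶ Spec (CommRingCat.of B))
  (g' : X' ⟶ X)
  (h : IsPullback g' fX' fX (Spec.map (CommRingCat.ofHom (algebraMap A B))))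
  (M : X.Modules)

/-- the action of `A` on `M` -/
noncomputable def αM : A →+* End (Coh.toAb M) := (smulEnd M).comp (Coh.toGlobal fX)

/-- the action of `B` on `g'_* g'^* M` -/
noncomputable def βM :
    B →+* End (Coh.toAb ((Coh.push g').obj ((Scheme.Modules.pullback g').obj M))) :=
  (pushEnd g' _).comp (Coh.toGlobal fX')

/-- the unit `M ⟶ g'_* g'^* M` on underlying abelian sheaves -/
noncomputable def ηM : Coh.toAb M ⟶ Coh.toAb ((Coh.push g').obj ((Scheme.Modules.pullback g').obj M)) :=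
  HH.abMap ((Scheme.Modules.pullbackPushforwardAdjunction g').unit.app M)

include h in
theorem toGlobal_algebraMap (a : A) :
    Coh.toGlobal fX' (algebraMap A B a) = HH.appTopΓ g' (Coh.toGlobal fX a) := by
  have h1 : (Scheme.ΓSpecIso (CommRingCat.of A)).inv ≫ (g' ≫ fX).appTop =
      CommRingCat.ofHom (algebraMap A B) ≫ (Scheme.ΓSpecIso (CommRingCat.of B)).inv ≫
        fX'.appTop := by
    rw [h.w, Scheme.Hom.comp_appTop, ← Category.assoc, ← Scheme.ΓSpecIso_inv_naturality,
      Category.assoc]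
  have h2 := congr($(h1).hom a)
  exact h2.symm

include h in
theorem hηM (a : A) : αM fX M a ≫ ηM g' M = ηM g' M ≫ βM fX' g' M (algebraMap A B a) := by
  show Coh.smulAb M (Coh.toGlobal fX a) ≫
      HH.abMap ((Scheme.Modules.pullbackPushforwardAdjunction g').unit.app M) =
    HH.abMap ((Scheme.Modules.pullbackPushforwardAdjunction g').unit.app M) ≫
      (Coh.pushAb g').map (Coh.smulAb ((Scheme.Modules.pullback g').obj M)
        (Coh.toGlobal fX' (algebraMap A B a)))
  rw [HH.smulAb_naturality, toGlobal_algebraMap fX fX' g' h]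
  congr 1
  exact HH.smulAb_push g' _ _

variable [M.IsQuasicoherent]

include h in
theorem bcOn_of_isAffineOpen (W : X.Opens) (hW : IsAffineOpen W) :
    BCOn (X := X.toTopCat) (αM fX M) (βM fX' g' M) (ηM g' M) W := by
  haveI : IsAffineHom g' := MorphismProperty.of_isPullback h.flip inferInstance
  haveI : ((Scheme.Modules.pullback g').obj M).IsQuasicoherent :=
    Groth.Agent.Lib.helper16.QCohPullback.isQuasicoherent_pullback g' M
  haveI : ((Coh.push g').obj ((Scheme.Modules.pullback g').obj M)).IsQuasicoherent :=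
    Groth.Agent.Lib.helper16.QCohAffinePush.isQuasicoherent_push g' _
  have hW' : IsAffineOpen (g' ⁻¹ᵁ W) := hW.preimage g'
  letI mA : Module A ((Coh.toAb M).obj.obj (op W)) :=
    Module.compHom Γ(M, W) (secAlg fX W)
  letI mB : Module B ((Coh.toAb ((Coh.push g').obj ((Scheme.Modules.pullback g').obj M))).obj.obj
      (op W)) :=
    Module.compHom Γ((Scheme.Modules.pullback g').obj M, g' ⁻¹ᵁ W) (secAlg fX' (g' ⁻¹ᵁ W))
  refine bcOn_of_sections _ _ _ W (fun a m => ?_) (fun b m => ?_) ?_
    (fun q => SerreVan.subsingleton_HU_of_isAffineOpen M W hW q)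
    (fun q => SerreVan.subsingleton_HU_of_isAffineOpen _ W hW q)
  · exact (Coh.smulAb_app M _ (op W) m).symm
  · exact (Coh.smulAb_app ((Scheme.Modules.pullback g').obj M) _ (op (g' ⁻¹ᵁ W)) m).symm
  · have hK := isBC_ρ g' hW hW' le_rfl M
    have h2 := @IsBC.cancel' _ _ _ _ _ _ _ _ _ _ _ _
      (isPushout_sections fX fX' g' h W hW) Γ(M, W)
      Γ((Scheme.Modules.pullback g').obj M, g' ⁻¹ᵁ W) _ _ mA _ _ mB (fun r n => rfl)
      (fun r p => rfl) _ hK
    have h3 : ρ g' (le_refl (g' ⁻¹ᵁ W)) M = ((ηM g' M).hom.app (op W)).hom := by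
      ext a
      rw [ρ_apply]
      have e1 : (homOfLE (le_refl (g' ⁻¹ᵁ W))).op = 𝟙 (op (g' ⁻¹ᵁ W)) := rfl
      rw [e1, CategoryTheory.Functor.map_id]
      rfl
    rw [← h3]
    exact h2

include h in
theorem bcOn_top [Module.Flat A B] [CompactSpace X] [QuasiSeparatedSpace X] :
    BCOn (X := X.toTopCat) (αM fX M) (βM fX' g' M) (ηM g' M) ⊤ :=
  Groth.Agent.Lib.helper21.QcInduction.qc_induction (X := X)
    (fun W => BCOn (X := X.toTopCat) (αM fX M) (βM fX' g' M) (ηM g' M) W)
    (fun U hU => bcOn_of_isAffineOpen fX fX' g' h M U hU)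
    (fun U V hU hV hUV => bcOn_sup _ _ _ (hηM fX fX' g' h M) U V hU hV hUV) ⊤
    isCompact_univ (isQuasiSeparated_univ_iff.mpr inferInstance)

end Main

section Final

open TensorProduct

variable (A B : Type u) [CommRing A] [CommRing B] [Algebra A B] [Module.Flat A B]
variable (X X' : Scheme.{u}) [X.Over (Spec (CommRingCat.of A))]
  [X'.Over (Spec (CommRingCat.of B))] [CompactSpace X] [QuasiSeparatedSpace X] (g' : X' ⟶ X)
  (h : IsPullback g' (X' ↘ Spec (CommRingCat.of B)) (X ↘ Spec (CommRingCat.of A))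
      (Spec.map (CommRingCat.ofHom (algebraMap A B))))
  (M : X.Modules) [M.IsQuasicoherent]

include h in
/-- **Flat base change of cohomology** over an affine base, universal-property form: there is an
additive map `H^i(X, M) → H^i(X', g'^* M)` which is a base change along `A → B`. -/
theorem exists_isBC (i : ℕ) :
    ∃ k' : Coh.HH X M i →+ Coh.HH X' ((Scheme.Modules.pullback g').obj M) i,
      IsBC (algebraMap A B) k' := by
  haveI : IsAffineHom g' := MorphismProperty.of_isPullback h.flip inferInstance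
  haveI : ((Scheme.Modules.pullback g').obj M).IsQuasicoherent :=
    Groth.Agent.Lib.helper16.QCohPullback.isQuasicoherent_pullback g' M
  have hbc := bcAt_const _ _ _ (bcOn_top (X ↘ Spec (CommRingCat.of A))
    (X' ↘ Spec (CommRingCat.of B)) g' h M) i
  let eN : Coh.HH X M i ≃ₗ[A] ExtM.{u} (αM (X ↘ Spec (CommRingCat.of A)) M)
      ((constantSheaf (Opens.grothendieckTopology X.toTopCat) AddCommGrpCat.{u}).obj
        (AddCommGrpCat.of (ULift.{u} ℤ))) i :=
    { AddEquiv.refl _ with map_smul' := fun a x => rfl }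
  let eP : Coh.HH X' ((Scheme.Modules.pullback g').obj M) i ≃ₗ[B]
      ExtM.{u} (βM (X' ↘ Spec (CommRingCat.of B)) g' M)
      ((constantSheaf (Opens.grothendieckTopology X.toTopCat) AddCommGrpCat.{u}).obj
        (AddCommGrpCat.of (ULift.{u} ℤ))) i :=
    { (HH.pushEquivAdd g' ((Scheme.Modules.pullback g').obj M) i).symm with
      map_smul' := fun b y => by
        apply (HH.pushEquivAdd g' ((Scheme.Modules.pullback g').obj M) i).injective
        have h1 := HH.pushEquivAdd_natural g' ((Scheme.Modules.pullback g').obj M)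
          (Coh.smulAb ((Scheme.Modules.pullback g').obj M)
            (Coh.toGlobal (X' ↘ Spec (CommRingCat.of B)) b)) i
          ((HH.pushEquivAdd g' ((Scheme.Modules.pullback g').obj M) i).symm y)
        rw [AddEquiv.apply_symm_apply] at h1
        exact ((AddEquiv.apply_symm_apply _ _).trans h1.symm) }
  let k' : Coh.HH X M i →+ Coh.HH X' ((Scheme.Modules.pullback g').obj M) i :=
    (HH.pushEquivAdd g' ((Scheme.Modules.pullback g').obj M) i).toAddMonoidHom.comp
      (postη.{u} (αM (X ↘ Spec (CommRingCat.of A)) M) (βM (X' ↘ Spec (CommRingCat.of B)) g' M)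
        (ηM g' M) _ i)
  exact ⟨k', hbc.of_equiv eN eP k' (fun n =>
    (HH.pushEquivAdd g' ((Scheme.Modules.pullback g').obj M) i).symm_apply_apply _)⟩

include h in
/-- **Flat base change of cohomology** over an affine base. -/
theorem nonempty_tensor_equiv (i : ℕ) :
    Nonempty (B ⊗[A] Coh.HH X M i ≃ₗ[B] Coh.HH X' ((Scheme.Modules.pullback g').obj M) i) := by
  obtain ⟨k', hk'⟩ := exists_isBC A B X X' g' h M i
  exact ⟨LinearEquiv.ofBijective _
    ((Groth.Agent.Lib.helper8.FlatBC.isBC_iff_bijective_tlift k' hk'.map_smul).mp hk')⟩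

end Final

end Groth.Agent.Lib.helper8.FlatCohBC
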