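import Mathlib
import Groth.Prelude.Def_Coh
import Groth.Agent.Lib.Helper18.HHLES

/-!
# S0002 piece T7a / T7b (helper8)

* `T7a` : two-out-of-three for "all cohomology groups are finite over `A`" along a short exact
  sequence of `O_X`-modules (`A` Noetherian).  Also `T7a₃` for the third case.
* `T7b` : `F` inherits finiteness of cohomology from `∐_{Fin d} F` (`d ≥ 1`).
* `T7c` : generic stalk of `π_* L` is nonzero when `π` is an isomorphism over a nonempty open of an
  integral scheme and all stalks of `L` are nonzero.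
-/

set_option autoImplicit false
universe u
open CategoryTheory CategoryTheory.Limits AlgebraicGeometry Opposite TopologicalSpace

namespace Groth.Agent.Lib.helper8.S0002T7

open Groth.Agent.Lib.Helper18

/-- middle term of an exact sequence of modules over a Noetherian ring is finite. -/
theorem finite_of_exact {A : Type u} [CommRing A] [IsNoetherianRing A] {M N P : Type u}
    [AddCommGroup M] [AddCommGroup N] [AddCommGroup P] [Module A M] [Module A N] [Module A P]
    (f : M →ₗ[A] N) (g : N →ₗ[A] P) (h : Function.Exact f g)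
    [Module.Finite A M] [Module.Finite A P] : Module.Finite A N := by
  have hM : IsNoetherian A M := inferInstance
  have hP : IsNoetherian A P := inferInstance
  have : IsNoetherian A N := isNoetherian_of_range_eq_ker f g (LinearMap.exact_iff.mp h).symm
  infer_instance

section T7
variable (A : Type u) [CommRing A] [IsNoetherianRing A] (X : Scheme.{u})
  [X.Over (Spec (CommRingCat.of A))]

theorem T7a (S : ShortComplex X.Modules) (hS : S.ShortExact) :
    ((∀ n, Module.Finite A (Coh.HH X S.X₂ n)) → (∀ n, Module.Finite A (Coh.HH X S.X₃ n)) →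
        ∀ n, Module.Finite A (Coh.HH X S.X₁ n)) ∧
    ((∀ n, Module.Finite A (Coh.HH X S.X₁ n)) → (∀ n, Module.Finite A (Coh.HH X S.X₃ n)) →
        ∀ n, Module.Finite A (Coh.HH X S.X₂ n)) := by
  refine ⟨fun h2 h3 n => ?_, fun h1 h3 n => ?_⟩
  · cases n with
    | zero =>
      haveI := h2 0
      exact Module.Finite.of_injective (HH.mapOver A S.f 0) (HH.injective_mapOver_f_zero hS A)
    | succ n =>
      haveI := h3 n
      haveI := h2 (n + 1)
      exact finite_of_exact (HH.δOver hS A n) (HH.mapOver A S.f (n + 1)) (HH.exactOver₁ hS A n)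
  · haveI := h1 n
    haveI := h3 n
    exact finite_of_exact (HH.mapOver A S.f n) (HH.mapOver A S.g n) (HH.exactOver₂ hS A n)

/-- the third case of two-out-of-three. -/
theorem T7a₃ (S : ShortComplex X.Modules) (hS : S.ShortExact)
    (h1 : ∀ n, Module.Finite A (Coh.HH X S.X₁ n)) (h2 : ∀ n, Module.Finite A (Coh.HH X S.X₂ n)) :
    ∀ n, Module.Finite A (Coh.HH X S.X₃ n) := by
  intro n
  haveI := h1 (n + 1)
  haveI := h2 n
  exact finite_of_exact (HH.mapOver A S.g n) (HH.δOver hS A n) (HH.exactOver₃ hS A n)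

/-- a retract inherits finiteness of cohomology. -/
theorem finite_HH_of_retract {F G : X.Modules} (i : F ⟶ G) (r : G ⟶ F) (h : i ≫ r = 𝟙 F) (n : ℕ)
    [Module.Finite A (Coh.HH X G n)] : Module.Finite A (Coh.HH X F n) := by
  refine Module.Finite.of_injective (HH.mapOver A i n) ?_
  intro x y hxy
  have hx : ∀ z : Coh.HH X F n, HH.map r n (HH.map i n z) = z := by
    intro z
    rw [← HH.map_comp_apply, h, HH.map_id]
    rfl
  have h2 : HH.map i n x = HH.map i n y := hxy
  rw [← hx x, ← hx y, h2]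

/-- isomorphic modules have simultaneously finite cohomology. -/
theorem finite_HH_of_iso {F G : X.Modules} (e : F ≅ G) (n : ℕ)
    [Module.Finite A (Coh.HH X G n)] : Module.Finite A (Coh.HH X F n) :=
  finite_HH_of_retract A X e.hom e.inv e.hom_inv_id n

theorem T7b (F : X.Modules) (d : ℕ) (hd : 1 ≤ d)
    (h : ∀ n, Module.Finite A (Coh.HH X (∐ fun _ : Fin d => F) n)) (n : ℕ) :
    Module.Finite A (Coh.HH X F n) := by
  haveI := h n
  refine finite_HH_of_retract A X (Sigma.ι (fun _ : Fin d => F) ⟨0, hd⟩)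
    (Sigma.desc (fun _ => 𝟙 F)) ?_ n
  simp

end T7

/-- T7c: the direct image of a module with nonzero stalks under a morphism which is an isomorphism
over a nonempty open of an integral scheme has nonzero generic stalk. -/
theorem T7c {Z Z' : Scheme.{u}} [IsIntegral Z] (π : Z' ⟶ Z) (U : Z.Opens) (hU : (U : Set Z).Nonempty)
    [IsIso (π ∣_ U)] (L : Z'.Modules) (hL : ∀ z' : Z', Nontrivial (L.presheaf.stalk z')) :
    Nontrivial (((Scheme.Modules.pushforward π).obj L).presheaf.stalk (genericPoint Z)) := by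
  set η := genericPoint Z with hη
  have hηU : η ∈ U := by
    have := (genericPoint_spec Z).mem_open_set_iff U.2
    rw [Set.univ_inter] at this
    exact this.mpr hU
  set e := π ∣_ U with he
  -- the point of `Z'` over `η`
  set z'' : ↑(π ⁻¹ᵁ U) := (inv e) ⟨η, hηU⟩ with hz''
  set z' : Z' := (π ⁻¹ᵁ U).ι z'' with hz'
  have hcomm : e ≫ U.ι = (π ⁻¹ᵁ U).ι ≫ π := morphismRestrict_ι π U
  have hpt : ∀ y : ↑(π ⁻¹ᵁ U), π ((π ⁻¹ᵁ U).ι y) = U.ι (e y) := by
    intro y
    have := congrArg (fun φ : ↑(π ⁻¹ᵁ U) ⟶ Z => φ y) hcomm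
    simpa using this.symm
  have hinv : ∀ u : ↑U, e ((inv e) u) = u := by
    intro u
    rw [← Scheme.Hom.comp_apply, IsIso.inv_hom_id]
    rfl
  have hinv' : ∀ y : ↑(π ⁻¹ᵁ U), (inv e) (e y) = y := by
    intro y
    rw [← Scheme.Hom.comp_apply, IsIso.hom_inv_id]
    rfl
  have hπz' : π z' = η := by
    rw [hz', hpt, hz'', hinv]
    rfl
  by_contra hcon
  have hsub : Subsingleton ↑(((Scheme.Modules.pushforward π).obj L).presheaf.stalk η) :=
    not_nontrivial_iff_subsingleton.mp hcon
  obtain ⟨a, ha⟩ := exists_ne (0 : ↑(L.presheaf.stalk z'))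
  obtain ⟨W, hzW, s, rfl⟩ := L.presheaf.exists_germ_eq a
  -- shrink
  have hz'U : z' ∈ π ⁻¹ᵁ U := by
    change π z' ∈ U
    rw [hπz']; exact hηU
  set W' : Z'.Opens := W ⊓ π ⁻¹ᵁ U with hW'
  have hzW' : z' ∈ W' := ⟨hzW, hz'U⟩
  set V : Z.Opens := U.ι ''ᵁ ((inv e) ⁻¹ᵁ ((π ⁻¹ᵁ U).ι ⁻¹ᵁ W')) with hV
  have hηV : η ∈ V := by
    refine ⟨⟨η, hηU⟩, ?_, rfl⟩
    exact hzW'
  have hVW : π ⁻¹ᵁ V ≤ W' := by
    intro y hy
    obtain ⟨u, hu, huy⟩ := hy
    have hyU : y ∈ π ⁻¹ᵁ U := by
      change π y ∈ U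
      rw [← huy]; exact u.2
    have h1 : U.ι (e ⟨y, hyU⟩) = U.ι u := by
      rw [← hpt]; exact huy.symm
    have h2 : e ⟨y, hyU⟩ = u := U.ι.isOpenEmbedding.injective h1
    have h3 : (inv e) u = ⟨y, hyU⟩ := by rw [← h2, hinv']
    have h4 : (π ⁻¹ᵁ U).ι ((inv e) u) ∈ W' := hu
    rw [h3] at h4
    exact h4
  have hVW0 : π ⁻¹ᵁ V ≤ W := hVW.trans inf_le_left
  -- the section of `π_* L` over `V`
  set t : Γ((Scheme.Modules.pushforward π).obj L, V) := L.presheaf.map (homOfLE hVW0).op s with ht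
  obtain ⟨V', hηV', iU, iV, h⟩ := TopCat.Presheaf.germ_eq
    ((Scheme.Modules.pushforward π).obj L).presheaf η hηV hηV t 0 (Subsingleton.elim _ _)
  have hV'V : V' ≤ V := iU.le
  have hz'V' : z' ∈ π ⁻¹ᵁ V' := by
    change π z' ∈ V'
    rw [hπz']; exact hηV'
  have h1 : L.presheaf.map (homOfLE (show π ⁻¹ᵁ V' ≤ W from
      (fun y hy => hVW0 (hV'V hy)))).op s = 0 := by
    have h2 : ((Scheme.Modules.pushforward π).obj L).presheaf.map iU.op t = 0 :=
      h.trans (map_zero _)
    rw [ht, Scheme.Modules.pushforward_obj_presheaf_map] at h2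
    have key : L.presheaf.map (homOfLE (show π ⁻¹ᵁ V' ≤ W from
        (fun y hy => hVW0 (hV'V hy)))).op =
        L.presheaf.map (homOfLE hVW0).op ≫ L.presheaf.map ((Opens.map π.base).map iU).op := by
      rw [← Functor.map_comp]; rfl
    rw [key]
    exact h2
  apply ha
  have h3 := TopCat.Presheaf.germ_res_apply L.presheaf (homOfLE (show π ⁻¹ᵁ V' ≤ W from
      (fun y hy => hVW0 (hV'V hy)))) z' hz'V' s
  rw [← h3, h1, map_zero]

end Groth.Agent.Lib.helper8.S0002T7
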