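import Mathlib
import Groth.Agent.Lib.Helper8.DevAlg

set_option autoImplicit false
universe u

namespace Groth.Agent.Lib.helper8.Dev

section RankD

variable {B : Type*} [CommRing B] [IsDomain B] [IsNoetherianRing B] {N : Type*} [AddCommGroup N]
  [Module B N] [Module.Finite B N]

/-- a finitely generated module over a Noetherian domain has a finite linearly independent family
which generates it generically -/
theorem exists_generic_basis :
    ∃ (d : ℕ) (s : Fin d → N), LinearIndependent B s ∧
      ∃ b : B, b ≠ 0 ∧ ∀ n : N, ∃ c : Fin d → B, b • n = ∑ k, c k • s k := by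
  classical
  haveI : IsNoetherian B N := isNoetherian_of_isNoetherianRing_of_finite B N
  obtain ⟨S, hS, hmax⟩ := exists_maximal_linearIndepOn B (id : N → N)
  have hSli : LinearIndependent B (fun x : S => (x : N)) := hS
  have hfin : S.Finite := LinearIndependent.set_finite_of_isNoetherian hSli
  haveI : Fintype S := hfin.fintype
  let e : S ≃ Fin (Fintype.card S) := Fintype.equivFin S
  refine ⟨Fintype.card S, fun k => ((e.symm k : S) : N), ?_, ?_⟩
  · exact hSli.comp e.symm e.symm.injective
  · have hpt : ∀ n ∈ (⊤ : Submodule B N), ∃ b ∈ nonZeroDivisors B,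
        b • n ∈ Submodule.span B (S : Set N) := by
      intro n _
      by_cases hn : n ∈ S
      · exact ⟨1, one_mem _, by rw [one_smul]; exact Submodule.subset_span hn⟩
      · obtain ⟨a, ha, hmem⟩ := hmax n hn
        refine ⟨a, mem_nonZeroDivisors_of_ne_zero ha, ?_⟩
        rw [Set.image_id] at hmem
        exact hmem
    obtain ⟨b, hb, h⟩ := exists_forall_smul_mem_of_fg (nonZeroDivisors B) (⊤ : Submodule B N)
      Module.Finite.fg_top (Submodule.span B (S : Set N)) hpt
    refine ⟨b, nonZeroDivisors.ne_zero hb, fun n => ?_⟩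
    have h1 := h n trivial
    have h2 : (S : Set N) = Set.range (fun k : Fin (Fintype.card S) => ((e.symm k : S) : N)) := by
      ext x
      constructor
      · intro hx
        exact ⟨e ⟨x, hx⟩, by simp⟩
      · rintro ⟨k, rfl⟩
        exact (e.symm k).2
    rw [h2, Submodule.mem_span_range_iff_exists_fun] at h1
    obtain ⟨c, hc⟩ := h1
    exact ⟨c, hc.symm⟩

omit [IsNoetherianRing B] [Module.Finite B N] in
theorem pos_of_linearIndependent_of_generic (n₀ : N) (hn₀ : ∀ b : B, b • n₀ = 0 → b = 0) {d : ℕ}
    (s : Fin d → N) (b : B) (hb : b ≠ 0) (hgen : ∀ n : N, ∃ c : Fin d → B, b • n = ∑ k, c k • s k) :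
    0 < d := by
  by_contra hd
  have hd0 : d = 0 := by omega
  subst hd0
  obtain ⟨c, hc⟩ := hgen n₀
  rw [Finset.univ_eq_empty, Finset.sum_empty] at hc
  exact hb (hn₀ b hc)

end RankD

end Groth.Agent.Lib.helper8.Dev
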