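import Mathlib
import Groth.Agent.Lib.Helper8.DevRankD
import Groth.Agent.Lib.Helper8.DevRankAlg
import Groth.Agent.Lib.Helper8.DevCore

set_option autoImplicit false
universe u
open CategoryTheory CategoryTheory.Limits AlgebraicGeometry TopologicalSpace Opposite

namespace Groth.Agent.Lib.helper8.Dev

open Groth.Agent.Lib.helper8.PullbackUnit Scheme.Modules

attribute [local instance] Abelian.hasFiniteBiproducts

section ConductorD

variable {Z : Scheme.{u}} [IsIntegral Z] (H : Z.Modules) [H.IsQuasicoherent] (V : Z.Opens)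

/-- **the rank `d` conductor**: a quasi-coherent ideal `J` of `O_Z`, containing `1` over `V`, with an
embedding of `J^d` into the image of `H ⟶ j_* j^* H`, given by generically independent sections. -/
theorem exists_ideal_image_D (hV : IsAffineOpen V) (hVne : (V : Set Z).Nonempty) {d : ℕ}
    (s : Fin d → Γ(H, V)) (hs : LinearIndependent Γ(Z, V) s) [QuasiCompact V.ι] :
    ∃ (J : Z.Modules) (ιJ : J ⟶ Coh.structureModule Z)
      (B : (⨁ fun _ : Fin d => J) ⟶ Abelian.image (ηV H V)),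
      Mono ιJ ∧ J.IsQuasicoherent ∧ Mono B ∧
      ∃ one : Γ(J, V), (ιJ.app V).hom one = (1 : Γ(Z, V)) ∧
        ∀ k, (B.app V).hom (((biproduct.ι (fun _ : Fin d => J) k).app V).hom one) =
          ((Abelian.factorThruImage (ηV H V)).app V).hom (s k) := by
  haveI : (jj H V).IsQuasicoherent :=
    Groth.Agent.Lib.helper7.QCohPushQC.isQuasicoherent_pushforward V.ι (H.restrict V.ι)
  haveI : (cokernel (ηV H V)).IsQuasicoherent :=
    Groth.Agent.Lib.helper7.CohKer.isQuasicoherent_cokernel (ηV H V)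
  let gk : Fin d → (Coh.structureModule Z ⟶ cokernel (ηV H V)) :=
    fun k => aOf H V (s k) ≫ cokernel.π (ηV H V)
  let g : Coh.structureModule Z ⟶ ⨁ fun _ : Fin d => cokernel (ηV H V) := biproduct.lift gk
  haveI : (⨁ fun _ : Fin d => cokernel (ηV H V)).IsQuasicoherent :=
    isQuasicoherent_biproduct _ (fun _ => inferInstance)
  haveI hJ : (kernel g).IsQuasicoherent :=
    Groth.Agent.Lib.helper7.CohKer.isQuasicoherent_kernel g
  have hgk : ∀ k, kernel.ι g ≫ gk k = 0 := by
    intro k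
    have h1 : g ≫ biproduct.π _ k = gk k := biproduct.lift_π _ _
    rw [← h1, ← Category.assoc, kernel.condition, zero_comp]
  have hw : ∀ k, (kernel.ι g ≫ aOf H V (s k)) ≫ cokernel.π (ηV H V) = 0 := by
    intro k
    rw [Category.assoc]
    exact hgk k
  let β : ∀ _ : Fin d, kernel g ⟶ Abelian.image (ηV H V) :=
    fun k => kernel.lift _ (kernel.ι g ≫ aOf H V (s k)) (hw k)
  have hβ : ∀ k, β k ≫ Abelian.image.ι (ηV H V) = kernel.ι g ≫ aOf H V (s k) :=
    fun k => kernel.lift_ι _ _ _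
  let B : (⨁ fun _ : Fin d => kernel g) ⟶ Abelian.image (ηV H V) := biproduct.desc β
  have hbasis : Opens.IsBasis (Set.univ : Set Z.Opens) := by
    rw [Opens.isBasis_iff_nbhd]
    intro U x hx
    exact ⟨U, trivial, hx, le_rfl⟩
  have hβapp : ∀ (k : Fin d) (W : Z.Opens) (y : Γ(kernel g, W)),
      ((Abelian.image.ι (ηV H V)).app W).hom (((β k).app W).hom y) =
        (Hom.app (aOf H V (s k)) W).hom (((kernel.ι g).app W).hom y) := by
    intro k W y
    rw [← ConcreteCategory.comp_apply, ← Hom.comp_app, hβ]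
    rfl
  haveI hB : Mono B := by
    refine Groth.Agent.Lib.helper16.QCohEpi.mono_of_injective_on_basis _ _ hbasis (fun W _ => ?_)
    rw [injective_iff_map_eq_zero]
    intro x hx
    have h1 : ((Abelian.image.ι (ηV H V)).app W).hom ((B.app W).hom x) = 0 := by
      rw [hx, map_zero]
    rw [biproduct_desc_app, map_sum] at h1
    have h2 : ∀ k, ((kernel.ι g).app W).hom
        (((biproduct.π (fun _ : Fin d => kernel g) k).app W).hom x) = (0 : Γ(Z, W)) := by
      refine eq_zero_of_sum_smul_eq_zero H V hV s hs W _ ?_ hVne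
      refine Eq.trans (Finset.sum_congr rfl (fun k _ => ?_)) h1
      rw [hβapp, aOf_app]
    rw [biproduct_section_eq (fun _ : Fin d => kernel g) W x]
    refine Finset.sum_eq_zero (fun k _ => ?_)
    have h3 : ((biproduct.π (fun _ : Fin d => kernel g) k).app W).hom x = 0 := by
      apply Groth.Agent.S2542.injective_app_of_mono (kernel.ι g) W
      exact (h2 k).trans (map_zero _).symm
    rw [h3, map_zero]
  have e1 : ∀ k, (Hom.app (aOf H V (s k)) V).hom (1 : Γ(Z, V)) = ((ηV H V).app V).hom (s k) := by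
    intro k
    rw [aOf_app, ηV_app, map_one, one_smul]
  have h1 : (g.app V).hom (1 : Γ(Z, V)) = 0 := by
    rw [biproduct_section_eq (fun _ : Fin d => cokernel (ηV H V)) V ((g.app V).hom (1 : Γ(Z, V)))]
    refine Finset.sum_eq_zero (fun k _ => ?_)
    have h2 : ((biproduct.π (fun _ : Fin d => cokernel (ηV H V)) k).app V).hom
        ((g.app V).hom (1 : Γ(Z, V))) = ((gk k).app V).hom (1 : Γ(Z, V)) := by
      rw [← ConcreteCategory.comp_apply, ← Hom.comp_app]
      show ((biproduct.lift gk ≫ biproduct.π _ k).app V).hom _ = _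
      rw [biproduct.lift_π]
    rw [h2]
    have h3 : ((gk k).app V).hom (1 : Γ(Z, V)) = 0 := by
      show ((cokernel.π (ηV H V)).app V).hom ((Hom.app (aOf H V (s k)) V).hom (1 : Γ(Z, V))) = 0
      rw [e1, ← ConcreteCategory.comp_apply, ← Hom.comp_app, cokernel.condition]
      rfl
    rw [h3, map_zero]
  obtain ⟨one, hone⟩ := (exists_kernel_ι_app_eq_iff g V (1 : Γ(Z, V))).mpr h1
  refine ⟨kernel g, kernel.ι g, B, inferInstance, hJ, hB, one, hone, fun k => ?_⟩
  rw [biproduct_desc_ι_app]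
  apply Groth.Agent.S2542.injective_app_of_mono (Abelian.image.ι (ηV H V)) V
  have h3 : ((Abelian.image.ι (ηV H V)).app V).hom
      (((Abelian.factorThruImage (ηV H V)).app V).hom (s k)) = ((ηV H V).app V).hom (s k) := by
    rw [← ConcreteCategory.comp_apply, ← Hom.comp_app, Abelian.image.fac]
  rw [hβapp, h3, hone, e1]

end ConductorD

section CokerD

variable {Z : Scheme.{u}} (H : Z.Modules) [H.IsQuasicoherent] (V : Z.Opens)

/-- the cokernel of the rank `d` conductor embedding is killed generically -/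
theorem smul_cokernel_eq_zero_D [QuasiCompact V.ι] (hV : IsAffineOpen V) {d : ℕ}
    (s : Fin d → Γ(H, V)) (b' : Γ(Z, V))
    (hb' : ∀ n : Γ(H, V), ∃ c' : Fin d → Γ(Z, V), b' • n = ∑ k, c' k • s k)
    {J : Z.Modules} [J.IsQuasicoherent]
    (B : (⨁ fun _ : Fin d => J) ⟶ Abelian.image (ηV H V)) (one : Γ(J, V))
    (hone : ∀ k, (B.app V).hom (((biproduct.ι (fun _ : Fin d => J) k).app V).hom one) =
      ((Abelian.factorThruImage (ηV H V)).app V).hom (s k))
    (c : Γ(cokernel B, V)) : b' • c = 0 := by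
  haveI := isQuasicoherent_image_ηV H V
  haveI : (⨁ fun _ : Fin d => J).IsQuasicoherent :=
    isQuasicoherent_biproduct _ (fun _ => inferInstance)
  haveI : (cokernel B).IsQuasicoherent :=
    Groth.Agent.Lib.helper7.CohKer.isQuasicoherent_cokernel B
  obtain ⟨h, rfl⟩ := Groth.Agent.Lib.helper16.QCohEpi.surjective_app_of_epi (cokernel.π B) hV c
  obtain ⟨n, rfl⟩ := Groth.Agent.Lib.helper16.QCohEpi.surjective_app_of_epi
    (Abelian.factorThruImage (ηV H V)) hV h
  obtain ⟨c', hc'⟩ := hb' n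
  have h1 : b' • ((cokernel.π B).app V).hom (((Abelian.factorThruImage (ηV H V)).app V).hom n) =
      ((cokernel.π B).app V).hom (((Abelian.factorThruImage (ηV H V)).app V).hom (b' • n)) := by
    rw [Hom.app_smul, Hom.app_smul]
  rw [h1, hc']
  have h2 : ((Abelian.factorThruImage (ηV H V)).app V).hom (∑ k, c' k • s k) =
      (B.app V).hom (∑ k, ((biproduct.ι (fun _ : Fin d => J) k).app V).hom (c' k • one)) := by
    rw [map_sum, map_sum]
    refine Finset.sum_congr rfl (fun k _ => ?_)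
    rw [Hom.app_smul, Hom.app_smul, Hom.app_smul, hone]
  rw [h2, ← ConcreteCategory.comp_apply, ← Hom.comp_app, cokernel.condition]
  rfl

end CokerD

section Weak

variable {X Z : Scheme.{u}} (i : Z ⟶ X) [IsClosedImmersion i]

/-- the (weak) hypotheses on the property `P` in the rank `d` dévissage core: only kernels of
epimorphisms and extensions, and descent from `d`-fold sums -/
structure HypW (P : X.Modules → Prop) : Prop where
  iso : ∀ M N : X.Modules, Nonempty (M ≅ N) → P M → P N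
  tot : ∀ S : ShortComplex X.Modules, S.ShortExact → Coh.IsCoh S.X₁ → Coh.IsCoh S.X₂ →
    Coh.IsCoh S.X₃ → (∃ n : ℕ, ClSub.KilledByIdeal (i.ker ^ n) S.X₂) →
      (P S.X₁ → P S.X₃ → P S.X₂) ∧ (P S.X₂ → P S.X₃ → P S.X₁)
  small : ∀ F' : X.Modules, Small i F' → P F'
  dsum : ∀ (F : Z.Modules) [F.IsQuasicoherent] (d : ℕ), 0 < d →
    Coh.IsCoh ((pushforward i).obj F) → Coh.IsCoh ((pushforward i).obj (⨁ fun _ : Fin d => F)) →
    P ((pushforward i).obj (⨁ fun _ : Fin d => F)) → P ((pushforward i).obj F)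

variable {i} {P : X.Modules → Prop}

section GI

variable [IsNoetherian X] (hyp : HypW i P) (U : X.affineOpens) (S : ShortComplex Z.Modules)
  (hS : S.ShortExact) [S.X₁.IsQuasicoherent] [S.X₂.IsQuasicoherent] [S.X₃.IsQuasicoherent]
  (hcoh : Coh.IsCoh ((pushforward i).obj S.X₂))

include hyp hS hcoh in
/-- a monomorphism with generically vanishing cokernel does not change `P` -/
theorem P_iff_of_small_cokernel_W (b' : Γ(Z, i ⁻¹ᵁ U.1)) (hb' : b' ≠ 0)
    (hkill : ∀ t : Γ(S.X₃, i ⁻¹ᵁ U.1), b' • t = 0) :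
    P ((pushforward i).obj S.X₁) ↔ P ((pushforward i).obj S.X₂) := by
  have hS' := shortExact_map_pushforward i S hS
  obtain ⟨h1, h3⟩ := isCoh_push_of_shortExact S hS hcoh
  have hP3 : P ((pushforward i).obj S.X₃) := hyp.small _ (small_push U S.X₃ h3 b' hb' hkill)
  have hk : ∃ n : ℕ, ClSub.KilledByIdeal (i.ker ^ n) (S.map (pushforward i)).X₂ :=
    ⟨1, by rw [pow_one]; exact killedByIdeal_ker_push i S.X₂⟩
  obtain ⟨h13, h23⟩ := hyp.tot _ hS' h1 hcoh h3 hk
  exact ⟨fun h => h13 h hP3, fun h => h23 h hP3⟩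

end GI

section Chain

variable [IsNoetherian X] [IsIntegral Z] (hyp : HypW i P) (U : X.affineOpens)
  (H : Z.Modules) [H.IsQuasicoherent]

include hyp in
/-- **the generic point argument, rank `d`**: if `P` holds for `i_*` of the image of
`H ⟶ j_* j^* H` with `H` of generic rank `d > 0`, it holds for `i_* I` for every quasi-coherent
ideal `I` with a nonzero section over `V = i⁻¹ U`. -/
theorem P_push_ideal_of_rankD
    (hcohHbar : Coh.IsCoh ((pushforward i).obj (Abelian.image (ηV H (i ⁻¹ᵁ U.1)))))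
    (hPHbar : P ((pushforward i).obj (Abelian.image (ηV H (i ⁻¹ᵁ U.1))))) {d : ℕ} (hd : 0 < d)
    (s : Fin d → Γ(H, i ⁻¹ᵁ U.1)) (hs : LinearIndependent Γ(Z, i ⁻¹ᵁ U.1) s)
    (b' : Γ(Z, i ⁻¹ᵁ U.1)) (hb'0 : b' ≠ 0)
    (hb' : ∀ n : Γ(H, i ⁻¹ᵁ U.1), ∃ c' : Fin d → Γ(Z, i ⁻¹ᵁ U.1), b' • n = ∑ k, c' k • s k)
    (I : Z.Modules) (ι : I ⟶ Coh.structureModule Z) [Mono ι] [I.IsQuasicoherent]
    (x₀ : Γ(I, i ⁻¹ᵁ U.1)) (hx₀ : (ι.app (i ⁻¹ᵁ U.1)).hom x₀ ≠ 0) :
    P ((pushforward i).obj I) := by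
  let V : Z.Opens := i ⁻¹ᵁ U.1
  have hV : IsAffineOpen V := U.2.preimage i
  have hVne : (V : Set Z).Nonempty := by
    by_contra hVe
    have hbot : V = ⊥ := by
      ext x
      simp only [Opens.coe_bot, Set.mem_empty_iff_false, iff_false]
      exact fun hx => hVe ⟨x, hx⟩
    apply hb'0
    haveI : Subsingleton Γ(Z, V) := by
      rw [hbot]
      infer_instance
    exact Subsingleton.elim _ _
  haveI : Nonempty V := ⟨⟨hVne.some, hVne.some_mem⟩⟩
  haveI : IsDomain Γ(Z, V) := IsIntegral.component_integral V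
  haveI : IsLocallyNoetherian Z := LocallyOfFiniteType.isLocallyNoetherian i
  obtain ⟨J, ιJ, B, hιJ, hJq, hB, one, hone, hBone⟩ := exists_ideal_image_D H V hV hVne s hs
  haveI := hιJ
  haveI := hJq
  haveI := hB
  haveI := isQuasicoherent_image_ηV H V
  haveI : (⨁ fun _ : Fin d => J).IsQuasicoherent :=
    isQuasicoherent_biproduct _ (fun _ => inferInstance)
  haveI : (cokernel B).IsQuasicoherent :=
    Groth.Agent.Lib.helper7.CohKer.isQuasicoherent_cokernel B
  have hSC := shortExact_cokernel B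
  have h2 : P ((pushforward i).obj (⨁ fun _ : Fin d => J)) ↔
      P ((pushforward i).obj (Abelian.image (ηV H V))) :=
    P_iff_of_small_cokernel_W hyp U _ hSC hcohHbar b' hb'0
      (fun c => smul_cokernel_eq_zero_D H V hV s b' hb' B one hBone c)
  have hcohL : Coh.IsCoh ((pushforward i).obj (⨁ fun _ : Fin d => J)) :=
    (isCoh_push_of_shortExact _ hSC hcohHbar).1
  have hcohJ : Coh.IsCoh ((pushforward i).obj J) := by
    haveI : ((pushforward i).obj J).IsQuasicoherent :=
      Groth.Agent.Lib.helper16.QCohAffinePush.isQuasicoherent_push i J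
    exact Groth.Agent.S0046.result X _ _ ((pushforward i).map ιJ) (isCoh_push_structureModule i) ‹_›
  have hPJ : P ((pushforward i).obj J) := hyp.dsum J d hd hcohJ hcohL (h2.mpr hPHbar)
  -- the intersection `I ∩ J`
  haveI := isQuasicoherent_interMod ι ιJ
  haveI : (cokernel (interι₂ ι ιJ)).IsQuasicoherent :=
    Groth.Agent.Lib.helper7.CohKer.isQuasicoherent_cokernel _
  haveI : (cokernel (interι₁ ι ιJ)).IsQuasicoherent :=
    Groth.Agent.Lib.helper7.CohKer.isQuasicoherent_cokernel _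
  have hSK₂ := shortExact_cokernel (interι₂ ι ιJ)
  have h3 : P ((pushforward i).obj (interMod ι ιJ)) ↔ P ((pushforward i).obj J) :=
    P_iff_of_small_cokernel_W hyp U _ hSK₂ hcohJ _ hx₀
      (fun q => smul_cokernel_interι₂ ι ιJ V hV x₀ q)
  have hcohI : Coh.IsCoh ((pushforward i).obj I) := by
    haveI : ((pushforward i).obj I).IsQuasicoherent :=
      Groth.Agent.Lib.helper16.QCohAffinePush.isQuasicoherent_push i I
    exact Groth.Agent.S0046.result X _ _ ((pushforward i).map ι) (isCoh_push_structureModule i) ‹_›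
  have hSK₁ := shortExact_cokernel (interι₁ ι ιJ)
  have hone' : (show Γ(Z, V) from (ιJ.app V).hom one) ≠ 0 := by
    rw [hone]
    exact one_ne_zero
  have h4 : P ((pushforward i).obj (interMod ι ιJ)) ↔ P ((pushforward i).obj I) :=
    P_iff_of_small_cokernel_W hyp U _ hSK₁ hcohI _ hone'
      (fun q => smul_cokernel_interι₁ ι ιJ V hV one q)
  exact h4.mp (h3.mpr hPJ)

end Chain

end Weak

section CoreD

theorem finite_of_compat {A B N : Type*} [CommRing A] [CommRing B] [AddCommGroup N] [Module A N]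
    [Module B N] (φ : A →+* B) (hcompat : ∀ (a : A) (n : N), a • n = φ a • n)
    [Module.Finite A N] : Module.Finite B N := by
  obtain ⟨S, hS⟩ := (Module.Finite.fg_top : (⊤ : Submodule A N).FG)
  refine ⟨⟨S, ?_⟩⟩
  rw [eq_top_iff]
  intro n _
  have hn : n ∈ Submodule.span A (S : Set N) := by
    rw [hS]
    trivial
  refine Submodule.span_induction (p := fun x _ => x ∈ Submodule.span B (S : Set N))
    (fun x hx => Submodule.subset_span hx) (Submodule.zero_mem _)
    (fun x y _ _ hx hy => Submodule.add_mem _ hx hy) (fun a x _ hx => ?_) hn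
  rw [hcompat]
  exact Submodule.smul_mem _ _ hx

variable {X Z : Scheme.{u}} {i : Z ⟶ X} [IsClosedImmersion i] {P : X.Modules → Prop}
  [IsNoetherian X] [IsIntegral Z] (hyp : HypW i P) (U : X.affineOpens)
  (H : Z.Modules) [H.IsQuasicoherent]

include hyp in
/-- the generic point argument, from a non-torsion section -/
theorem P_push_ideal_of_nontorsion
    (hcohHbar : Coh.IsCoh ((pushforward i).obj (Abelian.image (ηV H (i ⁻¹ᵁ U.1)))))
    (hPHbar : P ((pushforward i).obj (Abelian.image (ηV H (i ⁻¹ᵁ U.1)))))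
    (hfin : Module.Finite Γ(Z, i ⁻¹ᵁ U.1) Γ(H, i ⁻¹ᵁ U.1))
    (n₀ : Γ(H, i ⁻¹ᵁ U.1)) (hn₀ : ∀ r : Γ(Z, i ⁻¹ᵁ U.1), r • n₀ = 0 → r = 0)
    (I : Z.Modules) (ι : I ⟶ Coh.structureModule Z) [Mono ι] [I.IsQuasicoherent]
    (x₀ : Γ(I, i ⁻¹ᵁ U.1)) (hx₀ : (ι.app (i ⁻¹ᵁ U.1)).hom x₀ ≠ 0) :
    P ((pushforward i).obj I) := by
  let V : Z.Opens := i ⁻¹ᵁ U.1
  have hV : IsAffineOpen V := U.2.preimage i
  have hVne : (V : Set Z).Nonempty := by
    by_contra hVe
    have hbot : V = ⊥ := by
      ext x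
      simp only [Opens.coe_bot, Set.mem_empty_iff_false, iff_false]
      exact fun hx => hVe ⟨x, hx⟩
    apply hx₀
    haveI : Subsingleton Γ(Z, V) := by
      rw [hbot]
      infer_instance
    exact Subsingleton.elim (α := Γ(Z, V)) _ _
  haveI : Nonempty V := ⟨⟨hVne.some, hVne.some_mem⟩⟩
  haveI : IsDomain Γ(Z, V) := IsIntegral.component_integral V
  haveI : IsLocallyNoetherian Z := LocallyOfFiniteType.isLocallyNoetherian i
  haveI : IsNoetherianRing Γ(Z, V) := IsLocallyNoetherian.component_noetherian ⟨V, hV⟩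
  haveI := hfin
  obtain ⟨d, s, hs, b', hb'0, hb'⟩ := exists_generic_basis (B := Γ(Z, V)) (N := Γ(H, V))
  have hd : 0 < d := pos_of_linearIndependent_of_generic n₀ hn₀ s b' hb'0 hb'
  exact P_push_ideal_of_rankD hyp U H hcohHbar hPHbar hd s hs b' hb'0 hb' I ι x₀ hx₀

end CoreD

end Groth.Agent.Lib.helper8.Dev
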