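import Mathlib
import Groth.Agent.Lib.Helper8.DevRankD2

set_option autoImplicit false
universe u
open CategoryTheory CategoryTheory.Limits AlgebraicGeometry TopologicalSpace Opposite

namespace Groth.Agent.Lib.helper8.Dev

open Groth.Agent.Lib.helper8.PullbackUnit Scheme.Modules

attribute [local instance] Abelian.hasFiniteBiproducts

section Full

variable {X Z : Scheme.{u}} {i : Z ⟶ X} [IsClosedImmersion i] {P : X.Modules → Prop}

/-- a property stable under retracts satisfies the weak hypotheses -/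
theorem Hyp.toHypW (hyp : Hyp i P)
    (hsum : ∀ (M N : X.Modules) (a : N ⟶ M) (r : M ⟶ N), a ≫ r = 𝟙 N → Coh.IsCoh M →
      Coh.IsCoh N → P M → P N) : HypW i P where
  iso := hyp.iso
  tot := fun S hS h1 h2 h3 hk => (hyp.tot S hS h1 h2 h3 hk).2
  small := hyp.small
  dsum := fun F _ d hd hF hL hPL =>
    hsum _ _ ((pushforward i).map (biproduct.ι (fun _ : Fin d => F) ⟨0, hd⟩))
      ((pushforward i).map (biproduct.π (fun _ : Fin d => F) ⟨0, hd⟩))
      (by rw [← CategoryTheory.Functor.map_comp, biproduct.ι_π_self, CategoryTheory.Functor.map_id]) hL hF hPL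

theorem eq_zero_of_mem_smul_of_killed (𝔞 : X.IdealSheafData) (G : X.Modules)
    (hGk : ClSub.KilledByIdeal 𝔞 G) (U : X.affineOpens) (x : Γ(G, U.1))
    (hx : x ∈ 𝔞.ideal U • (⊤ : Submodule Γ(X, U.1) Γ(G, U.1))) : x = 0 := by
  refine Submodule.smul_induction_on hx (fun a ha n _ => hGk U a ha n) (fun x y hx hy => ?_)
  rw [hx, hy, add_zero]

variable [IsNoetherian X] [IsIntegral Z]

/-- **the rank `d` dévissage core** (two-of-three and retracts): if `P` holds for a coherent `G`
killed by the ideal of the integral closed subscheme `i : Z ⟶ X` and with a section over `U` which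
is not torsion along `Z`, then `P` holds for `i_* I` for every quasi-coherent ideal `I` of `O_Z`
with a nonzero section over `i⁻¹ U`. -/
theorem coreD_full (hyp : Hyp i P)
    (hsum : ∀ (M N : X.Modules) (a : N ⟶ M) (r : M ⟶ N), a ≫ r = 𝟙 N → Coh.IsCoh M →
      Coh.IsCoh N → P M → P N)
    (G : X.Modules) (hG : Coh.IsCoh G) (hGk : ClSub.KilledByIdeal i.ker G) (hPG : P G)
    (U : X.affineOpens) (m₀ : Γ(G, U.1))
    (hm₀ : ∀ a : Γ(X, U.1), a • m₀ = 0 → a ∈ i.ker.ideal U)
    (I : Z.Modules) (ι : I ⟶ Coh.structureModule Z) [Mono ι] [I.IsQuasicoherent]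
    (x₀ : Γ(I, i ⁻¹ᵁ U.1)) (hx₀ : (ι.app (i ⁻¹ᵁ U.1)).hom x₀ ≠ 0) :
    P ((pushforward i).obj I) := by
  haveI : G.IsQuasicoherent := hG.1
  let V : Z.Opens := i ⁻¹ᵁ U.1
  have hV : IsAffineOpen V := U.2.preimage i
  have hVne : (V : Set Z).Nonempty := by
    by_contra hVe
    have hbot : V = ⊥ := by
      ext x
      simp only [Opens.coe_bot, Set.mem_empty_iff_false, iff_false]
      exact fun hx => hVe ⟨x, hx⟩
    apply hx₀
    haveI : Subsingleton Γ(Z, V) := by
      rw [hbot]
      infer_instance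
    exact Subsingleton.elim (α := Γ(Z, V)) _ _
  haveI : Nonempty V := ⟨⟨hVne.some, hVne.some_mem⟩⟩
  haveI : IsDomain Γ(Z, V) := IsIntegral.component_integral V
  haveI : IsLocallyNoetherian Z := LocallyOfFiniteType.isLocallyNoetherian i
  let H : Z.Modules := (Scheme.Modules.pullback i).obj G
  haveI : H.IsQuasicoherent := Groth.Agent.Lib.helper16.QCohPullback.isQuasicoherent_pullback i G
  let u : G ⟶ (pushforward i).obj H := unitOf i G
  haveI : ((pushforward i).obj H).IsQuasicoherent :=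
    Groth.Agent.Lib.helper16.QCohAffinePush.isQuasicoherent_push i H
  haveI : (kernel u).IsQuasicoherent := Groth.Agent.Lib.helper7.CohKer.isQuasicoherent_kernel u
  have hcohH : Coh.IsCoh ((pushforward i).obj H) :=
    ⟨inferInstance, Groth.Agent.Lib.helper7.CohKer.isFiniteType_of_epi u hG.2⟩
  have hcohT : Coh.IsCoh (kernel u) := Groth.Agent.S0046.result X G _ (kernel.ι u) hG ‹_›
  let φ : Γ(X, U.1) →+* Γ(Z, i ⁻¹ᵁ U.1) := (i.app U.1).hom
  have hφs : Function.Surjective φ := i.app_surjective U.1 U.2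
  have hφk : ∀ a : Γ(X, U.1), φ a = 0 ↔ a ∈ i.ker.ideal U := by
    intro a
    rw [Scheme.Hom.ker_apply, RingHom.mem_ker]
  -- sections of the kernel of the unit vanish on affine opens
  have hT0 : ∀ (W : X.affineOpens) (t : Γ(kernel u, W.1)), t = 0 := by
    intro W t
    apply Groth.Agent.S2542.injective_app_of_mono (kernel.ι u) W.1
    have h2 : ((kernel.ι u).app W.1).hom t ∈
        i.ker.ideal W • (⊤ : Submodule Γ(X, W.1) Γ(G, W.1)) := by
      rw [← unitOf_app_eq_zero_iff i G W.2]
      rw [← ConcreteCategory.comp_apply, ← Hom.comp_app, kernel.condition]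
      rfl
    exact (eq_zero_of_mem_smul_of_killed i.ker G hGk W _ h2).trans
      (map_zero ((kernel.ι u).app W.1).hom).symm
  have hsmallT : Small i (kernel u) := by
    refine ⟨hcohT, ⟨1, fun W a _ t => ?_⟩, U, 1, ?_, fun t => ?_⟩
    · rw [hT0 W t]
      exact smul_zero (M := Γ(X, W.1)) (A := Γ(kernel u, W.1)) a
    · rw [← hφk, map_one]
      exact one_ne_zero
    · rw [hT0 U t]
      exact smul_zero (M := Γ(X, U.1)) (A := Γ(kernel u, U.1)) 1
  have hPT : P (kernel u) := hyp.small _ hsmallT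
  have hSu : (ShortComplex.mk (kernel.ι u) u (kernel.condition u)).ShortExact :=
    { exact := ShortComplex.exact_of_f_is_kernel _ (kernelIsKernel u)
      mono_f := inferInstanceAs (Mono (kernel.ι u))
      epi_g := inferInstanceAs (Epi (unitOf i G)) }
  have hPH : P ((pushforward i).obj H) :=
    (hyp.tot _ hSu hcohT hG hcohH ⟨1, by rw [pow_one]; exact hGk⟩).1 hPT hPG
  -- pass to the image in `j_* j^* H`
  haveI := isQuasicoherent_image_ηV H V
  haveI : (jj H V).IsQuasicoherent :=
    Groth.Agent.Lib.helper7.QCohPushQC.isQuasicoherent_pushforward V.ι (H.restrict V.ι)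
  haveI : (kernel (ηV H V)).IsQuasicoherent :=
    Groth.Agent.Lib.helper7.CohKer.isQuasicoherent_kernel (ηV H V)
  have hST := shortExact_kernel_image (ηV H V)
  have h1 : P ((pushforward i).obj H) ↔ P ((pushforward i).obj (Abelian.image (ηV H V))) :=
    P_iff_of_small_kernel hyp U _ hST hcohH (1 : Γ(Z, V)) one_ne_zero
      (fun t => by rw [eq_zero_of_kernel_ηV H V t]; exact smul_zero _)
  have hcohHbar : Coh.IsCoh ((pushforward i).obj (Abelian.image (ηV H V))) :=
    (isCoh_push_of_shortExact _ hST hcohH).2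
  -- finiteness
  haveI hfinX : Module.Finite Γ(X, U.1) Γ((pushforward i).obj H, U.1) :=
    Groth.Agent.Lib.helper16.CohFinite.finite_sections_of_isCoh _ hcohH U.2
  have hfin : Module.Finite Γ(Z, V) Γ(H, V) :=
    @finite_of_compat Γ(X, U.1) Γ(Z, V) Γ(H, V) _ _ _
      (inferInstance : Module Γ(X, U.1) Γ((pushforward i).obj H, U.1)) _ φ (fun a n => rfl) hfinX
  -- the non-torsion section
  have hlin : ∀ (a : Γ(X, U.1)) (m : Γ(G, U.1)),
      (φ a • (show Γ(H, i ⁻¹ᵁ U.1) from (u.app U.1).hom m) : Γ(H, i ⁻¹ᵁ U.1)) =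
        (u.app U.1).hom (a • m) := by
    intro a m
    have h2 : (u.app U.1).hom (a • m) = a • (u.app U.1).hom m := Hom.app_smul u a m
    rw [h2]
    rfl
  let n₀ : Γ(H, V) := (u.app U.1).hom m₀
  have hn₀ : ∀ r : Γ(Z, V), r • n₀ = 0 → r = 0 := by
    intro r hr
    obtain ⟨a, rfl⟩ := hφs r
    rw [hφk]
    apply hm₀
    apply eq_zero_of_mem_smul_of_killed i.ker G hGk U
    rw [← unitOf_app_eq_zero_iff i G U.2]
    exact (hlin a m₀).symm.trans hr
  exact P_push_ideal_of_nontorsion (hyp.toHypW hsum) U H hcohHbar (h1.mp hPH) hfin n₀ hn₀ I ι x₀ hx₀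

end Full

end Groth.Agent.Lib.helper8.Dev
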