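import Mathlib
import Groth.Agent.Lib.Helper8.DevRankD3
import Groth.Agent.Lib.Helper8.DevMaster

set_option autoImplicit false
universe u
open CategoryTheory CategoryTheory.Limits AlgebraicGeometry TopologicalSpace Opposite

namespace Groth.Agent.Lib.helper8.Dev

open Groth.Agent.Lib.helper8.PullbackUnit Scheme.Modules Groth.Agent.Lib.helper8.SchemeSupport
open Groth.Agent.Lib.helper16.CohStalk

variable {X : Scheme.{u}}

section MasterD

/-- a point of the support of a quasi-coherent module is seen by a section over any affine open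
neighbourhood whose annihilator lies in the prime ideal of the point -/
theorem exists_section_of_mem_support (G : X.Modules) [G.IsQuasicoherent] (U : X.affineOpens)
    (y : X) (hy : y ∈ U.1) (hsupp : y ∈ CohB1.support G) :
    ∃ m : Γ(G, U.1), ∀ a : Γ(X, U.1), a • m = 0 → a ∈ (U.2.primeIdealOf ⟨y, hy⟩).asIdeal := by
  by_contra hcon
  push Not at hcon
  apply hsupp
  letI := TopCat.Presheaf.algebra_section_stalk X.presheaf (⟨y, hy⟩ : U.1)
  letI := modStalk G y hy
  haveI := isScalarTower_stalk G y hy
  haveI := isLocalizedModule_stalk G U.2 y hy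
  refine ⟨fun z w => ?_⟩
  have key : ∀ z : ↑(G.presheaf.stalk y), z = 0 := by
    intro z
    obtain ⟨⟨m, s⟩, hs⟩ := IsLocalizedModule.surj (U.2.primeIdealOf ⟨y, hy⟩).asIdeal.primeCompl
      (germLin G y hy) z
    obtain ⟨a, ha, hna⟩ := hcon m
    have h0 : germLin G y hy m = 0 := by
      rw [IsLocalizedModule.eq_zero_iff (U.2.primeIdealOf ⟨y, hy⟩).asIdeal.primeCompl]
      exact ⟨⟨a, hna⟩, ha⟩
    rw [h0] at hs
    exact (IsLocalizedModule.smul_inj (germLin G y hy) s z 0).mp (hs.trans (smul_zero s).symm)
  rw [key z, key w]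

theorem killedByIdeal_of_le {𝔞 𝔟 : X.IdealSheafData} (h : 𝔟 ≤ 𝔞) (G : X.Modules)
    (hG : ClSub.KilledByIdeal 𝔞 G) : ClSub.KilledByIdeal 𝔟 G :=
  fun U a ha m => hG U a (h U ha) m

theorem ker_le_vanishingIdeal_range {Z : Scheme.{u}} (i : Z ⟶ X) [IsClosedImmersion i] :
    i.ker ≤ Scheme.IdealSheafData.vanishingIdeal ⟨Set.range i, i.isClosedEmbedding.isClosed_range⟩ := by
  rw [← Scheme.IdealSheafData.le_support_iff_le_vanishingIdeal]
  intro x hx
  have h1 : x ∈ ((i.ker.support : Closeds X) : Set X) := by
    rw [Scheme.Hom.support_ker]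
    exact subset_closure hx
  exact h1

/-- **master dévissage theorem**, abstract form: extensions, and a core argument at the generic
point of each integral closed subscheme -/
theorem devissage_master_aux [IsNoetherian X] (P : X.Modules → Prop)
    (hP : ∀ M N : X.Modules, Nonempty (M ≅ N) → P M → P N) (T : Set X)
    (h0 : ∀ N : X.Modules, IsZero N → P N)
    (hext : ∀ S : ShortComplex X.Modules, S.ShortExact → Coh.IsCoh S.X₁ → Coh.IsCoh S.X₂ →
      Coh.IsCoh S.X₃ → CohB1.support S.X₂ ⊆ T → P S.X₁ → P S.X₃ → P S.X₂)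
    (hcore : ∀ (Z : Scheme.{u}) (i : Z ⟶ X) [IsClosedImmersion i] [IsIntegral Z],
      Set.range i ⊆ T → (∀ F' : X.Modules, Small i F' → P F') →
      ∀ (I : Z.Modules) (ι : I ⟶ Coh.structureModule Z), Mono ι → Coh.IsQCoh I → ¬ IsZero I →
        P ((Coh.push i).obj I))
    (M : X.Modules) (hM : Coh.IsCoh M) (hsupp : CohB1.support M ⊆ T) : P M := by
  have key : ∀ C : Closeds X, ∀ F : X.Modules, Coh.IsCoh F → CohB1.support F ⊆ (C : Set X) →
      CohB1.support F ⊆ T → P F := by
    intro C
    induction C using WellFoundedLT.induction with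
    | ind C ih =>
      intro F hF hFC hFT
      obtain ⟨m, Fj, φ, hF0, ⟨e⟩, hFc, hψ, hstep⟩ := exists_filtration' F hF
      have hsub : ∀ j, CohB1.support (Fj j) ⊆ CohB1.support F := by
        intro j
        obtain ⟨ψ, hψm⟩ := hψ j
        exact support_subset_of_mono ψ (hFc j) hF
      have hall : ∀ j, j ≤ m → P (Fj j) := by
        intro j
        induction j with
        | zero => exact fun _ => h0 _ hF0
        | succ j ihj =>
          intro hj
          have hj' : j < m := hj
          obtain ⟨hmono, Z, i, hi, hZ, I, ι, hι, hIq, hI0, ⟨e'⟩⟩ := hstep j hj'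
          haveI := hi
          haveI := hZ
          haveI := hι
          haveI : I.IsQuasicoherent := hIq
          have hQc : Coh.IsCoh (cokernel (φ j)) :=
            Groth.Agent.Lib.helper7.CohKer.isCoh_cokernel (hFc j) (hFc (j + 1)) (φ j)
          have hcI : Coh.IsCoh ((pushforward i).obj I) :=
            Groth.Agent.Lib.helper7.CohKer.isCoh_of_iso e' hQc
          have hQsupp : CohB1.support (cokernel (φ j)) ⊆ CohB1.support F :=
            (support_subset_of_epi (cokernel.π (φ j)) (hFc (j + 1)) hQc).trans (hsub (j + 1))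
          have hIsupp : CohB1.support ((pushforward i).obj I) ⊆ CohB1.support F :=
            (support_subset_of_mono e'.inv hcI hQc).trans hQsupp
          have hrange : Set.range i ⊆ CohB1.support F :=
            (range_subset_support_push i I ι hI0 hcI).trans hIsupp
          have hPI : P ((pushforward i).obj I) := by
            by_cases hC : Set.range i = (C : Set X)
            · refine hcore Z i (hrange.trans hFT) (fun F' hF' => ?_) I ι hι hIq hI0
              have hs1 := support_subset_range_of_small i F' hF'
              have hs2 := map_genericPoint_notMem_support_of_small i F' hF'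
              let C' : Closeds X := ⟨CohB1.support F', isClosed_support_of_isCoh F' hF'.1⟩
              have hlt : C' < C := by
                refine lt_of_le_of_ne ?_ ?_
                · intro x hx
                  have : x ∈ Set.range i := hs1 hx
                  rw [hC] at this
                  exact this
                · intro heq
                  apply hs2
                  have h3 : i (genericPoint Z) ∈ (C : Set X) := by
                    rw [← hC]
                    exact ⟨_, rfl⟩
                  rw [← heq] at h3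
                  exact h3
              exact ih C' hlt F' hF'.1 (le_refl _) (hs1.trans (hrange.trans hFT))
            · let C' : Closeds X := ⟨Set.range i, i.isClosedEmbedding.isClosed_range⟩
              have hlt : C' < C := by
                refine lt_of_le_of_ne (fun x hx => hFC (hrange hx)) ?_
                intro heq
                exact hC (congrArg (fun D : Closeds X => (D : Set X)) heq)
              have hs : CohB1.support ((pushforward i).obj I) ⊆ Set.range i :=
                support_subset_range_of_iso _ i I (Iso.refl _)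
              exact ih C' hlt _ hcI hs (hs.trans (hrange.trans hFT))
          have hPQ : P (cokernel (φ j)) := hP _ _ ⟨e'.symm⟩ hPI
          have hS := @shortExact_cokernel X.Modules _ _ _ _ (φ j) hmono
          exact hext _ hS (hFc j) (hFc (j + 1)) hQc ((hsub (j + 1)).trans hFT) (ihj hj'.le) hPQ
      exact hP _ _ ⟨e⟩ (hall m le_rfl)
  exact key ⟨CohB1.support M, isClosed_support_of_isCoh M hM⟩ M hM (le_refl _) hsupp

/-- **dévissage with direct summands**: a class of modules with the two-of-three property, stable
under coherent retracts, and containing for each irreducible closed `Z ⊆ T` a coherent module killed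
by the ideal of `Z` whose support contains the generic point, contains every coherent module with
support in `T`. -/
theorem devissage_master_summands [IsNoetherian X] (P : X.Modules → Prop)
    (hP : ∀ M N : X.Modules, Nonempty (M ≅ N) → P M → P N) (T : Set X)
    (h0 : ∀ N : X.Modules, IsZero N → P N)
    (h₁ : ∀ S : ShortComplex X.Modules, S.ShortExact → Coh.IsCoh S.X₁ → Coh.IsCoh S.X₂ →
      Coh.IsCoh S.X₃ → CohB1.support S.X₂ ⊆ T →
      (P S.X₁ → P S.X₂ → P S.X₃) ∧ (P S.X₁ → P S.X₃ → P S.X₂) ∧ (P S.X₂ → P S.X₃ → P S.X₁))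
    (hsum : ∀ (M N : X.Modules) (a : N ⟶ M) (r : M ⟶ N), a ≫ r = 𝟙 N → Coh.IsCoh M →
      Coh.IsCoh N → P M → P N)
    (hgen : ∀ (Z : Scheme.{u}) (i : Z ⟶ X) [IsClosedImmersion i] [IsIntegral Z],
      Set.range i ⊆ T →
      ∃ G : X.Modules, Coh.IsCoh G ∧ P G ∧ ClSub.KilledByIdeal i.ker G ∧
        i (genericPoint Z) ∈ CohB1.support G)
    (M : X.Modules) (hM : Coh.IsCoh M) (hsupp : CohB1.support M ⊆ T) : P M := by
  refine devissage_master_aux P hP T h0
    (fun S hS h1 h2 h3 hT => (h₁ S hS h1 h2 h3 hT).2.1) ?_ M hM hsupp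
  intro Z i _ _ hT hsmall I ι hι hIq hI0
  haveI := hι
  haveI : I.IsQuasicoherent := hIq
  obtain ⟨G, hG, hPG, hGk, hGy⟩ := hgen Z i hT
  haveI : G.IsQuasicoherent := hG.1
  have hyp : Hyp i P :=
    { iso := hP
      tot := fun S hS h1 h2 h3 ⟨n, hn⟩ =>
        h₁ S hS h1 h2 h3 ((support_subset_range_of_killed i S.X₂ h2 n hn).trans hT)
      small := hsmall }
  obtain ⟨U, x₀, hx₀⟩ := exists_section_ne_zero i I hI0
  have hιx₀ : (ι.app (i ⁻¹ᵁ U.1)).hom x₀ ≠ 0 := by
    intro h0'
    apply hx₀
    apply Groth.Agent.S2542.injective_app_of_mono ι (i ⁻¹ᵁ U.1)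
    rw [h0', map_zero]
  have hVne : ((i ⁻¹ᵁ U.1 : Z.Opens) : Set Z).Nonempty := by
    by_contra hVe
    have hbot : i ⁻¹ᵁ U.1 = ⊥ := by
      ext x
      simp only [Opens.coe_bot, Set.mem_empty_iff_false, iff_false]
      exact fun hx => hVe ⟨x, hx⟩
    apply hιx₀
    haveI : Subsingleton Γ(Z, i ⁻¹ᵁ U.1) := by
      rw [hbot]
      infer_instance
    exact Subsingleton.elim (α := Γ(Z, i ⁻¹ᵁ U.1)) _ _
  have hξ : i (genericPoint Z) ∈ U.1 := (map_genericPoint_mem_iff i U.1).mpr hVne
  obtain ⟨m₀, hm₀⟩ := exists_section_of_mem_support G U _ hξ hGy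
  rw [primeIdealOf_eq_ker_ideal i U hξ] at hm₀
  exact coreD_full hyp hsum G hG hGk hPG U m₀ hm₀ I ι x₀ hιx₀

end MasterD

end Groth.Agent.Lib.helper8.Dev
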