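import Mathlib
import Groth.Agent.Lib.Helper8.DevMasterD

set_option autoImplicit false
universe u
open CategoryTheory CategoryTheory.Limits AlgebraicGeometry TopologicalSpace Opposite

namespace Groth.Agent.Lib.helper8.Dev

open Groth.Agent.Lib.helper8.PullbackUnit Scheme.Modules

variable {Z : Scheme.{u}}

section AR

theorem exists_finite_affine_cover [CompactSpace Z] :
    ∃ s : Finset Z.affineOpens, ∀ x : Z, ∃ W ∈ s, x ∈ W.1 := by
  have hcover : (Set.univ : Set Z) ⊆ ⋃ U : Z.affineOpens, (U.1 : Set Z) := by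
    intro x _
    have : x ∈ (⨆ U : Z.affineOpens, (U.1 : Z.Opens)) := by
      rw [iSup_affineOpens_eq_top]; trivial
    obtain ⟨U, hU⟩ := Opens.mem_iSup.1 this
    exact Set.mem_iUnion.2 ⟨U, hU⟩
  obtain ⟨s, hs⟩ := isCompact_univ.elim_finite_subcover (fun U : Z.affineOpens => (U.1 : Set Z))
    (fun U => U.1.2) hcover
  refine ⟨s, fun x => ?_⟩
  have := hs (Set.mem_univ x)
  simp only [Set.mem_iUnion] at this
  obtain ⟨W, hW, hx⟩ := this
  exact ⟨W, hW, hx⟩

/-- **Artin–Rees, globally**: if the ideal `𝔟` kills the kernel of `g : H ⟶ Q` with `H` coherent on a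
noetherian scheme, then `𝔟ⁿ H` meets this kernel trivially for some `n`. -/
theorem exists_pow_mono [IsNoetherian Z] (H : Z.Modules) (hH : Coh.IsCoh H) {Q : Z.Modules}
    [Q.IsQuasicoherent] (g : H ⟶ Q) (𝔟 : Z.IdealSheafData)
    (hkill : ∀ (W : Z.affineOpens) (a : Γ(Z, W.1)), a ∈ 𝔟.ideal W → ∀ m : Γ(H, W.1),
      (g.app W.1).hom m = 0 → a • m = 0) :
    ∃ n : ℕ, Mono (idealSubι (𝔟 ^ n) H ≫ g) := by
  classical
  haveI : H.IsQuasicoherent := hH.1
  let N : ∀ W : Z.affineOpens, Submodule Γ(Z, W.1) Γ(H, W.1) := fun W =>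
    { carrier := {m | (g.app W.1).hom m = 0}
      add_mem' := fun {x y} hx hy => by
        show (g.app W.1).hom (x + y) = 0
        rw [map_add, hx, hy, add_zero]
      zero_mem' := map_zero _
      smul_mem' := fun a x hx => by
        show (g.app W.1).hom (a • x) = 0
        rw [Hom.app_smul, hx, smul_zero] }
  have hAR : ∀ W : Z.affineOpens, ∃ k : ℕ, ∀ n ≥ k,
      (𝔟.ideal W) ^ n • (⊤ : Submodule Γ(Z, W.1) Γ(H, W.1)) ⊓ N W =
        (𝔟.ideal W) ^ (n - k) • ((𝔟.ideal W) ^ k • ⊤ ⊓ N W) := by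
    intro W
    haveI : IsNoetherianRing Γ(Z, W.1) := IsLocallyNoetherian.component_noetherian W
    haveI : Module.Finite Γ(Z, W.1) Γ(H, W.1) :=
      Groth.Agent.Lib.helper16.CohFinite.finite_sections_of_isCoh H hH W.2
    exact Ideal.exists_pow_inf_eq_pow_smul (𝔟.ideal W) (N W)
  choose k hk using hAR
  obtain ⟨s, hs⟩ := exists_finite_affine_cover (Z := Z)
  let n : ℕ := s.sup k + 1
  have key : ∀ W ∈ s, ∀ m : Γ(H, W.1),
      m ∈ (𝔟.ideal W) ^ n • (⊤ : Submodule Γ(Z, W.1) Γ(H, W.1)) → (g.app W.1).hom m = 0 →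
        m = 0 := by
    intro W hW m hm hgm
    have hle : k W + 1 ≤ n := Nat.succ_le_succ (Finset.le_sup hW)
    have h1 : m ∈ (𝔟.ideal W) ^ (k W + 1) • (⊤ : Submodule Γ(Z, W.1) Γ(H, W.1)) :=
      Submodule.smul_mono_left (Ideal.pow_le_pow_right hle) hm
    have h2 : m ∈ (𝔟.ideal W) ^ (k W + 1) • (⊤ : Submodule Γ(Z, W.1) Γ(H, W.1)) ⊓ N W :=
      ⟨h1, hgm⟩
    rw [hk W (k W + 1) (Nat.le_succ _), Nat.add_sub_cancel_left, pow_one] at h2
    refine Submodule.smul_induction_on h2 (fun a ha x hx => ?_) (fun x y hx hy => ?_)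
    · exact hkill W a ha x hx.2
    · rw [hx, hy, add_zero]
  refine ⟨n, ?_⟩
  let φ : idealSub (𝔟 ^ n) H ⟶ Q := idealSubι (𝔟 ^ n) H ≫ g
  haveI : (kernel φ).IsQuasicoherent := Groth.Agent.Lib.helper7.CohKer.isQuasicoherent_kernel φ
  have hzero : IsZero (kernel φ) := by
    refine Groth.Agent.Lib.helper7.QCohZero.isZero_of_subsingleton_sections (kernel φ)
      (fun W : s => W.1.1) (fun W => W.1.2) (fun x => ?_) (fun W => ?_)
    · obtain ⟨W, hW, hx⟩ := hs x
      exact ⟨⟨W, hW⟩, hx⟩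
    · refine ⟨fun a b => ?_⟩
      suffices h : ∀ t : Γ(kernel φ, W.1.1), t = 0 by rw [h a, h b]
      intro t
      apply Groth.Agent.S2542.injective_app_of_mono (kernel.ι φ) W.1.1
      apply Groth.Agent.S2542.injective_app_of_mono (idealSubι (𝔟 ^ n) H) W.1.1
      rw [map_zero, map_zero]
      let x := ((kernel.ι φ).app W.1.1).hom t
      have hx1 : ((idealSubι (𝔟 ^ n) H).app W.1.1).hom x ∈
          (𝔟.ideal W.1) ^ n • (⊤ : Submodule Γ(Z, W.1.1) Γ(H, W.1.1)) :=
        (exists_idealSubι_app_eq_iff (𝔟 ^ n) H W.1.2 _).mp ⟨x, rfl⟩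
      have hx2 : (g.app W.1.1).hom (((idealSubι (𝔟 ^ n) H).app W.1.1).hom x) = 0 := by
        have h3 : (φ.app W.1.1).hom x = 0 := by
          show (φ.app W.1.1).hom (((kernel.ι φ).app W.1.1).hom t) = 0
          rw [← ConcreteCategory.comp_apply, ← Hom.comp_app, kernel.condition]
          rfl
        exact h3
      exact key W.1 W.2 _ hx1 hx2
  exact Preadditive.mono_of_kernel_zero (hzero.eq_of_src _ _)

end AR

section WeakCore

theorem finite_of_compat_surjective {A B N : Type*} [CommRing A] [CommRing B] [AddCommGroup N]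
    [Module A N] [Module B N] (φ : A →+* B) (hφ : Function.Surjective φ)
    (hcompat : ∀ (a : A) (n : N), a • n = φ a • n) [Module.Finite B N] : Module.Finite A N := by
  obtain ⟨S, hS⟩ := (Module.Finite.fg_top : (⊤ : Submodule B N).FG)
  refine ⟨⟨S, ?_⟩⟩
  rw [eq_top_iff]
  intro n _
  have hn : n ∈ Submodule.span B (S : Set N) := by
    rw [hS]
    trivial
  refine Submodule.span_induction (p := fun x _ => x ∈ Submodule.span A (S : Set N))
    (fun x hx => Submodule.subset_span hx) (Submodule.zero_mem _)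
    (fun x y _ _ hx hy => Submodule.add_mem _ hx hy) (fun b x _ hx => ?_) hn
  obtain ⟨a, rfl⟩ := hφ b
  rw [← hcompat]
  exact Submodule.smul_mem _ _ hx

variable {X : Scheme.{u}} (i : Z ⟶ X) [IsClosedImmersion i]

/-- the direct image of a coherent module under a closed immersion is coherent -/
theorem isCoh_push_of_isCoh (H : Z.Modules) (hH : Coh.IsCoh H) :
    Coh.IsCoh ((pushforward i).obj H) := by
  haveI : H.IsQuasicoherent := hH.1
  haveI : ((pushforward i).obj H).IsQuasicoherent :=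
    Groth.Agent.Lib.helper16.QCohAffinePush.isQuasicoherent_push i _
  refine Groth.Agent.Lib.helper16.CohFinite.isCoh_of_finite_sections _
    (fun U : X.affineOpens => U.1) (fun U => U.2) (iSup_affineOpens_eq_top X) (fun U => ?_)
  let φ : Γ(X, U.1) →+* Γ(Z, i ⁻¹ᵁ U.1) := (i.app U.1).hom
  have hφ : Function.Surjective φ := i.app_surjective U.1 U.2
  haveI hfinZ : Module.Finite Γ(Z, i ⁻¹ᵁ U.1) Γ(H, i ⁻¹ᵁ U.1) :=
    Groth.Agent.Lib.helper16.CohFinite.finite_sections_of_isCoh H hH (U.2.preimage i)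
  exact @finite_of_compat_surjective Γ(X, U.1) Γ(Z, i ⁻¹ᵁ U.1) Γ(H, i ⁻¹ᵁ U.1) _ _ _
    (inferInstance : Module Γ(X, U.1) Γ((pushforward i).obj H, U.1)) _ φ hφ (fun a n => rfl) hfinZ

variable {i} {P : X.Modules → Prop} [IsNoetherian X] [IsIntegral Z]

/-- **the rank `d` dévissage core, weak form** (kernels of epimorphisms, extensions, `d`-fold sums):
if `P` holds for `i_* H` with `H` coherent on the integral closed subscheme `Z` and not zero at the
generic point, then `P` holds for `i_* I` for every nonzero quasi-coherent ideal `I` of `O_Z` -/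
theorem coreD_weak (hyp : HypW i P) (H : Z.Modules) (hH : Coh.IsCoh H)
    (hstalk : Nontrivial (H.presheaf.stalk (genericPoint Z)))
    (hPH : P ((pushforward i).obj H)) (U : X.affineOpens)
    (I : Z.Modules) (ι : I ⟶ Coh.structureModule Z) [Mono ι] [I.IsQuasicoherent]
    (x₀ : Γ(I, i ⁻¹ᵁ U.1)) (hx₀ : (ι.app (i ⁻¹ᵁ U.1)).hom x₀ ≠ 0) :
    P ((pushforward i).obj I) := by
  haveI : H.IsQuasicoherent := hH.1
  let V : Z.Opens := i ⁻¹ᵁ U.1
  have hV : IsAffineOpen V := U.2.preimage i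
  have hVne : (V : Set Z).Nonempty := by
    by_contra hVe
    have hbot : V = ⊥ := by
      ext x
      simp only [Opens.coe_bot, Set.mem_empty_iff_false, iff_false]
      exact fun hx => hVe ⟨x, hx⟩
    apply hx₀
    haveI : Subsingleton Γ(Z, V) := by
      rw [hbot]
      infer_instance
    exact Subsingleton.elim (α := Γ(Z, V)) _ _
  haveI : Nonempty V := ⟨⟨hVne.some, hVne.some_mem⟩⟩
  haveI : IsDomain Γ(Z, V) := IsIntegral.component_integral V
  haveI : IsLocallyNoetherian Z := LocallyOfFiniteType.isLocallyNoetherian i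
  haveI : CompactSpace Z := i.isClosedEmbedding.compactSpace
  haveI : IsNoetherian Z := {}
  have hξV : genericPoint Z ∈ V := by
    have := (genericPoint_spec Z).mem_open_set_iff V.2
    rw [Set.univ_inter] at this
    exact this.mpr hVne
  -- the torsion of `H`
  haveI : (jj H V).IsQuasicoherent :=
    Groth.Agent.Lib.helper7.QCohPushQC.isQuasicoherent_pushforward V.ι (H.restrict V.ι)
  haveI : (kernel (ηV H V)).IsQuasicoherent :=
    Groth.Agent.Lib.helper7.CohKer.isQuasicoherent_kernel (ηV H V)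
  have hT : Coh.IsCoh (kernel (ηV H V)) :=
    Groth.Agent.S0046.result Z H _ (kernel.ι (ηV H V)) hH ‹_›
  let 𝔟 : Z.IdealSheafData := annI (kernel (ηV H V)) hT
  have hkill : ∀ (W : Z.affineOpens) (a : Γ(Z, W.1)), a ∈ 𝔟.ideal W → ∀ m : Γ(H, W.1),
      ((ηV H V).app W.1).hom m = 0 → a • m = 0 := by
    intro W a ha m hm
    obtain ⟨t, rfl⟩ := (exists_kernel_ι_app_eq_iff (ηV H V) W.1 m).mpr hm
    have h1 : a • t = 0 := (mem_annI_iff _ hT W a).mp ha t
    have h2 : ((kernel.ι (ηV H V)).app W.1).hom (a • t) =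
        a • ((kernel.ι (ηV H V)).app W.1).hom t := Hom.app_smul _ a t
    rw [← h2, h1, map_zero]
  obtain ⟨n, hmono⟩ := exists_pow_mono H hH (ηV H V) 𝔟 hkill
  -- the torsion free submodule `H' = 𝔟ⁿ H`
  let H' : Z.Modules := idealSub (𝔟 ^ n) H
  let ιH' : H' ⟶ H := idealSubι (𝔟 ^ n) H
  haveI : H'.IsQuasicoherent := isQuasicoherent_idealSub (𝔟 ^ n) H
  have hH' : Coh.IsCoh H' := Groth.Agent.S0046.result Z H _ ιH' hH ‹_›
  have hb1 : (1 : Γ(Z, V)) ∈ 𝔟.ideal ⟨V, hV⟩ := by
    rw [mem_annI_iff]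
    intro t
    rw [eq_zero_of_kernel_ηV H V t]
    exact smul_zero _
  have hbn : ((𝔟 ^ n).ideal ⟨V, hV⟩ : Ideal Γ(Z, V)) = ⊤ := by
    have h1 : 𝔟.ideal ⟨V, hV⟩ = ⊤ := (Ideal.eq_top_iff_one _).mpr hb1
    show (𝔟.ideal ⟨V, hV⟩) ^ n = ⊤
    rw [h1, Ideal.top_pow]
  have hlift : ∀ m : Γ(H, V), ∃ m' : Γ(H', V), (ιH'.app V).hom m' = m := by
    intro m
    refine (exists_idealSubι_app_eq_iff (𝔟 ^ n) H hV m).mpr ?_
    rw [hbn, Submodule.top_smul]
    trivial
  have hcohH : Coh.IsCoh ((pushforward i).obj H) := isCoh_push_of_isCoh i H hH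
  haveI : (cokernel ιH').IsQuasicoherent :=
    Groth.Agent.Lib.helper7.CohKer.isQuasicoherent_cokernel ιH'
  have hSC := shortExact_cokernel ιH'
  have h1 : P ((pushforward i).obj H') ↔ P ((pushforward i).obj H) :=
    P_iff_of_small_cokernel_W hyp U _ hSC hcohH (1 : Γ(Z, V)) one_ne_zero (fun c => by
      obtain ⟨m, rfl⟩ := Groth.Agent.Lib.helper16.QCohEpi.surjective_app_of_epi
        (cokernel.π ιH') hV c
      obtain ⟨m', rfl⟩ := hlift m
      rw [one_smul, ← ConcreteCategory.comp_apply, ← Hom.comp_app, cokernel.condition]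
      rfl)
  have hPH' : P ((pushforward i).obj H') := h1.mpr hPH
  have hcohH' : Coh.IsCoh ((pushforward i).obj H') := isCoh_push_of_isCoh i H' hH'
  -- `H'` embeds into `j_* j^* H'`
  have hnat : ιH' ≫ ηV H V = ηV H' V ≫ (pushforward V.ι).map ((restrictFunctor V.ι).map ιH') :=
    (restrictAdjunction V.ι).unit.naturality ιH'
  haveI : Mono (ηV H' V) := by
    haveI : Mono (ηV H' V ≫ (pushforward V.ι).map ((restrictFunctor V.ι).map ιH')) := by
      rw [← hnat]
      exact hmono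
    exact mono_of_mono (ηV H' V) ((pushforward V.ι).map ((restrictFunctor V.ι).map ιH'))
  haveI : Mono (Abelian.factorThruImage (ηV H' V)) := by
    haveI : Mono (Abelian.factorThruImage (ηV H' V) ≫ Abelian.image.ι (ηV H' V)) := by
      rw [Abelian.image.fac]
      infer_instance
    exact mono_of_mono _ (Abelian.image.ι (ηV H' V))
  haveI : IsIso (Abelian.factorThruImage (ηV H' V)) := isIso_of_mono_of_epi _
  let e : H' ≅ Abelian.image (ηV H' V) := asIso (Abelian.factorThruImage (ηV H' V))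
  have hPHbar : P ((pushforward i).obj (Abelian.image (ηV H' V))) :=
    hyp.iso _ _ ⟨(pushforward i).mapIso e⟩ hPH'
  have hcohHbar : Coh.IsCoh ((pushforward i).obj (Abelian.image (ηV H' V))) :=
    Groth.Agent.Lib.helper7.CohKer.isCoh_of_iso ((pushforward i).mapIso e) hcohH'
  -- finiteness and the non-torsion section
  have hfin : Module.Finite Γ(Z, V) Γ(H', V) :=
    Groth.Agent.Lib.helper16.CohFinite.finite_sections_of_isCoh H' hH' hV
  have hsupp : genericPoint Z ∈ CohB1.support H := by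
    show ¬ Subsingleton _
    rw [not_subsingleton_iff_nontrivial]
    exact hstalk
  obtain ⟨m, hm⟩ := exists_section_of_mem_support H ⟨V, hV⟩ (genericPoint Z) hξV hsupp
  obtain ⟨n₀, hn₀m⟩ := hlift m
  have hn₀ : ∀ r : Γ(Z, V), r • n₀ = 0 → r = 0 := by
    intro r hr
    have h2 : r • m = 0 := by
      rw [← hn₀m]
      have h3 : (ιH'.app V).hom (r • n₀) = r • (ιH'.app V).hom n₀ := Hom.app_smul _ r n₀
      rw [← h3, hr, map_zero]
    have h4 := hm r h2
    by_contra hr0
    have h5 := (genericPoint_mem_basicOpen_iff (Z := Z) r).mpr hr0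
    rw [Groth.Agent.Lib.helper28.mem_basicOpen_iff hV _ hξV r] at h5
    exact h5 h4
  exact P_push_ideal_of_nontorsion hyp U H' hcohHbar hPHbar hfin n₀ hn₀ I ι x₀ hx₀

end WeakCore

end Groth.Agent.Lib.helper8.Dev
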