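import Mathlib
import Groth.Agent.Lib.Helper8.DevAR

set_option autoImplicit false
universe u
open CategoryTheory CategoryTheory.Limits AlgebraicGeometry TopologicalSpace Opposite ZeroObject

namespace Groth.Agent.Lib.helper8.Dev

open Groth.Agent.Lib.helper8.PullbackUnit Scheme.Modules Groth.Agent.Lib.helper8.SchemeSupport
open Groth.Agent.Lib.helper16.CohStalk

section Alg

/-- Nakayama, in the form used for supports: a finite module with a section not killed outside the
prime `𝔭` has a section whose multiples outside `𝔭` avoid `𝔭 M`. -/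
theorem exists_forall_smul_mem_smul_top {A : Type*} [CommRing A] (𝔭 : Ideal A) [𝔭.IsPrime]
    {M : Type*} [AddCommGroup M] [Module A M] [Module.Finite A M] (m₀ : M)
    (hm₀ : ∀ a : A, a • m₀ = 0 → a ∈ 𝔭) :
    ∃ m : M, ∀ a : A, a • m ∈ 𝔭 • (⊤ : Submodule A M) → a ∈ 𝔭 := by
  let p : PrimeSpectrum A := ⟨𝔭, inferInstance⟩
  have hp₁ : p ∈ Module.support A M := by
    rw [Module.mem_support_iff']
    exact ⟨m₀, fun r hr h0 => hr (hm₀ r h0)⟩
  have hp₂ : p ∈ PrimeSpectrum.zeroLocus (𝔭 : Set A) := by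
    rw [PrimeSpectrum.mem_zeroLocus]
  have hp : p ∈ Module.support A (M ⧸ (𝔭 • ⊤ : Submodule A M)) := by
    rw [Module.support_quotient]
    exact ⟨hp₁, hp₂⟩
  rw [Module.mem_support_iff'] at hp
  obtain ⟨mbar, hmbar⟩ := hp
  obtain ⟨m, rfl⟩ := Submodule.mkQ_surjective _ mbar
  refine ⟨m, fun a ha => ?_⟩
  by_contra hna
  apply hmbar a hna
  have h1 : a • (Submodule.mkQ (𝔭 • ⊤ : Submodule A M)) m =
      (Submodule.mkQ (𝔭 • ⊤ : Submodule A M)) (a • m) := (LinearMap.map_smul _ a m).symm
  rw [h1]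
  exact (Submodule.Quotient.mk_eq_zero _).mpr ha

end Alg

variable {X : Scheme.{u}}

section SuppSection

/-- a section over an affine open whose annihilator lies in the prime ideal of `y` shows that `y`
is in the support -/
theorem mem_support_of_section (G : X.Modules) [G.IsQuasicoherent] (U : X.affineOpens)
    (y : X) (hy : y ∈ U.1) (n : Γ(G, U.1))
    (hn : ∀ a : Γ(X, U.1), a • n = 0 → a ∈ (U.2.primeIdealOf ⟨y, hy⟩).asIdeal) :
    y ∈ CohB1.support G := by
  intro hsub
  letI := TopCat.Presheaf.algebra_section_stalk X.presheaf (⟨y, hy⟩ : U.1)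
  letI := modStalk G y hy
  haveI := isScalarTower_stalk G y hy
  haveI := isLocalizedModule_stalk G U.2 y hy
  have h0 : germLin G y hy n = 0 := Subsingleton.elim _ _
  rw [IsLocalizedModule.eq_zero_iff (U.2.primeIdealOf ⟨y, hy⟩).asIdeal.primeCompl] at h0
  obtain ⟨⟨c, hc⟩, hcn⟩ := h0
  exact hc (hn c hcn)

end SuppSection

section Serre

/-- a Serre class of coherent modules -/
def IsSerre (P : ObjectProperty X.Modules) : Prop :=
  ∀ S : ShortComplex X.Modules, S.ShortExact → Coh.IsCoh S.X₁ → Coh.IsCoh S.X₂ →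
    Coh.IsCoh S.X₃ → (P S.X₂ ↔ P S.X₁ ∧ P S.X₃)

variable {P : ObjectProperty X.Modules}

theorem IsSerre.of_iso [IsLocallyNoetherian X] (hP : IsSerre P) {M N : X.Modules} (e : M ≅ N)
    (hM : Coh.IsCoh M) (h : P M) : P N := by
  let S : ShortComplex X.Modules := ShortComplex.mk (0 : (0 : X.Modules) ⟶ M) e.hom zero_comp
  have hsplit : S.Splitting :=
    { r := 0
      s := e.inv
      f_r := (isZero_zero _).eq_of_src _ _
      s_g := e.inv_hom_id
      id := by simp [S] }
  exact ((hP S hsplit.shortExact (Groth.Agent.Lib.helper7.CohKer.isCoh_of_isZero (isZero_zero _))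
    hM (Groth.Agent.Lib.helper7.CohKer.isCoh_of_iso e hM)).mp h).2

theorem IsSerre.of_epi [IsLocallyNoetherian X] (hP : IsSerre P) {M N : X.Modules} (p : M ⟶ N)
    [Epi p] (hM : Coh.IsCoh M) (hN : Coh.IsCoh N) (h : P M) : P N := by
  have hS : (ShortComplex.mk (kernel.ι p) p (kernel.condition p)).ShortExact :=
    { exact := ShortComplex.exact_of_f_is_kernel _ (kernelIsKernel p)
      mono_f := inferInstanceAs (Mono (kernel.ι p))
      epi_g := inferInstanceAs (Epi p) }
  exact ((hP _ hS (Groth.Agent.Lib.helper7.CohKer.isCoh_kernel hM hN p) hM hN).mp h).2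

theorem IsSerre.of_mono (hP : IsSerre P) {M N : X.Modules} (j : N ⟶ M)
    [Mono j] (hM : Coh.IsCoh M) (hN : Coh.IsCoh N) (h : P M) : P N := by
  have hS := shortExact_cokernel j
  exact ((hP _ hS hN hM (Groth.Agent.Lib.helper7.CohKer.isCoh_cokernel hN hM j)).mp h).1

theorem IsSerre.zero (hP : IsSerre P) {M₀ : X.Modules} (hM₀ : Coh.IsCoh M₀) (h : P M₀)
    (N : X.Modules) (hN : IsZero N) : P N := by
  let S : ShortComplex X.Modules := ShortComplex.mk (0 : N ⟶ M₀) (𝟙 M₀) zero_comp
  have hsplit : S.Splitting :=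
    { r := 0
      s := 𝟙 _
      f_r := hN.eq_of_src _ _
      s_g := Category.comp_id _
      id := by simp [S] }
  exact ((hP S hsplit.shortExact (Groth.Agent.Lib.helper7.CohKer.isCoh_of_isZero hN)
    hM₀ hM₀).mp h).1

/-- the support of the middle term of a short exact sequence of coherent modules -/
theorem support_subset_union [IsNoetherian X] (S : ShortComplex X.Modules) (hS : S.ShortExact)
    (h1 : Coh.IsCoh S.X₁) (h2 : Coh.IsCoh S.X₂) (h3 : Coh.IsCoh S.X₃) :
    CohB1.support S.X₂ ⊆ CohB1.support S.X₁ ∪ CohB1.support S.X₃ := by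
  haveI := hS.mono_f
  have hk : ClSub.KilledByIdeal (annI S.X₃ h3 * annI S.X₁ h1) S.X₂ := by
    intro U x hx m
    have hx' : x ∈ (annI S.X₃ h3).ideal U * (annI S.X₁ h1).ideal U := hx
    refine Submodule.mul_induction_on hx' (fun c hc a ha => ?_) (fun x y hx hy => ?_)
    · have h4 : (S.g.app U.1).hom (c • m) = 0 := by
        have h5 : (S.g.app U.1).hom (c • m) = c • (S.g.app U.1).hom m := Hom.app_smul S.g c m
        rw [h5]
        exact (mem_annI_iff S.X₃ h3 U c).mp hc _
      obtain ⟨m', hm'⟩ := exists_app_eq_of_exact S.f S.g S.zero hS.exact U.1 (c • m) h4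
      have h6 : (c * a) • m = a • (c • m) := by
        rw [mul_comm, mul_smul]
      rw [h6, ← hm']
      have h7 : (S.f.app U.1).hom (a • m') = a • (S.f.app U.1).hom m' := Hom.app_smul S.f a m'
      exact h7.symm.trans ((congrArg (S.f.app U.1).hom
        ((mem_annI_iff S.X₁ h1 U a).mp ha m')).trans (map_zero _))
    · rw [add_smul, hx, hy, add_zero]
  have hle := (killedByIdeal_iff_le_annI _ S.X₂ h2).mp hk
  have hsup := Scheme.IdealSheafData.support_antitone hle
  rw [Scheme.IdealSheafData.support_mul] at hsup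
  intro x hx
  rw [support_eq_annI_support S.X₂ h2] at hx
  have h8 : x ∈ (((annI S.X₃ h3).support ⊔ (annI S.X₁ h1).support : Closeds X) : Set X) :=
    hsup hx
  rw [Closeds.coe_sup] at h8
  rcases h8 with h9 | h9
  · right
    rw [support_eq_annI_support S.X₃ h3]
    exact h9
  · left
    rw [support_eq_annI_support S.X₁ h1]
    exact h9

/-- "support contained in `T`" is a Serre class -/
theorem isSerre_support_subset [IsNoetherian X] (T : Set X) :
    IsSerre (X := X) (fun M => CohB1.support M ⊆ T) := by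
  intro S hS h1 h2 h3
  haveI := hS.mono_f
  haveI := hS.epi_g
  constructor
  · intro h
    exact ⟨(support_subset_of_mono S.f h1 h2).trans h, (support_subset_of_epi S.g h2 h3).trans h⟩
  · rintro ⟨ha, hc⟩
    exact (support_subset_union S hS h1 h2 h3).trans (Set.union_subset ha hc)

/-- **dévissage for Serre classes** -/
theorem serre_devissage [IsNoetherian X] (hP : IsSerre P) (T : Set X)
    (h0 : ∀ N : X.Modules, IsZero N → P N)
    (hgen : ∀ (Z : Scheme.{u}) (i : Z ⟶ X) [IsClosedImmersion i] [IsIntegral Z],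
      Set.range i ⊆ T →
      ∃ G : X.Modules, Coh.IsCoh G ∧ P G ∧ ClSub.KilledByIdeal i.ker G ∧
        i (genericPoint Z) ∈ CohB1.support G)
    (M : X.Modules) (hM : Coh.IsCoh M) (hsupp : CohB1.support M ⊆ T) : P M := by
  refine (devissage_master_summands (fun M => Coh.IsCoh M ∧ P M) ?_ T ?_ ?_ ?_ ?_ M hM hsupp).2
  · rintro M N ⟨e⟩ ⟨hM, hPM⟩
    exact ⟨Groth.Agent.Lib.helper7.CohKer.isCoh_of_iso e hM, hP.of_iso e hM hPM⟩
  · intro N hN
    exact ⟨Groth.Agent.Lib.helper7.CohKer.isCoh_of_isZero hN, h0 N hN⟩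
  · intro S hS h1 h2 h3 _
    have h := hP S hS h1 h2 h3
    exact ⟨fun _ hb => ⟨h3, (h.mp hb.2).2⟩, fun ha hc => ⟨h2, h.mpr ⟨ha.2, hc.2⟩⟩,
      fun hb _ => ⟨h1, (h.mp hb.2).1⟩⟩
  · rintro M N a r har hM hN ⟨-, hPM⟩
    haveI : IsSplitEpi r := IsSplitEpi.mk' ⟨a, har⟩
    exact ⟨hN, hP.of_epi r hM hN hPM⟩
  · intro Z i _ _ hT
    obtain ⟨G, hG, hPG, hk, hy⟩ := hgen Z i hT
    exact ⟨G, hG, ⟨hG, hPG⟩, hk, hy⟩

end Serre

section Witness

variable {Z : Scheme.{u}} (i : Z ⟶ X) [IsClosedImmersion i]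

/-- the restriction `i_* i^* F` of a coherent module to an integral closed subscheme through whose
generic point the support of `F` passes: it is coherent, killed by the ideal of `Z`, and its
support contains the generic point (Nakayama) -/
theorem pullback_witness [IsNoetherian X] [IsIntegral Z] (F : X.Modules) (hF : Coh.IsCoh F)
    (hy : i (genericPoint Z) ∈ CohB1.support F) :
    Coh.IsCoh ((pushforward i).obj ((Scheme.Modules.pullback i).obj F)) ∧
    ClSub.KilledByIdeal i.ker ((pushforward i).obj ((Scheme.Modules.pullback i).obj F)) ∧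
    i (genericPoint Z) ∈
      CohB1.support ((pushforward i).obj ((Scheme.Modules.pullback i).obj F)) := by
  haveI : F.IsQuasicoherent := hF.1
  let H : Z.Modules := (Scheme.Modules.pullback i).obj F
  haveI : H.IsQuasicoherent := Groth.Agent.Lib.helper16.QCohPullback.isQuasicoherent_pullback i F
  let u : F ⟶ (pushforward i).obj H := unitOf i F
  haveI : ((pushforward i).obj H).IsQuasicoherent :=
    Groth.Agent.Lib.helper16.QCohAffinePush.isQuasicoherent_push i H
  have hcohH : Coh.IsCoh ((pushforward i).obj H) :=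
    ⟨inferInstance, Groth.Agent.Lib.helper7.CohKer.isFiniteType_of_epi u hF.2⟩
  refine ⟨hcohH, killedByIdeal_ker_push i H, ?_⟩
  obtain ⟨_, ⟨U, hU : IsAffineOpen U, rfl⟩, hξ, -⟩ :=
    X.isBasis_affineOpens.exists_subset_of_mem_open (Set.mem_univ (i (genericPoint Z)))
      isOpen_univ
  obtain ⟨m₀, hm₀⟩ := exists_section_of_mem_support F ⟨U, hU⟩ _ hξ hy
  haveI : Module.Finite Γ(X, U) Γ(F, U) :=
    Groth.Agent.Lib.helper16.CohFinite.finite_sections_of_isCoh F hF hU
  obtain ⟨m, hm⟩ := exists_forall_smul_mem_smul_top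
    (hU.primeIdealOf ⟨i (genericPoint Z), hξ⟩).asIdeal m₀ hm₀
  refine mem_support_of_section _ ⟨U, hU⟩ _ hξ ((u.app U).hom m) (fun a ha => ?_)
  apply hm
  rw [primeIdealOf_eq_ker_ideal i ⟨U, hU⟩ hξ, ← unitOf_app_eq_zero_iff i F hU]
  have h2 : (u.app U).hom (a • m) = a • (u.app U).hom m := Hom.app_smul u a m
  exact h2.trans ha

/-- a Serre class containing the coherent module `F` contains every coherent module with support
in the support of `F` -/
theorem serre_of_support_subset [IsNoetherian X] {P : ObjectProperty X.Modules} (hP : IsSerre P)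
    (F : X.Modules) (hF : Coh.IsCoh F) (hPF : P F) (E : X.Modules) (hE : Coh.IsCoh E)
    (hsupp : CohB1.support E ⊆ CohB1.support F) : P E := by
  haveI : F.IsQuasicoherent := hF.1
  refine serre_devissage hP (CohB1.support F) (hP.zero hF hPF) ?_ E hE hsupp
  intro Z i _ _ hT
  obtain ⟨h1, h2, h3⟩ := pullback_witness i F hF (hT ⟨_, rfl⟩)
  exact ⟨_, h1, hP.of_epi (unitOf i F) hF h1 hPF, h2, h3⟩

end Witness

section ClosedSet

/-- the structure sheaf of the reduced induced closed subscheme on a closed subset, as a coherent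
module with support this closed subset -/
theorem exists_isCoh_support_eq [IsNoetherian X] (C : Closeds X) :
    ∃ F : X.Modules, Coh.IsCoh F ∧ CohB1.support F = (C : Set X) := by
  let 𝔞 : X.IdealSheafData := Scheme.IdealSheafData.vanishingIdeal C
  let i := 𝔞.subschemeι
  have hrange : Set.range i = (C : Set X) := by
    rw [Scheme.IdealSheafData.range_subschemeι, Scheme.IdealSheafData.coe_support_vanishingIdeal]
  let F : X.Modules := (pushforward i).obj (Coh.structureModule 𝔞.subscheme)
  have hF : Coh.IsCoh F := isCoh_push_structureModule i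
  haveI : F.IsQuasicoherent := hF.1
  refine ⟨F, hF, subset_antisymm ?_ ?_⟩
  · rw [← hrange]
    exact support_subset_range_of_iso _ i _ (Iso.refl _)
  · rw [← hrange]
    rintro _ ⟨z, rfl⟩
    obtain ⟨_, ⟨U, hU : IsAffineOpen U, rfl⟩, hy, -⟩ :=
      X.isBasis_affineOpens.exists_subset_of_mem_open (Set.mem_univ (i z)) isOpen_univ
    refine mem_support_of_section F ⟨U, hU⟩ _ hy (1 : Γ(𝔞.subscheme, i ⁻¹ᵁ U)) (fun a ha => ?_)
    have h1 : (i.app U).hom a = 0 := by
      have h2 : (i.app U).hom a * (1 : Γ(𝔞.subscheme, i ⁻¹ᵁ U)) = 0 := ha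
      rw [mul_one] at h2
      exact h2
    by_contra hna
    have h3 : i z ∈ X.basicOpen a :=
      (Groth.Agent.Lib.helper28.mem_basicOpen_iff hU _ hy a).mpr hna
    have h4 : z ∈ i ⁻¹ᵁ X.basicOpen a := h3
    rw [Scheme.preimage_basicOpen, h1, Scheme.basicOpen_zero] at h4
    exact h4

end ClosedSet

end Groth.Agent.Lib.helper8.Dev
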