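import Mathlib
import Groth.Agent.Lib.Helper8.DevSerre

set_option autoImplicit false
universe u
open CategoryTheory CategoryTheory.Limits AlgebraicGeometry TopologicalSpace Opposite

namespace Groth.Agent.Lib.helper8.Dev

open Groth.Agent.Lib.helper8.PullbackUnit Scheme.Modules

variable {Z : Scheme.{u}}

section Ext

/-- a coherent module `H` on a noetherian scheme has a quasi-coherent submodule `H'`, equal to `H`
over the affine open `V`, which embeds into `j_* j^* H'` (`j : V ⟶ Z`) -/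
theorem exists_torsionFree_sub [IsNoetherian Z] (H : Z.Modules) (hH : Coh.IsCoh H) (V : Z.Opens)
    (hV : IsAffineOpen V) :
    ∃ (H' : Z.Modules) (ιH' : H' ⟶ H), Mono ιH' ∧ H'.IsQuasicoherent ∧ Mono (ηV H' V) ∧
      ∀ m : Γ(H, V), ∃ m' : Γ(H', V), (ιH'.app V).hom m' = m := by
  haveI : H.IsQuasicoherent := hH.1
  haveI : (jj H V).IsQuasicoherent :=
    Groth.Agent.Lib.helper7.QCohPushQC.isQuasicoherent_pushforward V.ι (H.restrict V.ι)
  haveI : (kernel (ηV H V)).IsQuasicoherent :=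
    Groth.Agent.Lib.helper7.CohKer.isQuasicoherent_kernel (ηV H V)
  have hT : Coh.IsCoh (kernel (ηV H V)) :=
    Groth.Agent.S0046.result Z H _ (kernel.ι (ηV H V)) hH ‹_›
  let 𝔟 : Z.IdealSheafData := annI (kernel (ηV H V)) hT
  have hkill : ∀ (W : Z.affineOpens) (a : Γ(Z, W.1)), a ∈ 𝔟.ideal W → ∀ m : Γ(H, W.1),
      ((ηV H V).app W.1).hom m = 0 → a • m = 0 := by
    intro W a ha m hm
    obtain ⟨t, rfl⟩ := (exists_kernel_ι_app_eq_iff (ηV H V) W.1 m).mpr hm
    have h1 : a • t = 0 := (mem_annI_iff _ hT W a).mp ha t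
    have h2 : ((kernel.ι (ηV H V)).app W.1).hom (a • t) =
        a • ((kernel.ι (ηV H V)).app W.1).hom t := Hom.app_smul _ a t
    rw [← h2, h1, map_zero]
  obtain ⟨n, hmono⟩ := exists_pow_mono H hH (ηV H V) 𝔟 hkill
  let H' : Z.Modules := idealSub (𝔟 ^ n) H
  let ιH' : H' ⟶ H := idealSubι (𝔟 ^ n) H
  haveI : H'.IsQuasicoherent := isQuasicoherent_idealSub (𝔟 ^ n) H
  have hb1 : (1 : Γ(Z, V)) ∈ 𝔟.ideal ⟨V, hV⟩ := by
    rw [mem_annI_iff]
    intro t
    rw [eq_zero_of_kernel_ηV H V t]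
    exact smul_zero _
  have hbn : ((𝔟 ^ n).ideal ⟨V, hV⟩ : Ideal Γ(Z, V)) = ⊤ := by
    have h1 : 𝔟.ideal ⟨V, hV⟩ = ⊤ := (Ideal.eq_top_iff_one _).mpr hb1
    show (𝔟.ideal ⟨V, hV⟩) ^ n = ⊤
    rw [h1, Ideal.top_pow]
  have hlift : ∀ m : Γ(H, V), ∃ m' : Γ(H', V), (ιH'.app V).hom m' = m := by
    intro m
    refine (exists_idealSubι_app_eq_iff (𝔟 ^ n) H hV m).mpr ?_
    rw [hbn, Submodule.top_smul]
    trivial
  have hnat : ιH' ≫ ηV H V = ηV H' V ≫ (pushforward V.ι).map ((restrictFunctor V.ι).map ιH') :=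
    (restrictAdjunction V.ι).unit.naturality ιH'
  have hη' : Mono (ηV H' V) := by
    haveI : Mono (ηV H' V ≫ (pushforward V.ι).map ((restrictFunctor V.ι).map ιH')) := by
      rw [← hnat]
      exact hmono
    exact mono_of_mono (ηV H' V) ((pushforward V.ι).map ((restrictFunctor V.ι).map ιH'))
  exact ⟨H', ιH', inferInstance, inferInstance, hη', hlift⟩

/-- **the conductor** without integrality: a quasi-coherent ideal `I` of `O_Z`, containing `1` over
`V`, with a morphism into the image of `H ⟶ j_* j^* H` sending `1` to the class of `s'` -/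
theorem exists_ideal_image' (H : Z.Modules) [H.IsQuasicoherent] (V : Z.Opens) (s' : Γ(H, V))
    [QuasiCompact V.ι] :
    ∃ (I : Z.Modules) (ι : I ⟶ Coh.structureModule Z) (β : I ⟶ Abelian.image (ηV H V)),
      Mono ι ∧ I.IsQuasicoherent ∧
      ∃ one : Γ(I, V), (ι.app V).hom one = (1 : Γ(Z, V)) ∧
        (β.app V).hom one = ((Abelian.factorThruImage (ηV H V)).app V).hom s' := by
  haveI : (jj H V).IsQuasicoherent :=
    Groth.Agent.Lib.helper7.QCohPushQC.isQuasicoherent_pushforward V.ι (H.restrict V.ι)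
  haveI : (cokernel (ηV H V)).IsQuasicoherent :=
    Groth.Agent.Lib.helper7.CohKer.isQuasicoherent_cokernel (ηV H V)
  let g : Coh.structureModule Z ⟶ cokernel (ηV H V) := aOf H V s' ≫ cokernel.π (ηV H V)
  haveI hI : (kernel g).IsQuasicoherent :=
    Groth.Agent.Lib.helper7.CohKer.isQuasicoherent_kernel g
  have hw : (kernel.ι g ≫ aOf H V s') ≫ cokernel.π (ηV H V) = 0 := by
    rw [Category.assoc]
    exact kernel.condition g
  let β : kernel g ⟶ Abelian.image (ηV H V) := kernel.lift _ (kernel.ι g ≫ aOf H V s') hw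
  have hβ : β ≫ Abelian.image.ι (ηV H V) = kernel.ι g ≫ aOf H V s' := kernel.lift_ι _ _ _
  have e1 : (Hom.app (aOf H V s') V).hom (1 : Γ(Z, V)) = ((ηV H V).app V).hom s' := by
    rw [aOf_app, ηV_app, map_one, one_smul]
  have h1 : (g.app V).hom (1 : Γ(Z, V)) = 0 := by
    show ((cokernel.π (ηV H V)).app V).hom ((Hom.app (aOf H V s') V).hom (1 : Γ(Z, V))) = 0
    rw [e1, ← ConcreteCategory.comp_apply, ← Hom.comp_app, cokernel.condition]
    rfl
  obtain ⟨one, hone⟩ := (exists_kernel_ι_app_eq_iff g V (1 : Γ(Z, V))).mpr h1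
  refine ⟨kernel g, kernel.ι g, β, inferInstance, hI, one, hone, ?_⟩
  apply Groth.Agent.S2542.injective_app_of_mono (Abelian.image.ι (ηV H V)) V
  have h2 : ((Abelian.image.ι (ηV H V)).app V).hom ((β.app V).hom one) =
      (Hom.app (aOf H V s') V).hom (((kernel.ι g).app V).hom one) := by
    rw [← ConcreteCategory.comp_apply, ← Hom.comp_app, hβ]
    rfl
  have h3 : ((Abelian.image.ι (ηV H V)).app V).hom
      (((Abelian.factorThruImage (ηV H V)).app V).hom s') = ((ηV H V).app V).hom s' := by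
    rw [← ConcreteCategory.comp_apply, ← Hom.comp_app, Abelian.image.fac]
  rw [h2, h3, hone, e1]

/-- **extension of a section to a morphism from an ideal**: for a coherent module `M` on a
noetherian scheme and a section `m` over an affine open `V` there is a quasi-coherent ideal `J`,
containing `1` over `V`, and a morphism `J ⟶ M` sending `1` to `m`. -/
theorem exists_ideal_hom_of_section [IsNoetherian Z] (M : Z.Modules) (hM : Coh.IsCoh M)
    (V : Z.Opens) (hV : IsAffineOpen V) (m : Γ(M, V)) :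
    ∃ (J : Z.Modules) (ιJ : J ⟶ Coh.structureModule Z) (β : J ⟶ M),
      Mono ιJ ∧ J.IsQuasicoherent ∧
      ∃ one : Γ(J, V), (ιJ.app V).hom one = (1 : Γ(Z, V)) ∧ (β.app V).hom one = m := by
  obtain ⟨H', ιH', hι, hq, hη, hlift⟩ := exists_torsionFree_sub M hM V hV
  haveI := hι
  haveI := hq
  haveI := hη
  obtain ⟨m', hm'⟩ := hlift m
  obtain ⟨J, ιJ, β₀, hιJ, hJq, one, hone, hβone⟩ := exists_ideal_image' H' V m'
  haveI : Mono (Abelian.factorThruImage (ηV H' V)) := by
    haveI : Mono (Abelian.factorThruImage (ηV H' V) ≫ Abelian.image.ι (ηV H' V)) := by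
      rw [Abelian.image.fac]
      infer_instance
    exact mono_of_mono _ (Abelian.image.ι (ηV H' V))
  haveI : IsIso (Abelian.factorThruImage (ηV H' V)) := isIso_of_mono_of_epi _
  refine ⟨J, ιJ, β₀ ≫ inv (Abelian.factorThruImage (ηV H' V)) ≫ ιH', hιJ, hJq, one, hone, ?_⟩
  have h1 : ((β₀ ≫ inv (Abelian.factorThruImage (ηV H' V))).app V).hom one = m' := by
    have h2 : (β₀.app V).hom one =
        ((Abelian.factorThruImage (ηV H' V)).app V).hom m' := hβone
    have h3 : ((β₀ ≫ inv (Abelian.factorThruImage (ηV H' V))).app V).hom one =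
        ((inv (Abelian.factorThruImage (ηV H' V))).app V).hom ((β₀.app V).hom one) := rfl
    rw [h3, h2, ← ConcreteCategory.comp_apply, ← Hom.comp_app, IsIso.hom_inv_id]
    rfl
  have h4 : ((β₀ ≫ inv (Abelian.factorThruImage (ηV H' V)) ≫ ιH').app V).hom one =
      (ιH'.app V).hom (((β₀ ≫ inv (Abelian.factorThruImage (ηV H' V))).app V).hom one) := by
    rw [← Category.assoc]
    rfl
  rw [h4, h1, hm']

end Ext

end Groth.Agent.Lib.helper8.Dev
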