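import Mathlib
import Groth.Agent.Lib.Helper8.DevExt
import Groth.Agent.Lib.Helper8.DevRankD2

/-!
# Generic structure of a coherent module on an integral noetherian scheme (helper8)

* `exists_mono_biproduct_ideal`: for `H` coherent on an integral noetherian scheme `Z` and a nonempty
  affine open `V`, there are `d`, a quasi-coherent ideal `J ⊆ O_Z` containing `1` over `V` and a
  monomorphism `B : J^d ⟶ H` whose cokernel is killed over `V` by a nonzero function `b`.
-/

set_option autoImplicit false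
universe u
open CategoryTheory CategoryTheory.Limits AlgebraicGeometry TopologicalSpace Opposite

namespace Groth.Agent.Lib.helper8.Dev

open Groth.Agent.Lib.helper8.PullbackUnit Scheme.Modules

attribute [local instance] Abelian.hasFiniteBiproducts

variable {Z : Scheme.{u}}

theorem exists_mono_biproduct_ideal [IsIntegral Z] [IsNoetherian Z] (H : Z.Modules)
    (hH : Coh.IsCoh H) (V : Z.Opens) (hV : IsAffineOpen V) (hVne : (V : Set Z).Nonempty) :
    ∃ (d : ℕ) (J : Z.Modules) (ιJ : J ⟶ Coh.structureModule Z)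
      (B : (⨁ fun _ : Fin d => J) ⟶ H),
      Mono ιJ ∧ J.IsQuasicoherent ∧ Mono B ∧
      (∃ one : Γ(J, V), (ιJ.app V).hom one = (1 : Γ(Z, V))) ∧
      ∃ b : Γ(Z, V), b ≠ 0 ∧ ∀ c : Γ(cokernel B, V), b • c = 0 := by
  classical
  haveI : H.IsQuasicoherent := hH.1
  obtain ⟨H', ιH', hmono, hqc, hη, hlift⟩ := exists_torsionFree_sub H hH V hV
  haveI := hmono
  haveI := hqc
  haveI := hη
  have hH' : Coh.IsCoh H' := Groth.Agent.S0046.result Z H _ ιH' hH ‹_›
  haveI : Nonempty V := ⟨⟨hVne.some, hVne.some_mem⟩⟩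
  haveI : IsDomain Γ(Z, V) := IsIntegral.component_integral V
  haveI : IsNoetherianRing Γ(Z, V) := IsLocallyNoetherian.component_noetherian ⟨V, hV⟩
  haveI hfin : Module.Finite Γ(Z, V) Γ(H', V) :=
    Groth.Agent.Lib.helper16.CohFinite.finite_sections_of_isCoh H' hH' hV
  obtain ⟨d, s, hs, b, hb, hgen⟩ := exists_generic_basis (B := Γ(Z, V)) (N := Γ(H', V))
  obtain ⟨J, ιJ, B₀, hιJ, hJ, hB₀, one, hone1, hone⟩ := exists_ideal_image_D H' V hV hVne s hs
  haveI := hιJ
  haveI := hJ
  haveI := hB₀
  haveI : Mono (Abelian.factorThruImage (ηV H' V)) := by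
    haveI : Mono (Abelian.factorThruImage (ηV H' V) ≫ Abelian.image.ι (ηV H' V)) := by
      rw [Abelian.image.fac]
      infer_instance
    exact mono_of_mono _ (Abelian.image.ι (ηV H' V))
  haveI : IsIso (Abelian.factorThruImage (ηV H' V)) := isIso_of_mono_of_epi _
  let q : Abelian.image (ηV H' V) ⟶ H' := inv (Abelian.factorThruImage (ηV H' V))
  let B : (⨁ fun _ : Fin d => J) ⟶ H := B₀ ≫ q ≫ ιH'
  have hBone : ∀ k, (B.app V).hom (((biproduct.ι (fun _ : Fin d => J) k).app V).hom one) =
      (ιH'.app V).hom (s k) := by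
    intro k
    have h1 : (B.app V).hom (((biproduct.ι (fun _ : Fin d => J) k).app V).hom one) =
        (ιH'.app V).hom ((q.app V).hom ((B₀.app V).hom
          (((biproduct.ι (fun _ : Fin d => J) k).app V).hom one))) := rfl
    have h2 : (q.app V).hom (((Abelian.factorThruImage (ηV H' V)).app V).hom (s k)) = s k := by
      have h3 : (Abelian.factorThruImage (ηV H' V) ≫ q) = 𝟙 _ := IsIso.hom_inv_id _
      exact congrArg (fun f => (Hom.app f V).hom (s k)) h3
    rw [h1, hone k, h2]
  haveI : (⨁ fun _ : Fin d => J).IsQuasicoherent :=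
    isQuasicoherent_biproduct _ (fun _ => inferInstance)
  haveI : (cokernel B).IsQuasicoherent :=
    Groth.Agent.Lib.helper7.CohKer.isQuasicoherent_cokernel B
  refine ⟨d, J, ιJ, B, hιJ, hJ, ?_, ⟨one, hone1⟩, b, hb, ?_⟩
  · haveI : Mono (q ≫ ιH') := mono_comp _ _
    exact mono_comp _ _
  · intro c
    obtain ⟨m, rfl⟩ := Groth.Agent.Lib.helper16.QCohEpi.surjective_app_of_epi (cokernel.π B) hV c
    obtain ⟨m', rfl⟩ := hlift m
    obtain ⟨cf, hcf⟩ := hgen m'
    have h1 : b • ((cokernel.π B).app V).hom ((ιH'.app V).hom m') =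
        ((cokernel.π B).app V).hom ((ιH'.app V).hom (b • m')) := by
      rw [Hom.app_smul, Hom.app_smul]
    rw [h1, hcf]
    have h2 : (ιH'.app V).hom (∑ k, cf k • s k) =
        (B.app V).hom (∑ k, cf k • ((biproduct.ι (fun _ : Fin d => J) k).app V).hom one) := by
      rw [map_sum, map_sum]
      refine Finset.sum_congr rfl (fun k _ => ?_)
      rw [Hom.app_smul, Hom.app_smul, hBone k]
    rw [h2, ← ConcreteCategory.comp_apply, ← Hom.comp_app, cokernel.condition]
    rfl

end Groth.Agent.Lib.helper8.Dev
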