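import Groth.Agent.Lib.Helper8.StalkLenAlg
import Groth.Agent.Lib.Helper16.CohStalk

/-!
# Finite length of stalks of coherent modules at generic points of the support (helper8)

* `nontrivial_stalk_iff`: for quasi-coherent `F`, affine `U ∋ y`: `F_y ≠ 0 ↔ 𝔭_y ∈ Supp Γ(F,U)`.
* `primeIdealOf_le_iff`: `𝔭_y ≤ 𝔭_x ↔ y ⤳ x`.
* `minimal_iff_isFiniteLength`: on a locally noetherian scheme, for coherent `F`: `x` is a maximal
  point of `Supp F` iff `F_x` is a nonzero `𝒪_{X,x}`-module of finite length.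
-/

set_option autoImplicit false
universe u
open CategoryTheory CategoryTheory.Limits AlgebraicGeometry TopologicalSpace Opposite

namespace Groth.Agent.Lib.helper8.StalkLen

open Scheme.Modules Groth.Agent.Lib.helper16.CohStalk Groth.Agent.Lib.helper16.CohFinite

variable {X : Scheme.{u}} (F : X.Modules) {U : X.Opens} (hU : IsAffineOpen U)

include hU in
theorem nontrivial_stalk_iff [F.IsQuasicoherent] (y : X) (hy : y ∈ U) :
    Nontrivial ↑(F.presheaf.stalk y) ↔
      hU.primeIdealOf ⟨y, hy⟩ ∈ Module.support Γ(X, U) Γ(F, U) := by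
  letI := modStalk F y hy
  haveI := isLocalizedModule_stalk F hU y hy
  rw [Module.mem_support_iff]
  exact (IsLocalizedModule.iso (hU.primeIdealOf ⟨y, hy⟩).asIdeal.primeCompl
    (germLin F y hy)).toEquiv.nontrivial_congr.symm

include hU in
theorem primeIdealOf_le_iff (x y : X) (hx : x ∈ U) (hy : y ∈ U) :
    hU.primeIdealOf ⟨y, hy⟩ ≤ hU.primeIdealOf ⟨x, hx⟩ ↔ y ⤳ x := by
  rw [PrimeSpectrum.le_iff_specializes]
  unfold IsAffineOpen.primeIdealOf
  exact (hU.isoSpec.hom.isOpenEmbedding.isInducing.specializes_iff).trans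
    (subtype_specializes_iff (⟨y, hy⟩ : U) ⟨x, hx⟩)

include hU in
theorem exists_primeIdealOf_eq (q : PrimeSpectrum Γ(X, U)) :
    ∃ (y : X) (hy : y ∈ U), hU.primeIdealOf ⟨y, hy⟩ = q := by
  refine ⟨(hU.isoSpec.inv q).1, (hU.isoSpec.inv q).2, ?_⟩
  unfold IsAffineOpen.primeIdealOf
  change hU.isoSpec.hom (hU.isoSpec.inv q) = q
  rw [← Scheme.Hom.comp_apply, Iso.inv_hom_id]
  rfl

include hU in
theorem primeIdealOf_injective (x y : X) (hx : x ∈ U) (hy : y ∈ U)
    (h : hU.primeIdealOf ⟨y, hy⟩ = hU.primeIdealOf ⟨x, hx⟩) : y = x := by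
  have h1 := hU.fromSpec_primeIdealOf ⟨y, hy⟩
  have h2 := hU.fromSpec_primeIdealOf ⟨x, hx⟩
  rw [h] at h1
  exact h1.symm.trans h2

/-- `x` is a maximal point of `Supp F` iff `F_x` is nonzero of finite length. -/
theorem minimal_iff_isFiniteLength [IsLocallyNoetherian X] (hF : Coh.IsCoh F) (x : X) :
    (Nontrivial ↑(F.presheaf.stalk x) ∧
        ∀ y : X, Nontrivial ↑(F.presheaf.stalk y) → y ⤳ x → y = x) ↔
      (Nontrivial ↑(F.presheaf.stalk x) ∧
        IsFiniteLength ↑(X.presheaf.stalk x) ↑(F.presheaf.stalk x)) := by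
  haveI : F.IsQuasicoherent := hF.1
  obtain ⟨_, ⟨U, hU : IsAffineOpen U, rfl⟩, hxU, -⟩ :=
    X.isBasis_affineOpens.exists_subset_of_mem_open (Set.mem_univ x) isOpen_univ
  letI := TopCat.Presheaf.algebra_section_stalk X.presheaf (⟨x, hxU⟩ : U)
  letI := modStalk F x hxU
  haveI := isScalarTower_stalk F x hxU
  haveI : IsLocalization.AtPrime (X.presheaf.stalk x) (hU.primeIdealOf ⟨x, hxU⟩).asIdeal :=
    hU.isLocalization_stalk ⟨x, hxU⟩
  haveI := isLocalizedModule_stalk F hU x hxU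
  haveI : Module.Finite Γ(X, U) Γ(F, U) := finite_sections_of_isCoh F hF hU
  haveI : IsNoetherianRing Γ(X, U) := IsLocallyNoetherian.component_noetherian ⟨U, hU⟩
  rw [nontrivial_and_isFiniteLength_iff (hU.primeIdealOf ⟨x, hxU⟩).asIdeal (germLin F x hxU)]
  rw [nontrivial_stalk_iff F hU x hxU]
  refine and_congr_right fun _ => ?_
  constructor
  · intro h q hq hle
    obtain ⟨y, hy, rfl⟩ := exists_primeIdealOf_eq hU q
    have h1 : y = x := h y ((nontrivial_stalk_iff F hU y hy).mpr hq)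
      ((primeIdealOf_le_iff hU x y hxU hy).mp hle)
    subst h1
    rfl
  · intro h y hy hyx
    have hyU : y ∈ U := hyx.mem_open U.2 hxU
    have h1 := h _ ((nontrivial_stalk_iff F hU y hyU).mp hy)
      ((primeIdealOf_le_iff hU x y hxU hyU).mpr hyx)
    exact primeIdealOf_injective hU x y hxU hyU h1

end Groth.Agent.Lib.helper8.StalkLen
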