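import Mathlib
import Groth.Agent.Lib.Helper8.DevGeneric
import Groth.Agent.Lib.Helper8.ClosedImmUnit
import Groth.Agent.Lib.Helper8.StalkExact
import Groth.Agent.Lib.Helper8.StalkLen
import Groth.Agent.Lib.Helper8.DevInd
import Groth.Agent.Lib.Helper11.IsoLocus
import Groth.Agent.Lib.Helper16.QCohPullback2

/-!
# A coherent module killed by `m_ξ` at the generic point `ξ` of an integral closed subscheme (helper8)

* `subsingleton_stalk_idealSub_ker`: if `m_ξ F_ξ = 0` then `(I_Z F)_ξ = 0`.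
* `killedByIdeal_cokernel_idealSubι`: `F / 𝔟 F` is killed by `𝔟`.
* `isIso_restrict_compl_support_cokernel`: a monomorphism is an isomorphism off the support of its
  cokernel.
* `exists_mono_push_biproduct_near_generic`: Stacks 01YE — there is a monomorphism
  `i_* (J^r) ⟶ F` which is an isomorphism near `ξ`.
-/

set_option autoImplicit false
set_option linter.style.haveILetI false
universe u
open CategoryTheory CategoryTheory.Limits AlgebraicGeometry TopologicalSpace Opposite

namespace Groth.Agent.Lib.helper8.Dev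

open Groth.Agent.Lib.helper8.PullbackUnit Scheme.Modules
open Groth.Agent.Lib.helper17.FlatOver7 Groth.Agent.Lib.helper8.StalkLen
open Groth.Agent.Lib.helper16.QCohAss

attribute [local instance] Abelian.hasFiniteBiproducts

variable {X Z : Scheme.{u}}

section Pieces

variable (i : Z ⟶ X) [IsClosedImmersion i] [IsIntegral Z] (F : X.Modules) [F.IsQuasicoherent]

theorem subsingleton_stalk_idealSub_ker
    (hann : ∀ a ∈ IsLocalRing.maximalIdeal (X.presheaf.stalk (i (genericPoint Z))),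
      ∀ m : ↑(F.presheaf.stalk (i (genericPoint Z))), a • m = 0) :
    Subsingleton ↑((idealSub i.ker F).presheaf.stalk (i (genericPoint Z))) := by
  refine subsingleton_of_forall_eq 0 (fun m => ?_)
  apply stalkAdd_injective_of_mono (idealSubι i.ker F) (i (genericPoint Z))
  rw [map_zero]
  obtain ⟨V₁, hξ₁, t, rfl⟩ := (idealSub i.ker F).presheaf.exists_germ_eq m
  obtain ⟨_, ⟨U, hU : IsAffineOpen U, rfl⟩, hξU, hUV⟩ :=
    X.isBasis_affineOpens.exists_subset_of_mem_open hξ₁ V₁.2
  have hUV' : U ≤ V₁ := hUV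
  have h1 := TopCat.Presheaf.germ_res_apply (idealSub i.ker F).presheaf (homOfLE hUV') _ hξU t
  rw [← h1, stalkAdd_germ]
  have hmem := (exists_idealSubι_app_eq_iff i.ker F hU _).mp
    ⟨(idealSub i.ker F).presheaf.map (homOfLE hUV').op t, rfl⟩
  refine Submodule.smul_induction_on hmem (fun a ha n _ => ?_) (fun x y hx hy => ?_)
  · rw [germ_smul' F U _ hξU]
    apply hann
    rw [IsLocalRing.mem_maximalIdeal, mem_nonunits_iff]
    intro hunit
    have h2 : i (genericPoint Z) ∈ X.basicOpen a := (X.mem_basicOpen a _ hξU).mpr hunit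
    exact (mem_ker_ideal_iff i ⟨U, hU⟩ a).mp ha h2
  · rw [map_add, hx, hy, add_zero]

end Pieces

section Pieces2

variable (𝔟 : X.IdealSheafData) (F : X.Modules) [F.IsQuasicoherent]

theorem killedByIdeal_cokernel_idealSubι :
    ClSub.KilledByIdeal 𝔟 (cokernel (idealSubι 𝔟 F)) := by
  haveI : (cokernel (idealSubι 𝔟 F)).IsQuasicoherent :=
    Groth.Agent.Lib.helper7.CohKer.isQuasicoherent_cokernel _
  intro U a ha c
  obtain ⟨m, rfl⟩ := Groth.Agent.Lib.helper16.QCohEpi.surjective_app_of_epi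
    (cokernel.π (idealSubι 𝔟 F)) U.2 c
  have h1 : a • ((cokernel.π (idealSubι 𝔟 F)).app U.1).hom m =
      ((cokernel.π (idealSubι 𝔟 F)).app U.1).hom (a • m) := (Hom.app_smul _ a m).symm
  have h2 : a • m ∈ 𝔟.ideal ⟨U.1, U.2⟩ • (⊤ : Submodule Γ(X, U.1) Γ(F, U.1)) :=
    Submodule.smul_mem_smul ha trivial
  obtain ⟨t', ht'⟩ := (exists_idealSubι_app_eq_iff 𝔟 F U.2 (a • m)).mpr h2
  refine h1.trans ?_
  rw [← ht', ← ConcreteCategory.comp_apply, ← Hom.comp_app, cokernel.condition]
  rfl

end Pieces2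

section IsoOff

/-- a monomorphism with quasi-coherent target is an isomorphism on stalks at every point where the
stalk of its cokernel vanishes -/
theorem isIso_stalkMap_of_subsingleton_cokernel {A F : X.Modules} (φ : A ⟶ F) [Mono φ] (x : X)
    (hx : Subsingleton ↑((cokernel φ).presheaf.stalk x)) :
    IsIso (Groth.Agent.Lib.helper11.IsoLocus.stalkMap φ x) := by
  have hex : (ShortComplex.mk φ (cokernel.π φ) (cokernel.condition φ)).Exact :=
    ShortComplex.exact_cokernel φ
  have hinj := stalkAdd_injective_of_mono φ x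
  have hsurj : Function.Surjective (stalkAdd φ x) := by
    intro m
    have h1 : stalkAdd (cokernel.π φ) x m = 0 := Subsingleton.elim _ _
    exact (stalkAdd_exact φ (cokernel.π φ) (cokernel.condition φ) hex x m).mp h1
  exact (ConcreteCategory.isIso_iff_bijective _).mpr ⟨hinj, hsurj⟩

end IsoOff

section Main

variable [IsNoetherian X] (i : Z ⟶ X) [IsClosedImmersion i] [IsIntegral Z]

/-- **Stacks 01YE**: `F` coherent on a noetherian scheme with `m_ξ F_ξ = 0`, `ξ` the generic point of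
the integral closed subscheme `Z`: there is a monomorphism `i_* (J^r) ⟶ F`, `J ⊆ O_Z` a coherent
ideal, which is an isomorphism near `ξ`. -/
theorem exists_mono_push_near_generic (F : X.Modules) (hF : Coh.IsCoh F)
    (hann : ∀ a ∈ IsLocalRing.maximalIdeal (X.presheaf.stalk (i (genericPoint Z))),
      ∀ m : ↑(F.presheaf.stalk (i (genericPoint Z))), a • m = 0) :
    ∃ (r : ℕ) (I : Z.Modules) (ι : I ⟶ Coh.structureModule Z)
      (φ : (Coh.push i).obj (∐ fun _ : Fin r => I) ⟶ F),
      Mono ι ∧ Coh.IsCoh I ∧ Mono φ ∧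
      ∃ U : X.Opens, i (genericPoint Z) ∈ U ∧
        IsIso ((Scheme.Modules.restrictFunctor U.ι).map φ) := by
  classical
  haveI : F.IsQuasicoherent := hF.1
  haveI : IsLocallyNoetherian Z := LocallyOfFiniteType.isLocallyNoetherian i
  haveI : CompactSpace Z := i.isClosedEmbedding.compactSpace
  haveI : IsNoetherian Z := {}
  -- Step A : the submodule `F' = 𝔟 F`, killed by the ideal of `Z`, equal to `F` near `ξ`
  let K : X.Modules := idealSub i.ker F
  haveI : K.IsQuasicoherent := isQuasicoherent_idealSub i.ker F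
  have hK : Coh.IsCoh K := Groth.Agent.S0046.result X F _ (idealSubι i.ker F) hF ‹_›
  have hKξ : i (genericPoint Z) ∉ CohB1.support K :=
    fun h => h (subsingleton_stalk_idealSub_ker i F hann)
  let 𝔟 : X.IdealSheafData := annI K hK
  have h𝔟ξ : i (genericPoint Z) ∉ (𝔟.support : Set X) := by
    rw [← support_eq_annI_support K hK]
    exact hKξ
  let F' : X.Modules := idealSub 𝔟 F
  let ιF' : F' ⟶ F := idealSubι 𝔟 F
  haveI : F'.IsQuasicoherent := isQuasicoherent_idealSub 𝔟 F
  have hF' : Coh.IsCoh F' := Groth.Agent.S0046.result X F _ ιF' hF ‹_›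
  have hkill : ∀ (U : X.affineOpens) (a : Γ(X, U.1)), a ∈ i.ker.ideal U →
      ∀ s : Γ(F', U.1), a • s = 0 := by
    intro U a ha s
    apply Groth.Agent.S2542.injective_app_of_mono ιF' U.1
    rw [map_zero]
    have h1 : (ιF'.app U.1).hom (a • s) = a • (ιF'.app U.1).hom s := Hom.app_smul _ a s
    refine h1.trans ?_
    have hmem := (exists_idealSubι_app_eq_iff 𝔟 F U.2 _).mp ⟨s, rfl⟩
    refine Submodule.smul_induction_on hmem (fun b hb n _ => ?_) (fun x y hx hy => ?_)
    · have h2 : a • n ∈ i.ker.ideal ⟨U.1, U.2⟩ • (⊤ : Submodule Γ(X, U.1) Γ(F, U.1)) :=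
        Submodule.smul_mem_smul ha trivial
      obtain ⟨t, ht⟩ := (exists_idealSubι_app_eq_iff i.ker F U.2 (a • n)).mpr h2
      have h3 : b • t = 0 := (mem_annI_iff K hK U b).mp hb t
      have h4 : ((idealSubι i.ker F).app U.1).hom (b • t) =
          b • ((idealSubι i.ker F).app U.1).hom t := Hom.app_smul _ b t
      refine (smul_comm a b n).trans ?_
      rw [← ht]
      exact h4.symm.trans ((congrArg _ h3).trans (map_zero _))
    · rw [smul_add, hx, hy, add_zero]
  -- Step B : `F' ≅ i_* G`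
  haveI hiso : IsIso ((pullbackPushforwardAdjunction i).unit.app F') :=
    (Groth.Agent.Lib.helper8.ClosedImmUnit.isIso_unit_iff_of_isClosedImmersion i F').mpr hkill
  let G : Z.Modules := (Scheme.Modules.pullback i).obj F'
  let u : F' ⟶ (pushforward i).obj G := (pullbackPushforwardAdjunction i).unit.app F'
  haveI : IsIso u := hiso
  haveI : G.IsQuasicoherent :=
    Groth.Agent.Lib.helper16.QCohPullback.isQuasicoherent_pullback i F'
  have hG : Coh.IsCoh G :=
    ⟨‹_›, Groth.Agent.Lib.helper16.QCohPullback2.isFiniteType_pullback i F' hF'.2⟩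
  -- Step C : generic structure of `G`
  obtain ⟨_, ⟨U₁, hU₁ : IsAffineOpen U₁, rfl⟩, hξU₁, -⟩ :=
    X.isBasis_affineOpens.exists_subset_of_mem_open
      (show i (genericPoint Z) ∈ (⊤ : X.Opens) from trivial) (⊤ : X.Opens).2
  let V : Z.Opens := i ⁻¹ᵁ U₁
  have hV : IsAffineOpen V := hU₁.preimage i
  have hVne : (V : Set Z).Nonempty := ⟨genericPoint Z, hξU₁⟩
  obtain ⟨r, J, ιJ, B, hιJ, hJ, hB, -, b, hb, hbc⟩ := exists_mono_biproduct_ideal G hG V hV hVne
  haveI := hιJ
  haveI := hJ
  haveI := hB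
  have hJc : Coh.IsCoh J :=
    Groth.Agent.S0046.result Z _ J ιJ (isCoh_structureModule Z) hJ
  -- Step D
  let cs : (⨁ fun _ : Fin r => J) ≅ ∐ fun _ : Fin r => J := biproduct.isoCoproduct _
  let B' : (∐ fun _ : Fin r => J) ⟶ G := cs.inv ≫ B
  haveI : Mono B' := mono_comp _ _
  haveI : (pushforward i).IsRightAdjoint := (pullbackPushforwardAdjunction i).isRightAdjoint
  haveI : Mono ((pushforward i).map B') := inferInstance
  let φ : (pushforward i).obj (∐ fun _ : Fin r => J) ⟶ F := (pushforward i).map B' ≫ inv u ≫ ιF'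
  haveI : Mono φ := by
    haveI : Mono (inv u ≫ ιF') := mono_comp _ _
    exact mono_comp _ _
  haveI : (⨁ fun _ : Fin r => J).IsQuasicoherent :=
    isQuasicoherent_biproduct _ (fun _ => hJ)
  haveI : (∐ fun _ : Fin r => J).IsQuasicoherent :=
    Groth.Agent.Lib.helper16.QCohFibre.isQuasicoherent_of_iso cs
  haveI : ((pushforward i).obj (∐ fun _ : Fin r => J)).IsQuasicoherent :=
    Groth.Agent.Lib.helper16.QCohAffinePush.isQuasicoherent_push i _
  haveI : (cokernel φ).IsQuasicoherent :=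
    Groth.Agent.Lib.helper7.CohKer.isQuasicoherent_cokernel φ
  have hC : Coh.IsCoh (cokernel φ) :=
    ⟨‹_›, Groth.Agent.Lib.helper7.CohKer.isFiniteType_of_epi (cokernel.π φ) hF.2⟩
  have hCξ : i (genericPoint Z) ∉ CohB1.support (cokernel φ) := by
    intro hmem
    have hnt : Nontrivial ↑((cokernel φ).presheaf.stalk (i (genericPoint Z))) :=
      not_subsingleton_iff_nontrivial.mp hmem
    rw [nontrivial_stalk_iff (cokernel φ) hU₁ _ hξU₁, Module.mem_support_iff'] at hnt
    obtain ⟨n, hn⟩ := hnt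
    obtain ⟨m, rfl⟩ := Groth.Agent.Lib.helper16.QCohEpi.surjective_app_of_epi
      (cokernel.π φ) hU₁ n
    obtain ⟨a₁, ha₁𝔟, ha₁ξ⟩ : ∃ a₁ ∈ 𝔟.ideal ⟨U₁, hU₁⟩, i (genericPoint Z) ∈ X.basicOpen a₁ := by
      by_contra hcon
      push Not at hcon
      apply h𝔟ξ
      rw [SetLike.mem_coe, Scheme.IdealSheafData.mem_support_iff_of_mem (U := ⟨U₁, hU₁⟩) hξU₁,
        Scheme.mem_zeroLocus_iff]
      exact hcon
    obtain ⟨m₁, hm₁⟩ := (exists_idealSubι_app_eq_iff 𝔟 F hU₁ (a₁ • m)).mpr
      (Submodule.smul_mem_smul ha₁𝔟 trivial)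
    let t : Γ(G, V) := (u.app U₁).hom m₁
    have hex : (ShortComplex.mk B (cokernel.π B) (cokernel.condition B)).Exact :=
      ShortComplex.exact_cokernel B
    have h0 : ((cokernel.π B).app V).hom (b • t) = 0 := by
      have h01 : ((cokernel.π B).app V).hom (b • t) = b • ((cokernel.π B).app V).hom t :=
        Hom.app_smul _ b t
      exact h01.trans (hbc _)
    obtain ⟨y, hy⟩ := exists_app_eq_of_exact B (cokernel.π B) (cokernel.condition B) hex V
      (b • t) h0
    obtain ⟨a₂, ha₂⟩ := i.app_surjective U₁ hU₁ b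
    have ha₂ξ : a₂ ∉ (hU₁.primeIdealOf ⟨i (genericPoint Z), hξU₁⟩).asIdeal := by
      rw [primeIdealOf_eq_ker_ideal i ⟨U₁, hU₁⟩ hξU₁, Scheme.Hom.ker_apply, RingHom.mem_ker, ha₂]
      exact hb
    have ha₁ξ' : a₁ ∉ (hU₁.primeIdealOf ⟨i (genericPoint Z), hξU₁⟩).asIdeal :=
      (Groth.Agent.Lib.helper28.mem_basicOpen_iff hU₁ _ hξU₁ a₁).mp ha₁ξ
    have ha₂₁ : a₂ * a₁ ∉ (hU₁.primeIdealOf ⟨i (genericPoint Z), hξU₁⟩).asIdeal := by
      intro h
      rcases (hU₁.primeIdealOf ⟨i (genericPoint Z), hξU₁⟩).isPrime.mem_or_mem h with h | h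
      · exact ha₂ξ h
      · exact ha₁ξ' h
    apply hn (a₂ * a₁) ha₂₁
    -- the section `y'` of `i_* (∐ J)` over `U₁` with `φ y' = (a₂ a₁) m`
    let y' : Γ((pushforward i).obj (∐ fun _ : Fin r => J), U₁) := (cs.hom.app V).hom y
    have hy' : (B'.app V).hom ((cs.hom.app V).hom y) = b • t := by
      have h1 : (B'.app V).hom ((cs.hom.app V).hom y) = (B.app V).hom y := by
        have h2 : cs.hom ≫ B' = B := by
          simp only [B', Iso.hom_inv_id_assoc]
        exact congrArg (fun f => (Hom.app f V).hom y) h2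
      rw [h1, hy]
    have hbt : (b • t : Γ(G, V)) = (u.app U₁).hom (a₂ • m₁) := by
      have h1 : (u.app U₁).hom (a₂ • m₁) = a₂ • (u.app U₁).hom m₁ := Hom.app_smul _ a₂ m₁
      refine Eq.trans ?_ h1.symm
      rw [← ha₂]
      rfl
    have hφy : (φ.app U₁).hom y' = (a₂ * a₁) • m := by
      have h1 : (φ.app U₁).hom y' =
          (ιF'.app U₁).hom (((inv u).app U₁).hom ((B'.app V).hom ((cs.hom.app V).hom y))) := rfl
      rw [h1, hy', hbt]
      have h2 : ((inv u).app U₁).hom ((u.app U₁).hom (a₂ • m₁)) = a₂ • m₁ := by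
        have h3 : u ≫ inv u = 𝟙 _ := IsIso.hom_inv_id u
        exact congrArg (fun f => (Hom.app f U₁).hom (a₂ • m₁)) h3
      rw [h2]
      have h4 : (ιF'.app U₁).hom (a₂ • m₁) = a₂ • (ιF'.app U₁).hom m₁ := Hom.app_smul _ a₂ m₁
      refine h4.trans ?_
      rw [hm₁]
      exact (mul_smul a₂ a₁ m).symm
    have h5 : (a₂ * a₁) • ((cokernel.π φ).app U₁).hom m =
        ((cokernel.π φ).app U₁).hom ((a₂ * a₁) • m) := (Hom.app_smul _ _ m).symm
    refine h5.trans ?_
    rw [← hφy, ← ConcreteCategory.comp_apply, ← Hom.comp_app, cokernel.condition]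
    rfl
  let U : X.Opens := ⟨(CohB1.support (cokernel φ))ᶜ,
    (isClosed_support_of_isCoh _ hC).isOpen_compl⟩
  refine ⟨r, J, ιJ, φ, hιJ, hJc, inferInstance, U, hCξ, ?_⟩
  rw [Groth.Agent.Lib.helper11.IsoLocus.isIso_restrict_iff_stalk]
  intro x hx
  exact isIso_stalkMap_of_subsingleton_cokernel φ x (not_not.mp hx)

end Main

end Groth.Agent.Lib.helper8.Dev
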