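import Mathlib
import Groth.Agent.Lib.Helper8.DevNearGeneric
import Groth.Prelude.Def_Dual3

/-!
# Dévissage with a generic witness, extensions and direct summands (helper8)

Tools for Stacks 01YM-type dévissage (`P` stable under extensions and "direct summands of powers"):
* `small_of_support`: a coherent module supported in `i(Z)` with vanishing stalk at the generic point
  is `Small i`.
* `smul_cokernel_biproduct_map`: the cokernel of `θ^s` is killed by whatever kills the cokernel of `θ`.
* `length_stalk_eq_of_bijective`, `length_stalk_eq_zero_of_small`.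
* `map_genericPoint_eq`: `i η = ξ` if `range i = closure {ξ}`.
-/

set_option autoImplicit false
set_option linter.style.haveILetI false
universe u
open CategoryTheory CategoryTheory.Limits AlgebraicGeometry TopologicalSpace Opposite

namespace Groth.Agent.Lib.helper8.Dev

open Groth.Agent.Lib.helper8.PullbackUnit Scheme.Modules
open Groth.Agent.Lib.helper17.FlatOver7 Groth.Agent.Lib.helper8.StalkLen
open Groth.Agent.Lib.helper16.QCohAss

attribute [local instance] Abelian.hasFiniteBiproducts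

variable {X Z : Scheme.{u}}

section SmallSupp

variable [IsNoetherian X] (i : Z ⟶ X) [IsClosedImmersion i] [IsIntegral Z]

theorem small_of_support (F' : X.Modules) (hF' : Coh.IsCoh F')
    (hs : CohB1.support F' ⊆ Set.range i) (hξ : i (genericPoint Z) ∉ CohB1.support F') :
    Small i F' := by
  refine ⟨hF', exists_killed_of_support_subset i F' hF' hs, ?_⟩
  obtain ⟨_, ⟨U, hU : IsAffineOpen U, rfl⟩, hξU, -⟩ :=
    X.isBasis_affineOpens.exists_subset_of_mem_open
      (show i (genericPoint Z) ∈ (⊤ : X.Opens) from trivial) (⊤ : X.Opens).2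
  rw [support_eq_annI_support F' hF'] at hξ
  obtain ⟨b, hb, hbξ⟩ : ∃ b ∈ (annI F' hF').ideal ⟨U, hU⟩, i (genericPoint Z) ∈ X.basicOpen b := by
    by_contra hcon
    push Not at hcon
    apply hξ
    rw [SetLike.mem_coe, Scheme.IdealSheafData.mem_support_iff_of_mem (U := ⟨U, hU⟩) hξU,
      Scheme.mem_zeroLocus_iff]
    exact hcon
  refine ⟨⟨U, hU⟩, b, ?_, (mem_annI_iff F' hF' _ b).mp hb⟩
  rw [mem_ker_ideal_iff, not_not]
  exact hbξ

omit [AlgebraicGeometry.IsNoetherian X] in
theorem length_stalk_eq_zero_of_small (F' : X.Modules) (h : Small i F') :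
    Module.length (X.presheaf.stalk (i (genericPoint Z)))
      ↑(F'.presheaf.stalk (i (genericPoint Z))) = 0 := by
  rw [Module.length_eq_zero_iff]
  exact not_not.mp (map_genericPoint_notMem_support_of_small i F' h)

omit [AlgebraicGeometry.IsNoetherian X] in
theorem map_genericPoint_eq (ξ : X) (h : Set.range i = closure {ξ}) :
    i (genericPoint Z) = ξ := by
  have h1 : closure {i (genericPoint Z)} = Set.range i := by
    have h2 := i.isClosedEmbedding.closure_image_eq ({genericPoint Z} : Set Z)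
    rw [Set.image_singleton] at h2
    rw [h2, (genericPoint_spec Z).def, Set.image_univ]
  have h3 : Inseparable (i (genericPoint Z)) ξ := by
    rw [inseparable_iff_closure_eq, h1, h]
  exact h3.eq

end SmallSupp

section LengthIso

theorem length_stalk_eq_of_bijective {M N : X.Modules} (φ : M ⟶ N) (x : X)
    (h : Function.Bijective (stalkAdd φ x)) :
    Module.length (X.presheaf.stalk x) ↑(M.presheaf.stalk x) =
      Module.length (X.presheaf.stalk x) ↑(N.presheaf.stalk x) :=
  (LinearEquiv.ofBijective (stalkLin φ x) h).length_eq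

end LengthIso

section BiprodKill

variable {I₃ I₂ : Z.Modules} [I₃.IsQuasicoherent] [I₂.IsQuasicoherent] (θ : I₃ ⟶ I₂) [Mono θ]

theorem smul_cokernel_biproduct_map {V : Z.Opens} (hV : IsAffineOpen V) (c : Γ(Z, V))
    (hc : ∀ q : Γ(cokernel θ, V), c • q = 0) (s : ℕ)
    (q : Γ(cokernel (biproduct.map (fun _ : Fin s => θ)), V)) : c • q = 0 := by
  haveI : (⨁ fun _ : Fin s => I₃).IsQuasicoherent :=
    isQuasicoherent_biproduct _ (fun _ => inferInstance)
  haveI : (⨁ fun _ : Fin s => I₂).IsQuasicoherent :=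
    isQuasicoherent_biproduct _ (fun _ => inferInstance)
  haveI : (cokernel (biproduct.map (fun _ : Fin s => θ))).IsQuasicoherent :=
    Groth.Agent.Lib.helper7.CohKer.isQuasicoherent_cokernel _
  obtain ⟨x, rfl⟩ := Groth.Agent.Lib.helper16.QCohEpi.surjective_app_of_epi
    (cokernel.π (biproduct.map (fun _ : Fin s => θ))) hV q
  have hex : (ShortComplex.mk θ (cokernel.π θ) (cokernel.condition θ)).Exact :=
    ShortComplex.exact_cokernel θ
  have hz : ∀ k : Fin s, ∃ z : Γ(I₃, V), (θ.app V).hom z =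
      c • ((biproduct.π (fun _ : Fin s => I₂) k).app V).hom x := by
    intro k
    refine exists_app_eq_of_exact θ (cokernel.π θ) (cokernel.condition θ) hex V _ ?_
    have h1 : ((cokernel.π θ).app V).hom (c • ((biproduct.π (fun _ : Fin s => I₂) k).app V).hom x) =
        c • ((cokernel.π θ).app V).hom (((biproduct.π (fun _ : Fin s => I₂) k).app V).hom x) :=
      Hom.app_smul _ c _
    exact h1.trans (hc _)
  choose z hz using hz
  have h2 : c • x = ((biproduct.map (fun _ : Fin s => θ)).app V).hom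
      (∑ k, ((biproduct.ι (fun _ : Fin s => I₃) k).app V).hom (z k)) := by
    rw [map_sum]
    have h3 := biproduct_section_eq (fun _ : Fin s => I₂) V x
    have h4 : c • x = ∑ k, ((biproduct.ι (fun _ : Fin s => I₂) k).app V).hom
        (c • ((biproduct.π (fun _ : Fin s => I₂) k).app V).hom x) := by
      conv_lhs => rw [h3]
      rw [Finset.smul_sum]
      refine Finset.sum_congr rfl (fun k _ => ?_)
      exact (Hom.app_smul _ c _).symm
    rw [h4]
    refine Finset.sum_congr rfl (fun k _ => ?_)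
    rw [← hz k, ← ConcreteCategory.comp_apply, ← Hom.comp_app, ← ConcreteCategory.comp_apply,
      ← Hom.comp_app, biproduct.ι_map]
  have h5 : c • ((cokernel.π (biproduct.map (fun _ : Fin s => θ))).app V).hom x =
      ((cokernel.π (biproduct.map (fun _ : Fin s => θ))).app V).hom (c • x) :=
    (Hom.app_smul _ c x).symm
  refine h5.trans ?_
  rw [h2, ← ConcreteCategory.comp_apply, ← Hom.comp_app, cokernel.condition]
  rfl

end BiprodKill

section Misc

theorem enat_eq_zero_of_add {a b : ℕ∞} (ha : a ≠ ⊤) (h : a = a + b) : b = 0 := by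
  lift a to ℕ using ha
  cases b using ENat.recTopCoe with
  | top => simp at h
  | coe b =>
    norm_cast at h ⊢
    omega

theorem isZero_biproduct_of_isZero {C : Type*} [Category C] [Preadditive C] [HasFiniteBiproducts C]
    {s : ℕ} (f : Fin s → C) (h : ∀ k, IsZero (f k)) : IsZero (⨁ f) := by
  rw [IsZero.iff_id_eq_zero]
  apply biproduct.hom_ext
  intro k
  exact (h k).eq_of_tgt _ _

theorem subsingleton_stalk_of_isZero (M : X.Modules) (hM : IsZero M) (x : X) :
    Subsingleton ↑(M.presheaf.stalk x) := by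
  refine subsingleton_of_forall_eq 0 (fun m => ?_)
  have h1 : stalkAdd (𝟙 M) x m = m := stalkAdd_id M x m
  have h2 : (𝟙 M : M ⟶ M) = 0 := (IsZero.iff_id_eq_zero M).mp hM
  rw [h2] at h1
  rw [← h1]
  obtain ⟨U, hxU, s, rfl⟩ := M.presheaf.exists_germ_eq m
  rw [stalkAdd_germ]
  exact (congrArg _ (rfl : ((0 : M ⟶ M).app U).hom s = 0)).trans (map_zero _)

variable (i : Z ⟶ X) [IsClosedImmersion i] [IsIntegral Z]

theorem closure_map_genericPoint : closure {i (genericPoint Z)} = Set.range i := by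
  have h2 := i.isClosedEmbedding.closure_image_eq ({genericPoint Z} : Set Z)
  rw [Set.image_singleton] at h2
  rw [h2, (genericPoint_spec Z).def, Set.image_univ]

end Misc

section Factor

theorem exists_factor_idealSub (𝔟 : X.IdealSheafData) {A G : X.Modules} [G.IsQuasicoherent]
    (α : A ⟶ G) [Mono α] (hk : ClSub.KilledByIdeal 𝔟 (cokernel α)) :
    ∃ γ : idealSub 𝔟 G ⟶ A, γ ≫ α = idealSubι 𝔟 G := by
  have h0 : idealSubι 𝔟 G ≫ cokernel.π α = 0 := by
    refine Groth.Agent.Lib.helper16.QCohEpi.hom_ext_of_basis _ _ {U | IsAffineOpen U}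
      X.isBasis_affineOpens (fun U hU t => ?_)
    have hmem := (exists_idealSubι_app_eq_iff 𝔟 G hU _).mp ⟨t, rfl⟩
    have h1 : ((idealSubι 𝔟 G ≫ cokernel.π α).app U).hom t =
        ((cokernel.π α).app U).hom (((idealSubι 𝔟 G).app U).hom t) := rfl
    have h2 : ((0 : idealSub 𝔟 G ⟶ cokernel α).app U).hom t = 0 := rfl
    rw [h1, h2]
    refine Submodule.smul_induction_on hmem (fun a ha g _ => ?_) (fun x y hx hy => ?_)
    · have h3 : ((cokernel.π α).app U).hom (a • g) = a • ((cokernel.π α).app U).hom g :=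
        Hom.app_smul _ a g
      exact h3.trans (hk ⟨U, hU⟩ a ha _)
    · rw [map_add, hx, hy, add_zero]
  exact ⟨Abelian.monoLift α _ h0, Abelian.monoLift_comp α _ h0⟩

end Factor

section Witness

variable [IsNoetherian X] (i : Z ⟶ X) [IsClosedImmersion i] [IsIntegral Z]

/-- **the generic point argument with a witness** (Stacks 01YM/01YN): `P` stable under extensions
and "summands of powers", true for the modules small along `i`, and a coherent witness `G` with
support `i(Z)`, `m_ξ G_ξ = 0`, having arbitrarily small submodules `G' ⊆ J G` with `G'_ξ = G_ξ` and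
`P G'`: then `P (i_* I)` for every nonzero quasi-coherent ideal `I` of `O_Z`. -/
theorem P_push_ideal_of_witness (P : X.Modules → Prop)
    (hP : ∀ M N : X.Modules, Nonempty (M ≅ N) → P M → P N)
    (h₁ : ∀ S : ShortComplex X.Modules, S.ShortExact → Coh.IsCoh S.X₁ → Coh.IsCoh S.X₂ →
      Coh.IsCoh S.X₃ → P S.X₁ → P S.X₃ → P S.X₂)
    (h₂ : ∀ (F : X.Modules) (r : ℕ), Coh.IsCoh F → 1 ≤ r → P (∐ fun _ : Fin r => F) → P F)
    (hsmall : ∀ F' : X.Modules, Small i F' → P F')
    (G : X.Modules) (hG : Coh.IsCoh G) (hGsupp : CohB1.support G = Set.range i)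
    (hann : ∀ a ∈ IsLocalRing.maximalIdeal (X.presheaf.stalk (i (genericPoint Z))),
      ∀ m : ↑(G.presheaf.stalk (i (genericPoint Z))), a • m = 0)
    (hwit : ∀ J : X.IdealSheafData, i (genericPoint Z) ∉ (J.support : Set X) →
      ∃ (G' : X.Modules) (ι' : G' ⟶ (Dual3.idealMul J).obj G), Mono ι' ∧ Coh.IsQCoh G' ∧
        IsIso ((TopCat.Presheaf.stalkFunctor _ (i (genericPoint Z))).map
          (ι' ≫ Dual3.idealMulι J G).mapPresheaf) ∧ P G')
    (I : Z.Modules) (ι : I ⟶ Coh.structureModule Z) [Mono ι] [I.IsQuasicoherent]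
    (hI0 : ¬ IsZero I) : P ((pushforward i).obj I) := by
  classical
  haveI : G.IsQuasicoherent := hG.1
  haveI : IsLocallyNoetherian Z := LocallyOfFiniteType.isLocallyNoetherian i
  haveI : CompactSpace Z := i.isClosedEmbedding.compactSpace
  haveI : IsNoetherian Z := {}
  -- (1) `G_ξ` is nonzero of finite length
  have hξG : i (genericPoint Z) ∈ CohB1.support G := by
    rw [hGsupp]
    exact ⟨_, rfl⟩
  have hntG : Nontrivial ↑(G.presheaf.stalk (i (genericPoint Z))) :=
    not_subsingleton_iff_nontrivial.mp hξG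
  have hfinG : Module.length (X.presheaf.stalk (i (genericPoint Z)))
      ↑(G.presheaf.stalk (i (genericPoint Z))) ≠ ⊤ := by
    rw [Module.length_ne_top_iff]
    refine ((minimal_iff_isFiniteLength G hG _).mp ⟨hntG, fun y hy hyξ => ?_⟩).2
    have hy' : y ∈ Set.range i := by
      rw [← hGsupp]
      exact not_subsingleton_iff_nontrivial.mpr hy
    have h2 : i (genericPoint Z) ⤳ y := by
      rw [specializes_iff_mem_closure, closure_map_genericPoint i]
      exact hy'
    exact (hyξ.antisymm h2).eq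
  have hne0G : Module.length (X.presheaf.stalk (i (genericPoint Z)))
      ↑(G.presheaf.stalk (i (genericPoint Z))) ≠ 0 := by
    rw [Ne, Module.length_eq_zero_iff]
    exact hξG
  -- (2) the structure of `G` near `ξ`
  obtain ⟨s, I₂, ι₂, φ₂, hι₂, hI₂c, hφ₂, U₂, hξU₂, hisoU₂⟩ :=
    exists_mono_push_near_generic i G hG hann
  haveI := hι₂
  haveI : I₂.IsQuasicoherent := hI₂c.1
  haveI := hφ₂
  let cs₂ : (⨁ fun _ : Fin s => I₂) ≅ ∐ fun _ : Fin s => I₂ := biproduct.isoCoproduct _
  let A : X.Modules := (pushforward i).obj (⨁ fun _ : Fin s => I₂)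
  let φA : A ⟶ G := (pushforward i).map cs₂.hom ≫ φ₂
  haveI : Mono φA := mono_comp _ _
  haveI : (⨁ fun _ : Fin s => I₂).IsQuasicoherent :=
    isQuasicoherent_biproduct _ (fun _ => inferInstance)
  haveI : A.IsQuasicoherent :=
    Groth.Agent.Lib.helper16.QCohAffinePush.isQuasicoherent_push i _
  have hA : Coh.IsCoh A := Groth.Agent.S0046.result X G A φA hG ‹_›
  have hφAbij : Function.Bijective (stalkAdd φA (i (genericPoint Z))) := by
    have h1 : IsIso ((restrictFunctor U₂.ι).map φA) := by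
      rw [Functor.map_comp]
      infer_instance
    have h2 := (Groth.Agent.Lib.helper11.IsoLocus.isIso_restrict_iff_stalk φA U₂).mp h1 _ hξU₂
    exact (ConcreteCategory.isIso_iff_bijective _).mp h2
  have hℓA := length_stalk_eq_of_bijective φA _ hφAbij
  -- (3) `s ≥ 1` and `I₂ ≠ 0`
  have hAne : ¬ IsZero (⨁ fun _ : Fin s => I₂) := by
    intro h0
    have h1 : IsZero A := (pushforward i).map_isZero h0
    have h2 := subsingleton_stalk_of_isZero A h1 (i (genericPoint Z))
    rw [← Module.length_eq_zero_iff (R := X.presheaf.stalk (i (genericPoint Z)))] at h2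
    rw [h2] at hℓA
    exact hne0G hℓA.symm
  have hs1 : 1 ≤ s := by
    by_contra hs
    have hs0 : s = 0 := by omega
    subst hs0
    exact hAne (isZero_biproduct_of_isZero _ (fun k => k.elim0))
  have hI₂0 : ¬ IsZero I₂ := fun h0 => hAne (isZero_biproduct_of_isZero _ (fun _ => h0))
  -- (4) the intersection `I₃ = I ∩ I₂`
  let I₃ : Z.Modules := interMod ι ι₂
  let θ₁ : I₃ ⟶ I := interι₁ ι ι₂
  let θ₂ : I₃ ⟶ I₂ := interι₂ ι ι₂
  haveI : I₃.IsQuasicoherent := isQuasicoherent_interMod ι ι₂
  haveI : Mono θ₂ := inferInstanceAs (Mono (interι₂ ι ι₂))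
  haveI : Mono θ₁ := inferInstanceAs (Mono (kernel.ι _))
  let Θ : (⨁ fun _ : Fin s => I₃) ⟶ ⨁ fun _ : Fin s => I₂ := biproduct.map (fun _ => θ₂)
  haveI : Mono Θ := inferInstanceAs (Mono (biproduct.map (fun _ : Fin s => θ₂)))
  haveI : (⨁ fun _ : Fin s => I₃).IsQuasicoherent :=
    isQuasicoherent_biproduct _ (fun _ => inferInstance)
  let A₃ : X.Modules := (pushforward i).obj (⨁ fun _ : Fin s => I₃)
  haveI : A₃.IsQuasicoherent :=
    Groth.Agent.Lib.helper16.QCohAffinePush.isQuasicoherent_push i _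
  haveI : (cokernel Θ).IsQuasicoherent :=
    Groth.Agent.Lib.helper7.CohKer.isQuasicoherent_cokernel Θ
  haveI : ((pushforward i).obj (cokernel Θ)).IsQuasicoherent :=
    Groth.Agent.Lib.helper16.QCohAffinePush.isQuasicoherent_push i _
  have hSΘ := shortExact_map_pushforward i _ (shortExact_cokernel Θ)
  haveI : Mono ((pushforward i).map Θ) := hSΘ.mono_f
  haveI : Epi ((pushforward i).map (cokernel.π Θ)) := hSΘ.epi_g
  have hA₃ : Coh.IsCoh A₃ := Groth.Agent.S0046.result X A A₃ ((pushforward i).map Θ) hA ‹_›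
  have hcΘ : Coh.IsCoh ((pushforward i).obj (cokernel Θ)) :=
    ⟨‹_›, Groth.Agent.Lib.helper7.CohKer.isFiniteType_of_epi
      ((pushforward i).map (cokernel.π Θ)) hA.2⟩
  obtain ⟨Ua, x₀, hx₀⟩ := exists_section_ne_zero i I hI0
  have hιx₀ : (ι.app (i ⁻¹ᵁ Ua.1)).hom x₀ ≠ 0 := by
    intro h0'
    apply hx₀
    apply Groth.Agent.S2542.injective_app_of_mono ι (i ⁻¹ᵁ Ua.1)
    rw [h0', map_zero]
  have hsmΘ : Small i ((pushforward i).obj (cokernel Θ)) :=
    small_push Ua (cokernel Θ) hcΘ (show Γ(Z, i ⁻¹ᵁ Ua.1) from (ι.app (i ⁻¹ᵁ Ua.1)).hom x₀) hιx₀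
      (fun q => smul_cokernel_biproduct_map θ₂ (Ua.2.preimage i) _
        (fun q' => smul_cokernel_interι₂ ι ι₂ (i ⁻¹ᵁ Ua.1) (Ua.2.preimage i) x₀ q') s q)
  have hℓA₃ : Module.length (X.presheaf.stalk (i (genericPoint Z)))
      ↑(A.presheaf.stalk (i (genericPoint Z))) =
      Module.length (X.presheaf.stalk (i (genericPoint Z)))
        ↑(A₃.presheaf.stalk (i (genericPoint Z))) := by
    haveI : ((ShortComplex.mk Θ (cokernel.π Θ) (cokernel.condition Θ)).map
        (pushforward i)).X₂.IsQuasicoherent := inferInstanceAs A.IsQuasicoherent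
    haveI : ((ShortComplex.mk Θ (cokernel.π Θ) (cokernel.condition Θ)).map
        (pushforward i)).X₃.IsQuasicoherent :=
      inferInstanceAs ((pushforward i).obj (cokernel Θ)).IsQuasicoherent
    have h1 := length_stalk_add _ hSΘ (i (genericPoint Z))
    have h2 := length_stalk_eq_zero_of_small i _ hsmΘ
    refine h1.trans ?_
    refine (congrArg (fun t => _ + t) h2).trans ?_
    exact add_zero _
  -- (5) the embedding `α : A₃ ⟶ G` and the ideal `J`
  let α : A₃ ⟶ G := (pushforward i).map Θ ≫ φA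
  haveI : Mono α := mono_comp _ _
  have hQ₃ : Coh.IsCoh (cokernel α) := Groth.Agent.Lib.helper7.CohKer.isCoh_cokernel hA₃ hG α
  haveI : (cokernel α).IsQuasicoherent := hQ₃.1
  have hℓQ₃ : Module.length (X.presheaf.stalk (i (genericPoint Z)))
      ↑((cokernel α).presheaf.stalk (i (genericPoint Z))) = 0 := by
    have h1 := length_stalk_add _ (shortExact_cokernel α) (i (genericPoint Z))
    refine enat_eq_zero_of_add hfinG ?_
    refine h1.trans ?_
    exact congrArg (fun t => t + _) (hℓA₃.symm.trans hℓA)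
  have hξQ₃ : i (genericPoint Z) ∉ CohB1.support (cokernel α) := by
    intro h
    exact h ((Module.length_eq_zero_iff).mp hℓQ₃)
  let J : X.IdealSheafData := annI (cokernel α) hQ₃
  have hJξ : i (genericPoint Z) ∉ (J.support : Set X) := by
    rw [← support_eq_annI_support (cokernel α) hQ₃]
    exact hξQ₃
  have hkJ : ClSub.KilledByIdeal J (cokernel α) :=
    (killedByIdeal_iff_le_annI J (cokernel α) hQ₃).mpr le_rfl
  obtain ⟨γ, hγ⟩ := exists_factor_idealSub J α hkJ
  haveI : Mono γ := by
    haveI : Mono (γ ≫ α) := by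
      rw [hγ]
      infer_instance
    exact mono_of_mono γ α
  -- (6) the witness `G'`
  obtain ⟨G', ι', hι', hG'q, hG'iso, hPG'⟩ := hwit J hJξ
  haveI := hι'
  haveI : G'.IsQuasicoherent := hG'q
  let ι'' : G' ⟶ idealSub J G := ι'
  haveI : Mono ι'' := hι'
  have hι''G : ι'' ≫ idealSubι J G = ι' ≫ Dual3.idealMulι J G := rfl
  have hG'bij : Function.Bijective (stalkAdd (ι'' ≫ idealSubι J G) (i (genericPoint Z))) := by
    rw [hι''G]
    exact (ConcreteCategory.isIso_iff_bijective _).mp hG'iso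
  have hℓG' := length_stalk_eq_of_bijective _ _ hG'bij
  haveI : Mono (ι'' ≫ idealSubι J G) := mono_comp _ _
  have hG'c : Coh.IsCoh G' := Groth.Agent.S0046.result X G G' (ι'' ≫ idealSubι J G) hG hG'q
  let ψ : G' ⟶ A₃ := ι'' ≫ γ
  haveI : Mono ψ := mono_comp _ _
  have hQ : Coh.IsCoh (cokernel ψ) := Groth.Agent.Lib.helper7.CohKer.isCoh_cokernel hG'c hA₃ ψ
  haveI : (cokernel ψ).IsQuasicoherent := hQ.1
  have hℓQ : Module.length (X.presheaf.stalk (i (genericPoint Z)))
      ↑((cokernel ψ).presheaf.stalk (i (genericPoint Z))) = 0 := by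
    have h1 := length_stalk_add _ (shortExact_cokernel ψ) (i (genericPoint Z))
    have hfin₃ : Module.length (X.presheaf.stalk (i (genericPoint Z)))
        ↑(A₃.presheaf.stalk (i (genericPoint Z))) ≠ ⊤ := by
      rw [← hℓA₃, hℓA]
      exact hfinG
    refine enat_eq_zero_of_add hfin₃ ?_
    refine h1.trans ?_
    exact congrArg (fun t => t + _) (hℓG'.trans (hℓA.symm.trans hℓA₃))
  have hξQ : i (genericPoint Z) ∉ CohB1.support (cokernel ψ) := by
    intro h
    exact h ((Module.length_eq_zero_iff).mp hℓQ)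
  have hsuppQ : CohB1.support (cokernel ψ) ⊆ Set.range i :=
    (support_subset_of_epi (cokernel.π ψ) hA₃ hQ).trans
      (Groth.Agent.Lib.helper8.SchemeSupport.support_subset_range_of_iso _ i _ (Iso.refl _))
  have hPQ : P (cokernel ψ) := hsmall _ (small_of_support i _ hQ hsuppQ hξQ)
  have hPA₃ : P A₃ := h₁ _ (shortExact_cokernel ψ) hG'c hA₃ hQ hPG' hPQ
  -- (7) `P (i_* I₃)`
  have hOZ : Coh.IsCoh ((pushforward i).obj (Coh.structureModule Z)) := isCoh_push_structureModule i
  haveI : ((pushforward i).obj I).IsQuasicoherent :=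
    Groth.Agent.Lib.helper16.QCohAffinePush.isQuasicoherent_push i _
  haveI : ((pushforward i).obj I₃).IsQuasicoherent :=
    Groth.Agent.Lib.helper16.QCohAffinePush.isQuasicoherent_push i _
  haveI : (pushforward i).IsRightAdjoint := (pullbackPushforwardAdjunction i).isRightAdjoint
  haveI : Mono ((pushforward i).map ι) := inferInstance
  haveI : Mono ((pushforward i).map θ₁) := inferInstance
  have hIc : Coh.IsCoh ((pushforward i).obj I) :=
    Groth.Agent.S0046.result X _ _ ((pushforward i).map ι) hOZ ‹_›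
  have hI₃c : Coh.IsCoh ((pushforward i).obj I₃) :=
    Groth.Agent.S0046.result X _ _ ((pushforward i).map θ₁) hIc ‹_›
  have hPI₃ : P ((pushforward i).obj I₃) := by
    let e : A₃ ≅ ∐ fun _ : Fin s => (pushforward i).obj I₃ :=
      (pushforward i).mapBiproduct (fun _ : Fin s => I₃) ≪≫
        biproduct.isoCoproduct (fun _ : Fin s => (pushforward i).obj I₃)
    exact h₂ _ s hI₃c hs1 (hP _ _ ⟨e⟩ hPA₃)
  -- (8) `P (i_* I)`
  haveI : (cokernel θ₁).IsQuasicoherent :=
    Groth.Agent.Lib.helper7.CohKer.isQuasicoherent_cokernel θ₁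
  haveI : ((pushforward i).obj (cokernel θ₁)).IsQuasicoherent :=
    Groth.Agent.Lib.helper16.QCohAffinePush.isQuasicoherent_push i _
  have hS₁ := shortExact_map_pushforward i _ (shortExact_cokernel θ₁)
  haveI : Epi ((pushforward i).map (cokernel.π θ₁)) := hS₁.epi_g
  have hc₁ : Coh.IsCoh ((pushforward i).obj (cokernel θ₁)) :=
    ⟨‹_›, Groth.Agent.Lib.helper7.CohKer.isFiniteType_of_epi
      ((pushforward i).map (cokernel.π θ₁)) hIc.2⟩
  obtain ⟨Ub, y₀, hy₀⟩ := exists_section_ne_zero i I₂ hI₂0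
  have hιy₀ : (ι₂.app (i ⁻¹ᵁ Ub.1)).hom y₀ ≠ 0 := by
    intro h0'
    apply hy₀
    apply Groth.Agent.S2542.injective_app_of_mono ι₂ (i ⁻¹ᵁ Ub.1)
    rw [h0', map_zero]
  have hsm₁ : Small i ((pushforward i).obj (cokernel θ₁)) :=
    small_push Ub (cokernel θ₁) hc₁ (show Γ(Z, i ⁻¹ᵁ Ub.1) from (ι₂.app (i ⁻¹ᵁ Ub.1)).hom y₀) hιy₀
      (fun q => smul_cokernel_interι₁ ι ι₂ (i ⁻¹ᵁ Ub.1) (Ub.2.preimage i) y₀ q)
  exact h₁ _ hS₁ hI₃c hIc hc₁ hPI₃ (hsmall _ hsm₁)

end Witness

end Groth.Agent.Lib.helper8.Dev
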