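import Groth.Agent.Lib.Helper8.OCStalk
import Groth.Agent.Lib.Helper8.StalkLen

/-!
# Supports and stalks of direct images of structure sheaves (helper8)

* `support_eq_of_iso`: isomorphic modules have the same support.
* `range_subset_support_push_structure`: for an affine morphism `g : W ⟶ X`, the range of `g` is
  contained in the support of `g_* O_W`.
* `smul_stalk_eq_zero_of_killed`: if `i : Z ⟶ X` is a closed immersion with `Z` integral and `H` is
  killed by the kernel ideal of `i`, the maximal ideal of `O_{X,ξ}` (`ξ` the generic point of `Z`)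
  kills the stalk `H_ξ`.
-/

set_option autoImplicit false
set_option linter.style.haveILetI false
universe u
open CategoryTheory CategoryTheory.Limits AlgebraicGeometry TopologicalSpace Opposite

namespace Groth.Agent.Lib.helper8.StalkLen

open Scheme.Modules Groth.Agent.Lib.helper8.Dev Groth.Agent.Lib.helper16.QCohAss

variable {X : Scheme.{u}}

theorem support_eq_of_iso {F G : X.Modules} (e : F ≅ G) : CohB1.support F = CohB1.support G := by
  ext x
  change ¬ Subsingleton (F.presheaf.stalk x) ↔ ¬ Subsingleton (G.presheaf.stalk x)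
  rw [not_iff_not]
  exact (Groth.Agent.Lib.helper17.FlatOver7.stalkLinEquiv e x).toEquiv.subsingleton_congr

section Push

variable {W : Scheme.{u}} (g : W ⟶ X)

/-- the section `1` of `g_* O_W` -/
noncomputable def onePush (U : X.Opens) : Γ((pushforward g).obj (Coh.structureModule W), U) :=
  (1 : Γ(W, g ⁻¹ᵁ U))

theorem smul_onePush (U : X.Opens) (a : Γ(X, U)) :
    @Eq Γ(W, g ⁻¹ᵁ U) (a • onePush g U) ((g.app U).hom a) :=
  mul_one (M := Γ(W, g ⁻¹ᵁ U)) ((g.app U).hom a)

theorem range_subset_support_push_structure [IsAffineHom g] :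
    Set.range g ⊆ CohB1.support ((pushforward g).obj (Coh.structureModule W)) := by
  rintro _ ⟨w, rfl⟩
  haveI : ((pushforward g).obj (Coh.structureModule W)).IsQuasicoherent :=
    Groth.Agent.Lib.helper16.QCohAffinePush.isQuasicoherent_push g _
  obtain ⟨_, ⟨U, hU : IsAffineOpen U, rfl⟩, hxU, -⟩ :=
    X.isBasis_affineOpens.exists_subset_of_mem_open (Set.mem_univ (g w)) isOpen_univ
  change ¬ Subsingleton _
  rw [not_subsingleton_iff_nontrivial,
    nontrivial_stalk_iff ((pushforward g).obj (Coh.structureModule W)) hU (g w) hxU,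
    Module.mem_support_iff']
  refine ⟨onePush g U, fun a ha h0 => ha ?_⟩
  have h1 : (g.app U).hom a = 0 := (smul_onePush g U a).symm.trans h0
  by_contra hcon
  have h2 : g w ∈ X.basicOpen a :=
    (Groth.Agent.Lib.helper28.mem_basicOpen_iff hU (g w) hxU a).mpr hcon
  have h3 : w ∈ g ⁻¹ᵁ X.basicOpen a := h2
  rw [Scheme.preimage_basicOpen, h1, Scheme.basicOpen_zero] at h3
  exact h3

end Push

section Kill

variable {Z : Scheme.{u}} (i : Z ⟶ X) [IsClosedImmersion i] [IsIntegral Z]

theorem smul_stalk_eq_zero_of_killed (H : X.Modules) (hH : ClSub.KilledByIdeal i.ker H)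
    (a : X.presheaf.stalk (i (genericPoint Z)))
    (ha : a ∈ IsLocalRing.maximalIdeal (X.presheaf.stalk (i (genericPoint Z))))
    (m : H.presheaf.stalk (i (genericPoint Z))) : a • m = 0 := by
  obtain ⟨V₁, hξ₁, a', rfl⟩ := X.presheaf.exists_germ_eq a
  obtain ⟨V₂, hξ₂, s, rfl⟩ := H.presheaf.exists_germ_eq m
  obtain ⟨_, ⟨U, hU : IsAffineOpen U, rfl⟩, hξU, hUV⟩ :=
    X.isBasis_affineOpens.exists_subset_of_mem_open
      (show i (genericPoint Z) ∈ (V₁ ⊓ V₂ : X.Opens) from ⟨hξ₁, hξ₂⟩) (V₁ ⊓ V₂).2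
  have hU1 : U ≤ V₁ := fun z hz => (hUV hz).1
  have hU2 : U ≤ V₂ := fun z hz => (hUV hz).2
  have h1 := TopCat.Presheaf.germ_res_apply X.presheaf (homOfLE hU1) _ hξU a'
  have h2 := TopCat.Presheaf.germ_res_apply H.presheaf (homOfLE hU2) _ hξU s
  rw [← h1, ← h2, ← germ_smul' H U _ hξU]
  have h3 : X.presheaf.map (homOfLE hU1).op a' ∈ i.ker.ideal ⟨U, hU⟩ := by
    rw [← Groth.Agent.Lib.helper8.Dev.primeIdealOf_eq_ker_ideal i ⟨U, hU⟩ hξU]
    by_contra hcon
    have h4 : i (genericPoint Z) ∈ X.basicOpen (X.presheaf.map (homOfLE hU1).op a') :=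
      (Groth.Agent.Lib.helper28.mem_basicOpen_iff hU _ hξU _).mpr hcon
    have hunit := isUnit_germ_of_mem_basicOpen (X := X) _ hξU _ h4
    rw [h1] at hunit
    exact (IsLocalRing.mem_maximalIdeal _).mp ha hunit
  have h5 := hH ⟨U, hU⟩ _ h3 (H.presheaf.map (homOfLE hU2).op s)
  exact (congrArg (H.presheaf.germ U (i (genericPoint Z)) hξU).hom h5).trans (map_zero _)

end Kill

end Groth.Agent.Lib.helper8.StalkLen
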