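import Mathlib
import Groth.Agent.Lib.Helper8.DevWitness
import Groth.Agent.Lib.Helper18.HHConseq
import Groth.Agent.S0820
import Groth.Agent.S9523
import Groth.Agent.S0019
import Groth.Agent.S0012
import Groth.Agent.S0009
import Groth.Agent.S0007

/-!
# Chevalley's affineness theorem, Noetherian case (helper8)

* `devissage_witness_global` (Stacks 01YM): a property `P` of coherent modules on a noetherian
  scheme, stable under extensions and "summands of powers", with a witness for every integral
  closed subscheme, holds for all coherent modules.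
* `subsingleton_HH_one_of_finite_surjective`: `f : Y ⟶ X` finite surjective, `Y` affine, `X`
  noetherian: `H^1(X, F) = 0` for all coherent `F`.
* `isAffine_of_finite_surjective`: then `X` is affine.
-/

set_option autoImplicit false
set_option linter.style.haveILetI false
universe u
open CategoryTheory CategoryTheory.Limits AlgebraicGeometry TopologicalSpace Opposite

namespace Groth.Agent.Lib.helper8.Dev

open Groth.Agent.Lib.helper8.PullbackUnit Scheme.Modules
open Groth.Agent.Lib.helper17.FlatOver7 Groth.Agent.Lib.helper8.StalkLen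
open Groth.Agent.Lib.Helper18

variable {X : Scheme.{u}}

section HH

theorem subsingleton_HH_of_iso {M N : X.Modules} (e : M ≅ N) (n : ℕ)
    (h : Subsingleton (Coh.HH X M n)) : Subsingleton (Coh.HH X N n) := by
  refine ⟨fun x y => ?_⟩
  have hx : HH.map e.hom n (HH.map e.inv n x) = x := by
    rw [← HH.map_comp_apply, e.inv_hom_id, HH.map_id]
    rfl
  have hy : HH.map e.hom n (HH.map e.inv n y) = y := by
    rw [← HH.map_comp_apply, e.inv_hom_id, HH.map_id]
    rfl
  rw [← hx, ← hy, Subsingleton.elim (HH.map e.inv n x) (HH.map e.inv n y)]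

theorem subsingleton_HH_of_retract {M N : X.Modules} (s : M ⟶ N) (p : N ⟶ M) (hsp : s ≫ p = 𝟙 M)
    (n : ℕ) (h : Subsingleton (Coh.HH X N n)) : Subsingleton (Coh.HH X M n) := by
  refine ⟨fun x y => ?_⟩
  have hx : HH.map p n (HH.map s n x) = x := by
    rw [← HH.map_comp_apply, hsp, HH.map_id]
    rfl
  have hy : HH.map p n (HH.map s n y) = y := by
    rw [← HH.map_comp_apply, hsp, HH.map_id]
    rfl
  rw [← hx, ← hy, Subsingleton.elim (HH.map s n x) (HH.map s n y)]

theorem subsingleton_HH_of_isZero {M : X.Modules} (hM : IsZero M) (n : ℕ) :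
    Subsingleton (Coh.HH X M n) := by
  refine subsingleton_of_forall_eq 0 (fun x => ?_)
  have hx : HH.map (𝟙 M) n x = x := by
    rw [HH.map_id]
    rfl
  have h0 : (𝟙 M : M ⟶ M) = 0 := (IsZero.iff_id_eq_zero M).mp hM
  rw [h0, HH.map_zero] at hx
  exact hx.symm

end HH

section Stalk

theorem bijective_stalkAdd_of_subsingleton_cokernel {A F : X.Modules} (φ : A ⟶ F) [Mono φ] (x : X)
    (hx : Subsingleton ↑((cokernel φ).presheaf.stalk x)) :
    Function.Bijective (stalkAdd φ x) := by
  have hex : (ShortComplex.mk φ (cokernel.π φ) (cokernel.condition φ)).Exact :=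
    ShortComplex.exact_cokernel φ
  refine ⟨stalkAdd_injective_of_mono φ x, fun m => ?_⟩
  have h1 : stalkAdd (cokernel.π φ) x m = 0 := Subsingleton.elim _ _
  exact (stalkAdd_exact φ (cokernel.π φ) (cokernel.condition φ) hex x m).mp h1

theorem support_subset_of_killed (𝔟 : X.IdealSheafData) (Q : X.Modules) (hQ : Coh.IsCoh Q)
    (hk : ClSub.KilledByIdeal 𝔟 Q) : CohB1.support Q ⊆ (𝔟.support : Set X) := by
  rw [support_eq_annI_support Q hQ]
  exact Scheme.IdealSheafData.support_antitone ((killedByIdeal_iff_le_annI 𝔟 Q hQ).mp hk)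

end Stalk

section Global

/-- **Stacks 01YM**: dévissage for a property stable under extensions and summands of powers, with
witnesses on all integral closed subschemes. -/
theorem devissage_witness_global [IsNoetherian X] (P : X.Modules → Prop)
    (hP : ∀ M N : X.Modules, Nonempty (M ≅ N) → P M → P N)
    (h₀ : ∀ M : X.Modules, IsZero M → P M)
    (h₁ : ∀ S : ShortComplex X.Modules, S.ShortExact → Coh.IsCoh S.X₁ → Coh.IsCoh S.X₂ →
      Coh.IsCoh S.X₃ → P S.X₁ → P S.X₃ → P S.X₂)
    (h₂ : ∀ (F : X.Modules) (r : ℕ), Coh.IsCoh F → 1 ≤ r → P (∐ fun _ : Fin r => F) → P F)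
    (h₃ : ∀ (Z : Scheme.{u}) (i : Z ⟶ X) [IsClosedImmersion i] [IsIntegral Z],
      ∃ G : X.Modules, Coh.IsCoh G ∧ CohB1.support G = Set.range i ∧
        (∀ a ∈ IsLocalRing.maximalIdeal (X.presheaf.stalk (i (genericPoint Z))),
          ∀ m : ↑(G.presheaf.stalk (i (genericPoint Z))), a • m = 0) ∧
        ∀ J : X.IdealSheafData, i (genericPoint Z) ∉ (J.support : Set X) →
          ∃ (G' : X.Modules) (ι' : G' ⟶ (Dual3.idealMul J).obj G), Mono ι' ∧ Coh.IsQCoh G' ∧
            IsIso ((TopCat.Presheaf.stalkFunctor _ (i (genericPoint Z))).map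
              (ι' ≫ Dual3.idealMulι J G).mapPresheaf) ∧ P G')
    (F : X.Modules) (hF : Coh.IsCoh F) : P F := by
  refine devissage_master_aux P hP Set.univ h₀
    (fun S hS h1 h2 h3 _ p1 p3 => h₁ S hS h1 h2 h3 p1 p3) ?_ F hF (Set.subset_univ _)
  intro Z i _ _ _ hsmall I ι hι hIq hI0
  obtain ⟨G, hG, hGsupp, hGann, hGwit⟩ := h₃ Z i
  haveI := hι
  haveI : I.IsQuasicoherent := hIq
  exact P_push_ideal_of_witness i P hP h₁ h₂ hsmall G hG hGsupp hGann hGwit I ι hI0

end Global

section Chevalley

variable {Y : Scheme.{u}} (f : Y ⟶ X) [IsFinite f] [Surjective f] [IsAffine Y] [IsNoetherian X]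

include f in
theorem subsingleton_HH_one_of_finite_surjective (F : X.Modules) (hF : Coh.IsCoh F) :
    Subsingleton (Coh.HH X F 1) := by
  refine devissage_witness_global (fun M => Subsingleton (Coh.HH X M 1))
    (fun M N ⟨e⟩ h => subsingleton_HH_of_iso e 1 h)
    (fun M hM => subsingleton_HH_of_isZero hM 1)
    (fun S hS _ _ _ p1 p3 => HH.subsingleton_X₂ hS 1 p1 p3)
    (fun F r _ hr h => ?_) (fun Z i _ _ => ?_) F hF
  · -- summands of powers
    refine subsingleton_HH_of_retract (Sigma.ι (fun _ : Fin r => F) ⟨0, hr⟩)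
      (Sigma.desc (fun _ => 𝟙 F)) ?_ 1 h
    exact Sigma.ι_desc _ _
  · -- the witness
    obtain ⟨FZ, hFZ, hsupp, hann⟩ := Groth.Agent.S0820.result f Z i
    haveI : FZ.IsQuasicoherent := hFZ.1
    let G : X.Modules := (pushforward f).obj FZ
    have hG : Coh.IsCoh G := Groth.Agent.S0019.result f FZ hFZ
    haveI : G.IsQuasicoherent := hG.1
    refine ⟨G, hG, hsupp, hann, fun J hJ => ?_⟩
    refine ⟨(Dual3.idealMul J).obj G, 𝟙 _, inferInstance,
      (isQuasicoherent_idealSub J G : (idealSub J G).IsQuasicoherent), ?_, ?_⟩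
    · -- the stalk map at `ξ`
      rw [Category.id_comp]
      have hQc : Coh.IsCoh (cokernel (idealSubι J G)) :=
        Groth.Agent.Lib.helper7.CohKer.isCoh_cokernel
          (Groth.Agent.S0046.result X G _ (idealSubι J G) hG (isQuasicoherent_idealSub J G)) hG _
      have hsub : Subsingleton ↑((cokernel (idealSubι J G)).presheaf.stalk
          (i (genericPoint Z))) := by
        by_contra hcon
        exact hJ (support_subset_of_killed J _ hQc (killedByIdeal_cokernel_idealSubι J G) hcon)
      exact (ConcreteCategory.isIso_iff_bijective _).mpr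
        (bijective_stalkAdd_of_subsingleton_cokernel (idealSubι J G) _ hsub)
    · -- `H^1 (X, J G) = 0`
      obtain ⟨e, -⟩ := Groth.Agent.S9523.result f FZ hFZ.1 J
      haveI : Coh.IsQCoh ((Dual3.idealMul (J.comap f)).obj FZ) :=
        (isQuasicoherent_idealSub (J.comap f) FZ : (idealSub (J.comap f) FZ).IsQuasicoherent)
      obtain ⟨eq⟩ := Groth.Agent.S0012.result f ((Dual3.idealMul (J.comap f)).obj FZ) 1
      have h1 : Subsingleton (Coh.HH Y ((Dual3.idealMul (J.comap f)).obj FZ) 1) :=
        Groth.Agent.S0007.result Y _ 1 Nat.one_pos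
      have h2 : Subsingleton (Coh.HH X ((Coh.push f).obj ((Dual3.idealMul (J.comap f)).obj FZ)) 1) :=
        eq.symm.toEquiv.subsingleton
      exact subsingleton_HH_of_iso e.symm 1 h2

include f in
/-- **Chevalley's theorem** (noetherian case) -/
theorem isAffine_of_finite_surjective : IsAffine X := by
  refine Groth.Agent.S0009.result X (fun I ι hι hI => ?_)
  haveI := hι
  exact subsingleton_HH_one_of_finite_surjective f I
    (Groth.Agent.S0046.result X _ I ι (isCoh_structureModule X) hI)

end Chevalley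

end Groth.Agent.Lib.helper8.Dev
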