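import Mathlib
import Groth.Agent.Lib.Helper8.Chevalley

/-!
# Morphisms of modules inducing isomorphisms on a stalk (helper8)

`SI φ x` : `φ` is bijective on stalks at `x`.  Closure under composition, isomorphisms, finite
biproducts, cancellation; criteria via cokernels; at the generic point of an integral scheme,
a monomorphism whose cokernel is killed by a nonzero function is `SI`.
-/

set_option autoImplicit false
set_option linter.style.haveILetI false
universe u
open CategoryTheory CategoryTheory.Limits AlgebraicGeometry TopologicalSpace Opposite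

namespace Groth.Agent.Lib.helper8.Dev

open Groth.Agent.Lib.helper8.PullbackUnit Scheme.Modules
open Groth.Agent.Lib.helper17.FlatOver7 Groth.Agent.Lib.helper8.StalkLen

attribute [local instance] Abelian.hasFiniteBiproducts

variable {X : Scheme.{u}}

/-- `φ` induces a bijection on stalks at `x` -/
def SI {F G : X.Modules} (φ : F ⟶ G) (x : X) : Prop := Function.Bijective (stalkAdd φ x)

theorem stalkAdd_zero (F G : X.Modules) (x : X) (m : F.presheaf.stalk x) :
    stalkAdd (0 : F ⟶ G) x m = 0 := by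
  obtain ⟨U, hxU, s, rfl⟩ := F.presheaf.exists_germ_eq m
  rw [stalkAdd_germ]
  exact (congrArg _ (rfl : ((0 : F ⟶ G).app U).hom s = 0)).trans (map_zero _)

theorem stalkAdd_add {F G : X.Modules} (φ ψ : F ⟶ G) (x : X) (m : F.presheaf.stalk x) :
    stalkAdd (φ + ψ) x m = stalkAdd φ x m + stalkAdd ψ x m := by
  obtain ⟨U, hxU, s, rfl⟩ := F.presheaf.exists_germ_eq m
  rw [stalkAdd_germ, stalkAdd_germ, stalkAdd_germ, ← map_add]
  rfl

theorem stalkAdd_sum {ι : Type*} (s : Finset ι) {F G : X.Modules} (φ : ι → (F ⟶ G)) (x : X)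
    (m : F.presheaf.stalk x) :
    stalkAdd (∑ k ∈ s, φ k) x m = ∑ k ∈ s, stalkAdd (φ k) x m := by
  classical
  induction s using Finset.induction_on with
  | empty =>
    rw [Finset.sum_empty, Finset.sum_empty]
    exact stalkAdd_zero F G x m
  | insert a s ha ih =>
    rw [Finset.sum_insert ha, Finset.sum_insert ha, stalkAdd_add, ih]

namespace SI

theorem comp {F G H : X.Modules} {φ : F ⟶ G} {ψ : G ⟶ H} {x : X} (h₁ : SI φ x) (h₂ : SI ψ x) :
    SI (φ ≫ ψ) x := by
  have : ⇑(stalkAdd (φ ≫ ψ) x) = ⇑(stalkAdd ψ x) ∘ ⇑(stalkAdd φ x) :=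
    funext (fun m => stalkAdd_comp φ ψ x m)
  unfold SI
  rw [this]
  exact Function.Bijective.comp h₂ h₁

theorem of_iso {F G : X.Modules} (e : F ≅ G) (x : X) : SI e.hom x :=
  (stalkLinEquiv e x).bijective

theorem of_iso_inv {F G : X.Modules} (e : F ≅ G) (x : X) : SI e.inv x :=
  (stalkLinEquiv e.symm x).bijective

theorem of_isIso {F G : X.Modules} (φ : F ⟶ G) [IsIso φ] (x : X) : SI φ x :=
  of_iso (asIso φ) x

/-- cancellation: `γ ≫ a` and `a` bijective on stalks ⇒ `γ` is. -/
theorem of_comp {F G H : X.Modules} {γ : F ⟶ G} {a : G ⟶ H} {x : X} (h : SI (γ ≫ a) x)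
    (ha : SI a x) : SI γ x := by
  have hc : ⇑(stalkAdd (γ ≫ a) x) = ⇑(stalkAdd a x) ∘ ⇑(stalkAdd γ x) :=
    funext (fun m => stalkAdd_comp γ a x m)
  unfold SI at h
  rw [hc] at h
  refine ⟨h.1.of_comp, fun m => ?_⟩
  obtain ⟨m', hm'⟩ := h.2 (stalkAdd a x m)
  exact ⟨m', ha.1 hm'⟩

theorem biproduct_map {d : ℕ} {f g : Fin d → X.Modules} (p : ∀ k, f k ⟶ g k) (x : X)
    (h : ∀ k, SI (p k) x) : SI (biproduct.map p) x := by
  have htot : ∀ (f : Fin d → X.Modules) (m : (⨁ f).presheaf.stalk x),
      m = ∑ k, stalkAdd (biproduct.ι f k) x (stalkAdd (biproduct.π f k) x m) := by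
    intro f m
    have h1 : stalkAdd (∑ k, biproduct.π f k ≫ biproduct.ι f k) x m = m := by
      rw [biproduct.total]
      exact stalkAdd_id _ x m
    rw [stalkAdd_sum] at h1
    exact h1.symm.trans (Finset.sum_congr rfl (fun k _ => stalkAdd_comp _ _ x m))
  constructor
  · rw [injective_iff_map_eq_zero]
    intro m hm
    rw [htot f m]
    refine Finset.sum_eq_zero (fun k _ => ?_)
    have h2 : stalkAdd (p k) x (stalkAdd (biproduct.π f k) x m) = 0 := by
      rw [← stalkAdd_comp, ← biproduct.map_π, stalkAdd_comp, hm, map_zero]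
    have h3 : stalkAdd (biproduct.π f k) x m = 0 := (h k).1 (h2.trans (map_zero _).symm)
    rw [h3, map_zero]
  · intro m
    choose a ha using fun k => (h k).2 (stalkAdd (biproduct.π g k) x m)
    refine ⟨∑ k, stalkAdd (biproduct.ι f k) x (a k), ?_⟩
    rw [map_sum]
    conv_rhs => rw [htot g m]
    refine Finset.sum_congr rfl (fun k _ => ?_)
    rw [← stalkAdd_comp, biproduct.ι_map, stalkAdd_comp, ha k]

end SI

section Coker

theorem SI_of_mono_of_subsingleton_cokernel {A F : X.Modules} (φ : A ⟶ F) [Mono φ] (x : X)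
    (hx : Subsingleton ↑((cokernel φ).presheaf.stalk x)) : SI φ x :=
  bijective_stalkAdd_of_subsingleton_cokernel φ x hx

theorem subsingleton_cokernel_of_SI {A F : X.Modules} [A.IsQuasicoherent] [F.IsQuasicoherent]
    (φ : A ⟶ F) (x : X) (h : SI φ x) : Subsingleton ↑((cokernel φ).presheaf.stalk x) := by
  haveI : (cokernel φ).IsQuasicoherent := Groth.Agent.Lib.helper7.CohKer.isQuasicoherent_cokernel φ
  refine subsingleton_of_forall_eq 0 (fun q => ?_)
  obtain ⟨m, rfl⟩ := stalkAdd_surjective_of_epi (cokernel.π φ) x q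
  obtain ⟨a, rfl⟩ := h.2 m
  rw [← stalkAdd_comp, cokernel.condition]
  exact stalkAdd_zero _ _ x a

end Coker

section Generic

variable [IsIntegral X]

/-- a quasi-coherent module killed over a nonempty affine open by a nonzero function has zero
stalk at the generic point -/
theorem subsingleton_stalk_genericPoint_of_killed (M : X.Modules) [M.IsQuasicoherent]
    {V : X.Opens} (hV : IsAffineOpen V) (hVne : (V : Set X).Nonempty) (c : Γ(X, V)) (hc : c ≠ 0)
    (hkill : ∀ q : Γ(M, V), c • q = 0) :
    Subsingleton ↑(M.presheaf.stalk (genericPoint X)) := by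
  have hξV : genericPoint X ∈ V := by
    have := (genericPoint_spec X).mem_open_set_iff V.2
    rw [Set.univ_inter] at this
    exact this.mpr hVne
  by_contra hcon
  have hnt : Nontrivial ↑(M.presheaf.stalk (genericPoint X)) :=
    not_subsingleton_iff_nontrivial.mp hcon
  rw [nontrivial_stalk_iff M hV _ hξV, Module.mem_support_iff'] at hnt
  obtain ⟨q, hq⟩ := hnt
  refine hq c ?_ (hkill q)
  have h5 := (genericPoint_mem_basicOpen_iff (Z := X) c).mpr hc
  exact (Groth.Agent.Lib.helper28.mem_basicOpen_iff hV _ hξV c).mp h5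

theorem SI_genericPoint_of_killed {A F : X.Modules} [A.IsQuasicoherent] [F.IsQuasicoherent]
    (φ : A ⟶ F) [Mono φ] {V : X.Opens} (hV : IsAffineOpen V) (hVne : (V : Set X).Nonempty)
    (c : Γ(X, V)) (hc : c ≠ 0) (hkill : ∀ q : Γ(cokernel φ, V), c • q = 0) :
    SI φ (genericPoint X) := by
  haveI : (cokernel φ).IsQuasicoherent := Groth.Agent.Lib.helper7.CohKer.isQuasicoherent_cokernel φ
  exact SI_of_mono_of_subsingleton_cokernel φ _
    (subsingleton_stalk_genericPoint_of_killed (cokernel φ) hV hVne c hc hkill)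

end Generic

end Groth.Agent.Lib.helper8.Dev
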