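import Mathlib
import Groth.Agent.Lib.Helper8.StalkIso
import Groth.Agent.Lib.Helper8.PushSupp

/-!
# Generic comparison of coherent modules along a finite surjective morphism (helper8)

* `isCoh_biproduct`: finite biproducts of coherent modules are coherent.
* `exists_hom_idealSub_of_roof`: on an integral noetherian scheme, a roof `A ⟵ E ⟶ B` of morphisms
  bijective on the generic stalk, with `E ⟶ A` mono and `A` coherent, gives an ideal sheaf `𝔟` not
  vanishing at the generic point and `𝔟 A ⟶ B` bijective on the generic stalk.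
* `biproductSwap`: `⨁_k ⨁_l M ≅ ⨁_l ⨁_k M`.
* `exists_push_to_power_generic` (Hartshorne III Ex. 4.2 (b)): `f : X ⟶ Y` finite surjective between
  integral noetherian schemes, `F` coherent on `Y`: there are `r > 0`, `G` coherent on `X` and
  `f_* G ⟶ F^r` bijective on the generic stalk.
-/

set_option autoImplicit false
set_option linter.style.haveILetI false
universe u
open CategoryTheory CategoryTheory.Limits AlgebraicGeometry TopologicalSpace Opposite

namespace Groth.Agent.Lib.helper8.Dev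

open Groth.Agent.Lib.helper8.PullbackUnit Scheme.Modules
open Groth.Agent.Lib.helper17.FlatOver7 Groth.Agent.Lib.helper8.StalkLen

attribute [local instance] Abelian.hasFiniteBiproducts

variable {X Y : Scheme.{u}}

section CohBiprod

theorem isCoh_biproduct {d : ℕ} (f : Fin d → X.Modules) (hf : ∀ k, Coh.IsCoh (f k)) :
    Coh.IsCoh (⨁ f) := by
  haveI : (⨁ f).IsQuasicoherent := isQuasicoherent_biproduct f (fun k => (hf k).1)
  refine Groth.Agent.Lib.helper16.CohFinite.isCoh_of_finite_sections _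
    (fun U : X.affineOpens => U.1) (fun U => U.2) (iSup_affineOpens_eq_top X) (fun U => ?_)
  haveI : ∀ k, Module.Finite Γ(X, U.1) Γ(f k, U.1) := fun k =>
    Groth.Agent.Lib.helper16.CohFinite.finite_sections_of_isCoh (f k) (hf k) U.2
  let L : (∀ k, Γ(f k, U.1)) →ₗ[Γ(X, U.1)] Γ(⨁ f, U.1) :=
    { toFun := fun x => ∑ k, ((biproduct.ι f k).app U.1).hom (x k)
      map_add' := fun x y => by
        rw [← Finset.sum_add_distrib]
        refine Finset.sum_congr rfl (fun k _ => ?_)
        exact map_add _ _ _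
      map_smul' := fun r x => by
        rw [RingHom.id_apply, Finset.smul_sum]
        refine Finset.sum_congr rfl (fun k _ => ?_)
        exact Hom.app_smul _ r (x k) }
  exact Module.Finite.of_surjective L (fun x =>
    ⟨fun k => ((biproduct.π f k).app U.1).hom x, (biproduct_section_eq f U.1 x).symm⟩)

end CohBiprod

section Swap

variable {C : Type*} [Category C] [Preadditive C] [HasFiniteBiproducts C]

/-- `⨁_k ⨁_l M ≅ ⨁_l ⨁_k M` -/
noncomputable def biproductSwap (t r : ℕ) (M : C) :
    (⨁ fun _ : Fin t => ⨁ fun _ : Fin r => M) ≅ ⨁ fun _ : Fin r => ⨁ fun _ : Fin t => M where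
  hom := biproduct.lift (fun l => biproduct.map (fun _ => biproduct.π (fun _ : Fin r => M) l))
  inv := biproduct.lift (fun k => biproduct.map (fun _ => biproduct.π (fun _ : Fin t => M) k))
  hom_inv_id := by
    apply biproduct.hom_ext
    intro k
    apply biproduct.hom_ext
    intro l
    simp
  inv_hom_id := by
    apply biproduct.hom_ext
    intro l
    apply biproduct.hom_ext
    intro k
    simp

end Swap

section Roof

variable [IsNoetherian Y] [IsIntegral Y]

theorem exists_hom_idealSub_of_roof {A B E : Y.Modules} (hA : Coh.IsCoh A) [E.IsQuasicoherent]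
    (a : E ⟶ A) [Mono a] (b : E ⟶ B) (ha : SI a (genericPoint Y)) (hb : SI b (genericPoint Y)) :
    ∃ (𝔟 : Y.IdealSheafData) (β₀ : idealSub 𝔟 A ⟶ B), SI β₀ (genericPoint Y) := by
  haveI : A.IsQuasicoherent := hA.1
  have hE : Coh.IsCoh E := Groth.Agent.S0046.result Y A E a hA ‹_›
  have hQ : Coh.IsCoh (cokernel a) := Groth.Agent.Lib.helper7.CohKer.isCoh_cokernel hE hA a
  let 𝔟 : Y.IdealSheafData := annI (cokernel a) hQ
  have hη : genericPoint Y ∉ (𝔟.support : Set Y) := by
    rw [← support_eq_annI_support (cokernel a) hQ]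
    intro h
    exact h (subsingleton_cokernel_of_SI a _ ha)
  have hk : ClSub.KilledByIdeal 𝔟 (cokernel a) :=
    (killedByIdeal_iff_le_annI 𝔟 (cokernel a) hQ).mpr le_rfl
  obtain ⟨γ, hγ⟩ := exists_factor_idealSub 𝔟 a hk
  have hincl : SI (idealSubι 𝔟 A) (genericPoint Y) := by
    have hQc : Coh.IsCoh (cokernel (idealSubι 𝔟 A)) :=
      Groth.Agent.Lib.helper7.CohKer.isCoh_cokernel
        (Groth.Agent.S0046.result Y A _ (idealSubι 𝔟 A) hA (isQuasicoherent_idealSub 𝔟 A)) hA _
    refine SI_of_mono_of_subsingleton_cokernel _ _ ?_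
    by_contra hcon
    exact hη (support_subset_of_killed 𝔟 _ hQc (killedByIdeal_cokernel_idealSubι 𝔟 A) hcon)
  have hγSI : SI γ (genericPoint Y) := by
    refine SI.of_comp (a := a) ?_ ha
    rw [hγ]
    exact hincl
  exact ⟨𝔟, γ ≫ b, hγSI.comp hb⟩

end Roof

section Main

variable [IsIntegral X] [IsNoetherian X] [IsIntegral Y] [IsNoetherian Y] (f : X ⟶ Y) [IsFinite f]
  [Surjective f]

/-- **Hartshorne III Ex. 4.2 (b)** -/
theorem exists_push_to_power_generic (F : Y.Modules) (hF : Coh.IsCoh F) :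
    ∃ (r : ℕ) (G : X.Modules) (β : (pushforward f).obj G ⟶ ⨁ fun _ : Fin r => F),
      0 < r ∧ Coh.IsCoh G ∧ SI β (genericPoint Y) := by
  classical
  haveI : F.IsQuasicoherent := hF.1
  let H : Y.Modules := (pushforward f).obj (Coh.structureModule X)
  have hH : Coh.IsCoh H := Groth.Agent.S0019.result f _ (isCoh_structureModule X)
  haveI : H.IsQuasicoherent := hH.1
  obtain ⟨_, ⟨V, hV : IsAffineOpen V, rfl⟩, hηV, -⟩ :=
    Y.isBasis_affineOpens.exists_subset_of_mem_open
      (show genericPoint Y ∈ (⊤ : Y.Opens) from trivial) (⊤ : Y.Opens).2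
  have hVne : (V : Set Y).Nonempty := ⟨_, hηV⟩
  haveI : Nonempty V := ⟨⟨_, hηV⟩⟩
  haveI : IsDomain Γ(Y, V) := IsIntegral.component_integral V
  obtain ⟨r₀, JH, ιH, BH, hιH, hJH, hBH, ⟨oneH, honeH⟩, bH, hbH, hbHk⟩ :=
    exists_mono_biproduct_ideal H hH V hV hVne
  obtain ⟨t, JF, ιF, BF, hιF, hJF, hBF, ⟨oneF, honeF⟩, bF, hbF, hbFk⟩ :=
    exists_mono_biproduct_ideal F hF V hV hVne
  haveI := hιH
  haveI := hJH
  haveI := hBH
  haveI := hιF
  haveI := hJF
  haveI := hBF
  haveI : (⨁ fun _ : Fin r₀ => JH).IsQuasicoherent :=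
    isQuasicoherent_biproduct _ (fun _ => inferInstance)
  haveI : (⨁ fun _ : Fin t => JF).IsQuasicoherent :=
    isQuasicoherent_biproduct _ (fun _ => inferInstance)
  have hBHSI : SI BH (genericPoint Y) := SI_genericPoint_of_killed BH hV hVne bH hbH hbHk
  have hBFSI : SI BF (genericPoint Y) := SI_genericPoint_of_killed BF hV hVne bF hbF hbFk
  -- `r₀ > 0`
  have hr₀ : 0 < r₀ := by
    by_contra h0
    have hr0 : r₀ = 0 := by omega
    subst hr0
    have hz : IsZero (⨁ fun _ : Fin 0 => JH) := isZero_biproduct_of_isZero _ (fun k => k.elim0)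
    have hs := subsingleton_stalk_of_isZero _ hz (genericPoint Y)
    have hs' : Subsingleton ↑(H.presheaf.stalk (genericPoint Y)) :=
      (Equiv.ofBijective _ hBHSI).symm.subsingleton
    obtain ⟨x, hx⟩ := f.surjective (genericPoint Y)
    exact range_subset_support_push_structure f ⟨x, hx⟩ hs'
  -- the intersection of the two ideals
  let J : Y.Modules := interMod ιH ιF
  let θH : J ⟶ JH := interι₁ ιH ιF
  let θF : J ⟶ JF := interι₂ ιH ιF
  haveI : J.IsQuasicoherent := isQuasicoherent_interMod ιH ιF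
  haveI : Mono θH := inferInstanceAs (Mono (kernel.ι _))
  haveI : Mono θF := inferInstanceAs (Mono (interι₂ ιH ιF))
  have h1ne : (1 : Γ(Y, V)) ≠ 0 := one_ne_zero
  have hθH : SI θH (genericPoint Y) :=
    SI_genericPoint_of_killed θH hV hVne (show Γ(Y, V) from (ιF.app V).hom oneF)
      (by rw [honeF]; exact h1ne) (fun q => smul_cokernel_interι₁ ιH ιF V hV oneF q)
  have hθF : SI θF (genericPoint Y) :=
    SI_genericPoint_of_killed θF hV hVne (show Γ(Y, V) from (ιH.app V).hom oneH)
      (by rw [honeH]; exact h1ne) (fun q => smul_cokernel_interι₂ ιH ιF V hV oneH q)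
  -- the roof
  let OXt : X.Modules := ⨁ fun _ : Fin t => Coh.structureModule X
  have hOXt : Coh.IsCoh OXt := isCoh_biproduct _ (fun _ => isCoh_structureModule X)
  let A : Y.Modules := (pushforward f).obj OXt
  have hA : Coh.IsCoh A := Groth.Agent.S0019.result f OXt hOXt
  let mb : A ≅ ⨁ fun _ : Fin t => H :=
    (pushforward f).mapBiproduct (fun _ : Fin t => Coh.structureModule X)
  let aH : (⨁ fun _ : Fin r₀ => J) ⟶ H := biproduct.map (fun _ => θH) ≫ BH
  let aF : (⨁ fun _ : Fin t => J) ⟶ F := biproduct.map (fun _ => θF) ≫ BF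
  haveI : Mono (biproduct.map (fun _ : Fin r₀ => θH)) := inferInstance
  haveI : Mono (biproduct.map (fun _ : Fin t => θF)) := inferInstance
  haveI : Mono aH := mono_comp _ _
  haveI : Mono aF := mono_comp _ _
  have haH : SI aH (genericPoint Y) := (SI.biproduct_map _ _ (fun _ => hθH)).comp hBHSI
  have haF : SI aF (genericPoint Y) := (SI.biproduct_map _ _ (fun _ => hθF)).comp hBFSI
  let E₁ : Y.Modules := ⨁ fun _ : Fin t => ⨁ fun _ : Fin r₀ => J
  haveI : (⨁ fun _ : Fin r₀ => J).IsQuasicoherent :=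
    isQuasicoherent_biproduct _ (fun _ => inferInstance)
  haveI : E₁.IsQuasicoherent := isQuasicoherent_biproduct _ (fun _ => inferInstance)
  let a : E₁ ⟶ A := biproduct.map (fun _ : Fin t => aH) ≫ mb.inv
  let b : E₁ ⟶ ⨁ fun _ : Fin r₀ => F :=
    (biproductSwap t r₀ J).hom ≫ biproduct.map (fun _ : Fin r₀ => aF)
  haveI : Mono (biproduct.map (fun _ : Fin t => aH)) := inferInstance
  haveI : Mono a := mono_comp _ _
  have ha : SI a (genericPoint Y) :=
    (SI.biproduct_map _ _ (fun _ => haH)).comp (SI.of_iso_inv mb _)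
  have hb : SI b (genericPoint Y) :=
    (SI.of_iso (biproductSwap t r₀ J) _).comp (SI.biproduct_map _ _ (fun _ => haF))
  obtain ⟨𝔟, β₀, hβ₀⟩ := exists_hom_idealSub_of_roof hA a b ha hb
  -- `𝔟 · f_* (O_X^t) = f_* (𝔟' O_X^t)`
  haveI : OXt.IsQuasicoherent := hOXt.1
  obtain ⟨e, -⟩ := Groth.Agent.S9523.result f OXt hOXt.1 𝔟
  let G : X.Modules := idealSub (𝔟.comap f) OXt
  have hG : Coh.IsCoh G := Groth.Agent.S0046.result X OXt G (idealSubι (𝔟.comap f) OXt) hOXt
    (isQuasicoherent_idealSub (𝔟.comap f) OXt)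
  let e' : (pushforward f).obj G ≅ idealSub 𝔟 A := e.symm
  exact ⟨r₀, G, e'.hom ≫ β₀, hr₀, hG, (SI.of_iso e' _).comp hβ₀⟩

end Main

end Groth.Agent.Lib.helper8.Dev
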