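import Mathlib

/-!
# Strict monotonicity of the topological Krull dimension on irreducible closed subsets (helper8)
-/

set_option autoImplicit false

namespace Groth.Agent.Lib.helper8.DimLt

open TopologicalSpace Topology

variable {X : Type*} [TopologicalSpace X]

/-- a proper closed subset of an irreducible set has strictly smaller dimension (in the form
`dim A + 1 ≤ dim B`). -/
theorem topologicalKrullDim_add_one_le {A B : Set X} (hAB : A ⊆ B) (hA : IsClosed A)
    (hB : IsIrreducible B) (hne : A ≠ B) :
    topologicalKrullDim ↥A + 1 ≤ topologicalKrullDim ↥B := by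
  unfold topologicalKrullDim
  rcases isEmpty_or_nonempty (IrreducibleCloseds ↥A) with hE | hN
  · rw [Order.krullDim_eq_bot, WithBot.bot_add]
    exact bot_le
  · rw [← Order.krullDim_WithTop]
    haveI : IrreducibleSpace ↥B := Subtype.irreducibleSpace hB
    let topB : IrreducibleCloseds ↥B :=
      ⟨Set.univ, IrreducibleSpace.isIrreducible_univ ↥B, isClosed_univ⟩
    have hinc : IsInducing (Set.inclusion hAB) := (IsEmbedding.inclusion hAB).toIsInducing
    let g : WithTop (IrreducibleCloseds ↥A) → IrreducibleCloseds ↥B := fun a =>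
      match a with
      | ⊤ => topB
      | (a : IrreducibleCloseds ↥A) => IrreducibleCloseds.map (Set.inclusion hAB) hinc.continuous a
    refine Order.krullDim_le_of_strictMono g ?_
    rw [WithTop.strictMono_iff]
    refine ⟨IrreducibleCloseds.map_strictMono_of_isInducing hinc, fun a => ?_⟩
    change IrreducibleCloseds.map (Set.inclusion hAB) hinc.continuous a < topB
    refine lt_of_le_of_ne (fun b _ => Set.mem_univ b) ?_
    intro h
    obtain ⟨b, hbB, hbA⟩ : ∃ b, b ∈ B ∧ b ∉ A := by
      by_contra hcon
      push Not at hcon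
      exact hne (Set.Subset.antisymm hAB hcon)
    have h1 : (⟨b, hbB⟩ : ↥B) ∈ (IrreducibleCloseds.map (Set.inclusion hAB) hinc.continuous a :
        Set ↥B) := by
      rw [h]
      exact Set.mem_univ _
    rw [IrreducibleCloseds.coe_map] at h1
    have hcl : IsClosed {c : ↥B | (c : X) ∈ A} := hA.preimage continuous_subtype_val
    have h2 : closure (Set.inclusion hAB '' (a : Set ↥A)) ⊆ {c : ↥B | (c : X) ∈ A} := by
      refine closure_minimal ?_ hcl
      rintro _ ⟨z, -, rfl⟩
      exact z.2
    exact hbA (h2 h1)

theorem not_add_one_le (n : ℕ) (h : ((n : WithBot ℕ∞) + 1) ≤ (n : WithBot ℕ∞)) : False := by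
  have h1 : ((n + 1 : ℕ) : WithBot ℕ∞) ≤ ((n : ℕ) : WithBot ℕ∞) := by
    push_cast
    exact h
  have h2 := Nat.cast_le.mp h1
  omega

theorem topologicalKrullDim_le_of_subset {A B : Set X} (h : A ⊆ B) :
    topologicalKrullDim ↥A ≤ topologicalKrullDim ↥B :=
  (IsEmbedding.inclusion h).toIsInducing.topologicalKrullDim_le

/-- In a closed set `T` of dimension `≤ n`, a point whose closure has dimension `n` has no proper
generalization inside `T`. -/
theorem eq_of_specializes_of_dim [T0Space X] {n : ℕ} {T : Set X} (hT : IsClosed T)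
    (hdim : topologicalKrullDim ↥T ≤ n) {x y : X} (hy : y ∈ T)
    (hx : topologicalKrullDim ↥(closure ({x} : Set X)) = n) (hyx : y ⤳ x) : y = x := by
  by_contra hne
  have hsub : closure ({x} : Set X) ⊆ closure {y} := specializes_iff_closure_subset.mp hyx
  have hne' : closure ({x} : Set X) ≠ closure {y} := by
    intro h
    have h1 : x ⤳ y := specializes_iff_closure_subset.mpr h.ge
    exact hne ((hyx.antisymm h1).eq)
  have h1 := topologicalKrullDim_add_one_le hsub isClosed_closure
    isIrreducible_singleton.closure hne'
  have h2 : topologicalKrullDim ↥(closure ({y} : Set X)) ≤ n :=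
    (topologicalKrullDim_le_of_subset
      (closure_minimal (Set.singleton_subset_iff.mpr hy) hT)).trans hdim
  rw [hx] at h1
  exact not_add_one_le n (h1.trans h2)

/-- An irreducible closed set of dimension `n` is the closure of any of its points whose closure
has dimension `n`. -/
theorem closure_eq_of_dim {n : ℕ} {C : Set X} (hC : IsClosed C) (hCi : IsIrreducible C)
    (hdim : topologicalKrullDim ↥C ≤ n) {x : X} (hxC : x ∈ C)
    (hx : topologicalKrullDim ↥(closure ({x} : Set X)) = n) : closure ({x} : Set X) = C := by
  by_contra hne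
  have h1 := topologicalKrullDim_add_one_le
    (closure_minimal (Set.singleton_subset_iff.mpr hxC) hC) isClosed_closure hCi hne
  rw [hx] at h1
  exact not_add_one_le n (h1.trans hdim)

/-- In a noetherian quasi-sober `T0` space, a closed set `T` of dimension `≤ n` contains only
finitely many points whose closure has dimension `n`. -/
theorem finite_setOf_dim_closure_eq [T0Space X] [NoetherianSpace X] {n : ℕ}
    {T : Set X} (hT : IsClosed T) (hdim : topologicalKrullDim ↥T ≤ n) :
    {x : X | x ∈ T ∧ topologicalKrullDim ↥(closure ({x} : Set X)) = n}.Finite := by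
  obtain ⟨S, hSf, hSc, hSi, hSe⟩ := NoetherianSpace.exists_finite_set_isClosed_irreducible hT
  have hmem : ∀ x, x ∈ T → ∃ t ∈ S, x ∈ t := by
    intro x hx
    rw [hSe] at hx
    exact hx
  have hsubT : ∀ t ∈ S, t ⊆ T := by
    intro t ht
    rw [hSe]
    exact Set.subset_sUnion_of_mem ht
  choose! f hf using hmem
  refine Set.Finite.of_finite_image (f := f) (hSf.subset ?_) ?_
  · rintro _ ⟨x, hx, rfl⟩
    exact (hf x hx.1).1
  · intro x hx x' hx' hxx'
    have key : ∀ z, z ∈ T → topologicalKrullDim ↥(closure ({z} : Set X)) = n →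
        closure ({z} : Set X) = f z := by
      intro z hz hzn
      obtain ⟨hzS, hzm⟩ := hf z hz
      exact closure_eq_of_dim (hSc _ hzS) (hSi _ hzS)
        ((topologicalKrullDim_le_of_subset (hsubT _ hzS)).trans hdim) hzm hzn
    have h1 : closure ({x} : Set X) = closure {x'} := by
      rw [key x hx.1 hx.2, key x' hx'.1 hx'.2, hxx']
    have h2 : x ⤳ x' := specializes_iff_closure_subset.mpr h1.ge
    have h3 : x' ⤳ x := specializes_iff_closure_subset.mpr h1.le
    exact (h2.antisymm h3).eq

end Groth.Agent.Lib.helper8.DimLt
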