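import Mathlib
import Groth.Prelude.Def_Coh
import Groth.Agent.Lib.Helper21.ModOpenBC2
import Groth.Agent.Lib.Helper23.ClosedEmb
import Groth.Agent.Lib.Helper27.DeltaSeq
import Groth.Agent.Lib.Helper27.PullConst

/-!
# Higher direct images and closed immersions (helper8)

For a closed immersion `ι : Z ⟶ X` and `f : X ⟶ S`: `R^p f_* (ι_* G) ≅ R^p (ι ≫ f)_* G`
(`nonempty_rpush_push_iso`).  Ingredients: `ι_*` is exact on `O`-modules
(`preservesFiniteColimits_pushforward`), and sends injectives to `f_*`-acyclic modules.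
-/

set_option autoImplicit false
universe u
open CategoryTheory CategoryTheory.Limits Opposite TopologicalSpace AlgebraicGeometry

namespace Groth.Agent.Lib.helper8.RpushClosed

open Groth.Agent.Lib.helper21 Groth.Agent.Lib.helper27 AlgebraicGeometry.Scheme.Modules

variable {Z X S : Scheme.{u}} (ι : Z ⟶ X) [IsClosedImmersion ι] (f : X ⟶ S)

/-- pushforward along a closed immersion preserves epimorphisms of modules -/
theorem epi_pushforward_map {G G' : Z.Modules} (φ : G ⟶ G') [hφ : Epi φ] :
    Epi ((pushforward ι).map φ) := by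
  haveI hc : PreservesFiniteColimits (SheafOfModules.toSheaf.{u} Z.ringCatSheaf) :=
    InjAcyc.toSheaf_preservesFiniteColimits Z.ringCatSheaf
  haveI : (SheafOfModules.toSheaf.{u} Z.ringCatSheaf).PreservesEpimorphisms := inferInstance
  haveI : Epi ((SheafOfModules.toSheaf.{u} Z.ringCatSheaf).map φ) :=
    @Functor.map_epi _ _ _ _ (SheafOfModules.toSheaf.{u} Z.ringCatSheaf) _ _ _ φ hφ
  haveI := Groth.Agent.Lib.helper23.ClosedEmb.preservesEpi_push ι.base
    ι.isClosedEmbedding
  have h1 : Epi ((Coh.pushAb ι).map ((SheafOfModules.toSheaf.{u} Z.ringCatSheaf).map φ)) :=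
    inferInstance
  have h2 : Epi ((SheafOfModules.toSheaf.{u} X.ringCatSheaf).map ((pushforward ι).map φ)) := h1
  exact (SheafOfModules.toSheaf.{u} X.ringCatSheaf).epi_of_epi_map h2

theorem preservesFiniteColimits_pushforward : PreservesFiniteColimits (pushforward ι) := by
  have hlim : PreservesFiniteLimits (pushforward ι) := by
    have h : PreservesLimitsOfSize.{0, 0} (pushforward ι) :=
      (pullbackPushforwardAdjunction ι).rightAdjoint_preservesLimits
    exact PreservesLimitsOfSize.preservesFiniteLimits _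
  have h03 := (Functor.preservesFiniteColimits_tfae (pushforward ι)).out 0 3
  have h30 := (Functor.preservesFiniteLimits_tfae (pushforward ι)).out 3 0
  refine h03.1 ?_
  intro S hS
  refine ⟨(h30.1 hlim S hS).1, ?_⟩
  have := hS.epi_g
  exact epi_pushforward_map ι S.g

/-- pushforward (along any morphism) of an injective module is acyclic for direct images -/
theorem isZero_rpush_push_injective {Z X S : Scheme.{u}} (ι : Z ⟶ X) (f : X ⟶ S)
    [HasInjectiveResolutions X.Modules] (I : Z.Modules) (hI : Injective I) (n : ℕ) :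
    IsZero ((Coh.Rpush f (n + 1)).obj ((pushforward ι).obj I)) := by
  refine ModOpenBC.isZero_rpush_of_extProp f _ ?_ n
  have h1 : InjAcyc.ExtProp ((SheafOfModules.toSheaf.{u} Z.ringCatSheaf).obj I) :=
    @InjAcyc.extProp_toSheaf _ _ _ Z.ringCatSheaf I hI
  haveI : PreservesFiniteLimits (TopCat.Sheaf.pullback AddCommGrpCat.{u} ι.base) :=
    PullConst.pull_preservesFiniteLimits ι.base
  exact InjAcyc.extProp_rightAdjoint
    (TopCat.Sheaf.pullbackPushforwardAdjunction AddCommGrpCat.{u} ι.base) h1

/-- **Leray for closed immersions**: `R^p f_* (ι_* G) ≅ R^p (ι ≫ f)_* G`. -/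
theorem nonempty_rpush_push_iso [HasInjectiveResolutions X.Modules]
    [HasInjectiveResolutions Z.Modules] (G : Z.Modules) (p : ℕ) :
    Nonempty ((Coh.Rpush f p).obj ((pushforward ι).obj G) ≅ (Coh.Rpush (ι ≫ f) p).obj G) := by
  haveI : EnoughInjectives Z.Modules :=
    Groth.Agent.Lib.Helper21.ModGroth.enoughInjectives_mod _
  haveI : EnoughInjectives X.Modules :=
    Groth.Agent.Lib.Helper21.ModGroth.enoughInjectives_mod _
  haveI := preservesFiniteColimits_pushforward ι
  haveI hlim : PreservesFiniteLimits (pushforward ι) := by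
    have h : PreservesLimitsOfSize.{0, 0} (pushforward ι) :=
      (pullbackPushforwardAdjunction ι).rightAdjoint_preservesLimits
    exact PreservesLimitsOfSize.preservesFiniteLimits _
  have hT : DeltaSeq.IsExSeq (fun n => pushforward ι ⋙ Coh.Rpush f n) :=
    (DeltaSeq.isExSeq_rightDerived (pushforward f)).precomp (pushforward ι)
      (fun I hI n => isZero_rpush_push_injective ι f I hI n)
  have hT' : DeltaSeq.IsExSeq (fun n => Coh.Rpush (ι ≫ f) n) :=
    DeltaSeq.isExSeq_rightDerived (pushforward (ι ≫ f))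
  have e₀ : pushforward ι ⋙ Coh.Rpush f 0 ≅ Coh.Rpush (ι ≫ f) 0 :=
    Functor.isoWhiskerLeft (pushforward ι) (pushforward f).rightDerivedZeroIsoSelf ≪≫
      pushforwardComp ι f ≪≫ (pushforward (ι ≫ f)).rightDerivedZeroIsoSelf.symm
  exact DeltaSeq.iso hT hT' e₀ p G

end Groth.Agent.Lib.helper8.RpushClosed
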