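import Mathlib

/-!
# The limit of an adic system of modules (helper8)

`J` a finitely generated ideal of a ring `R`, `(M_n, f_n : M_{n+1} → M_n)` an inverse system of
`R`-modules with `J^(n+1) M_n = 0`, `f_n` surjective with kernel `J^(n+1) M_{n+1}`.  Then for the
module `L` of compatible sequences, the kernel of `L → M_n` is `J^(n+1) L`
(`ker_proj_eq`; Stacks 09B8, no Noetherian hypothesis) and `L → M_n` is surjective (`proj_surjective`).
-/

set_option autoImplicit false
universe u

namespace Groth.Agent.Lib.helper8.LimAdic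

/-- In an `ℕ`-indexed inverse system of sets with surjective transition maps, every element of every
level extends to a compatible sequence. -/
lemma exists_compatible : ∀ (n : ℕ) (M : ℕ → Type u) (f : ∀ n, M (n + 1) → M n)
    (_ : ∀ n, Function.Surjective (f n)) (y : M n),
    ∃ x : ∀ m, M m, (∀ m, f m (x (m + 1)) = x m) ∧ x n = y := by
  intro n
  induction n with
  | zero =>
    intro M f hf y
    refine ⟨fun m => Nat.rec (motive := fun m => M m) y (fun k xk => Function.surjInv (hf k) xk) m,
      ?_, rfl⟩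
    intro m
    exact Function.surjInv_eq (hf m) _
  | succ n ih =>
    intro M f hf y
    obtain ⟨x', hx', hx'n⟩ := ih (fun k => M (k + 1)) (fun k => f (k + 1)) (fun k => hf (k + 1)) y
    refine ⟨fun m => Nat.casesOn (motive := fun m => M m) m (f 0 (x' 0)) (fun k => x' k), ?_, hx'n⟩
    intro m
    cases m with
    | zero => rfl
    | succ k => exact hx' k

section

variable {R : Type u} [CommRing R]

/-- elements of `span s • N` are sums `∑ g ∈ s, g • u g` with `u g ∈ N` -/
lemma exists_sum_of_mem_span_smul {M : Type u} [AddCommGroup M] [Module R M] (s : Finset R)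
    (N : Submodule R M) {y : M} (hy : y ∈ (Ideal.span (s : Set R)) • N) :
    ∃ u : s → M, (∀ g, u g ∈ N) ∧ y = ∑ g : s, (g : R) • u g := by
  classical
  refine Submodule.smul_induction_on hy ?_ ?_
  · intro r hr m hm
    obtain ⟨c, hc⟩ := (Submodule.mem_span_finset).mp hr
    refine ⟨fun g => c g • m, fun g => N.smul_mem _ hm, ?_⟩
    rw [← hc.2, Finset.sum_smul, ← Finset.sum_coe_sort s (fun g => (c g • g) • m)]
    refine Finset.sum_congr rfl (fun g _ => ?_)
    rw [smul_smul, smul_eq_mul, mul_comm]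
  · rintro y₁ y₂ ⟨u₁, hu₁, rfl⟩ ⟨u₂, hu₂, rfl⟩
    refine ⟨fun g => u₁ g + u₂ g, fun g => N.add_mem (hu₁ g) (hu₂ g), ?_⟩
    rw [← Finset.sum_add_distrib]
    refine Finset.sum_congr rfl (fun g _ => ?_)
    rw [smul_add]

lemma map_mem_smul_top {M N : Type u} [AddCommGroup M] [Module R M] [AddCommGroup N] [Module R N]
    (J : Ideal R) (f : M →ₗ[R] N) {y : M} (hy : y ∈ J • (⊤ : Submodule R M)) :
    f y ∈ J • (⊤ : Submodule R N) := by
  refine Submodule.smul_induction_on hy ?_ ?_
  · intro r hr m _
    rw [map_smul]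
    exact Submodule.smul_mem_smul hr Submodule.mem_top
  · intro y₁ y₂ h₁ h₂
    rw [map_add]
    exact Submodule.add_mem _ h₁ h₂

end

section main

variable {R : Type u} [CommRing R] (J : Ideal R)
    (M : ℕ → Type u) [∀ n, AddCommGroup (M n)] [∀ n, Module R (M n)]
    (f : ∀ n, M (n + 1) →ₗ[R] M n)

/-- compatible sequences: a component in `J^k M` stays in `J^k M` at lower levels -/
lemma mem_smul_top_of_le (x : ∀ n, M n) (hx : ∀ n, f n (x (n + 1)) = x n) (k : ℕ) :
    ∀ (d b : ℕ), x (b + d) ∈ J ^ k • (⊤ : Submodule R (M (b + d))) →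
      x b ∈ J ^ k • (⊤ : Submodule R (M b)) := by
  intro d
  induction d with
  | zero => intro b h; exact h
  | succ d ih =>
    intro b h
    apply ih b
    have h1 := map_mem_smul_top (J ^ k) (f (b + d)) h
    have h2 : f (b + d) (x (b + (d + 1))) = x (b + d) := hx (b + d)
    rw [h2] at h1
    exact h1

lemma eq_zero_of_le (x : ∀ n, M n) (hx : ∀ n, f n (x (n + 1)) = x n) :
    ∀ (d b : ℕ), x (b + d) = 0 → x b = 0 := by
  intro d
  induction d with
  | zero => intro b h; exact h
  | succ d ih =>
    intro b h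
    apply ih b
    have h1 := congrArg (f (b + d)) h
    rw [map_zero] at h1
    have h2 : f (b + d) (x (b + (d + 1))) = x (b + d) := hx (b + d)
    rw [← h2]
    exact h1

lemma mem_smul_top_of_le' (x : ∀ n, M n) (hx : ∀ n, f n (x (n + 1)) = x n) (k : ℕ) {a b : ℕ}
    (h : a ≤ b) (hb : x b ∈ J ^ k • (⊤ : Submodule R (M b))) :
    x a ∈ J ^ k • (⊤ : Submodule R (M a)) := by
  obtain ⟨d, rfl⟩ := Nat.exists_eq_add_of_le h
  exact mem_smul_top_of_le J M f x hx k d a hb

lemma eq_zero_of_le' (x : ∀ n, M n) (hx : ∀ n, f n (x (n + 1)) = x n) {a b : ℕ}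
    (h : a ≤ b) (hb : x b = 0) : x a = 0 := by
  obtain ⟨d, rfl⟩ := Nat.exists_eq_add_of_le h
  exact eq_zero_of_le M f x hx d a hb

theorem proj_surjective (hf : ∀ n, Function.Surjective (f n))
    (L : Submodule R (∀ n, M n)) (hL : ∀ x : ∀ n, M n, x ∈ L ↔ ∀ n, f n (x (n + 1)) = x n) (n : ℕ) :
    Function.Surjective ((LinearMap.proj n).comp L.subtype : L →ₗ[R] M n) := by
  intro y
  obtain ⟨x, hx, hxn⟩ := exists_compatible n M (fun n => f n) hf y
  exact ⟨⟨x, (hL x).2 hx⟩, hxn⟩

/-- **the kernel of `lim M_k → M_n` is `J^(n+1) lim M_k`** (`J` finitely generated) -/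
theorem ker_proj_eq (hJ : J.FG) (hf : ∀ n, Function.Surjective (f n))
    (hk : ∀ n, J ^ (n + 1) • (⊤ : Submodule R (M n)) = ⊥)
    (hker : ∀ n, LinearMap.ker (f n) = J ^ (n + 1) • (⊤ : Submodule R (M (n + 1))))
    (L : Submodule R (∀ n, M n)) (hL : ∀ x : ∀ n, M n, x ∈ L ↔ ∀ n, f n (x (n + 1)) = x n) (n : ℕ) :
    LinearMap.ker ((LinearMap.proj n).comp L.subtype : L →ₗ[R] M n) =
      J ^ (n + 1) • (⊤ : Submodule R L) := by
  classical
  apply le_antisymm
  · intro x hx
    have hxn : (x : ∀ n, M n) n = 0 := hx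
    obtain ⟨s, hs⟩ := Ideal.FG.pow (n := n + 1) hJ
    have hsurj := proj_surjective M f hf L hL
    -- the approximation step
    have step : ∀ (k : ℕ) (w : s → L),
        ((x - ∑ g : s, (g : R) • w g : L) : ∀ m, M m) (n + k) = 0 →
        ∃ w' : s → L, ((x - ∑ g : s, (g : R) • w' g : L) : ∀ m, M m) (n + (k + 1)) = 0 ∧
          ∀ (g : s) (j : ℕ), j < k → (w' g : ∀ m, M m) j = (w g : ∀ m, M m) j := by
      intro k w hw
      set y : L := x - ∑ g : s, (g : R) • w g with hy
      have hyL : ∀ m, f m ((y : ∀ m, M m) (m + 1)) = (y : ∀ m, M m) m := (hL _).1 y.2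
      have h1 : (y : ∀ m, M m) (n + k + 1) ∈ LinearMap.ker (f (n + k)) := by
        rw [LinearMap.mem_ker, hyL (n + k)]
        exact hw
      have h2 : J ^ (n + k + 1) = J ^ (n + 1) * J ^ k := by
        rw [← pow_add]
        congr 1
        omega
      rw [hker, h2, Submodule.mul_smul, ← hs] at h1
      obtain ⟨u, hu, hyu⟩ := exists_sum_of_mem_span_smul s _ h1
      choose v hv using fun g => hsurj (n + k + 1) (u g)
      have hv' : ∀ g, (v g : ∀ m, M m) (n + k + 1) = u g := hv
      refine ⟨fun g => w g + v g, ?_, ?_⟩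
      · have h3 : (x - ∑ g : s, (g : R) • (w g + v g) : L) = y - ∑ g : s, (g : R) • v g := by
          rw [hy]
          simp only [smul_add, Finset.sum_add_distrib]
          abel
        rw [h3]
        show ((y - ∑ g : s, (g : R) • v g : L) : ∀ m, M m) (n + k + 1) = 0
        rw [Submodule.coe_sub, Pi.sub_apply, Submodule.coe_sum, Finset.sum_apply, hyu]
        apply sub_eq_zero.2
        refine Finset.sum_congr rfl (fun g _ => ?_)
        rw [Submodule.coe_smul, Pi.smul_apply, hv']
      · intro g j hj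
        rw [Submodule.coe_add, Pi.add_apply]
        have h4 : (v g : ∀ m, M m) j ∈ J ^ k • (⊤ : Submodule R (M j)) := by
          refine mem_smul_top_of_le' J M f _ ((hL _).1 (v g).2) k (by omega : j ≤ n + k + 1) ?_
          rw [hv']
          exact hu g
        have h5 : J ^ k • (⊤ : Submodule R (M j)) ≤ J ^ (j + 1) • ⊤ :=
          Submodule.smul_mono_left (Ideal.pow_le_pow_right (by omega))
        have h6 := h5 h4
        rw [hk j] at h6
        rw [(Submodule.mem_bot R).1 h6, add_zero]
    -- the sequence of approximations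
    let S : ∀ k, {w : s → L // ((x - ∑ g : s, (g : R) • w g : L) : ∀ m, M m) (n + k) = 0} :=
      fun k => Nat.rec
        (motive := fun k => {w : s → L //
          ((x - ∑ g : s, (g : R) • w g : L) : ∀ m, M m) (n + k) = 0})
        ⟨fun _ => 0, by simpa using hxn⟩
        (fun k wk => ⟨Classical.choose (step k wk.1 wk.2),
          (Classical.choose_spec (step k wk.1 wk.2)).1⟩) k
    have hS : ∀ (k : ℕ) (g : s) (j : ℕ), j < k →
        ((S (k + 1)).1 g : ∀ m, M m) j = ((S k).1 g : ∀ m, M m) j := fun k =>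
      (Classical.choose_spec (step k (S k).1 (S k).2)).2
    have hstab : ∀ (g : s) (m d : ℕ),
        ((S (m + 1 + d)).1 g : ∀ m, M m) m = ((S (m + 1)).1 g : ∀ m, M m) m := by
      intro g m d
      induction d with
      | zero => rfl
      | succ d ih =>
        rw [← ih]
        exact hS (m + 1 + d) g m (by omega)
    let z : s → ∀ m, M m := fun g m => ((S (m + 1)).1 g : ∀ m, M m) m
    have hz : ∀ g, z g ∈ L := by
      intro g
      rw [hL]
      intro m
      show f m (((S (m + 1 + 1)).1 g : ∀ m, M m) (m + 1)) = ((S (m + 1)).1 g : ∀ m, M m) m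
      rw [(hL _).1 ((S (m + 1 + 1)).1 g).2 m]
      exact hS (m + 1) g m (by omega)
    have hxz : x = ∑ g : s, (g : R) • (⟨z g, hz g⟩ : L) := by
      apply Subtype.ext
      funext m
      have h1 := (S (m + 1)).2
      have h2 := eq_zero_of_le' M f _ ((hL _).1 (x - ∑ g : s, (g : R) • (S (m + 1)).1 g : L).2)
        (by omega : m ≤ n + (m + 1)) h1
      rw [Submodule.coe_sub, Pi.sub_apply, sub_eq_zero] at h2
      rw [h2, Submodule.coe_sum, Finset.sum_apply, Submodule.coe_sum, Finset.sum_apply]
      refine Finset.sum_congr rfl (fun g _ => ?_)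
      rw [Submodule.coe_smul, Pi.smul_apply, Submodule.coe_smul, Pi.smul_apply]
    rw [hxz]
    refine Submodule.sum_mem _ (fun g _ => Submodule.smul_mem_smul ?_ Submodule.mem_top)
    rw [← hs]
    exact Ideal.subset_span g.2
  · rw [Submodule.smul_le]
    intro c hc x _
    rw [LinearMap.mem_ker]
    have hmem : c • ((x : ∀ n, M n) n) ∈ J ^ (n + 1) • (⊤ : Submodule R (M n)) :=
      Submodule.smul_mem_smul hc Submodule.mem_top
    rw [hk] at hmem
    exact (Submodule.mem_bot R).1 hmem

end main

end Groth.Agent.Lib.helper8.LimAdic
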