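import Mathlib
import Groth.Agent.Lib.Helper8.DevMasterD
import Groth.Agent.Lib.Helper8.S0002T7
import Groth.Agent.Lib.Helper8.Chevalley
import Groth.Agent.Lib.Helper18.HHPush
import Groth.Agent.S0002
import Groth.Agent.S0046

/-!
# Finiteness of cohomology of coherent modules with proper support (helper8)

* `vanishingIdeal_le_ker_of_range_subset`: for a closed immersion `i : Z ⟶ X` with `Z` reduced and
  `Set.range i ⊆ T`, `vanishingIdeal T ≤ i.ker`.
* `isProper_comp_of_range_subset`: if moreover `T` is proper over `S`, then `i ≫ f` is proper.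
* `finite_HH_of_proper_support`: `A` Noetherian, `X` of finite type over `Spec A`, `T ⊆ X` proper
  over `Spec A`, `N` coherent with support in `T`: all `H^q(X, N)` are finite `A`-modules.
-/

set_option autoImplicit false
set_option linter.style.haveILetI false
universe u
open CategoryTheory CategoryTheory.Limits AlgebraicGeometry TopologicalSpace Opposite

namespace Groth.Agent.Lib.helper8.FF

open Groth.Agent.Lib.helper8.Dev Groth.Agent.Lib.helper8.S0002T7

section Proper

variable {X S : Scheme.{u}}

theorem ker_eq_vanishingIdeal_range {Z : Scheme.{u}} [IsReduced Z] (i : Z ⟶ X) :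
    i.ker = Scheme.IdealSheafData.vanishingIdeal (.closure (Set.range i)) := by
  rw [← Scheme.IdealSheafData.map_bot, ← Scheme.nilradical_eq_bot,
    ← Scheme.IdealSheafData.vanishingIdeal_top, Scheme.IdealSheafData.map_vanishingIdeal]
  congr 2
  simp

theorem vanishingIdeal_le_ker_of_range_subset {Z : Scheme.{u}} [IsReduced Z] (i : Z ⟶ X)
    (T : Closeds X) (h : Set.range i ⊆ (T : Set X)) :
    Scheme.IdealSheafData.vanishingIdeal T ≤ i.ker := by
  rw [ker_eq_vanishingIdeal_range]
  apply Scheme.IdealSheafData.vanishingIdeal_antimono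
  rw [Closeds.closure_le]
  exact h

/-- a reduced closed subscheme contained in a closed subset proper over `S` is proper over `S` -/
theorem isProper_comp_of_range_subset (f : X ⟶ S) {Z : Scheme.{u}} [IsReduced Z] (i : Z ⟶ X)
    [IsClosedImmersion i] (T : Set X) (hT : ClSub.IsProperOver f T) (h : Set.range i ⊆ T) :
    IsProper (i ≫ f) := by
  obtain ⟨hc, hp⟩ := hT
  set I₀ := Scheme.IdealSheafData.vanishingIdeal ⟨T, hc⟩ with hI₀
  have H : I₀.subschemeι.ker ≤ i.ker := by
    rw [Scheme.IdealSheafData.ker_subschemeι]
    exact vanishingIdeal_le_ker_of_range_subset i ⟨T, hc⟩ h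
  let l : Z ⟶ I₀.subscheme := IsClosedImmersion.lift I₀.subschemeι i H
  have hl : l ≫ I₀.subschemeι = i := IsClosedImmersion.lift_fac I₀.subschemeι i H
  haveI : IsClosedImmersion (l ≫ I₀.subschemeι) := by rw [hl]; infer_instance
  haveI : IsClosedImmersion l := IsClosedImmersion.of_comp l I₀.subschemeι
  have : i ≫ f = l ≫ (I₀.subschemeι ≫ f) := by rw [← Category.assoc, hl]
  rw [this]
  infer_instance

end Proper

section Finite

variable (A : Type u) [CommRing A] [IsNoetherianRing A] (X : Scheme.{u})
  [X.Over (Spec (CommRingCat.of A))]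

theorem isNoetherian_of_finiteType
    [LocallyOfFiniteType (X ↘ Spec (CommRingCat.of A))]
    [QuasiCompact (X ↘ Spec (CommRingCat.of A))] : IsNoetherian X := by
  haveI : IsLocallyNoetherian X :=
    LocallyOfFiniteType.isLocallyNoetherian (X ↘ Spec (CommRingCat.of A))
  haveI : CompactSpace X :=
    QuasiCompact.compactSpace_of_compactSpace (X ↘ Spec (CommRingCat.of A))
  exact {}

/-- the direct image of a coherent module on a closed subscheme proper over `Spec A` has finite
cohomology -/
theorem finite_HH_push_of_proper {Z : Scheme.{u}} (i : Z ⟶ X) [IsClosedImmersion i]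
    (hp : IsProper (i ≫ (X ↘ Spec (CommRingCat.of A)))) (I : Z.Modules) (hI : Coh.IsCoh I)
    (q : ℕ) : Module.Finite A (Coh.HH X ((Coh.push i).obj I) q) := by
  letI : Z.Over (Spec (CommRingCat.of A)) := ⟨i ≫ (X ↘ Spec (CommRingCat.of A))⟩
  haveI : i.IsOver (Spec (CommRingCat.of A)) := ⟨rfl⟩
  haveI : IsProper (Z ↘ Spec (CommRingCat.of A)) := hp
  haveI : I.IsQuasicoherent := hI.1
  rw [← Groth.Agent.Lib.Helper18.HH.finite_iff_push i I A q]
  exact Groth.Agent.S0002.result A Z I hI q

variable [LocallyOfFiniteType (X ↘ Spec (CommRingCat.of A))]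
  [QuasiCompact (X ↘ Spec (CommRingCat.of A))]

/-- **finiteness for proper support**: a coherent module whose support lies in a closed subset
proper over `Spec A` has finite cohomology -/
theorem finite_HH_of_proper_support (T : Set X)
    (hT : ClSub.IsProperOver (X ↘ Spec (CommRingCat.of A)) T)
    (N : X.Modules) (hN : Coh.IsCoh N) (hsupp : CohB1.support N ⊆ T) (q : ℕ) :
    Module.Finite A (Coh.HH X N q) := by
  haveI : IsNoetherian X := isNoetherian_of_finiteType A X
  refine devissage_master_aux (fun N => ∀ q, Module.Finite A (Coh.HH X N q)) ?_ T ?_ ?_ ?_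
    N hN hsupp q
  · rintro M N ⟨e⟩ h q
    haveI := h q
    exact finite_HH_of_iso A X e.symm q
  · intro N hN q
    haveI := subsingleton_HH_of_isZero hN q
    infer_instance
  · intro S hS _ _ _ _ h1 h3
    exact (T7a A X S hS).2 h1 h3
  · intro Z i _ _ hr _ I ι hι hIq hI0 q
    haveI : IsLocallyNoetherian Z := LocallyOfFiniteType.isLocallyNoetherian i
    have hIc : Coh.IsCoh I :=
      Groth.Agent.S0046.result Z (Coh.structureModule Z) I ι (isCoh_structureModule Z) hIq
    exact finite_HH_push_of_proper A X i
      (isProper_comp_of_range_subset _ i T hT hr) I hIc q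

end Finite

end Groth.Agent.Lib.helper8.FF
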