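import Mathlib
import Groth.Prelude.Def_Algz
import Groth.Agent.Lib.Helper8.FormalCompletion
import Groth.Agent.Lib.Helper7.QCohPushQC

/-!
# Pro-isomorphisms of coherent formal modules; restriction of `(H⁰(U, G_n))~` to `U` (helper8)

* `iso_of_isProIsomorphic`: pro-isomorphic coherent formal modules are isomorphic (no Noetherian
  hypothesis; this is the argument of S9552).
* `isProIso_whiskerRight`, `isProIsomorphic_comp_functor`: functors preserve pro-isomorphisms.
* `isProIsomorphic_of_iso_left/right`: transport along isomorphisms of systems.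
* `sectSysRestrictIso`: `(H⁰(U, G_n))~|_U ≅ G_n` for quasi-coherent `G_n` and quasi-compact `U`.
-/

set_option autoImplicit false
universe u

namespace Groth.Agent.Lib.helper8.AlgzB

open CategoryTheory CategoryTheory.Limits AlgebraicGeometry Opposite TopologicalSpace
open Formal Groth.Agent.Lib.helper8.FF Groth.Agent.Lib.helper8.FTors
open Groth.Agent.Lib.helper8.FCompl

section ProIso

variable {C : Type*} [Category C] {D : Type*} [Category D]

lemma isProIso_whiskerRight {X Y : ARSys.PS C} (a : X ⟶ Y) (ha : DerCA.IsProIso a) (R : C ⥤ D) :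
    DerCA.IsProIso (Functor.whiskerRight a R : X ⋙ R ⟶ Y ⋙ R) := by
  intro n
  obtain ⟨m, h, b, hb1, hb2⟩ := ha n
  refine ⟨m, h, R.map b, ?_, ?_⟩
  · change R.map (a.app (op m)) ≫ R.map b = R.map (ARSys.tr X h)
    rw [← R.map_comp, hb1]
  · change R.map b ≫ R.map (a.app (op n)) = R.map (ARSys.tr Y h)
    rw [← R.map_comp, hb2]

lemma isProIsomorphic_comp_functor {X Y : ARSys.PS C} (h : Algz.IsProIsomorphic X Y) (R : C ⥤ D) :
    Algz.IsProIsomorphic (X ⋙ R) (Y ⋙ R) := by
  obtain ⟨m, hm, hmn, a, ha⟩ := h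
  exact ⟨m, hm, hmn, Functor.whiskerRight a R, isProIso_whiskerRight a ha R⟩

lemma isProIso_comp_iso {X Y Z : ARSys.PS C} (a : X ⟶ Y) (ha : DerCA.IsProIso a) (e : Y ≅ Z) :
    DerCA.IsProIso (a ≫ e.hom) := by
  intro n
  obtain ⟨m, h, b, hb1, hb2⟩ := ha n
  refine ⟨m, h, e.inv.app (op m) ≫ b, ?_, ?_⟩
  · rw [NatTrans.comp_app, Category.assoc, ← Category.assoc (e.hom.app (op m)),
      ← NatTrans.comp_app, e.hom_inv_id, NatTrans.id_app, Category.id_comp, hb1]
  · rw [NatTrans.comp_app, Category.assoc, ← Category.assoc b, hb2]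
    have := e.inv.naturality (homOfLE h).op
    rw [← Category.assoc]
    change (e.inv.app (op m) ≫ Y.map (homOfLE h).op) ≫ e.hom.app (op n) = Z.map (homOfLE h).op
    rw [← this, Category.assoc, ← NatTrans.comp_app, e.inv_hom_id, NatTrans.id_app,
      Category.comp_id]

lemma isProIso_iso_comp {X Y Z : ARSys.PS C} (e : X ≅ Y) (a : Y ⟶ Z) (ha : DerCA.IsProIso a) :
    DerCA.IsProIso (e.hom ≫ a) := by
  intro n
  obtain ⟨m, h, b, hb1, hb2⟩ := ha n
  refine ⟨m, h, b ≫ e.inv.app (op n), ?_, ?_⟩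
  · rw [NatTrans.comp_app, Category.assoc, ← Category.assoc (a.app (op m)), hb1]
    have := e.inv.naturality (homOfLE h).op
    change e.hom.app (op m) ≫ Y.map (homOfLE h).op ≫ e.inv.app (op n) = X.map (homOfLE h).op
    rw [this, ← Category.assoc, ← NatTrans.comp_app, e.hom_inv_id, NatTrans.id_app,
      Category.id_comp]
  · rw [NatTrans.comp_app, Category.assoc, ← Category.assoc (e.inv.app (op n)),
      ← NatTrans.comp_app, e.inv_hom_id, NatTrans.id_app, Category.id_comp, hb2]

lemma isProIsomorphic_of_iso_right {X Y Z : ARSys.PS C} (h : Algz.IsProIsomorphic X Y)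
    (e : Y ≅ Z) : Algz.IsProIsomorphic X Z := by
  obtain ⟨m, hm, hmn, a, ha⟩ := h
  exact ⟨m, hm, hmn, a ≫ e.hom, isProIso_comp_iso a ha e⟩

lemma isProIsomorphic_of_iso_left {X Y Z : ARSys.PS C} (h : Algz.IsProIsomorphic X Y)
    (e : X ≅ Z) : Algz.IsProIsomorphic Z Y := by
  obtain ⟨m, hm, hmn, a, ha⟩ := h
  exact ⟨m, hm, hmn, (Functor.isoWhiskerLeft (Monotone.functor hm).op e).inv ≫ a,
    isProIso_iso_comp (Functor.isoWhiskerLeft (Monotone.functor hm).op e).symm a ha⟩

end ProIso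

section CohFormal

variable {A : Type u} [CommRing A] {X : Scheme.{u}} [X.Over (Spec (CommRingCat.of A))]

/-- pro-isomorphic coherent formal modules are isomorphic -/
theorem iso_of_isProIsomorphic (I : Ideal A) (F G : ℕᵒᵖ ⥤ X.Modules)
    (hF : Formal.IsCohFormal I F) (hG : Formal.IsCohFormal I G) (h : Algz.IsProIsomorphic F G) :
    Nonempty (F ≅ G) := by
  classical
  obtain ⟨m, hm, hmn, a, ha⟩ := h
  obtain ⟨a', hnat_a, ha'⟩ : ∃ a' : ∀ n : ℕ, F.obj (op (m n)) ⟶ G.obj (op n),
      (∀ {n k : ℕ} (h : n ≤ k),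
        F.map (homOfLE (hm h)).op ≫ a' n = a' k ≫ G.map (homOfLE h).op) ∧
      (∀ n : ℕ, ∃ (k : ℕ) (h : n ≤ k) (b : G.obj (op k) ⟶ F.obj (op (m n))),
        a' k ≫ b = F.map (homOfLE (hm h)).op ∧ b ≫ a' n = G.map (homOfLE h).op) :=
    ⟨fun n => a.app (op n), fun h => a.naturality (homOfLE h).op, fun n => ha n⟩
  clear ha a
  have tF : ∀ {n k : ℕ} (h : n ≤ k), IsCok (I ^ (n + 1)) (F.map (homOfLE h).op) :=
    fun h => isCok_map I F hF h
  have tG : ∀ {n k : ℕ} (h : n ≤ k), IsCok (I ^ (n + 1)) (G.map (homOfLE h).op) :=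
    fun h => isCok_map I G hG h
  have Fcomp : ∀ {i j k : ℕ} (h1 : i ≤ j) (h2 : j ≤ k),
      F.map (homOfLE h2).op ≫ F.map (homOfLE h1).op = F.map (homOfLE (h1.trans h2)).op := by
    intro i j k h1 h2
    rw [← F.map_comp]; rfl
  have hf : ∀ n : ℕ, ∃ f : F.obj (op n) ⟶ G.obj (op n),
      F.map (homOfLE (hmn n)).op ≫ f = a' n := fun n =>
    IsCok.desc (tF (hmn n)) (a' n) (hG.2.1 n)
  choose f hf using hf
  have hnat : ∀ {n k : ℕ} (h : n ≤ k),
      F.map (homOfLE h).op ≫ f n = f k ≫ G.map (homOfLE h).op := by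
    intro n k h
    haveI := (tF (hmn k)).epi
    rw [← cancel_epi (F.map (homOfLE (hmn k)).op), ← Category.assoc, ← Category.assoc, hf k,
      ← hnat_a h, ← hf n, ← Category.assoc, Fcomp, Fcomp]
  have hiso : ∀ n : ℕ, IsIso (f n) := by
    intro n
    obtain ⟨k, hk, b, hb1, hb2⟩ := ha' n
    obtain ⟨g, hg⟩ := IsCok.desc (tG hk) (b ≫ F.map (homOfLE (hmn n)).op) (hF.2.1 n)
    refine ⟨g, ?_, ?_⟩
    · haveI := (tF ((hmn n).trans (hm hk))).epi
      rw [← cancel_epi (F.map (homOfLE ((hmn n).trans (hm hk))).op), Category.comp_id]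
      conv_lhs => rw [← Fcomp hk (hmn k)]
      rw [Category.assoc, ← Category.assoc (F.map (homOfLE hk).op), hnat hk, Category.assoc, hg,
        ← Category.assoc, ← Category.assoc, hf k, hb1, Fcomp]
    · haveI := (tG hk).epi
      rw [← cancel_epi (G.map (homOfLE hk).op), ← Category.assoc, hg, Category.assoc, hf n, hb2,
        Category.comp_id]
  exact ⟨NatIso.ofComponents (fun n => @asIso _ _ _ _ (f n.unop) (hiso n.unop)) (by
    intro n k g
    have hle : k.unop ≤ n.unop := leOfHom g.unop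
    have eg : g = (homOfLE hle).op := Quiver.Hom.unop_inj (Subsingleton.elim _ _)
    rw [eg]
    exact hnat hle)⟩

end CohFormal

section Sect

variable (A : Type u) [CommRing A] (U : (Spec (CommRingCat.of A)).Opens)
  [QuasiCompact U.ι]

/-- `(H⁰(U, G_n))~|_U ≅ G_n`, naturally in `n`. -/
lemma isIso_fromTildeΓ_push (F : (U : Scheme.{u}).Modules) [F.IsQuasicoherent] :
    IsIso (Scheme.Modules.fromTildeΓ (R := CommRingCat.of A)
      ((Scheme.Modules.pushforward U.ι).obj F)) := by
  haveI : ((Scheme.Modules.pushforward U.ι).obj F).IsQuasicoherent :=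
    Groth.Agent.Lib.helper7.QCohPushQC.isQuasicoherent_pushforward U.ι F
  exact Scheme.Modules.isIso_fromTildeΓ_of_isQuasicoherent (R := CommRingCat.of A) _

noncomputable def sectSysRestrictIso (G : ℕᵒᵖ ⥤ (U : Scheme.{u}).Modules)
    (hG : ∀ n, (G.obj n).IsQuasicoherent) :
    Algz.sectSys A U G ⋙ Scheme.Modules.restrictFunctor U.ι ≅ G :=
  NatIso.ofComponents (fun n =>
    (Scheme.Modules.restrictFunctor U.ι).mapIso
      (@asIso _ _ _ _ (Scheme.Modules.fromTildeΓ (R := CommRingCat.of A)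
        ((Scheme.Modules.pushforward U.ι).obj (G.obj n)))
        (haveI := hG n; isIso_fromTildeΓ_push A U (G.obj n))) ≪≫
    (Scheme.Modules.restrictFunctorAdjCounitIso U.ι).app (G.obj n)) (by
    intro n k g
    have h1 := (Scheme.Modules.fromTildeΓNatTrans (R := CommRingCat.of A)).naturality
      ((Scheme.Modules.pushforward U.ι).map (G.map g))
    have h2 := (Scheme.Modules.restrictFunctorAdjCounitIso U.ι).hom.naturality (G.map g)
    simp only [Functor.comp_map, Iso.trans_hom, Functor.mapIso_hom, Iso.app_hom,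
      Category.assoc]
    simp only [Functor.comp_map, Functor.id_map] at h1 h2
    rw [← h2, ← Category.assoc, ← Category.assoc, ← Functor.map_comp, ← Functor.map_comp]
    congr 2)

end Sect

end Groth.Agent.Lib.helper8.AlgzB
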