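import Mathlib
import Groth.Agent.Lib.Lead.GE2
import Groth.Agent.Lib.Helper8.FormalTorsion
import Groth.Agent.Lib.Helper8.LimAdic
import Groth.Agent.Lib.Helper28.LimitSections
import Groth.Agent.Lib.Helper7.LocalLift

/-!
# The limit of a quasi-coherent formal system (helper8)

`X` a scheme over `Spec A`, `I` a finitely generated ideal of `A`, `(G_n)` an inverse system of
quasi-coherent modules with `G_n` killed by `I^(n+1)` and `G_n = G_{n+1} / I^(n+1) G_{n+1}`;
`F = lim G_n` in `X.Modules`.  Then `F / I^(n+1) F = G_n` via the projection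
(`isCok_limit_π`, Stacks 09B8 part (4) at the level of sheaves).
-/

set_option autoImplicit false
set_option backward.isDefEq.respectTransparency false
set_option linter.style.haveILetI false
set_option linter.unusedSectionVars false
universe u

namespace Groth.Agent.Lib.helper8.LimFormal

open CategoryTheory CategoryTheory.Limits AlgebraicGeometry Opposite TopologicalSpace Formal
open Groth.Agent.Lib.helper8.FF Groth.Agent.Lib.helper8.Rees Groth.Agent.Lib.helper8.FTors
open Groth.Agent.Lib.Lead.GE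
open Scheme.Modules

variable {A : Type u} [CommRing A] {X : Scheme.{u}} [X.Over (Spec (CommRingCat.of A))]

/-- sections of a module killed by `𝔞` are killed by `𝔞` -/
lemma smul_top_eq_bot_of_killedBy {𝔞 : Ideal A} {M : X.Modules} (hk : KilledBy 𝔞 M)
    (U : X.Opens) : (𝔞.map (resA A U)) • (⊤ : Submodule Γ(X, U) Γ(M, U)) = ⊥ := by
  rw [eq_bot_iff, Submodule.smul_le]
  intro r hr x _
  have hle : 𝔞.map (resA A U) ≤ Module.annihilator Γ(X, U) Γ(M, U) := by
    rw [Ideal.map_le_iff_le_comap]
    intro a ha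
    rw [Ideal.mem_comap, Module.mem_annihilator]
    intro y
    have h1 : appLin (smulMod A M a) U y = 0 := by rw [hk a ha]; rfl
    rw [appLin_smulMod] at h1
    exact h1
  exact (Submodule.mem_bot _).2 (Module.mem_annihilator.mp (hle hr) _)

/-- for a finitely generated ideal `𝔞` and `g : P ⟶ R` exhibiting `R = P / 𝔞 P` with `P` quasi-coherent,
the kernel of `g` on sections over an affine open `U` is `𝔞 Γ(P, U)` -/
lemma ker_appLin_of_isCok {𝔞 : Ideal A} (h𝔞 : 𝔞.FG) {P R : X.Modules} [P.IsQuasicoherent]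
    {g : P ⟶ R} (hg : IsCok 𝔞 g) {U : X.Opens} (hU : IsAffineOpen U) :
    LinearMap.ker (appLin g U) = (𝔞.map (resA A U)) • (⊤ : Submodule Γ(X, U) Γ(P, U)) := by
  obtain ⟨θ, hθ⟩ := hg.exists_iso
  have h1 : LinearMap.ker (appLin g U) = LinearMap.ker (appLin (qπ 𝔞 P) U) := by
    rw [← hθ, appLin_comp]
    ext x
    simp only [LinearMap.mem_ker, LinearMap.comp_apply]
    constructor
    · intro h
      have hinj := appLin_injective_of_mono θ.hom U
      exact hinj (h.trans (map_zero _).symm)
    · intro h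
      rw [h, map_zero]
  rw [h1]
  refine le_antisymm ?_ (smul_top_le_ker_appLin_qπ 𝔞 P U)
  rw [← range_appLin_kernel_ι]
  exact range_appLin_sbι_of_fg 𝔞 h𝔞 P hU

section Limit

variable (G : ℕᵒᵖ ⥤ X.Modules)

/-- the module of compatible families of sections over `U` -/
def compat (U : X.Opens) : Submodule Γ(X, U) (∀ m : ℕ, Γ(G.obj (op m), U)) where
  carrier := {x | ∀ m, appLin (G.map (homOfLE (Nat.le_succ m)).op) U (x (m + 1)) = x m}
  add_mem' := by
    intro x y hx hy m
    rw [Pi.add_apply, Pi.add_apply, map_add, hx m, hy m]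
  zero_mem' := by
    intro m
    rw [Pi.zero_apply, Pi.zero_apply, map_zero]
  smul_mem' := by
    intro r x hx m
    rw [Pi.smul_apply, Pi.smul_apply, LinearMap.map_smul, hx m]

lemma mem_compat (U : X.Opens) (x : ∀ m : ℕ, Γ(G.obj (op m), U)) :
    x ∈ compat G U ↔ ∀ m, appLin (G.map (homOfLE (Nat.le_succ m)).op) U (x (m + 1)) = x m :=
  Iff.rfl

/-- compatible families are compatible with all transition maps -/
lemma compat_le (U : X.Opens) (x : ∀ m : ℕ, Γ(G.obj (op m), U)) (hx : x ∈ compat G U) :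
    ∀ (d m : ℕ), appLin (G.map (homOfLE (Nat.le_add_right m d)).op) U (x (m + d)) = x m := by
  intro d
  induction d with
  | zero =>
    intro m
    have h1 : (homOfLE (Nat.le_add_right m 0)).op = 𝟙 (op m) := Subsingleton.elim _ _
    have h2 : G.map (homOfLE (Nat.le_add_right m 0)).op = 𝟙 _ := by
      rw [h1]
      exact G.map_id _
    rw [h2]
    rfl
  | succ d ih =>
    intro m
    have h1 : (homOfLE (Nat.le_add_right m (d + 1))).op =
        (homOfLE (Nat.le_succ (m + d))).op ≫ (homOfLE (Nat.le_add_right m d)).op :=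
      Subsingleton.elim _ _
    rw [h1, G.map_comp, appLin_comp_apply]
    have h2 : appLin (G.map (homOfLE (Nat.le_succ (m + d))).op) U (x (m + (d + 1))) = x (m + d) :=
      hx (m + d)
    exact (congrArg (appLin (G.map (homOfLE (Nat.le_add_right m d)).op) U) h2).trans (ih m)

lemma compat_hom (U : X.Opens) (x : ∀ m : ℕ, Γ(G.obj (op m), U)) (hx : x ∈ compat G U)
    {j j' : ℕᵒᵖ} (f : j ⟶ j') : ((G.map f).app U).hom (x j.unop) = x j'.unop := by
  obtain ⟨a⟩ := j
  obtain ⟨b⟩ := j'
  have hle : b ≤ a := leOfHom f.unop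
  obtain ⟨d, rfl⟩ := Nat.exists_eq_add_of_le hle
  have h1 : f = (homOfLE (Nat.le_add_right b d)).op := Subsingleton.elim _ _
  rw [h1]
  exact compat_le G U x hx d b

/-- sections of a limit of a tower of modules (helper28's `existsUnique_section` for the index
category `ℕᵒᵖ`, which lives in universe `0`) -/
theorem existsUnique_section' (W : X.Opens) (s : ∀ j : ℕᵒᵖ, Γ(G.obj j, W))
    (hs : ∀ {j j' : ℕᵒᵖ} (f : j ⟶ j'), ((G.map f).app W).hom (s j) = s j') :
    ∃! l : Γ(limit G, W), ∀ j, ((limit.π G j).app W).hom l = s j := by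
  haveI : PreservesLimitsOfSize.{0, 0} (Groth.Agent.Lib.helper28.LimitSections.secFunctor (X := X) W) :=
    preservesLimitsOfSize_shrink.{0, u, 0, u} _
  let hc := isLimitOfPreserves (Groth.Agent.Lib.helper28.LimitSections.secFunctor W)
    (limit.isLimit G)
  let e := Types.isLimitEquivSections hc
  let σ : (G ⋙ Groth.Agent.Lib.helper28.LimitSections.secFunctor W).sections :=
    ⟨fun j => s j, fun {j j'} f => hs f⟩
  refine ⟨e.symm σ, ?_, ?_⟩
  · intro j
    exact Types.isLimitEquivSections_symm_apply hc σ j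
  · intro l hl
    apply e.injective
    rw [Equiv.apply_symm_apply]
    apply Subtype.ext
    funext j
    exact hl j

/-- sections of the limit as compatible families -/
noncomputable def toCompat (U : X.Opens) : Γ(limit G, U) →ₗ[Γ(X, U)] compat G U :=
  LinearMap.codRestrict (compat G U) (LinearMap.pi fun m => appLin (limit.π G (op m)) U) (by
    intro x m
    show appLin (G.map (homOfLE (Nat.le_succ m)).op) U (appLin (limit.π G (op (m + 1))) U x) =
      appLin (limit.π G (op m)) U x
    rw [← appLin_comp_apply, limit.w])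

lemma toCompat_apply (U : X.Opens) (x : Γ(limit G, U)) (m : ℕ) :
    (toCompat G U x : ∀ m : ℕ, Γ(G.obj (op m), U)) m = appLin (limit.π G (op m)) U x := rfl

lemma toCompat_bijective (U : X.Opens) : Function.Bijective (toCompat G U) := by
  constructor
  · intro x y hxy
    obtain ⟨l, -, hl⟩ := existsUnique_section' G U
      (fun j : ℕᵒᵖ => (toCompat G U x : ∀ m : ℕ, Γ(G.obj (op m), U)) j.unop)
      (fun {j j'} f => compat_hom G U _ (toCompat G U x).2 f)
    have hx : x = l := hl x (fun j => rfl)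
    have hy : y = l := hl y (fun j => by
      rw [hxy]
      rfl)
    rw [hx, hy]
  · intro ξ
    obtain ⟨l, hl, -⟩ := existsUnique_section' G U
      (fun j : ℕᵒᵖ => (ξ : ∀ m : ℕ, Γ(G.obj (op m), U)) j.unop)
      (fun {j j'} f => compat_hom G U _ ξ.2 f)
    refine ⟨l, ?_⟩
    apply Subtype.ext
    funext m
    exact hl (op m)

end Limit

section Main

variable {I : Ideal A} {G : ℕᵒᵖ ⥤ X.Modules}

/-- **sections of `lim G_n` over an affine open which die in `G_n` lie in `I^(n+1) Γ(lim G_n, U)`** -/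
theorem mem_smul_top_of_π_eq_zero (hI : I.FG) (hG : Formal2.IsQCohFormal I G) {U : X.Opens}
    (hU : IsAffineOpen U) (n : ℕ) (x : Γ(limit G, U))
    (hx : appLin (limit.π G (op n)) U x = 0) :
    x ∈ ((I ^ (n + 1)).map (resA A U)) • (⊤ : Submodule Γ(X, U) Γ(limit G, U)) := by
  haveI hq : ∀ m, (G.obj (op m)).IsQuasicoherent := fun m => hG.1 m
  have hcok : ∀ m, IsCok (I ^ (m + 1)) (G.map (homOfLE (Nat.le_succ m)).op) := fun m => hG.2.2 m
  have hf : ∀ m, Function.Surjective (appLin (G.map (homOfLE (Nat.le_succ m)).op) U) := by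
    intro m
    haveI := (hcok m).epi
    exact appLin_surjective_of_epi _ hU
  have hk : ∀ m, (I.map (resA A U)) ^ (m + 1) •
      (⊤ : Submodule Γ(X, U) Γ(G.obj (op m), U)) = ⊥ := by
    intro m
    rw [← Ideal.map_pow]
    exact smul_top_eq_bot_of_killedBy (hG.2.1 m) U
  have hker : ∀ m, LinearMap.ker (appLin (G.map (homOfLE (Nat.le_succ m)).op) U) =
      (I.map (resA A U)) ^ (m + 1) • (⊤ : Submodule Γ(X, U) Γ(G.obj (op (m + 1)), U)) := by
    intro m
    rw [← Ideal.map_pow]
    exact ker_appLin_of_isCok (Ideal.FG.pow hI) (hcok m) hU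
  have hJ : (I.map (resA A U)).FG := hI.map _
  have key := Groth.Agent.Lib.helper8.LimAdic.ker_proj_eq (I.map (resA A U))
    (fun m => Γ(G.obj (op m), U)) (fun m => appLin (G.map (homOfLE (Nat.le_succ m)).op) U)
    hJ hf hk hker (compat G U) (mem_compat G U) n
  have h1 : toCompat G U x ∈ LinearMap.ker
      ((LinearMap.proj n).comp (compat G U).subtype : compat G U →ₗ[Γ(X, U)] Γ(G.obj (op n), U)) := by
    rw [LinearMap.mem_ker]
    exact hx
  rw [key] at h1
  let e := LinearEquiv.ofBijective (toCompat G U) (toCompat_bijective G U)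
  have h2 := Groth.Agent.Lib.helper8.LimAdic.map_mem_smul_top
    ((I.map (resA A U)) ^ (n + 1)) e.symm.toLinearMap h1
  have h3 : e.symm.toLinearMap (toCompat G U x) = x := e.symm_apply_apply x
  rw [h3, ← Ideal.map_pow] at h2
  exact h2

/-- the projection `lim G_k ⟶ G_n` is surjective on sections over affine opens -/
theorem app_limit_π_surjective (hG : Formal2.IsQCohFormal I G) {U : X.Opens}
    (hU : IsAffineOpen U) (n : ℕ) : Function.Surjective (appLin (limit.π G (op n)) U) := by
  haveI hq : ∀ m, (G.obj (op m)).IsQuasicoherent := fun m => hG.1 m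
  have hcok : ∀ m, IsCok (I ^ (m + 1)) (G.map (homOfLE (Nat.le_succ m)).op) := fun m => hG.2.2 m
  have hf : ∀ m, Function.Surjective (appLin (G.map (homOfLE (Nat.le_succ m)).op) U) := by
    intro m
    haveI := (hcok m).epi
    exact appLin_surjective_of_epi _ hU
  intro y
  obtain ⟨ξ, hξ, hξn⟩ := Groth.Agent.Lib.helper8.LimAdic.exists_compatible n
    (fun m => Γ(G.obj (op m), U)) (fun m => appLin (G.map (homOfLE (Nat.le_succ m)).op) U) hf y
  obtain ⟨l, hl⟩ := (toCompat_bijective G U).2 ⟨ξ, hξ⟩
  refine ⟨l, ?_⟩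
  rw [← toCompat_apply, hl]
  exact hξn

/-- **`lim G_k / I^(n+1) lim G_k = G_n`** for a quasi-coherent formal system and `I` finitely
generated -/
theorem isCok_limit_π (hI : I.FG) (hG : Formal2.IsQCohFormal I G) (n : ℕ) :
    IsCok (I ^ (n + 1)) (limit.π G (op n)) := by
  have h0 : smulFamily (I ^ (n + 1)) (limit G) ≫ limit.π G (op n) = 0 := by
    apply smulFamily_comp_eq_zero
    intro a ha
    rw [smulMod_naturality, hG.2.1 n a ha, comp_zero]
  refine ⟨h0, ?_⟩
  have hfac : qπ (I ^ (n + 1)) (limit G) ≫ cokernel.desc _ (limit.π G (op n)) h0 =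
      limit.π G (op n) := cokernel.π_desc _ _ _
  haveI : Epi (limit.π G (op n)) :=
    Groth.Agent.Lib.helper16.QCohEpi.epi_of_surjective_on_basis _ X.affineOpens
      X.isBasis_affineOpens (fun U hU => app_limit_π_surjective hG hU n)
  haveI : Epi (cokernel.desc _ (limit.π G (op n)) h0) := epi_of_epi_fac hfac
  haveI : Mono (cokernel.desc _ (limit.π G (op n)) h0) := by
    refine Groth.Agent.Lib.helper16.QCohEpi.mono_of_injective_on_basis _ X.affineOpens
      X.isBasis_affineOpens (fun D _ => ?_)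
    rw [injective_iff_map_eq_zero]
    intro t ht
    refine TopCat.Presheaf.IsSheaf.section_ext (Q (I ^ (n + 1)) (limit G)).isSheaf (U := op D) ?_
    intro y hy
    obtain ⟨W₁, hW₁, hyW₁, s₁, hs₁⟩ := Groth.Agent.Lib.helper7.LocalLift.exists_local_lift
      (qπ (I ^ (n + 1)) (limit G)) D t y hy
    obtain ⟨W, hW, hyW, hWW₁⟩ := Opens.isBasis_iff_nbhd.mp X.isBasis_affineOpens hyW₁
    refine ⟨W, hWW₁.trans hW₁, hyW, ?_⟩
    rw [map_zero]
    -- the restriction of `t` to `W` is the image of `s := s₁|_W`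
    have e1 := Groth.Agent.Lib.helper16.QCohEpi.app_map (qπ (I ^ (n + 1)) (limit G)) hWW₁ s₁
    have e2 : (Q (I ^ (n + 1)) (limit G)).presheaf.map (homOfLE hWW₁).op
        ((Q (I ^ (n + 1)) (limit G)).presheaf.map (homOfLE hW₁).op t) =
        (Q (I ^ (n + 1)) (limit G)).presheaf.map (homOfLE (hWW₁.trans hW₁)).op t := by
      rw [← ConcreteCategory.comp_apply, ← Functor.map_comp]
      rfl
    set s := (limit G).presheaf.map (homOfLE hWW₁).op s₁ with hs
    have e3 : ((qπ (I ^ (n + 1)) (limit G)).app W).hom s =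
        (Q (I ^ (n + 1)) (limit G)).presheaf.map (homOfLE (hWW₁.trans hW₁)).op t := by
      rw [e1, hs₁, e2]
    rw [← e3]
    -- `s` dies in `G_n`
    have e4 : appLin (limit.π G (op n)) W s = 0 := by
      rw [← hfac, appLin_comp_apply]
      show ((cokernel.desc _ (limit.π G (op n)) h0).app W).hom
        (((qπ (I ^ (n + 1)) (limit G)).app W).hom s) = 0
      rw [e3, Groth.Agent.Lib.helper16.QCohEpi.app_map, ht, map_zero]
    have e5 := mem_smul_top_of_π_eq_zero hI hG hW n s e4
    exact smul_top_le_ker_appLin_qπ (I ^ (n + 1)) (limit G) W e5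
  exact isIso_of_mono_of_epi _

end Main

end Groth.Agent.Lib.helper8.LimFormal
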