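import Mathlib
import Groth.Prelude.Def_Algz
import Groth.Agent.Lib.Helper8.LimAdic

/-!
# Limits of pro-isomorphic towers of modules (helper8)

* `compatM T`, `toCompatM T : limit T ≃ compatible families` for a tower `T : ℕᵒᵖ ⥤ ModuleCat A`.
* `exists_retraction`: if `a : reindex S ⟶ N` is a pro-isomorphism of towers of `A`-modules, then the
  induced map `lim S → lim N` has an `A`-linear retraction (in fact it is bijective).
-/

set_option autoImplicit false
universe u

namespace Groth.Agent.Lib.helper8.ProIsoLim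

open CategoryTheory CategoryTheory.Limits Opposite

variable {A : Type u} [CommRing A]

section Compat

variable (T : ℕᵒᵖ ⥤ ModuleCat.{u} A)

/-- the module of compatible families -/
def compatM : Submodule A (∀ n : ℕ, T.obj (op n)) where
  carrier := {x | ∀ n, (T.map (homOfLE (Nat.le_succ n)).op).hom (x (n + 1)) = x n}
  add_mem' := by
    intro x y hx hy n
    rw [Pi.add_apply, Pi.add_apply, map_add, hx n, hy n]
  zero_mem' := by
    intro n
    rw [Pi.zero_apply, Pi.zero_apply, map_zero]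
  smul_mem' := by
    intro r x hx n
    rw [Pi.smul_apply, Pi.smul_apply, map_smul, hx n]

lemma mem_compatM (x : ∀ n : ℕ, T.obj (op n)) :
    x ∈ compatM T ↔ ∀ n, (T.map (homOfLE (Nat.le_succ n)).op).hom (x (n + 1)) = x n := Iff.rfl

lemma compatM_add (x : ∀ n : ℕ, T.obj (op n)) (hx : x ∈ compatM T) :
    ∀ (d n : ℕ), (T.map (homOfLE (Nat.le_add_right n d)).op).hom (x (n + d)) = x n := by
  intro d
  induction d with
  | zero =>
    intro n
    have h1 : (homOfLE (Nat.le_add_right n 0)).op = 𝟙 (op n) := Subsingleton.elim _ _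
    have h2 : T.map (homOfLE (Nat.le_add_right n 0)).op = 𝟙 _ := by
      rw [h1]
      exact T.map_id _
    rw [h2]
    rfl
  | succ d ih =>
    intro n
    have h1 : (homOfLE (Nat.le_add_right n (d + 1))).op =
        (homOfLE (Nat.le_succ (n + d))).op ≫ (homOfLE (Nat.le_add_right n d)).op :=
      Subsingleton.elim _ _
    rw [h1, T.map_comp, ModuleCat.hom_comp, LinearMap.comp_apply]
    have h2 : (T.map (homOfLE (Nat.le_succ (n + d))).op).hom (x (n + (d + 1))) = x (n + d) :=
      hx (n + d)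
    exact (congrArg (T.map (homOfLE (Nat.le_add_right n d)).op).hom h2).trans (ih n)

lemma compatM_le (x : ∀ n : ℕ, T.obj (op n)) (hx : x ∈ compatM T) {a b : ℕ} (h : a ≤ b) :
    (T.map (homOfLE h).op).hom (x b) = x a := by
  obtain ⟨d, rfl⟩ := Nat.exists_eq_add_of_le h
  exact compatM_add T x hx d a

lemma compatM_hom (x : ∀ n : ℕ, T.obj (op n)) (hx : x ∈ compatM T)
    {j j' : ℕᵒᵖ} (f : j ⟶ j') : (T.map f).hom (x j.unop) = x j'.unop := by
  obtain ⟨a⟩ := j
  obtain ⟨b⟩ := j'
  have hle : b ≤ a := leOfHom f.unop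
  have h1 : f = (homOfLE hle).op := Subsingleton.elim _ _
  rw [h1]
  exact compatM_le T x hx hle

/-- elements of the limit as compatible families -/
noncomputable def toCompatM : ↑(limit T) →ₗ[A] compatM T :=
  LinearMap.codRestrict (compatM T) (LinearMap.pi fun n => (limit.π T (op n)).hom) (by
    intro x n
    show (T.map (homOfLE (Nat.le_succ n)).op).hom ((limit.π T (op (n + 1))).hom x) =
      (limit.π T (op n)).hom x
    rw [← LinearMap.comp_apply, ← ModuleCat.hom_comp, limit.w])

lemma toCompatM_apply (x : ↑(limit T)) (n : ℕ) :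
    (toCompatM T x : ∀ n : ℕ, T.obj (op n)) n = (limit.π T (op n)).hom x := rfl

lemma toCompatM_bijective : Function.Bijective (toCompatM T) := by
  constructor
  · intro x y hxy
    refine Concrete.limit_ext T x y (fun j => ?_)
    obtain ⟨n⟩ := j
    have := congrArg (fun z : compatM T => (z : ∀ n : ℕ, T.obj (op n)) n) hxy
    exact this
  · intro ξ
    let hc := isLimitOfPreserves (forget (ModuleCat.{u} A)) (limit.isLimit T)
    let e := Types.isLimitEquivSections hc
    let σ : (T ⋙ forget (ModuleCat.{u} A)).sections :=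
      ⟨fun j => (ξ : ∀ n : ℕ, T.obj (op n)) j.unop, fun {j j'} f => compatM_hom T _ ξ.2 f⟩
    refine ⟨e.symm σ, ?_⟩
    apply Subtype.ext
    funext n
    exact Types.isLimitEquivSections_symm_apply hc σ (op n)

end Compat

section Retraction

variable (S N : ℕᵒᵖ ⥤ ModuleCat.{u} A)

/-- transition maps as linear maps -/
noncomputable abbrev trL (T : ℕᵒᵖ ⥤ ModuleCat.{u} A) {a b : ℕ} (h : a ≤ b) :
    T.obj (op b) →ₗ[A] T.obj (op a) := (T.map (homOfLE h).op).hom

lemma trL_trL (T : ℕᵒᵖ ⥤ ModuleCat.{u} A) {a b c : ℕ} (h1 : a ≤ b) (h2 : b ≤ c)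
    (z : T.obj (op c)) : trL T h1 (trL T h2 z) = trL T (h1.trans h2) z := by
  have h : (homOfLE (h1.trans h2)).op = (homOfLE h2).op ≫ (homOfLE h1).op := Subsingleton.elim _ _
  show (T.map (homOfLE h1).op).hom ((T.map (homOfLE h2).op).hom z) =
    (T.map (homOfLE (h1.trans h2)).op).hom z
  rw [h, T.map_comp, ModuleCat.hom_comp, LinearMap.comp_apply]

variable {S N} {m : ℕ → ℕ} (hm : Monotone m) (hmn : ∀ n, n ≤ m n)
  (a : DerCA.reindex S hm ⟶ N)

/-- the components of `a` as linear maps `S_{m j} → N_j` -/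
noncomputable abbrev aL (j : ℕ) : S.obj (op (m j)) →ₗ[A] N.obj (op j) := (a.app (op j)).hom

lemma aL_naturality {i j : ℕ} (h : i ≤ j) (z : S.obj (op (m j))) :
    aL hm a i (trL S (hm h) z) = trL N h (aL hm a j z) := by
  have h1 := a.naturality (homOfLE h).op
  have h2 := congrArg (fun φ => φ.hom z) h1
  exact h2

/-- the map induced on compatible families -/
noncomputable def mapCompat : compatM S →ₗ[A] compatM N :=
  LinearMap.codRestrict (compatM N)
    (LinearMap.pi fun j => (aL hm a j) ∘ₗ (LinearMap.proj (m j)) ∘ₗ (compatM S).subtype) (by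
    intro x j
    show trL N (Nat.le_succ j) (aL hm a (j + 1) ((x : ∀ n : ℕ, S.obj (op n)) (m (j + 1)))) =
      aL hm a j ((x : ∀ n : ℕ, S.obj (op n)) (m j))
    rw [← aL_naturality hm a (Nat.le_succ j)]
    congr 1
    exact compatM_le S _ x.2 (hm (Nat.le_succ j)))

lemma mapCompat_apply (x : compatM S) (j : ℕ) :
    (mapCompat hm a x : ∀ n : ℕ, N.obj (op n)) j =
      aL hm a j ((x : ∀ n : ℕ, S.obj (op n)) (m j)) := rfl

include hmn in
/-- a pro-isomorphism induces a map on limits which has a linear retraction -/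
theorem exists_retraction (ha : DerCA.IsProIso a) :
    ∃ γ : compatM N →ₗ[A] compatM S, ∀ x : compatM S, γ (mapCompat hm a x) = x := by
  choose p hp β hβ1 hβ2 using ha
  -- `β n : N_{p n} → S_{m n}`
  have hβ1' : ∀ (n : ℕ) (w : S.obj (op (m (p n)))),
      (β n).hom (aL hm a (p n) w) = trL S (hm (hp n)) w := by
    intro n w
    exact congrArg (fun φ => φ.hom w) (hβ1 n)
  have hβ2' : ∀ (n : ℕ) (v : N.obj (op (p n))),
      aL hm a n ((β n).hom v) = trL N (hp n) v := by
    intro n v
    exact congrArg (fun φ => φ.hom v) (hβ2 n)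
  let σ : ∀ n, compatM N →ₗ[A] S.obj (op (m n)) := fun n =>
    (β n).hom ∘ₗ (LinearMap.proj (p n)) ∘ₗ (compatM N).subtype
  have hσ : ∀ n (y : compatM N), σ n y = (β n).hom ((y : ∀ n : ℕ, N.obj (op n)) (p n)) :=
    fun n y => rfl
  -- key lemma
  have K : ∀ (n P : ℕ) (hP : p n ≤ P) (y : compatM N) (z : S.obj (op (m P))),
      aL hm a P z = (y : ∀ n : ℕ, N.obj (op n)) P →
      σ n y = trL S (hm ((hp n).trans hP)) z := by
    intro n P hP y z hz
    have h1 : (y : ∀ n : ℕ, N.obj (op n)) (p n) = aL hm a (p n) (trL S (hm hP) z) := by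
      rw [aL_naturality hm a hP, hz]
      exact (compatM_le N _ y.2 hP).symm
    rw [hσ, h1, hβ1', trL_trL]
  have hz : ∀ (P : ℕ) (y : compatM N), aL hm a P (σ P y) = (y : ∀ n : ℕ, N.obj (op n)) P := by
    intro P y
    rw [hσ, hβ2']
    exact compatM_le N _ y.2 (hp P)
  -- the retraction
  let γ₀ : compatM N →ₗ[A] (∀ n : ℕ, S.obj (op n)) :=
    LinearMap.pi fun n => (trL S (hmn n)) ∘ₗ σ n
  have hγ₀ : ∀ y, γ₀ y ∈ compatM S := by
    intro y n
    show trL S (Nat.le_succ n) (trL S (hmn (n + 1)) (σ (n + 1) y)) = trL S (hmn n) (σ n y)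
    set P := max (p n) (p (n + 1)) with hP
    rw [K n P (le_max_left _ _) y (σ P y) (hz P y),
      K (n + 1) P (le_max_right _ _) y (σ P y) (hz P y), trL_trL, trL_trL, trL_trL]
  refine ⟨LinearMap.codRestrict (compatM S) γ₀ hγ₀, fun x => ?_⟩
  apply Subtype.ext
  funext n
  show trL S (hmn n) (σ n (mapCompat hm a x)) = (x : ∀ n : ℕ, S.obj (op n)) n
  rw [hσ, mapCompat_apply, hβ1', trL_trL]
  exact compatM_le S _ x.2 _

end Retraction

section Main

variable (S N : ℕᵒᵖ ⥤ ModuleCat.{u} A) {m : ℕ → ℕ} (hm : Monotone m) (hmn : ∀ n, n ≤ m n)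
  (a : DerCA.reindex S hm ⟶ N)

include hmn in
/-- if the tower `S` is pro-isomorphic to an `I`-adic tower `N` (`N_n = N_{n+1} / I^(n+1) N_{n+1}`), `I`
finitely generated, then the limit topology on `lim S` is finer than the `I`-adic topology -/
theorem ker_limit_π_le (I : Ideal A) (hI : I.FG) (ha : DerCA.IsProIso a)
    (hf : ∀ n, Function.Surjective (N.map (homOfLE (Nat.le_succ n)).op).hom)
    (hk : ∀ n, I ^ (n + 1) • (⊤ : Submodule A (N.obj (op n))) = ⊥)
    (hker : ∀ n, LinearMap.ker (N.map (homOfLE (Nat.le_succ n)).op).hom =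
      I ^ (n + 1) • (⊤ : Submodule A (N.obj (op (n + 1)))))
    (k : ℕ) :
    LinearMap.ker (limit.π S (op (m k))).hom ≤ I ^ k • (⊤ : Submodule A ↑(limit S)) := by
  obtain ⟨γ, hγ⟩ := exists_retraction hm hmn a ha
  intro x hx
  rw [LinearMap.mem_ker] at hx
  set ξ := toCompatM S x with hξ
  have h1 : mapCompat hm a ξ ∈ LinearMap.ker
      ((LinearMap.proj k).comp (compatM N).subtype : compatM N →ₗ[A] N.obj (op k)) := by
    rw [LinearMap.mem_ker]
    show aL hm a k ((ξ : ∀ n : ℕ, S.obj (op n)) (m k)) = 0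
    rw [hξ, toCompatM_apply, hx, map_zero]
  rw [Groth.Agent.Lib.helper8.LimAdic.ker_proj_eq I (fun n => N.obj (op n))
    (fun n => (N.map (homOfLE (Nat.le_succ n)).op).hom) hI hf hk hker (compatM N)
    (mem_compatM N) k] at h1
  have h2 := Groth.Agent.Lib.helper8.LimAdic.map_mem_smul_top (I ^ (k + 1)) γ h1
  rw [hγ] at h2
  let e := LinearEquiv.ofBijective (toCompatM S) (toCompatM_bijective S)
  have h3 := Groth.Agent.Lib.helper8.LimAdic.map_mem_smul_top (I ^ (k + 1)) e.symm.toLinearMap h2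
  have h4 : e.symm.toLinearMap ξ = x := e.symm_apply_apply x
  rw [h4] at h3
  exact Submodule.smul_mono_left (Ideal.pow_le_pow_right (Nat.le_succ k)) h3

end Main

end Groth.Agent.Lib.helper8.ProIsoLim
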