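import Mathlib
import Groth.Agent.Lib.Helper8.LimFormal
import Groth.Agent.Lib.Helper8.ProIsoLimit
import Groth.Agent.Lib.Helper8.AlgzBasic

/-!
# Global sections of formal systems on `Spec A` as adic towers of `A`-modules (helper8)

For `Spec A` over itself by the identity: the `A`-module structure of `moduleSpecΓFunctor` versus
`resA`; a coherent/quasi-coherent formal system `G'` on `Spec A` for a finitely generated ideal `I`
gives a tower `N_n = Γ(Spec A, G'_n)` with `N_n = N_{n+1} / I^(n+1) N_{n+1}` (`gamma_surjective`,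
`gamma_smul_top_eq_bot`, `gamma_ker`).  `ker_limit_π_sectMod_le`: S9533.
-/

set_option autoImplicit false
set_option backward.isDefEq.respectTransparency false
set_option linter.style.haveILetI false
set_option linter.unusedSectionVars false
universe u

namespace Groth.Agent.Lib.helper8.AlgzSpec

open CategoryTheory CategoryTheory.Limits AlgebraicGeometry Opposite TopologicalSpace Formal
open Groth.Agent.Lib.helper8.FF Groth.Agent.Lib.helper8.Rees Groth.Agent.Lib.helper8.FTors
open Groth.Agent.Lib.Lead.GE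
open Scheme.Modules

variable (A : Type u) [CommRing A]

/-- `Spec A` over itself by the identity -/
@[reducible] noncomputable def ovr : (Spec (CommRingCat.of A)).Over (Spec (CommRingCat.of A)) := ⟨𝟙 _⟩

attribute [local instance 2000] ovr

/-- global sections on `Spec A` -/
noncomputable abbrev GΓ : (Spec (CommRingCat.of A)).Modules ⥤ ModuleCat.{u} A :=
  moduleSpecΓFunctor (R := CommRingCat.of A)

lemma resA_top_apply (a : A) :
    resA A (⊤ : (Spec (CommRingCat.of A)).Opens) a =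
      (Scheme.ΓSpecIso (CommRingCat.of A)).inv.hom a := by
  show (Coh.resTop _ (op ⊤)) ((Coh.toGlobal (𝟙 (Spec (CommRingCat.of A)))) a) = _
  unfold Coh.toGlobal Coh.resTop
  have h1 : (homOfLE (le_top (a := (op (⊤ : (Spec (CommRingCat.of A)).Opens)).unop))).op = 𝟙 _ :=
    Subsingleton.elim _ _
  rw [h1, CategoryTheory.Functor.map_id]
  simp
  rfl

lemma resA_top_surjective :
    Function.Surjective (resA A (⊤ : (Spec (CommRingCat.of A)).Opens)) := by
  intro r
  refine ⟨(Scheme.ΓSpecIso (CommRingCat.of A)).hom.hom r, ?_⟩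
  rw [resA_top_apply]
  exact congrArg (fun φ => φ.hom r) (Scheme.ΓSpecIso (CommRingCat.of A)).hom_inv_id

variable {A}

lemma smul_eq (M : (Spec (CommRingCat.of A)).Modules) (a : A) (s : ↑((GΓ A).obj M)) :
    a • s = (resA A (⊤ : (Spec (CommRingCat.of A)).Opens) a • (show Γ(M, ⊤) from s) : Γ(M, ⊤)) := by
  rw [resA_top_apply]
  rfl

lemma gamma_map_apply {M N : (Spec (CommRingCat.of A)).Modules} (t : M ⟶ N)
    (s : ↑((GΓ A).obj M)) : ((GΓ A).map t).hom s = appLin t ⊤ (show Γ(M, ⊤) from s) := rfl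

theorem gamma_surjective {M N : (Spec (CommRingCat.of A)).Modules} [M.IsQuasicoherent]
    [N.IsQuasicoherent] (t : M ⟶ N) [Epi t] : Function.Surjective ((GΓ A).map t).hom := by
  intro y
  obtain ⟨x, hx⟩ := appLin_surjective_of_epi t (isAffineOpen_top (Spec (CommRingCat.of A)))
    (show Γ(N, ⊤) from y)
  exact ⟨x, hx⟩

theorem gamma_smul_top_eq_bot {𝔞 : Ideal A} {M : (Spec (CommRingCat.of A)).Modules}
    (hk : KilledBy 𝔞 M) : 𝔞 • (⊤ : Submodule A ↑((GΓ A).obj M)) = ⊥ := by
  rw [eq_bot_iff, Submodule.smul_le]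
  intro a ha s _
  rw [Submodule.mem_bot, smul_eq]
  have h1 : appLin (smulMod A M a) ⊤ (show Γ(M, ⊤) from s) = 0 := by rw [hk a ha]; rfl
  rw [appLin_smulMod] at h1
  exact h1

theorem gamma_ker {𝔞 : Ideal A} (h𝔞 : 𝔞.FG) {P R : (Spec (CommRingCat.of A)).Modules}
    [P.IsQuasicoherent] {g : P ⟶ R} (hg : IsCok 𝔞 g) :
    LinearMap.ker ((GΓ A).map g).hom = 𝔞 • (⊤ : Submodule A ↑((GΓ A).obj P)) := by
  have hker := Groth.Agent.Lib.helper8.LimFormal.ker_appLin_of_isCok h𝔞 hg
    (isAffineOpen_top (Spec (CommRingCat.of A)))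
  apply le_antisymm
  · intro x hx
    have h1 : (show Γ(P, ⊤) from x) ∈ LinearMap.ker (appLin g ⊤) := hx
    rw [hker] at h1
    refine Submodule.smul_induction_on h1 ?_ ?_
    · intro r hr s _
      obtain ⟨a, ha, rfl⟩ := (Ideal.mem_map_iff_of_surjective _ (resA_top_surjective A)).1 hr
      have h2 : (resA A (⊤ : (Spec (CommRingCat.of A)).Opens) a • s : Γ(P, ⊤)) =
          (a • (show ↑((GΓ A).obj P) from s) : ↑((GΓ A).obj P)) := (smul_eq P a s).symm
      rw [h2]
      exact Submodule.smul_mem_smul ha Submodule.mem_top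
    · intro y₁ y₂ h₁ h₂
      exact Submodule.add_mem _ h₁ h₂
  · rw [Submodule.smul_le]
    intro a ha s _
    rw [LinearMap.mem_ker, LinearMap.map_smul]
    have h3 : a • ((GΓ A).map g).hom s ∈ 𝔞 • (⊤ : Submodule A ↑((GΓ A).obj R)) :=
      Submodule.smul_mem_smul ha Submodule.mem_top
    have hkR : KilledBy 𝔞 R := by
      obtain ⟨θ, hθ⟩ := hg.exists_iso
      intro b hb
      have h4 : smulMod A (Q 𝔞 P) b = 0 := smulMod_Q P hb
      have h5 : smulMod A R b = θ.inv ≫ smulMod A (Q 𝔞 P) b ≫ θ.hom := by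
        rw [smulMod_naturality θ.hom b, Iso.inv_hom_id_assoc]
      rw [h5, h4, zero_comp, comp_zero]
    rw [gamma_smul_top_eq_bot hkR] at h3
    exact (Submodule.mem_bot A).1 h3

/-- **S9533**: if `(F_n)` canonically extends, the limit topology on `lim H⁰(U, F_n)` is finer than
the `I`-adic one -/
theorem ker_limit_π_sectMod_le (I : Ideal A) (hI : I.FG) (U : (Spec (CommRingCat.of A)).Opens)
    (G : ℕᵒᵖ ⥤ (↑U : Scheme.{u}).Modules)
    (h : Algz.CanonicallyExtends A I U G) (k : ℕ) :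
    ∃ n : ℕ, LinearMap.ker (limit.π (Algz.sectMod A U G) (op n)).hom ≤
      I ^ k • (⊤ : Submodule A ↑(limit (Algz.sectMod A U G))) := by
  obtain ⟨G', hG', hpro⟩ := h
  have h1 : Algz.IsProIsomorphic (Algz.sectSys A U G ⋙ GΓ A) (G' ⋙ GΓ A) :=
    Groth.Agent.Lib.helper8.AlgzB.isProIsomorphic_comp_functor hpro (GΓ A)
  let e : Algz.sectSys A U G ⋙ GΓ A ≅ Algz.sectMod A U G :=
    Functor.associator _ _ _ ≪≫
      Functor.isoWhiskerLeft (Algz.sectMod A U G)
        (tilde.toTildeΓNatIso (R := CommRingCat.of A)).symm ≪≫ Functor.rightUnitor _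
  have h2 := Groth.Agent.Lib.helper8.AlgzB.isProIsomorphic_of_iso_left h1 e
  obtain ⟨m, hm, hmn, a, ha⟩ := h2
  haveI hq : ∀ n, (G'.obj (op n)).IsQuasicoherent := fun n => (hG'.1 n).1
  have hcok : ∀ n, IsCok (I ^ (n + 1)) (G'.map (homOfLE (Nat.le_succ n)).op) := fun n => hG'.2.2 n
  refine ⟨m k, Groth.Agent.Lib.helper8.ProIsoLim.ker_limit_π_le (Algz.sectMod A U G) (G' ⋙ GΓ A)
    hm hmn a I hI ha ?_ ?_ ?_ k⟩
  · intro n
    haveI := (hcok n).epi
    exact gamma_surjective (G'.map (homOfLE (Nat.le_succ n)).op)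
  · intro n
    exact gamma_smul_top_eq_bot (hG'.2.1 n)
  · intro n
    exact gamma_ker (Ideal.FG.pow hI) (hcok n)

end Groth.Agent.Lib.helper8.AlgzSpec
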