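import Mathlib
import Groth.Agent.Lib.Helper8.AlgzSpecSections
import Groth.Agent.Lib.Helper7.KerSections
import Groth.Agent.S0797

/-!
# Sectionwise criterion for `M / 𝔞 M`; Grothendieck existence on a complete affine scheme (helper8)

* `isCok_of_sections`: `g : M ⟶ R` between quasi-coherent modules exhibits `R = M / 𝔞 M` as soon as, on an
  affine cover, `g` is surjective on sections with kernel `𝔞 Γ(M, U)`.
* `completion_iso_of_isCok`: a compatible family `p n : M ⟶ F_n` with `F_n = M / I^(n+1) M` via `p n`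
  gives `completion I M ≅ F`.
* `exists_completion_iso_of_complete`: `A` Noetherian and `I`-adically complete; every coherent formal
  module on `Spec A` is the completion of a coherent module (the affine case of Grothendieck's
  existence theorem).
-/

set_option autoImplicit false
set_option backward.isDefEq.respectTransparency false
set_option linter.style.haveILetI false
set_option linter.unusedSectionVars false
universe u

namespace Groth.Agent.Lib.helper8.AffEx

open CategoryTheory CategoryTheory.Limits AlgebraicGeometry Opposite TopologicalSpace Formal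
open Groth.Agent.Lib.helper8.FF Groth.Agent.Lib.helper8.Rees Groth.Agent.Lib.helper8.FTors
open Groth.Agent.Lib.Lead.GE
open Scheme.Modules

section General

variable {A : Type u} [CommRing A] {X : Scheme.{u}} [X.Over (Spec (CommRingCat.of A))]

/-- sectionwise criterion for `R = M / 𝔞 M` -/
theorem isCok_of_sections {𝔞 : Ideal A} {M R : X.Modules} [M.IsQuasicoherent]
    [R.IsQuasicoherent] (g : M ⟶ R) {ι : Type*} (W : ι → X.Opens) (hW : ∀ i, IsAffineOpen (W i))
    (hcov : ∀ x : X, ∃ i, x ∈ W i)
    (hsurj : ∀ i, Function.Surjective (appLin g (W i)))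
    (hker : ∀ i, LinearMap.ker (appLin g (W i)) =
      (𝔞.map (resA A (W i))) • (⊤ : Submodule Γ(X, W i) Γ(M, W i))) : IsCok 𝔞 g := by
  have h0 : smulFamily 𝔞 M ≫ g = 0 := by
    apply smulFamily_comp_eq_zero
    intro a ha
    refine hom_eq_zero_of_cover _ W hW hcov (fun i s => ?_)
    rw [appLin_comp_apply, appLin_smulMod]
    have h1 : resA A (W i) a • s ∈ LinearMap.ker (appLin g (W i)) := by
      rw [hker i]
      exact Submodule.smul_mem_smul (Ideal.mem_map_of_mem _ ha) Submodule.mem_top
    exact h1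
  refine ⟨h0, ?_⟩
  haveI : (Q 𝔞 M).IsQuasicoherent := isQuasicoherent_Q 𝔞 M
  have hfac : qπ 𝔞 M ≫ cokernel.desc _ g h0 = g := cokernel.π_desc _ _ _
  refine Groth.Agent.Lib.helper7.KerSections.isIso_of_bijective_cover _ W hW hcov (fun i => ?_)
  constructor
  · rw [injective_iff_map_eq_zero]
    intro t ht
    obtain ⟨s, rfl⟩ := appLin_qπ_surjective 𝔞 M (hW i) t
    have h1 : appLin g (W i) s = 0 := by
      have h3 : appLin (qπ 𝔞 M ≫ cokernel.desc _ g h0) (W i) s = appLin g (W i) s := by rw [hfac]
      rw [← h3, appLin_comp_apply]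
      exact ht
    have h2 : s ∈ LinearMap.ker (appLin g (W i)) := h1
    rw [hker i] at h2
    exact smul_top_le_ker_appLin_qπ 𝔞 M (W i) h2
  · intro y
    obtain ⟨s, hs⟩ := hsurj i y
    refine ⟨appLin (qπ 𝔞 M) (W i) s, ?_⟩
    rw [← hs]
    have h1 : appLin (qπ 𝔞 M ≫ cokernel.desc _ g h0) (W i) s = appLin g (W i) s := by rw [hfac]
    rw [appLin_comp_apply] at h1
    exact h1

/-- a compatible family of quotient maps `M ⟶ F_n = M / I^(n+1) M` identifies `F` with the completion -/
theorem completion_iso_of_isCok (I : Ideal A) (F : ℕᵒᵖ ⥤ X.Modules) (M : X.Modules)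
    (p : ∀ n, M ⟶ F.obj (op n)) (hp : ∀ n, IsCok (I ^ (n + 1)) (p n))
    (hcompat : ∀ (n m : ℕ) (h : n ≤ m), p m ≫ F.map (homOfLE h).op = p n) :
    Nonempty (Formal.completion I M ≅ F) := by
  choose θ hθ using fun n => (hp n).exists_iso
  refine ⟨NatIso.ofComponents (fun n => θ n.unop) ?_⟩
  intro m n f
  induction m using Opposite.rec with | _ m => ?_
  induction n using Opposite.rec with | _ n => ?_
  have h : n ≤ m := f.unop.le
  have ef : f = (homOfLE h).op := rfl
  rw [ef]
  have key : qπ (I ^ (m + 1)) M ≫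
      ((Formal.completion I M).map (homOfLE h).op ≫ (θ n).hom) =
      qπ (I ^ (m + 1)) M ≫ ((θ m).hom ≫ F.map (homOfLE h).op) := by
    calc qπ (I ^ (m + 1)) M ≫
          ((Formal.completion I M).map (homOfLE h).op ≫ (θ n).hom)
        = (qπ (I ^ (m + 1)) M ≫
          (Formal.completion I M).map (homOfLE h).op) ≫ (θ n).hom :=
          (Category.assoc _ _ _).symm
      _ = qπ (I ^ (n + 1)) M ≫ (θ n).hom :=
          congrArg (fun z => z ≫ (θ n).hom)
            (Groth.Agent.Lib.helper8.Rees.qπ_completion_map I M h)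
      _ = p n := hθ n
      _ = p m ≫ F.map (homOfLE h).op := (hcompat n m h).symm
      _ = (qπ (I ^ (m + 1)) M ≫ (θ m).hom) ≫ F.map (homOfLE h).op := by rw [hθ m]
      _ = _ := Category.assoc _ _ _
  exact (cancel_epi (qπ (I ^ (m + 1)) M)).mp key

end General

section Affine

open Groth.Agent.Lib.helper8.AlgzSpec Groth.Agent.Lib.helper8.ProIsoLim

variable {A : Type u} [CommRing A]

attribute [local instance 2000] Groth.Agent.Lib.helper8.AlgzSpec.ovr

/-- `𝔞 Γ(M, ⊤)` computed over `Γ(Spec A, ⊤)` or over `A` -/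
lemma mem_smul_top_iff {𝔞 : Ideal A} (M : (Spec (CommRingCat.of A)).Modules) (s : Γ(M, ⊤)) :
    s ∈ (𝔞.map (resA A (⊤ : (Spec (CommRingCat.of A)).Opens))) •
      (⊤ : Submodule Γ(Spec (CommRingCat.of A), ⊤) Γ(M, ⊤)) ↔
    (show ↑((GΓ A).obj M) from s) ∈ 𝔞 • (⊤ : Submodule A ↑((GΓ A).obj M)) := by
  constructor
  · intro h1
    refine Submodule.smul_induction_on h1 ?_ ?_
    · intro r hr s' _
      obtain ⟨a, ha, rfl⟩ := (Ideal.mem_map_iff_of_surjective _ (resA_top_surjective A)).1 hr
      have h2 : (resA A (⊤ : (Spec (CommRingCat.of A)).Opens) a • s' : Γ(M, ⊤)) =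
          (a • (show ↑((GΓ A).obj M) from s') : ↑((GΓ A).obj M)) := (smul_eq M a s').symm
      rw [h2]
      exact Submodule.smul_mem_smul ha Submodule.mem_top
    · intro y₁ y₂ h₁ h₂
      exact Submodule.add_mem _ h₁ h₂
  · intro h1
    refine Submodule.smul_induction_on h1 ?_ ?_
    · intro a ha s' _
      rw [smul_eq M a s']
      exact Submodule.smul_mem_smul (Ideal.mem_map_of_mem _ ha) Submodule.mem_top
    · intro y₁ y₂ h₁ h₂
      exact Submodule.add_mem _ h₁ h₂

/-- criterion for `R = M / 𝔞 M` on `Spec A` in terms of global sections -/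
theorem isCok_of_gamma {𝔞 : Ideal A} {M R : (Spec (CommRingCat.of A)).Modules}
    [M.IsQuasicoherent] [R.IsQuasicoherent] (g : M ⟶ R)
    (hsurj : Function.Surjective ((GΓ A).map g).hom)
    (hker : LinearMap.ker ((GΓ A).map g).hom = 𝔞 • (⊤ : Submodule A ↑((GΓ A).obj M))) :
    IsCok 𝔞 g := by
  refine isCok_of_sections g (fun _ : Unit => (⊤ : (Spec (CommRingCat.of A)).Opens))
    (fun _ => isAffineOpen_top _) (fun _ => ⟨(), trivial⟩) (fun _ => ?_) (fun _ => ?_)
  · intro y
    obtain ⟨x, hx⟩ := hsurj (show ↑((GΓ A).obj R) from y)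
    exact ⟨x, hx⟩
  · ext s
    rw [mem_smul_top_iff, ← hker]
    rfl

/-- global sections of a coherent module on `Spec A` form a finite `A`-module -/
theorem finite_gamma {M : (Spec (CommRingCat.of A)).Modules} (hM : Coh.IsCoh M) :
    Module.Finite A ↑((GΓ A).obj M) := by
  haveI h1 : Module.Finite Γ(Spec (CommRingCat.of A), ⊤) Γ(M, ⊤) :=
    Groth.Agent.Lib.helper16.CohFinite.finite_sections_of_isCoh M hM (isAffineOpen_top _)
  obtain ⟨S, hS⟩ := h1.fg_top
  let S' : Finset ↑((GΓ A).obj M) := S
  refine ⟨⟨S', ?_⟩⟩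
  rw [eq_top_iff]
  intro x _
  have hx : (show Γ(M, ⊤) from x) ∈ Submodule.span Γ(Spec (CommRingCat.of A), ⊤)
      (S : Set Γ(M, ⊤)) := by
    rw [hS]
    trivial
  have key : ∀ y : Γ(M, ⊤), y ∈ Submodule.span Γ(Spec (CommRingCat.of A), ⊤) (S : Set Γ(M, ⊤)) →
      (show ↑((GΓ A).obj M) from y) ∈ Submodule.span A (S' : Set ↑((GΓ A).obj M)) := by
    intro y hy
    induction hy using Submodule.span_induction with
    | mem y hy => exact Submodule.subset_span hy
    | zero => exact Submodule.zero_mem _
    | add y z _ _ hy hz => exact Submodule.add_mem _ hy hz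
    | smul r y _ hy =>
      obtain ⟨a, rfl⟩ := resA_top_surjective A r
      have h2 : (resA A (⊤ : (Spec (CommRingCat.of A)).Opens) a • y : Γ(M, ⊤)) =
          (a • (show ↑((GΓ A).obj M) from y) : ↑((GΓ A).obj M)) := (smul_eq M a y).symm
      rw [h2]
      exact Submodule.smul_mem _ a hy
  exact key x hx

/-- the tilde of a finite module is coherent -/
theorem isCoh_tilde' (R : CommRingCat.{u}) (M : ModuleCat.{u} R) [Module.Finite R M] :
    Coh.IsCoh (tilde M) := by
  obtain ⟨Gs, hGs⟩ := Groth.Agent.Lib.helper16.CohFinite.exists_generatingSections_tilde M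
  exact ⟨inferInstance,
    Groth.Agent.Lib.helper16.CohFinite.isFiniteType_of_generatingSections (tilde M) Gs⟩

section TowerGen

variable (T : ℕᵒᵖ ⥤ ModuleCat.{u} A)

/-- the limit of a tower of modules, as compatible families -/
noncomputable abbrev LLim : ModuleCat.{u} A := ModuleCat.of A (compatM T)

/-- the projections -/
noncomputable def prL (n : ℕ) : LLim T ⟶ T.obj (op n) :=
  ModuleCat.ofHom ((LinearMap.proj n).comp (compatM T).subtype)

lemma prL_apply (n : ℕ) (x : compatM T) :
    (prL T n).hom x = (x : ∀ n : ℕ, T.obj (op n)) n := rfl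

lemma prL_compat (n m : ℕ) (h : n ≤ m) : prL T m ≫ T.map (homOfLE h).op = prL T n := by
  ext x
  rw [ModuleCat.hom_comp, LinearMap.comp_apply]
  exact compatM_le T _ x.2 h

end TowerGen

section Tower

variable (G' : ℕᵒᵖ ⥤ (Spec (CommRingCat.of A)).Modules)

/-- the tower of global sections -/
noncomputable abbrev TT : ℕᵒᵖ ⥤ ModuleCat.{u} A := G' ⋙ GΓ A

/-- the maps `L~ ⟶ G'_n` -/
noncomputable def pN (n : ℕ) : tilde (R := CommRingCat.of A) (LLim (TT G')) ⟶ G'.obj (op n) :=
  ((tilde.adjunction (R := CommRingCat.of A)).homEquiv (LLim (TT G')) (G'.obj (op n))).symm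
    (prL (TT G') n)

lemma unit_map_pN (n : ℕ) :
    (tilde.adjunction (R := CommRingCat.of A)).unit.app (LLim (TT G')) ≫ (GΓ A).map (pN G' n) =
      prL (TT G') n := by
  have h1 := (tilde.adjunction (R := CommRingCat.of A)).homEquiv_unit
    (X := LLim (TT G')) (Y := G'.obj (op n)) (f := pN G' n)
  rw [← h1]
  exact ((tilde.adjunction (R := CommRingCat.of A)).homEquiv (LLim (TT G'))
    (G'.obj (op n))).apply_symm_apply (prL (TT G') n)

lemma pN_compat (n m : ℕ) (h : n ≤ m) : pN G' m ≫ G'.map (homOfLE h).op = pN G' n := by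
  unfold pN
  rw [← (tilde.adjunction (R := CommRingCat.of A)).homEquiv_naturality_right_symm]
  congr 1
  exact prL_compat (TT G') n m h

set_option backward.isDefEq.respectTransparency.types false in
lemma unit_bijective : Function.Bijective
    ((tilde.adjunction (R := CommRingCat.of A)).unit.app (LLim (TT G'))).hom := by
  haveI h1 : IsIso (tilde.adjunction (R := CommRingCat.of A)).unit := by
    dsimp [tilde.adjunction]; infer_instance
  haveI : IsIso ((tilde.adjunction (R := CommRingCat.of A)).unit.app (LLim (TT G'))) :=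
    NatIso.isIso_app_of_isIso _ _
  exact ConcreteCategory.bijective_of_isIso _

lemma map_pN_unit (n : ℕ) (x : compatM (TT G')) :
    ((GΓ A).map (pN G' n)).hom
      (((tilde.adjunction (R := CommRingCat.of A)).unit.app (LLim (TT G'))).hom x) =
      (x : ∀ n : ℕ, (TT G').obj (op n)) n := by
  have h := congrArg (fun φ => φ.hom x) (unit_map_pN G' n)
  rw [← prL_apply (TT G') n x]
  exact h


variable (I : Ideal A)

lemma tt_finite (hG' : Formal.IsCohFormal I G') (n : ℕ) :
    Module.Finite A ((TT G').obj (op n)) := finite_gamma (hG'.1 n)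

lemma tt_surj (hG' : Formal.IsCohFormal I G') (n : ℕ) :
    Function.Surjective ((TT G').map (homOfLE (Nat.le_succ n)).op).hom := by
  haveI hq : ∀ n, (G'.obj (op n)).IsQuasicoherent := fun n => (hG'.1 n).1
  have hcok : IsCok (I ^ (n + 1)) (G'.map (homOfLE (Nat.le_succ n)).op) := hG'.2.2 n
  haveI := hcok.epi
  exact gamma_surjective (G'.map (homOfLE (Nat.le_succ n)).op)

lemma tt_smul_top (hG' : Formal.IsCohFormal I G') (n : ℕ) :
    I ^ (n + 1) • (⊤ : Submodule A ((TT G').obj (op n))) = ⊥ :=
  gamma_smul_top_eq_bot (hG'.2.1 n)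

lemma tt_ker [IsNoetherianRing A] (hG' : Formal.IsCohFormal I G') (n : ℕ) :
    LinearMap.ker ((TT G').map (homOfLE (Nat.le_succ n)).op).hom =
      I ^ (n + 1) • (⊤ : Submodule A ((TT G').obj (op (n + 1)))) := by
  have hI : I.FG := (isNoetherianRing_iff_ideal_fg A).mp inferInstance I
  haveI hq : ∀ n, (G'.obj (op n)).IsQuasicoherent := fun n => (hG'.1 n).1
  have hcok : IsCok (I ^ (n + 1)) (G'.map (homOfLE (Nat.le_succ n)).op) := hG'.2.2 n
  exact gamma_ker (Ideal.FG.pow hI) hcok

lemma tt_limit [IsNoetherianRing A] [IsAdicComplete I A] (hG' : Formal.IsCohFormal I G') :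
    Module.Finite A (compatM (TT G')) ∧ ∀ n, Function.Surjective
      ((LinearMap.proj n).comp (compatM (TT G')).subtype :
        compatM (TT G') →ₗ[A] (TT G').obj (op n)) ∧
      LinearMap.ker ((LinearMap.proj n).comp (compatM (TT G')).subtype :
        compatM (TT G') →ₗ[A] (TT G').obj (op n)) =
        I ^ (n + 1) • (⊤ : Submodule A (compatM (TT G'))) := by
  haveI hfin : ∀ n, Module.Finite A ((TT G').obj (op n)) := fun n => tt_finite G' I hG' n
  exact Groth.Agent.S0797.result A I (fun n => (TT G').obj (op n))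
    (fun n => ((TT G').map (homOfLE (Nat.le_succ n)).op).hom) (tt_surj G' I hG')
    (tt_smul_top G' I hG') (tt_ker G' I hG') (compatM (TT G')) (mem_compatM (TT G'))

lemma isCoh_tildeL [IsNoetherianRing A] [IsAdicComplete I A] (hG' : Formal.IsCohFormal I G') :
    Coh.IsCoh (tilde (R := CommRingCat.of A) (LLim (TT G'))) := by
  haveI : Module.Finite A (compatM (TT G')) := (tt_limit G' I hG').1
  haveI : Module.Finite (CommRingCat.of A) (LLim (TT G')) := this
  exact isCoh_tilde' (CommRingCat.of A) (LLim (TT G'))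

lemma isCok_pN [IsNoetherianRing A] [IsAdicComplete I A] (hG' : Formal.IsCohFormal I G') (n : ℕ) :
    IsCok (I ^ (n + 1)) (pN G' n) := by
  haveI hq : ∀ n, (G'.obj (op n)).IsQuasicoherent := fun n => (hG'.1 n).1
  haveI : (tilde (R := CommRingCat.of A) (LLim (TT G'))).IsQuasicoherent :=
    (isCoh_tildeL G' I hG').1
  have hL := (tt_limit G' I hG').2
  refine isCok_of_gamma (pN G' n) ?_ ?_
  · intro y
    obtain ⟨x, hx⟩ := (hL n).1 y
    exact ⟨((tilde.adjunction (R := CommRingCat.of A)).unit.app (LLim (TT G'))).hom x,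
      (map_pN_unit G' n x).trans hx⟩
  · apply le_antisymm
    · intro z hz
      obtain ⟨x, rfl⟩ := (unit_bijective G').2 z
      have h1 : x ∈ LinearMap.ker ((LinearMap.proj n).comp (compatM (TT G')).subtype :
          compatM (TT G') →ₗ[A] (TT G').obj (op n)) := by
        rw [LinearMap.mem_ker]
        rw [LinearMap.mem_ker, map_pN_unit G' n x] at hz
        exact hz
      rw [(hL n).2] at h1
      exact Groth.Agent.Lib.helper8.LimAdic.map_mem_smul_top (I ^ (n + 1))
        ((tilde.adjunction (R := CommRingCat.of A)).unit.app (LLim (TT G'))).hom h1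
    · rw [Submodule.smul_le]
      intro a ha z _
      rw [LinearMap.mem_ker, LinearMap.map_smul]
      have h3 : a • ((GΓ A).map (pN G' n)).hom z ∈
          I ^ (n + 1) • (⊤ : Submodule A ((TT G').obj (op n))) :=
        Submodule.smul_mem_smul ha Submodule.mem_top
      rw [tt_smul_top G' I hG' n] at h3
      exact (Submodule.mem_bot A).1 h3

end Tower

/-- **Grothendieck existence on a complete affine scheme**: `A` Noetherian and `I`-adically complete;
every coherent formal module on `Spec A` is the completion of a coherent module -/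
theorem exists_completion_iso_of_complete [IsNoetherianRing A] (I : Ideal A) [IsAdicComplete I A]
    (G' : ℕᵒᵖ ⥤ (Spec (CommRingCat.of A)).Modules) (hG' : Formal.IsCohFormal I G') :
    ∃ N : (Spec (CommRingCat.of A)).Modules, Coh.IsCoh N ∧
      Nonempty (Formal.completion I N ≅ G') :=
  ⟨tilde (R := CommRingCat.of A) (LLim (TT G')), isCoh_tildeL G' I hG',
    completion_iso_of_isCok I G' (tilde (R := CommRingCat.of A) (LLim (TT G'))) (pN G')
      (isCok_pN G' I hG') (pN_compat G')⟩

end Affine

end Groth.Agent.Lib.helper8.AffEx
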