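import Mathlib
import Groth.Agent.Lib.Helper8.LimAdic
import Groth.Agent.Lib.Lead.GE1
import Groth.Agent.S0542

/-!
# Adic towers of finite modules over a Noetherian ring: a uniform Artin–Rees statement (helper8)

`B` a Noetherian ring, `J` an ideal.  An *adic tower* is a family `T n` of `B`-modules with
functorial transition maps `tr n m h : T m → T n` (`n ≤ m`), surjective with kernel `J^(n+1) T m`
(e.g. the sections over an affine open of a coherent formal module).  Its limit is a finite module over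
the completion `R = AdicCompletion J B`; we use the model `M = AdicCompletion J L`, `L` the module of
compatible families, which carries Mathlib's `R`-module structure.

* `ev n : M → T n`, surjective with kernel `J^(n+1) M`, compatible with the transition maps;
* `finite_limit` : `M` is a finite `R`-module;
* `exists_tr_eq_zero` : for every `t` there are `e`, `s` such that an element of `T (n+s)` killed by `J^t`
  and lying in `J^e T (n+s)` dies in `T n` (for all `n`).
-/

set_option autoImplicit false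
universe u

namespace Groth.Agent.Lib.helper8.GETower

open Groth.Agent.Lib.Lead.GE Groth.Agent.Lib.helper8.LimAdic

/-- `𝔧^k M` computed over `R` or over `B` (`𝔧 = J R`) -/
lemma mem_map_pow_smul_top_iff {B R M : Type*} [CommRing B] [CommRing R] [Algebra B R]
    [AddCommGroup M] [Module B M] [Module R M] [IsScalarTower B R M] (J : Ideal B) (k : ℕ) (z : M) :
    z ∈ (J.map (algebraMap B R)) ^ k • (⊤ : Submodule R M) ↔
      z ∈ J ^ k • (⊤ : Submodule B M) := by
  rw [← Ideal.map_pow, ← Submodule.restrictScalars_mem B, Ideal.smul_restrictScalars,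
    Submodule.restrictScalars_top]

variable {B : Type u} [CommRing B] (J : Ideal B)
variable (T : ℕ → Type u) [∀ n, AddCommGroup (T n)] [∀ n, Module B (T n)]

/-- adic towers -/
structure IsAdicTower (tr : ∀ (n m : ℕ), n ≤ m → T m →ₗ[B] T n) : Prop where
  refl : ∀ (n : ℕ) (x : T n), tr n n le_rfl x = x
  trans : ∀ (n m k : ℕ) (h1 : n ≤ m) (h2 : m ≤ k) (x : T k),
    tr n m h1 (tr m k h2 x) = tr n k (h1.trans h2) x
  surj : ∀ (n m : ℕ) (h : n ≤ m), Function.Surjective (tr n m h)
  ker : ∀ (n m : ℕ) (h : n ≤ m), LinearMap.ker (tr n m h) = J ^ (n + 1) • (⊤ : Submodule B (T m))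

variable (tr : ∀ (n m : ℕ), n ≤ m → T m →ₗ[B] T n)

/-- the module of compatible families -/
def Lim : Submodule B (∀ n, T n) where
  carrier := {x | ∀ n, tr n (n + 1) (Nat.le_succ n) (x (n + 1)) = x n}
  zero_mem' := by intro n; simp
  add_mem' := by
    intro x y hx hy n
    simp only [Pi.add_apply, map_add]
    rw [hx n, hy n]
  smul_mem' := by
    intro c x hx n
    simp only [Pi.smul_apply, map_smul]
    rw [hx n]

lemma mem_Lim (x : ∀ n, T n) :
    x ∈ Lim T tr ↔ ∀ n, tr n (n + 1) (Nat.le_succ n) (x (n + 1)) = x n := Iff.rfl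

/-- the projection `L → T n` -/
def projL (n : ℕ) : Lim T tr →ₗ[B] T n := (LinearMap.proj n).comp (Lim T tr).subtype

lemma projL_apply (n : ℕ) (l : Lim T tr) : projL T tr n l = (l : ∀ n, T n) n := rfl

variable {J T tr}

lemma IsAdicTower.smul_top_eq_bot (hT : IsAdicTower J T tr) (n : ℕ) :
    J ^ (n + 1) • (⊤ : Submodule B (T n)) = ⊥ := by
  rw [← hT.ker n n le_rfl, LinearMap.ker_eq_bot]
  intro x y hxy
  rwa [hT.refl, hT.refl] at hxy

lemma IsAdicTower.compat (hT : IsAdicTower J T tr) (l : Lim T tr) :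
    ∀ (d n : ℕ) (h : n ≤ n + d), tr n (n + d) h ((l : ∀ n, T n) (n + d)) = (l : ∀ n, T n) n := by
  intro d
  induction d with
  | zero => intro n h; exact hT.refl n _
  | succ d ih =>
    intro n h
    have h1 := l.2 (n + d)
    rw [← hT.trans n (n + d) (n + (d + 1)) (Nat.le_add_right n d) (Nat.le_succ (n + d))]
    have h2 : tr (n + d) (n + (d + 1)) (Nat.le_succ (n + d)) ((l : ∀ n, T n) (n + (d + 1))) =
        (l : ∀ n, T n) (n + d) := h1
    rw [h2]
    exact ih n _

lemma IsAdicTower.compat' (hT : IsAdicTower J T tr) (l : Lim T tr) {n m : ℕ} (h : n ≤ m) :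
    tr n m h ((l : ∀ n, T n) m) = (l : ∀ n, T n) n := by
  obtain ⟨d, rfl⟩ := Nat.exists_eq_add_of_le h
  exact hT.compat l d n h

lemma IsAdicTower.projL_surjective (hT : IsAdicTower J T tr) (n : ℕ) :
    Function.Surjective (projL T tr n) :=
  proj_surjective T (fun n => tr n (n + 1) (Nat.le_succ n)) (fun n => hT.surj n (n + 1) _)
    (Lim T tr) (fun _ => Iff.rfl) n

lemma IsAdicTower.ker_projL (hT : IsAdicTower J T tr) (hJ : J.FG) (n : ℕ) :
    LinearMap.ker (projL T tr n) = J ^ (n + 1) • (⊤ : Submodule B (Lim T tr)) :=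
  ker_proj_eq J T (fun n => tr n (n + 1) (Nat.le_succ n)) hJ (fun n => hT.surj n (n + 1) _)
    (fun n => hT.smul_top_eq_bot n) (fun n => hT.ker n (n + 1) _) (Lim T tr) (fun _ => Iff.rfl) n

variable (J T tr) in
/-- the limit of the tower, as a module over the completion of `B` -/
abbrev LimC : Type u := AdicCompletion J (Lim T tr)

lemma IsAdicTower.pow_smul_top_le_ker_projL (hT : IsAdicTower J T tr) (n : ℕ) :
    J ^ (n + 1) • (⊤ : Submodule B (Lim T tr)) ≤ LinearMap.ker (projL T tr n) := by
  rw [Submodule.smul_le]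
  intro a ha l _
  rw [LinearMap.mem_ker, map_smul]
  have h1 : a • projL T tr n l ∈ J ^ (n + 1) • (⊤ : Submodule B (T n)) :=
    Submodule.smul_mem_smul ha Submodule.mem_top
  rw [hT.smul_top_eq_bot n] at h1
  exact (Submodule.mem_bot B).1 h1

/-- the projection from the completed limit to the `n`-th level -/
noncomputable def ev (hT : IsAdicTower J T tr) (n : ℕ) : LimC J T tr →ₗ[B] T n :=
  (Submodule.liftQ _ (projL T tr n) (hT.pow_smul_top_le_ker_projL n)).comp
    (AdicCompletion.eval J (Lim T tr) (n + 1))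

lemma ev_of (hT : IsAdicTower J T tr) (n : ℕ) (l : Lim T tr) :
    ev hT n (AdicCompletion.of J (Lim T tr) l) = (l : ∀ n, T n) n := by
  simp only [ev, LinearMap.comp_apply, AdicCompletion.eval_of]
  rfl

lemma ev_eq_of_val (hT : IsAdicTower J T tr) (n : ℕ) (z : LimC J T tr) (l : Lim T tr)
    (hl : z.val (n + 1) = Submodule.Quotient.mk l) : ev hT n z = (l : ∀ n, T n) n := by
  simp only [ev, LinearMap.comp_apply, AdicCompletion.eval_apply, hl]
  rfl

lemma ev_surjective (hT : IsAdicTower J T tr) (n : ℕ) : Function.Surjective (ev hT n) := by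
  intro x
  obtain ⟨l, hl⟩ := hT.projL_surjective n x
  exact ⟨AdicCompletion.of J _ l, by rw [ev_of]; exact hl⟩

lemma ker_ev (hT : IsAdicTower J T tr) (hJ : J.FG) (n : ℕ) :
    LinearMap.ker (ev hT n) = J ^ (n + 1) • (⊤ : Submodule B (LimC J T tr)) := by
  rw [AdicCompletion.pow_smul_top_eq_ker_eval hJ]
  ext z
  simp only [LinearMap.mem_ker, ev, LinearMap.comp_apply]
  constructor
  · intro h
    have h1 : LinearMap.ker (Submodule.liftQ _ (projL T tr n) (hT.pow_smul_top_le_ker_projL n)) = ⊥ :=
      Submodule.ker_liftQ_eq_bot _ _ _ (le_of_eq (hT.ker_projL hJ n))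
    have h2 : (AdicCompletion.eval J (Lim T tr) (n + 1)) z ∈
        LinearMap.ker (Submodule.liftQ _ (projL T tr n) (hT.pow_smul_top_le_ker_projL n)) := h
    rw [h1] at h2
    exact (Submodule.mem_bot B).1 h2
  · intro h
    rw [h, map_zero]

lemma ev_compat (hT : IsAdicTower J T tr) {n m : ℕ} (h : n ≤ m) (z : LimC J T tr) :
    tr n m h (ev hT m z) = ev hT n z := by
  obtain ⟨l, hl⟩ := Submodule.Quotient.mk_surjective _ (z.val (m + 1))
  rw [ev_eq_of_val hT m z l hl.symm, hT.compat' l h]
  symm
  apply ev_eq_of_val hT n z l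
  rw [← AdicCompletion.transitionMap_comp_eval_apply J (Lim T tr) (Nat.succ_le_succ h) z, ← hl]
  rfl

/-- the limit is a finite module over the completion -/
theorem finite_limit (hT : IsAdicTower J T tr) (hJ : J.FG) [Module.Finite B (T 0)] :
    Module.Finite (AdicCompletion J B) (LimC J T tr) := by
  classical
  obtain ⟨r, g, hg⟩ := Module.Finite.exists_fin' B (T 0)
  choose l hl using fun i : Fin r => hT.projL_surjective 0 (g (Pi.single i 1))
  let φ : (Fin r → B) →ₗ[B] Lim T tr := Fintype.linearCombination B l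
  have hφ : (projL T tr 0).comp φ = g := by
    apply LinearMap.pi_ext'
    intro i
    ext
    simp only [LinearMap.comp_apply, LinearMap.coe_single, φ,
      Fintype.linearCombination_apply_single, one_smul]
    exact hl i
  have hsurj : Function.Surjective ((Submodule.mkQ (J • (⊤ : Submodule B (Lim T tr)))).comp φ) := by
    intro y
    obtain ⟨l', rfl⟩ := Submodule.Quotient.mk_surjective _ y
    obtain ⟨b, hb⟩ := hg (projL T tr 0 l')
    refine ⟨b, ?_⟩
    simp only [LinearMap.comp_apply, Submodule.mkQ_apply]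
    rw [Submodule.Quotient.eq]
    have h1 : φ b - l' ∈ LinearMap.ker (projL T tr 0) := by
      rw [LinearMap.mem_ker, map_sub, ← hb, ← hφ, LinearMap.comp_apply, sub_self]
    rw [hT.ker_projL hJ 0] at h1
    simpa using h1
  have h2 := AdicCompletion.map_surjective_of_mkQ_comp_surjective (I := J) hsurj
  have h3 := AdicCompletion.ofTensorProduct_surjective_of_finite J (Fin r → B)
  exact Module.Finite.of_surjective
    ((AdicCompletion.map J φ).comp (AdicCompletion.ofTensorProduct J (Fin r → B)))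
    (h2.comp h3)

/-- **uniform Artin–Rees for adic towers**: elements of `T (n+s)` killed by `J^t` and lying in
`J^e T (n+s)` die in `T n` -/
theorem exists_tr_eq_zero [IsNoetherianRing B] (hT : IsAdicTower J T tr)
    [Module.Finite B (T 0)] (t : ℕ) :
    ∃ e s : ℕ, ∀ (n : ℕ) (x : T (n + s)), (∀ a ∈ J ^ t, a • x = 0) →
      x ∈ J ^ e • (⊤ : Submodule B (T (n + s))) → tr n (n + s) (Nat.le_add_right n s) x = 0 := by
  classical
  have hJ : J.FG := IsNoetherian.noetherian J
  haveI : IsNoetherianRing (AdicCompletion J B) := Groth.Agent.S0542.result B J hJ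
  haveI := finite_limit hT hJ
  obtain ⟨gs, hgs⟩ : (J ^ t).FG := IsNoetherian.noetherian _
  let μ : LimC J T tr →ₗ[AdicCompletion J B] (gs → LimC J T tr) :=
    LinearMap.pi (fun i => (algebraMap B (AdicCompletion J B) (i : B)) • LinearMap.id)
  have hμ : ∀ (z : LimC J T tr) (i : gs), μ z i = (i : B) • z := by
    intro z i
    simp only [μ, LinearMap.pi_apply, LinearMap.smul_apply, LinearMap.id_apply, algebraMap_smul]
  obtain ⟨c, hc⟩ := ar_sub (J.map (algebraMap B (AdicCompletion J B))) (LinearMap.ker μ)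
  obtain ⟨c', hc'⟩ := ar_sub (J.map (algebraMap B (AdicCompletion J B))) (LinearMap.range μ)
  -- `ker μ` is killed by `𝔧^t`
  have hkill : (J.map (algebraMap B (AdicCompletion J B))) ^ t • LinearMap.ker μ = ⊥ := by
    rw [eq_bot_iff, Submodule.smul_le]
    intro r hr k hk
    rw [Submodule.mem_bot]
    rw [← Ideal.map_pow, ← hgs, Ideal.map_span] at hr
    revert k
    refine Submodule.span_induction (p := fun r _ => ∀ k ∈ LinearMap.ker μ, r • k = 0)
      ?_ ?_ ?_ ?_ hr
    · rintro _ ⟨i, hi, rfl⟩ k hk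
      have h1 : μ k ⟨i, hi⟩ = 0 := by rw [LinearMap.mem_ker.1 hk]; rfl
      rw [hμ] at h1
      rw [algebraMap_smul]
      exact h1
    · intro k _; exact zero_smul _ _
    · intro a b _ _ ha hb k hk
      rw [add_smul, ha k hk, hb k hk, add_zero]
    · intro a b _ hb k hk
      rw [smul_eq_mul, mul_smul, hb k hk, smul_zero]
  refine ⟨c + t, c + c' + t, fun n x hx1 hx2 => ?_⟩
  -- a lift of `x` lying in `J^(c+t) M`
  have h2 : x ∈ Submodule.map (ev hT (n + (c + c' + t)))
      (J ^ (c + t) • (⊤ : Submodule B (LimC J T tr))) := by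
    rw [Submodule.map_smul'', Submodule.map_top,
      LinearMap.range_eq_top.2 (ev_surjective hT (n + (c + c' + t)))]
    exact hx2
  obtain ⟨z, hz, rfl⟩ := h2
  -- step 1
  have h3 : μ z ∈ (J.map (algebraMap B (AdicCompletion J B))) ^ ((n + 1 + c + t) + c') •
      (⊤ : Submodule (AdicCompletion J B) (gs → LimC J T tr)) := by
    apply pi_mem_smul_top
    intro i
    rw [hμ, mem_map_pow_smul_top_iff]
    have h4 : (i : B) • z ∈ LinearMap.ker (ev hT (n + (c + c' + t))) := by
      rw [LinearMap.mem_ker, map_smul]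
      apply hx1
      rw [← hgs]
      exact Ideal.subset_span i.2
    rw [ker_ev hT hJ] at h4
    have e1 : n + (c + c' + t) + 1 = (n + 1 + c + t) + c' := by omega
    rw [e1] at h4
    exact h4
  have h5 := hc' (n + 1 + c + t) ⟨h3, ⟨z, rfl⟩⟩
  rw [LinearMap.range_eq_map, ← Submodule.map_smul''] at h5
  obtain ⟨y, hy, hyz⟩ := h5
  -- step 3
  have h6 : z - y ∈ LinearMap.ker μ := by
    rw [LinearMap.mem_ker, map_sub, hyz, sub_self]
  have hle : ∀ {a b : ℕ}, a ≤ b → (J.map (algebraMap B (AdicCompletion J B))) ^ b •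
      (⊤ : Submodule (AdicCompletion J B) (LimC J T tr)) ≤
      (J.map (algebraMap B (AdicCompletion J B))) ^ a • ⊤ := fun h =>
    Submodule.smul_mono_left (Ideal.pow_le_pow_right h)
  have h7 : z - y ∈ (J.map (algebraMap B (AdicCompletion J B))) ^ (t + c) •
      (⊤ : Submodule (AdicCompletion J B) (LimC J T tr)) := by
    refine Submodule.sub_mem _ ?_ ?_
    · rw [mem_map_pow_smul_top_iff, add_comm t c]
      exact hz
    · exact hle (by omega) hy
  have h8 := hc t ⟨h7, h6⟩
  rw [hkill, Submodule.mem_bot, sub_eq_zero] at h8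
  have h9 : z ∈ LinearMap.ker (ev hT n) := by
    rw [ker_ev hT hJ, ← mem_map_pow_smul_top_iff (R := AdicCompletion J B), h8]
    exact hle (by omega) hy
  rw [ev_compat hT, LinearMap.mem_ker.1 h9]

/-- monotone version of `exists_tr_eq_zero` -/
theorem exists_tr_eq_zero' [IsNoetherianRing B] (hT : IsAdicTower J T tr)
    [Module.Finite B (T 0)] (t : ℕ) :
    ∃ e s : ℕ, ∀ (e' s' : ℕ), e ≤ e' → s ≤ s' → ∀ (n : ℕ) (x : T (n + s')),
      (∀ a ∈ J ^ t, a • x = 0) → x ∈ J ^ e' • (⊤ : Submodule B (T (n + s'))) →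
      tr n (n + s') (Nat.le_add_right n s') x = 0 := by
  obtain ⟨e, s, h⟩ := exists_tr_eq_zero hT t
  refine ⟨e, s, fun e' s' he hs n x hx1 hx2 => ?_⟩
  have hle : n + s ≤ n + s' := by omega
  have h1 := h n (tr (n + s) (n + s') hle x) (fun a ha => by rw [← map_smul, hx1 a ha, map_zero])
    (map_mem_smul_top _ _ (Submodule.smul_mono_left (Ideal.pow_le_pow_right he) hx2))
  rw [hT.trans] at h1
  exact h1

/-- `(𝔟.map f) • N ≤ S` can be checked on the generators `f a • n` -/
lemma map_smul_le_of {A' : Type*} [CommRing A'] (f : A' →+* B) (𝔟 : Ideal A') {M : Type*}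
    [AddCommGroup M] [Module B M] (N S : Submodule B M)
    (h : ∀ a ∈ 𝔟, ∀ n ∈ N, f a • n ∈ S) : (𝔟.map f) • N ≤ S := by
  rw [Submodule.smul_le]
  intro r hr
  refine Submodule.span_induction (p := fun r _ => ∀ n ∈ N, r • n ∈ S) ?_ ?_ ?_ ?_ hr
  · rintro _ ⟨a, ha, rfl⟩ n hn
    exact h a ha n hn
  · intro n _; rw [zero_smul]; exact S.zero_mem
  · intro a b _ _ ha hb n hn
    rw [add_smul]
    exact S.add_mem (ha n hn) (hb n hn)
  · intro a b _ hb n hn
    rw [smul_eq_mul, mul_comm, mul_smul]
    exact hb _ (N.smul_mem a hn)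

end Groth.Agent.Lib.helper8.GETower
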