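import Mathlib
import Groth.Agent.Lib.Helper8.GETower

/-!
# The algebra behind "algebraizing a formal module inside a coherent one" (helper8)

`B` Noetherian, `J` an ideal, `T` an adic tower, `E` a finite `B`-module with its tower `En n = E / J^(n+1) E`
(given abstractly by `π n : E → En n`), `σ n : T n → En n` a map of towers, `r : E → D` a linear map
("relations").  Assume
* `(h0)` `r` kills the image of `σ` (levelwise),
* `(h2)` `J^q (ker r)` lies in the image of `σ` (levelwise),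
* `(H1)` the kernels of the `σ n` form a pro-zero system.
Then for `m` large the submodule `M' = {y ∈ ker r | y mod J^(m+1) ∈ im σ_m}` of `E` satisfies
`M' / J^(n+1) M' = T n` via the correspondence `y ↦ tr x` for `σ x = y mod J^(n+s+1)` (`glue_alg`).
-/

set_option autoImplicit false
universe u

namespace Groth.Agent.Lib.helper8.GEGlueAlg

open Groth.Agent.Lib.Lead.GE Groth.Agent.Lib.helper8.GETower

section

variable {B : Type u} [CommRing B] {J : Ideal B}
variable {T : ℕ → Type u} [∀ n, AddCommGroup (T n)] [∀ n, Module B (T n)]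
variable {tr : ∀ (n m : ℕ), n ≤ m → T m →ₗ[B] T n}
variable {E : Type u} [AddCommGroup E] [Module B E]
variable {En : ℕ → Type u} [∀ n, AddCommGroup (En n)] [∀ n, Module B (En n)]
variable {π : ∀ n, E →ₗ[B] En n} {trE : ∀ (n m : ℕ), n ≤ m → En m →ₗ[B] En n}
variable {σ : ∀ n, T n →ₗ[B] En n}

/-- the final step: the correspondence `y ↦ tr x` is surjective with kernel `J^(n+1) M'` -/
theorem surjective_and_ker {M' : Type u} [AddCommGroup M'] [Module B M'] {n k : ℕ} (hnk : n ≤ k)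
    (hT : IsAdicTower J T tr) (q : M' →ₗ[B] En k) (p : M' →ₗ[B] T n)
    (hchar : ∀ (y : M') (x : T k), σ k x = q y → p y = tr n k hnk x)
    (H2 : ∀ y : M', ∃ x : T k, σ k x = q y)
    (H3 : ∀ x : T k, ∃ y : M', q y = σ k x)
    (H4 : ∀ y : M', q y = 0 → y ∈ J ^ (n + 1) • (⊤ : Submodule B M')) :
    Function.Surjective p ∧ LinearMap.ker p = J ^ (n + 1) • (⊤ : Submodule B M') := by
  constructor
  · intro z
    obtain ⟨x, rfl⟩ := hT.surj n k hnk z
    obtain ⟨y, hy⟩ := H3 x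
    exact ⟨y, hchar y x hy.symm⟩
  · apply le_antisymm
    · intro y hy
      rw [LinearMap.mem_ker] at hy
      obtain ⟨x, hx⟩ := H2 y
      have h1 : x ∈ LinearMap.ker (tr n k hnk) := by
        rw [LinearMap.mem_ker, ← hchar y x hx, hy]
      rw [hT.ker n k hnk] at h1
      -- elements of `J^(n+1) T k` come from `J^(n+1) M'`
      have h2 : ∀ x ∈ J ^ (n + 1) • (⊤ : Submodule B (T k)),
          ∃ y' ∈ J ^ (n + 1) • (⊤ : Submodule B M'), q y' = σ k x := by
        intro x hx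
        refine Submodule.smul_induction_on hx ?_ ?_
        · intro a ha x' _
          obtain ⟨y', hy'⟩ := H3 x'
          exact ⟨a • y', Submodule.smul_mem_smul ha Submodule.mem_top, by
            rw [map_smul, map_smul, hy']⟩
        · rintro x₁ x₂ ⟨y₁, hy₁, e₁⟩ ⟨y₂, hy₂, e₂⟩
          exact ⟨y₁ + y₂, Submodule.add_mem _ hy₁ hy₂, by rw [map_add, map_add, e₁, e₂]⟩
      obtain ⟨y', hy', e'⟩ := h2 x h1
      have h3 : q (y - y') = 0 := by rw [map_sub, e', hx, sub_self]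
      have h4 := H4 _ h3
      have h5 : y = (y - y') + y' := by abel
      rw [h5]
      exact Submodule.add_mem _ h4 hy'
    · rw [Submodule.smul_le]
      intro a ha y _
      rw [LinearMap.mem_ker, map_smul]
      have h1 : a • p y ∈ J ^ (n + 1) • (⊤ : Submodule B (T n)) :=
        Submodule.smul_mem_smul ha Submodule.mem_top
      rw [hT.smul_top_eq_bot n] at h1
      exact (Submodule.mem_bot B).1 h1

end

section main

variable {B : Type u} [CommRing B] [IsNoetherianRing B] {J : Ideal B}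
variable {T : ℕ → Type u} [∀ n, AddCommGroup (T n)] [∀ n, Module B (T n)]
variable {tr : ∀ (n m : ℕ), n ≤ m → T m →ₗ[B] T n}
variable {E : Type u} [AddCommGroup E] [Module B E] [Module.Finite B E]
variable {En : ℕ → Type u} [∀ n, AddCommGroup (En n)] [∀ n, Module B (En n)]
variable {π : ∀ n, E →ₗ[B] En n} {trE : ∀ (n m : ℕ), n ≤ m → En m →ₗ[B] En n}
variable {σ : ∀ n, T n →ₗ[B] En n}
variable {D : Type u} [AddCommGroup D] [Module B D] [Module.Finite B D] {r : E →ₗ[B] D}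

/-- the hypotheses on the data `(E, π, σ, r)` -/
structure Hyp (J : Ideal B) (tr : ∀ (n m : ℕ), n ≤ m → T m →ₗ[B] T n) (π : ∀ n, E →ₗ[B] En n)
    (trE : ∀ (n m : ℕ), n ≤ m → En m →ₗ[B] En n) (σ : ∀ n, T n →ₗ[B] En n) (r : E →ₗ[B] D)
    (q : ℕ) : Prop where
  π_surj : ∀ n, Function.Surjective (π n)
  π_ker : ∀ n, LinearMap.ker (π n) = J ^ (n + 1) • (⊤ : Submodule B E)
  π_compat : ∀ (n m : ℕ) (h : n ≤ m) (y : E), trE n m h (π m y) = π n y
  σ_compat : ∀ (n m : ℕ) (h : n ≤ m) (x : T m), trE n m h (σ m x) = σ n (tr n m h x)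
  h0 : ∀ (n : ℕ) (x : T n) (y : E), π n y = σ n x → r y ∈ J ^ (n + 1) • (⊤ : Submodule B D)
  h2 : ∀ (k : ℕ), ∀ z ∈ J ^ q • LinearMap.ker r, ∃ x : T k, σ k x = π k z

omit [Module.Finite B E] in
/-- every element of the tower is approximated by an element of `ker r` -/
theorem exists_lift (hT : IsAdicTower J T tr) {q : ℕ} (hyp : Hyp J tr π trE σ r q) :
    ∀ (k : ℕ) (x : T k), ∃ y : E, r y = 0 ∧ π k y = σ k x := by
  obtain ⟨cD, hcD⟩ := ar_sub J (LinearMap.range r)
  intro k x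
  obtain ⟨x', rfl⟩ := hT.surj k (k + cD) (Nat.le_add_right k cD) x
  obtain ⟨y₀, hy₀⟩ := hyp.π_surj (k + cD) (σ (k + cD) x')
  have h1 := hyp.h0 (k + cD) x' y₀ hy₀
  have e1 : k + cD + 1 = (k + 1) + cD := by omega
  rw [e1] at h1
  have h2 := hcD (k + 1) ⟨h1, ⟨y₀, rfl⟩⟩
  rw [LinearMap.range_eq_map, ← Submodule.map_smul''] at h2
  obtain ⟨z, hz, hrz⟩ := h2
  refine ⟨y₀ - z, by rw [map_sub, hrz, sub_self], ?_⟩
  have h3 : π k z = 0 := by
    have : z ∈ LinearMap.ker (π k) := by rw [hyp.π_ker]; exact hz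
    exact this
  rw [map_sub, h3, sub_zero, ← hyp.π_compat k (k + cD) (Nat.le_add_right k cD), hy₀,
    hyp.σ_compat]

/-- **the gluing lemma, algebraic form** -/
theorem glue_alg (hT : IsAdicTower J T tr) {q : ℕ} (hyp : Hyp J tr π trE σ r q)
    (H1 : ∃ s₀ : ℕ, ∀ (n : ℕ) (x : T (n + s₀)), σ (n + s₀) x = 0 →
      tr n (n + s₀) (Nat.le_add_right n s₀) x = 0) :
    ∃ m₀ : ℕ, ∀ m : ℕ, m₀ ≤ m → ∀ (M' : Type u) [AddCommGroup M'] [Module B M']
      (jj : M' →ₗ[B] E), Function.Injective jj →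
      (∀ y : E, y ∈ LinearMap.range jj ↔ (r y = 0 ∧ ∃ x : T m, σ m x = π m y)) →
      ∃ s₁ : ℕ, ∀ s : ℕ, s₁ ≤ s →
        (∀ (n : ℕ) (x : T (n + s)), σ (n + s) x = 0 →
          tr n (n + s) (Nat.le_add_right n s) x = 0) ∧
        (∀ (n : ℕ) (y : M'), ∃ x : T (n + s), σ (n + s) x = π (n + s) (jj y)) ∧
        (∀ (n : ℕ) (p : M' →ₗ[B] T n),
          (∀ (y : M') (x : T (n + s)), σ (n + s) x = π (n + s) (jj y) →
            p y = tr n (n + s) (Nat.le_add_right n s) x) →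
          Function.Surjective p ∧ LinearMap.ker p = J ^ (n + 1) • (⊤ : Submodule B M')) := by
  obtain ⟨cr, hcr⟩ := ar_sub J (LinearMap.ker r)
  have hlift := exists_lift hT hyp
  refine ⟨q + cr, fun m hm M' _ _ jj hinj hrange => ?_⟩
  obtain ⟨cM, hcM⟩ := ar_sub J (LinearMap.range jj)
  obtain ⟨s₀, hs₀⟩ := H1
  -- (H3')
  have H3 : ∀ (k : ℕ), m ≤ k → ∀ x : T k, ∃ y : M', π k (jj y) = σ k x := by
    intro k hk x
    obtain ⟨y₀, hr0, hy₀⟩ := hlift k x
    have h1 : y₀ ∈ LinearMap.range jj := by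
      rw [hrange]
      refine ⟨hr0, tr m k hk x, ?_⟩
      rw [← hyp.σ_compat m k hk, ← hy₀, hyp.π_compat]
    obtain ⟨y, rfl⟩ := h1
    exact ⟨y, hy₀⟩
  -- (H2')
  have H2 : ∀ (k : ℕ), m ≤ k → ∀ y : M', ∃ x : T k, σ k x = π k (jj y) := by
    intro k hk y
    obtain ⟨hry, x₀, hx₀⟩ := (hrange (jj y)).1 ⟨y, rfl⟩
    obtain ⟨x₁, rfl⟩ := hT.surj m k hk x₀
    obtain ⟨y', hy'⟩ := H3 k hk x₁
    obtain ⟨hry', -⟩ := (hrange (jj y')).1 ⟨y', rfl⟩
    have h1 : jj y - jj y' ∈ LinearMap.ker r := by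
      rw [LinearMap.mem_ker, map_sub, hry, hry', sub_self]
    have h2 : jj y - jj y' ∈ LinearMap.ker (π m) := by
      rw [LinearMap.mem_ker, map_sub, ← hx₀, ← hyp.π_compat m k hk (jj y'), hy', hyp.σ_compat,
        sub_self]
    rw [hyp.π_ker] at h2
    have h3 : J ^ (m + 1) • (⊤ : Submodule B E) ≤ J ^ (q + cr) • ⊤ :=
      Submodule.smul_mono_left (Ideal.pow_le_pow_right (by omega))
    have h4 := hcr q ⟨h3 h2, h1⟩
    obtain ⟨x₂, hx₂⟩ := hyp.h2 k _ h4
    refine ⟨x₁ + x₂, ?_⟩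
    rw [map_add, hx₂, ← hy', map_sub]
    abel
  refine ⟨s₀ + m + cM, fun s hs => ⟨?_, ?_, ?_⟩⟩
  · intro n x hx
    have hle : n + s₀ ≤ n + s := by omega
    have h1 : σ (n + s₀) (tr (n + s₀) (n + s) hle x) = 0 := by
      rw [← hyp.σ_compat, hx, map_zero]
    have h2 := hs₀ n _ h1
    rw [hT.trans] at h2
    exact h2
  · intro n y
    exact H2 (n + s) (by omega) y
  · intro n p hp
    refine surjective_and_ker (σ := σ) (Nat.le_add_right n s) hT ((π (n + s)).comp jj) p hp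
      (fun y => H2 (n + s) (by omega) y) (fun x => H3 (n + s) (by omega) x) ?_
    intro y hy
    have h1 : jj y ∈ LinearMap.ker (π (n + s)) := hy
    rw [hyp.π_ker] at h1
    have h2 : J ^ (n + s + 1) • (⊤ : Submodule B E) ≤ J ^ ((n + 1) + cM) • ⊤ :=
      Submodule.smul_mono_left (Ideal.pow_le_pow_right (by omega))
    have h3 := hcM (n + 1) ⟨h2 h1, ⟨y, rfl⟩⟩
    rw [LinearMap.range_eq_map, ← Submodule.map_smul''] at h3
    obtain ⟨y', hy', e'⟩ := h3
    rw [← hinj e']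
    exact hy'

end main

end Groth.Agent.Lib.helper8.GEGlueAlg
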