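import Mathlib
import Groth.Agent.Lib.Helper8.GEGlueAlg
import Groth.Agent.Lib.Helper8.AffineExistence
import Groth.Agent.Lib.Helper8.LimFormal
import Groth.Agent.Lib.Helper16.CohFinite

/-!
# Gluing lemma for Grothendieck's existence theorem, sheaf level (helper8)

`X` Noetherian over `Spec A`, `I` an ideal of `A`, `F` a coherent formal module.

* `ker_appLin_of_isCok'` : sections of `P / 𝔞 P` over an affine open (no finiteness of `𝔞`).
* `isAdicTower_sections` : the sections of `F` over an affine open form an adic tower.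
* `glueMap` : the morphism `F' ⟶ F_n`, "`y ↦ tr x` if `σ x = ψ y`", for `σ : F_k ⟶ E_k`, `ψ : F' ⟶ E_k`
  with `im ψ ⊆ im σ` and `ker σ ⊆ ker tr`.
* `exists_isCok_family` : the gluing lemma.
* `completion_iso_of_isCok'` : a compatible family of quotient maps gives `completion I M ≅ F`, with the
  compatibility made explicit.
-/

set_option autoImplicit false
set_option backward.isDefEq.respectTransparency false
set_option linter.style.haveILetI false
set_option linter.unusedSectionVars false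
universe u

namespace Groth.Agent.Lib.helper8.GEGlue

open CategoryTheory CategoryTheory.Limits AlgebraicGeometry Opposite TopologicalSpace Formal
open Groth.Agent.Lib.helper8.FF Groth.Agent.Lib.helper8.Rees Groth.Agent.Lib.helper8.FTors
open Groth.Agent.Lib.Lead.GE Groth.Agent.Lib.helper8.GETower
open Scheme.Modules

variable {A : Type u} [CommRing A] {X : Scheme.{u}} [X.Over (Spec (CommRingCat.of A))]

/-- for `g : P ⟶ R` exhibiting `R = P / 𝔞 P` with `P` quasi-coherent on a Noetherian scheme,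
the kernel of `g` on sections over an affine open `U` is `𝔞 Γ(P, U)` -/
lemma ker_appLin_of_isCok' [IsNoetherian X] {𝔞 : Ideal A} {P R : X.Modules} [P.IsQuasicoherent]
    {g : P ⟶ R} (hg : IsCok 𝔞 g) {U : X.Opens} (hU : IsAffineOpen U) :
    LinearMap.ker (appLin g U) = (𝔞.map (resA A U)) • (⊤ : Submodule Γ(X, U) Γ(P, U)) := by
  obtain ⟨θ, hθ⟩ := hg.exists_iso
  have h1 : LinearMap.ker (appLin g U) = LinearMap.ker (appLin (qπ 𝔞 P) U) := by
    rw [← hθ, appLin_comp]
    ext x
    simp only [LinearMap.mem_ker, LinearMap.comp_apply]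
    constructor
    · intro h
      have hinj := appLin_injective_of_mono θ.hom U
      exact hinj (h.trans (map_zero _).symm)
    · intro h
      rw [h, map_zero]
  rw [h1]
  exact ker_appLin_qπ 𝔞 P hU

section Tower

variable (I : Ideal A) (F : ℕᵒᵖ ⥤ X.Modules)

/-- the sections of a coherent formal module over an affine open form an adic tower -/
theorem isAdicTower_sections [IsNoetherian X] (hF : IsCohFormal I F) {U : X.Opens}
    (hU : IsAffineOpen U) :
    IsAdicTower (I.map (resA A U)) (fun n => Γ(F.obj (op n), U))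
      (fun n m h => appLin (F.map (homOfLE h).op) U) where
  refl n x := by
    have e : F.map (homOfLE (le_refl n)).op = 𝟙 _ := F.map_id _
    show appLin (F.map (homOfLE (le_refl n)).op) U x = x
    rw [e]
    rfl
  trans n m k h1 h2 x := by
    show appLin (F.map (homOfLE h1).op) U (appLin (F.map (homOfLE h2).op) U x) =
      appLin (F.map (homOfLE (h1.trans h2)).op) U x
    rw [← appLin_comp_apply, ← F.map_comp]
    rfl
  surj n m h := by
    haveI : (F.obj (op m)).IsQuasicoherent := (hF.1 m).1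
    haveI : (F.obj (op n)).IsQuasicoherent := (hF.1 n).1
    haveI := (isCok_map I F hF h).epi
    exact appLin_surjective_of_epi _ hU
  ker n m h := by
    haveI : (F.obj (op m)).IsQuasicoherent := (hF.1 m).1
    show LinearMap.ker (appLin (F.map (homOfLE h).op) U) = _
    rw [ker_appLin_of_isCok' (isCok_map I F hF h) hU, Ideal.map_pow]

end Tower

section GlueMap

variable {P E P' N : X.Modules} (σ : P ⟶ E) (ψ : P' ⟶ E) (t : P ⟶ N)

lemma kernel_factorThruImage_comp (hb : kernel.ι σ ≫ t = 0) :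
    kernel.ι (Abelian.factorThruImage σ) ≫ t = 0 := by
  have h1 : kernel.ι (Abelian.factorThruImage σ) ≫ σ = 0 := by
    have e : kernel.ι (Abelian.factorThruImage σ) ≫ σ =
        (kernel.ι (Abelian.factorThruImage σ) ≫ Abelian.factorThruImage σ) ≫
          Abelian.image.ι σ := by
      rw [Category.assoc, Abelian.image.fac]
    rw [e, kernel.condition, zero_comp]
  rw [← kernel.lift_ι σ _ h1, Category.assoc, hb, comp_zero]

/-- the morphism `P' ⟶ N`, "`y ↦ t x` if `σ x = ψ y`" -/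
noncomputable def glueMap (ha : ψ ≫ cokernel.π σ = 0) (hb : kernel.ι σ ≫ t = 0) : P' ⟶ N :=
  kernel.lift (cokernel.π σ) ψ ha ≫
    Abelian.epiDesc (Abelian.factorThruImage σ) t (kernel_factorThruImage_comp σ t hb)

lemma glueMap_apply (ha : ψ ≫ cokernel.π σ = 0) (hb : kernel.ι σ ≫ t = 0) (U : X.Opens)
    (y : Γ(P', U)) (x : Γ(P, U)) (hxy : appLin σ U x = appLin ψ U y) :
    appLin (glueMap σ ψ t ha hb) U y = appLin t U x := by
  have hinj := appLin_injective_of_mono (Abelian.image.ι σ) U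
  have h1 : appLin (kernel.lift (cokernel.π σ) ψ ha) U y =
      appLin (Abelian.factorThruImage σ) U x := by
    apply hinj
    rw [← appLin_comp_apply, ← appLin_comp_apply, Abelian.image.fac]
    have e : kernel.lift (cokernel.π σ) ψ ha ≫ Abelian.image.ι σ = ψ := kernel.lift_ι _ _ _
    rw [e, hxy]
  unfold glueMap
  rw [appLin_comp_apply, h1, ← appLin_comp_apply, Abelian.comp_epiDesc]

end GlueMap

section GlueLemma

variable (I : Ideal A) (F : ℕᵒᵖ ⥤ X.Modules) (𝓔 : ℕᵒᵖ ⥤ X.Modules) (σ : F ⟶ 𝓔)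
variable (F' : X.Modules) (ψ : ∀ k, F' ⟶ 𝓔.obj (op k))

/-- **the gluing lemma** -/
theorem exists_isCok_family [IsNoetherian X] (hF : IsCohFormal I F)
    (h𝓔 : ∀ k, (𝓔.obj (op k)).IsQuasicoherent) [F'.IsQuasicoherent]
    (hψ : ∀ (n m : ℕ) (h : n ≤ m), ψ m ≫ 𝓔.map (homOfLE h).op = ψ n)
    {ι : Type*} (W : ι → X.Opens) (hW : ∀ i, IsAffineOpen (W i)) (hcov : ∀ x : X, ∃ i, x ∈ W i)
    (s : ℕ)
    (H1 : ∀ (i : ι) (n : ℕ) (x : Γ(F.obj (op (n + s)), W i)),
        appLin (σ.app (op (n + s))) (W i) x = 0 →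
        appLin (F.map (homOfLE (Nat.le_add_right n s)).op) (W i) x = 0)
    (H2 : ∀ (i : ι) (n : ℕ) (y : Γ(F', W i)), ∃ x : Γ(F.obj (op (n + s)), W i),
        appLin (σ.app (op (n + s))) (W i) x = appLin (ψ (n + s)) (W i) y)
    (H5 : ∀ (i : ι) (n : ℕ) (p : Γ(F', W i) →ₗ[Γ(X, W i)] Γ(F.obj (op n), W i)),
        (∀ (y : Γ(F', W i)) (x : Γ(F.obj (op (n + s)), W i)),
          appLin (σ.app (op (n + s))) (W i) x = appLin (ψ (n + s)) (W i) y →
          p y = appLin (F.map (homOfLE (Nat.le_add_right n s)).op) (W i) x) →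
        Function.Surjective p ∧ LinearMap.ker p =
          (I.map (resA A (W i))) ^ (n + 1) • (⊤ : Submodule Γ(X, W i) Γ(F', W i))) :
    ∃ p : ∀ n, F' ⟶ F.obj (op n), (∀ n, IsCok (I ^ (n + 1)) (p n)) ∧
      (∀ (n m : ℕ) (h : n ≤ m), p m ≫ F.map (homOfLE h).op = p n) ∧
      (∀ n, p n ≫ σ.app (op n) = ψ n) ∧
      ∀ (n : ℕ) (U : X.Opens) (y : Γ(F', U)) (x : Γ(F.obj (op (n + s)), U)),
        appLin (σ.app (op (n + s))) U x = appLin (ψ (n + s)) U y →
        appLin (p n) U y = appLin (F.map (homOfLE (Nat.le_add_right n s)).op) U x := by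
  haveI hqF : ∀ n, (F.obj (op n)).IsQuasicoherent := fun n => (hF.1 n).1
  have ha : ∀ n, ψ (n + s) ≫ cokernel.π (σ.app (op (n + s))) = 0 := by
    intro n
    refine hom_eq_zero_of_cover _ W hW hcov (fun i y => ?_)
    obtain ⟨x, hx⟩ := H2 i n y
    rw [appLin_comp_apply, ← hx, ← appLin_comp_apply, cokernel.condition]
    rfl
  have hb : ∀ n, kernel.ι (σ.app (op (n + s))) ≫
      F.map (homOfLE (Nat.le_add_right n s)).op = 0 := by
    intro n
    haveI := h𝓔 (n + s)
    haveI : (kernel (σ.app (op (n + s)))).IsQuasicoherent :=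
      Groth.Agent.Lib.helper7.CohKer.isQuasicoherent_kernel _
    refine hom_eq_zero_of_cover _ W hW hcov (fun i z => ?_)
    rw [appLin_comp_apply]
    apply H1 i n
    rw [← appLin_comp_apply, kernel.condition]
    rfl
  let p : ∀ n, F' ⟶ F.obj (op n) := fun n =>
    glueMap (σ.app (op (n + s))) (ψ (n + s)) (F.map (homOfLE (Nat.le_add_right n s)).op)
      (ha n) (hb n)
  have hp : ∀ (n : ℕ) (U : X.Opens) (y : Γ(F', U)) (x : Γ(F.obj (op (n + s)), U)),
      appLin (σ.app (op (n + s))) U x = appLin (ψ (n + s)) U y →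
      appLin (p n) U y = appLin (F.map (homOfLE (Nat.le_add_right n s)).op) U x :=
    fun n U y x hxy => glueMap_apply _ _ _ (ha n) (hb n) U y x hxy
  -- naturality of `σ` on sections
  have hσ : ∀ (n m : ℕ) (h : n ≤ m) (U : X.Opens) (x : Γ(F.obj (op m), U)),
      appLin (𝓔.map (homOfLE h).op) U (appLin (σ.app (op m)) U x) =
        appLin (σ.app (op n)) U (appLin (F.map (homOfLE h).op) U x) := by
    intro n m h U x
    rw [← appLin_comp_apply, ← appLin_comp_apply, σ.naturality]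
  have hψ' : ∀ (n m : ℕ) (h : n ≤ m) (U : X.Opens) (y : Γ(F', U)),
      appLin (𝓔.map (homOfLE h).op) U (appLin (ψ m) U y) = appLin (ψ n) U y := by
    intro n m h U y
    rw [← appLin_comp_apply, hψ]
  have hFF : ∀ (n m k : ℕ) (h1 : n ≤ m) (h2 : m ≤ k) (U : X.Opens) (x : Γ(F.obj (op k), U)),
      appLin (F.map (homOfLE h1).op) U (appLin (F.map (homOfLE h2).op) U x) =
        appLin (F.map (homOfLE (h1.trans h2)).op) U x := by
    intro n m k h1 h2 U x
    rw [← appLin_comp_apply, ← F.map_comp]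
    rfl
  refine ⟨p, fun n => ?_, fun n m h => ?_, fun n => ?_, hp⟩
  · refine Groth.Agent.Lib.helper8.AffEx.isCok_of_sections (p n) W hW hcov ?_ ?_
    · intro i
      exact (H5 i n (appLin (p n) (W i)) (fun y x hxy => hp n (W i) y x hxy)).1
    · intro i
      rw [(H5 i n (appLin (p n) (W i)) (fun y x hxy => hp n (W i) y x hxy)).2, Ideal.map_pow]
  · refine hom_ext_of_cover _ _ W hW hcov (fun i y => ?_)
    obtain ⟨x, hx⟩ := H2 i m y
    rw [appLin_comp_apply, hp m (W i) y x hx, hFF]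
    have hle : n + s ≤ m + s := by omega
    have h1 : appLin (σ.app (op (n + s))) (W i) (appLin (F.map (homOfLE hle).op) (W i) x) =
        appLin (ψ (n + s)) (W i) y := by
      rw [← hσ, hx, hψ']
    rw [hp n (W i) y _ h1, hFF]
  · refine hom_ext_of_cover _ _ W hW hcov (fun i y => ?_)
    obtain ⟨x, hx⟩ := H2 i n y
    rw [appLin_comp_apply, hp n (W i) y x hx, ← hσ, hx, hψ']

end GlueLemma

/-- a compatible family of quotient maps `M ⟶ F_n = M / I^(n+1) M` identifies `F` with the completion,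
compatibly with the projections -/
theorem completion_iso_of_isCok' (I : Ideal A) (F : ℕᵒᵖ ⥤ X.Modules) (M : X.Modules)
    (p : ∀ n, M ⟶ F.obj (op n)) (hp : ∀ n, IsCok (I ^ (n + 1)) (p n))
    (hcompat : ∀ (n m : ℕ) (h : n ≤ m), p m ≫ F.map (homOfLE h).op = p n) :
    ∃ β : Formal.completion I M ≅ F,
      ∀ n, Formal.modPowπ I (n + 1) M ≫ β.hom.app (op n) = p n := by
  choose θ hθ using fun n => (hp n).exists_iso
  refine ⟨NatIso.ofComponents (fun n => θ n.unop) ?_, fun n => hθ n⟩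
  intro m n f
  induction m using Opposite.rec with | _ m => ?_
  induction n using Opposite.rec with | _ n => ?_
  have h : n ≤ m := f.unop.le
  have ef : f = (homOfLE h).op := rfl
  rw [ef]
  have key : qπ (I ^ (m + 1)) M ≫
      ((Formal.completion I M).map (homOfLE h).op ≫ (θ n).hom) =
      qπ (I ^ (m + 1)) M ≫ ((θ m).hom ≫ F.map (homOfLE h).op) := by
    calc qπ (I ^ (m + 1)) M ≫
          ((Formal.completion I M).map (homOfLE h).op ≫ (θ n).hom)
        = (qπ (I ^ (m + 1)) M ≫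
          (Formal.completion I M).map (homOfLE h).op) ≫ (θ n).hom :=
          (Category.assoc _ _ _).symm
      _ = qπ (I ^ (n + 1)) M ≫ (θ n).hom :=
          congrArg (fun z => z ≫ (θ n).hom)
            (Groth.Agent.Lib.helper8.Rees.qπ_completion_map I M h)
      _ = p n := hθ n
      _ = p m ≫ F.map (homOfLE h).op := (hcompat n m h).symm
      _ = (qπ (I ^ (m + 1)) M ≫ (θ m).hom) ≫ F.map (homOfLE h).op := by rw [hθ m]
      _ = _ := Category.assoc _ _ _
  exact (cancel_epi (qπ (I ^ (m + 1)) M)).mp key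

/-- sections of the cokernel over an affine open -/
lemma exists_of_cokernel_π_eq_zero {P E : X.Modules} [P.IsQuasicoherent] [E.IsQuasicoherent]
    (σ : P ⟶ E) {U : X.Opens} (hU : IsAffineOpen U) (z : Γ(E, U))
    (hz : appLin (cokernel.π σ) U z = 0) : ∃ x : Γ(P, U), appLin σ U x = z := by
  haveI : (cokernel σ).IsQuasicoherent :=
    Groth.Agent.Lib.helper7.CohKer.isQuasicoherent_cokernel σ
  let S : ShortComplex X.Modules := ShortComplex.mk σ (cokernel.π σ) (cokernel.condition σ)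
  have hS : S.Exact := ShortComplex.exact_cokernel σ
  exact exists_appLin_eq_of_exact S hS hU z hz

lemma isQuasicoherent_of_isCok {𝔞 : Ideal A} {P R : X.Modules} [P.IsQuasicoherent] {g : P ⟶ R}
    (hg : IsCok 𝔞 g) : R.IsQuasicoherent := by
  obtain ⟨θ, -⟩ := hg.exists_iso
  haveI := isQuasicoherent_Q 𝔞 P
  exact (SheafOfModules.isQuasicoherent X.ringCatSheaf).prop_of_iso θ inferInstance

section Main

variable (I : Ideal A) (F : ℕᵒᵖ ⥤ X.Modules) (E' : X.Modules) (𝓔 : ℕᵒᵖ ⥤ X.Modules)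
  (π : ∀ k, E' ⟶ 𝓔.obj (op k)) (σ : F ⟶ 𝓔) {D : X.Modules} (r : E' ⟶ D)

/-- the candidate algebraization: sections of `E'` satisfying the relations `r` and lying in the image
of `σ` modulo `I^(m+1)` -/
noncomputable abbrev glueObj (m : ℕ) : X.Modules :=
  kernel (kernel.ι r ≫ π m ≫ cokernel.π (σ.app (op m)))

/-- the inclusion of the candidate into `E'` -/
noncomputable abbrev glueι (m : ℕ) : glueObj F E' 𝓔 π σ r m ⟶ E' :=
  kernel.ι (kernel.ι r ≫ π m ≫ cokernel.π (σ.app (op m))) ≫ kernel.ι r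

instance (m : ℕ) : Mono (glueι F E' 𝓔 π σ r m) := mono_comp _ _

lemma mem_range_glueι_iff [IsNoetherian X] (hF : IsCohFormal I F) (hE' : Coh.IsCoh E')
    (hπ : ∀ k, IsCok (I ^ (k + 1)) (π k)) (m : ℕ) {U : X.Opens} (hU : IsAffineOpen U)
    (y : Γ(E', U)) :
    y ∈ LinearMap.range (appLin (glueι F E' 𝓔 π σ r m) U) ↔
      (appLin r U y = 0 ∧ ∃ x : Γ(F.obj (op m), U),
        appLin (σ.app (op m)) U x = appLin (π m) U y) := by
  haveI : E'.IsQuasicoherent := hE'.1
  haveI : (F.obj (op m)).IsQuasicoherent := (hF.1 m).1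
  haveI : (𝓔.obj (op m)).IsQuasicoherent := isQuasicoherent_of_isCok (hπ m)
  constructor
  · rintro ⟨w, rfl⟩
    rw [appLin_comp_apply]
    constructor
    · rw [← appLin_comp_apply, kernel.condition]; rfl
    · apply exists_of_cokernel_π_eq_zero _ hU
      rw [← appLin_comp_apply, ← appLin_comp_apply, ← appLin_comp_apply]
      rw [kernel.condition]
      rfl
  · rintro ⟨hr, x, hx⟩
    have h1 : y ∈ LinearMap.range (appLin (kernel.ι r) U) := by
      rw [range_appLin_kernel_ι]; exact hr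
    obtain ⟨v, rfl⟩ := h1
    have h2 : v ∈ LinearMap.range
        (appLin (kernel.ι (kernel.ι r ≫ π m ≫ cokernel.π (σ.app (op m)))) U) := by
      rw [range_appLin_kernel_ι, LinearMap.mem_ker, appLin_comp_apply, appLin_comp_apply, ← hx,
        ← appLin_comp_apply, cokernel.condition]
      rfl
    obtain ⟨w, rfl⟩ := h2
    exact ⟨w, rfl⟩

open Groth.Agent.Lib.helper8.GEGlueAlg in
/-- **the gluing lemma, final form**: hypotheses on sections over a finite affine cover -/
theorem exists_glue [IsNoetherian X] (hF : IsCohFormal I F) (hE' : Coh.IsCoh E')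
    (hπ : ∀ k, IsCok (I ^ (k + 1)) (π k))
    (hπc : ∀ (n m : ℕ) (h : n ≤ m), π m ≫ 𝓔.map (homOfLE h).op = π n)
    (hD : Coh.IsCoh D) {d : ℕ} (W : Fin d → X.Opens) (hW : ∀ i, IsAffineOpen (W i))
    (hcov : ∀ x : X, ∃ i, x ∈ W i) (q : ℕ)
    (h0 : ∀ (i : Fin d) (n : ℕ) (x : Γ(F.obj (op n), W i)) (y : Γ(E', W i)),
      appLin (π n) (W i) y = appLin (σ.app (op n)) (W i) x →
      appLin r (W i) y ∈ (I.map (resA A (W i))) ^ (n + 1) • (⊤ : Submodule Γ(X, W i) Γ(D, W i)))
    (h2 : ∀ (i : Fin d) (k : ℕ),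
      ∀ z ∈ (I.map (resA A (W i))) ^ q • LinearMap.ker (appLin r (W i)),
      ∃ x : Γ(F.obj (op k), W i), appLin (σ.app (op k)) (W i) x = appLin (π k) (W i) z)
    (H1 : ∀ i : Fin d, ∃ s₀ : ℕ, ∀ (n : ℕ) (x : Γ(F.obj (op (n + s₀)), W i)),
      appLin (σ.app (op (n + s₀))) (W i) x = 0 →
      appLin (F.map (homOfLE (Nat.le_add_right n s₀)).op) (W i) x = 0) :
    ∃ m₀ : ℕ, ∀ m : ℕ, m₀ ≤ m → ∃ (s : ℕ) (p : ∀ n, glueObj F E' 𝓔 π σ r m ⟶ F.obj (op n)),
      (∀ n, IsCok (I ^ (n + 1)) (p n)) ∧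
      (∀ (n m' : ℕ) (h : n ≤ m'), p m' ≫ F.map (homOfLE h).op = p n) ∧
      (∀ n, p n ≫ σ.app (op n) = glueι F E' 𝓔 π σ r m ≫ π n) ∧
      ∀ (n : ℕ) (U : X.Opens) (y : Γ(glueObj F E' 𝓔 π σ r m, U))
        (x : Γ(F.obj (op (n + s)), U)),
        appLin (σ.app (op (n + s))) U x = appLin (glueι F E' 𝓔 π σ r m ≫ π (n + s)) U y →
        appLin (p n) U y = appLin (F.map (homOfLE (Nat.le_add_right n s)).op) U x := by
  haveI : E'.IsQuasicoherent := hE'.1
  haveI : D.IsQuasicoherent := hD.1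
  haveI hqF : ∀ n, (F.obj (op n)).IsQuasicoherent := fun n => (hF.1 n).1
  have hq𝓔 : ∀ k, (𝓔.obj (op k)).IsQuasicoherent := fun k => isQuasicoherent_of_isCok (hπ k)
  haveI hNoeth : ∀ i, IsNoetherianRing Γ(X, W i) := fun i =>
    IsLocallyNoetherian.component_noetherian ⟨W i, hW i⟩
  haveI hfinE : ∀ i, Module.Finite Γ(X, W i) Γ(E', W i) := fun i =>
    Groth.Agent.Lib.helper16.CohFinite.finite_sections_of_isCoh E' hE' (hW i)
  haveI hfinD : ∀ i, Module.Finite Γ(X, W i) Γ(D, W i) := fun i =>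
    Groth.Agent.Lib.helper16.CohFinite.finite_sections_of_isCoh D hD (hW i)
  have hT := fun i => isAdicTower_sections I F hF (hW i)
  -- the algebraic hypotheses
  have hyp : ∀ i, Hyp (I.map (resA A (W i)))
      (fun n m h => appLin (F.map (homOfLE h).op) (W i))
      (fun n => appLin (π n) (W i)) (fun n m h => appLin (𝓔.map (homOfLE h).op) (W i))
      (fun n => appLin (σ.app (op n)) (W i)) (appLin r (W i)) q := by
    intro i
    refine ⟨fun n => ?_, fun n => ?_, fun n m h y => ?_, fun n m h x => ?_, h0 i, h2 i⟩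
    · haveI := hq𝓔 n
      haveI := (hπ n).epi
      exact appLin_surjective_of_epi _ (hW i)
    · rw [ker_appLin_of_isCok' (hπ n) (hW i), Ideal.map_pow]
    · show appLin (𝓔.map (homOfLE h).op) (W i) (appLin (π m) (W i) y) = appLin (π n) (W i) y
      rw [← appLin_comp_apply, hπc]
    · show appLin (𝓔.map (homOfLE h).op) (W i) (appLin (σ.app (op m)) (W i) x) =
        appLin (σ.app (op n)) (W i) (appLin (F.map (homOfLE h).op) (W i) x)
      rw [← appLin_comp_apply, ← appLin_comp_apply, σ.naturality]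
  choose m₀ hm₀ using fun i => glue_alg (hT i) (hyp i) (H1 i)
  refine ⟨Finset.univ.sup m₀, fun m hm => ?_⟩
  have hmi : ∀ i, m₀ i ≤ m := fun i => (Finset.le_sup (Finset.mem_univ i)).trans hm
  have key := fun i => hm₀ i m (hmi i) Γ(glueObj F E' 𝓔 π σ r m, W i)
    (appLin (glueι F E' 𝓔 π σ r m) (W i)) (appLin_injective_of_mono _ _)
    (fun y => mem_range_glueι_iff I F E' 𝓔 π σ r hF hE' hπ m (hW i) y)
  choose s₁ hs₁ using key
  have hsi : ∀ i, s₁ i ≤ Finset.univ.sup s₁ := fun i => Finset.le_sup (Finset.mem_univ i)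
  haveI : (kernel r).IsQuasicoherent := Groth.Agent.Lib.helper7.CohKer.isQuasicoherent_kernel r
  haveI : (cokernel (σ.app (op m))).IsQuasicoherent := by
    haveI := hq𝓔 m
    exact Groth.Agent.Lib.helper7.CohKer.isQuasicoherent_cokernel _
  haveI : (glueObj F E' 𝓔 π σ r m).IsQuasicoherent :=
    Groth.Agent.Lib.helper7.CohKer.isQuasicoherent_kernel _
  refine ⟨Finset.univ.sup s₁, ?_⟩
  exact exists_isCok_family I F 𝓔 σ (glueObj F E' 𝓔 π σ r m)
    (fun k => glueι F E' 𝓔 π σ r m ≫ π k) hF hq𝓔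
    (fun n m' h => by rw [Category.assoc, hπc]) W hW hcov (Finset.univ.sup s₁)
    (fun i n x hx => (hs₁ i _ (hsi i)).1 n x hx)
    (fun i n y => (hs₁ i _ (hsi i)).2.1 n y)
    (fun i n p hp => (hs₁ i _ (hsi i)).2.2 n p hp)

end Main

end Groth.Agent.Lib.helper8.GEGlue
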