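import Mathlib
import Groth.Agent.Lib.Helper8.GEGlue
import Groth.Agent.Lib.Helper8.FormalCompletion
import Groth.Agent.Lib.Helper16.QCohFibre

/-!
# Algebraizing a coherent formal module mapping to a completion (helper8)

`X` Noetherian over `Spec A`, `F` a coherent formal module, `P` a coherent module, `ρ : F ⟶ P^` a map of
systems, `r' : P ⟶ D` "relations".  We apply the gluing lemma to `E' = P ⊞ F_e`,
`σ = (ρ, truncation) : F ⟶ (P / I^(n+1) P ⊞ F_{min n e})_n`, `r = fst ≫ r'`.
-/

set_option autoImplicit false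
set_option backward.isDefEq.respectTransparency false
set_option linter.style.haveILetI false
set_option linter.unusedSectionVars false
universe u

namespace Groth.Agent.Lib.helper8.GEMid

open CategoryTheory CategoryTheory.Limits AlgebraicGeometry Opposite TopologicalSpace Formal
open Groth.Agent.Lib.helper8.FF Groth.Agent.Lib.helper8.Rees Groth.Agent.Lib.helper8.FTors
open Groth.Agent.Lib.Lead.GE Groth.Agent.Lib.helper8.GETower Groth.Agent.Lib.helper8.GEGlue
open Groth.Agent.Lib.helper8.FCompl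
open Scheme.Modules

variable {X : Scheme.{u}}

section BiprodSections

variable {P Q : X.Modules} (U : X.Opens)

lemma appLin_add {M N : X.Modules} (f g : M ⟶ N) (x : Γ(M, U)) :
    appLin (f + g) U x = appLin f U x + appLin g U x := rfl

lemma appLin_id {M : X.Modules} (x : Γ(M, U)) : appLin (𝟙 M) U x = x := rfl

lemma sec_total (z : Γ(P ⊞ Q, U)) :
    z = appLin biprod.inl U (appLin biprod.fst U z) +
      appLin biprod.inr U (appLin biprod.snd U z) := by
  have h := biprod.total (X := P) (Y := Q)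
  have h1 : appLin (biprod.fst ≫ biprod.inl + biprod.snd ≫ biprod.inr : P ⊞ Q ⟶ P ⊞ Q) U z =
      z := by
    rw [h]; rfl
  rw [appLin_add, appLin_comp_apply, appLin_comp_apply] at h1
  exact h1.symm

lemma sec_ext {z z' : Γ(P ⊞ Q, U)} (h1 : appLin biprod.fst U z = appLin biprod.fst U z')
    (h2 : appLin biprod.snd U z = appLin biprod.snd U z') : z = z' := by
  rw [sec_total U z, sec_total U z', h1, h2]

lemma sec_fst_inl (a : Γ(P, U)) :
    appLin (biprod.fst : P ⊞ Q ⟶ P) U (appLin biprod.inl U a) = a := by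
  rw [← appLin_comp_apply, biprod.inl_fst]; rfl

lemma sec_snd_inl (a : Γ(P, U)) :
    appLin (biprod.snd : P ⊞ Q ⟶ Q) U (appLin biprod.inl U a) = 0 := by
  rw [← appLin_comp_apply, biprod.inl_snd]; rfl

lemma sec_fst_inr (b : Γ(Q, U)) :
    appLin (biprod.fst : P ⊞ Q ⟶ P) U (appLin biprod.inr U b) = 0 := by
  rw [← appLin_comp_apply, biprod.inr_fst]; rfl

lemma sec_snd_inr (b : Γ(Q, U)) :
    appLin (biprod.snd : P ⊞ Q ⟶ Q) U (appLin biprod.inr U b) = b := by
  rw [← appLin_comp_apply, biprod.inr_snd]; rfl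

lemma mem_smul_top_biprod_iff (𝔞 : Ideal Γ(X, U)) (z : Γ(P ⊞ Q, U)) :
    z ∈ 𝔞 • (⊤ : Submodule Γ(X, U) Γ(P ⊞ Q, U)) ↔
      appLin biprod.fst U z ∈ 𝔞 • (⊤ : Submodule Γ(X, U) Γ(P, U)) ∧
      appLin biprod.snd U z ∈ 𝔞 • (⊤ : Submodule Γ(X, U) Γ(Q, U)) := by
  constructor
  · intro h
    exact ⟨Groth.Agent.Lib.helper8.LimAdic.map_mem_smul_top 𝔞 _ h,
      Groth.Agent.Lib.helper8.LimAdic.map_mem_smul_top 𝔞 _ h⟩
  · rintro ⟨h1, h2⟩
    rw [sec_total U z]
    exact Submodule.add_mem _ (Groth.Agent.Lib.helper8.LimAdic.map_mem_smul_top 𝔞 _ h1)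
      (Groth.Agent.Lib.helper8.LimAdic.map_mem_smul_top 𝔞 _ h2)

/-- a binary biproduct of coherent modules is coherent -/
theorem isCoh_biprod (hP : Coh.IsCoh P) (hQ : Coh.IsCoh Q) : Coh.IsCoh (P ⊞ Q) := by
  haveI := hP.1
  haveI := hQ.1
  haveI : (P ⊞ Q).IsQuasicoherent :=
    Groth.Agent.Lib.helper16.QCohFibre.isQuasicoherent_biprod P Q
  refine Groth.Agent.Lib.helper16.CohFinite.isCoh_of_finite_sections _
    (fun U : X.affineOpens => U.1) (fun U => U.2) (iSup_affineOpens_eq_top X) (fun U => ?_)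
  haveI := Groth.Agent.Lib.helper16.CohFinite.finite_sections_of_isCoh P hP U.2
  haveI := Groth.Agent.Lib.helper16.CohFinite.finite_sections_of_isCoh Q hQ U.2
  exact Module.Finite.of_surjective
    ((appLin (biprod.inl : P ⟶ P ⊞ Q) U.1).coprod (appLin (biprod.inr : Q ⟶ P ⊞ Q) U.1))
    (fun z => ⟨(appLin biprod.fst U.1 z, appLin biprod.snd U.1 z), by
      rw [LinearMap.coprod_apply]; exact (sec_total U.1 z).symm⟩)

end BiprodSections

variable {A : Type u} [CommRing A] [X.Over (Spec (CommRingCat.of A))]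

section Defs

variable (I : Ideal A) (F : ℕᵒᵖ ⥤ X.Modules) (P : X.Modules) (ρ : F ⟶ Formal.completion I P)
  (e : ℕ)

/-- the truncated system `n ↦ F_{min n e}` -/
noncomputable def trunc : ℕᵒᵖ ⥤ X.Modules :=
  (Monotone.functor (f := fun n : ℕ => min n e) (fun _ _ h => min_le_min_right e h)).op ⋙ F

lemma trunc_obj (n : ℕ) : (trunc F e).obj (op n) = F.obj (op (min n e)) := rfl

lemma trunc_map {n m : ℕ} (h : n ≤ m) :
    (trunc F e).map (homOfLE h).op = F.map (homOfLE (min_le_min_right e h)).op := rfl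

/-- the coherent module `E' = P ⊞ F_e` -/
noncomputable abbrev EE : X.Modules := P ⊞ F.obj (op e)

/-- the system `(P / I^(n+1) P ⊞ F_{min n e})_n` -/
noncomputable def sysE : ℕᵒᵖ ⥤ X.Modules where
  obj n := (Formal.completion I P).obj n ⊞ (trunc F e).obj n
  map f := biprod.map ((Formal.completion I P).map f) ((trunc F e).map f)
  map_id n := by
    apply biprod.hom_ext <;> simp
  map_comp f g := by
    apply biprod.hom_ext <;> simp

/-- the projections `E' ⟶ E'_k` -/
noncomputable def piE (k : ℕ) : EE F P e ⟶ (sysE I F P e).obj (op k) :=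
  biprod.map (qπ (I ^ (k + 1)) P) (F.map (homOfLE (min_le_right k e)).op)

lemma piE_compat (n m : ℕ) (h : n ≤ m) :
    piE I F P e m ≫ (sysE I F P e).map (homOfLE h).op = piE I F P e n := by
  apply biprod.hom_ext
  · simp only [piE, sysE, Category.assoc, biprod.map_fst]
    rw [← Category.assoc, biprod.map_fst, Category.assoc]
    congr 1
    exact Groth.Agent.Lib.helper8.Rees.qπ_completion_map I P h
  · simp only [piE, sysE, Category.assoc, biprod.map_snd]
    rw [← Category.assoc, biprod.map_snd, Category.assoc, trunc_map, ← F.map_comp]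
    rfl

/-- the map of systems `σ = (ρ, truncation)` -/
noncomputable def sigE : F ⟶ sysE I F P e where
  app n := biprod.lift (ρ.app n) (F.map (homOfLE (min_le_left n.unop e)).op)
  naturality := by
    intro n k g
    induction n using Opposite.rec with | _ n => ?_
    induction k using Opposite.rec with | _ k => ?_
    have hle : k ≤ n := leOfHom g.unop
    have eg : g = (homOfLE hle).op := Quiver.Hom.unop_inj (Subsingleton.elim _ _)
    subst eg
    apply biprod.hom_ext
    · simp only [sysE, Category.assoc, biprod.map_fst, biprod.lift_fst]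
      rw [← Category.assoc, biprod.lift_fst]
      exact ρ.naturality _
    · simp only [sysE, Category.assoc, biprod.map_snd, biprod.lift_snd]
      rw [← Category.assoc, biprod.lift_snd, trunc_map, ← F.map_comp, ← F.map_comp]
      rfl

/-- first projection of `E'_k` -/
noncomputable def fstE (k : ℕ) : (sysE I F P e).obj (op k) ⟶ Q (I ^ (k + 1)) P := biprod.fst

/-- second projection of `E'_k` -/
noncomputable def sndE (k : ℕ) : (sysE I F P e).obj (op k) ⟶ F.obj (op (min k e)) := biprod.snd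

lemma sigE_fst (k : ℕ) : (sigE I F P ρ e).app (op k) ≫ fstE I F P e k = ρ.app (op k) :=
  biprod.lift_fst _ _

lemma sigE_snd (k : ℕ) : (sigE I F P ρ e).app (op k) ≫ sndE I F P e k =
    F.map (homOfLE (min_le_left k e)).op := biprod.lift_snd _ _

lemma piE_fst (k : ℕ) : piE I F P e k ≫ fstE I F P e k = biprod.fst ≫ qπ (I ^ (k + 1)) P :=
  biprod.map_fst _ _

lemma piE_snd (k : ℕ) : piE I F P e k ≫ sndE I F P e k =
    biprod.snd ≫ F.map (homOfLE (min_le_right k e)).op := biprod.map_snd _ _

lemma secE_ext (k : ℕ) (U : X.Opens) {z z' : Γ((sysE I F P e).obj (op k), U)}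
    (h1 : appLin (fstE I F P e k) U z = appLin (fstE I F P e k) U z')
    (h2 : appLin (sndE I F P e k) U z = appLin (sndE I F P e k) U z') : z = z' :=
  sec_ext (P := Q (I ^ (k + 1)) P) (Q := F.obj (op (min k e))) U h1 h2

end Defs

section Props

variable (I : Ideal A) (F : ℕᵒᵖ ⥤ X.Modules) (P : X.Modules) (ρ : F ⟶ Formal.completion I P)
  (e : ℕ)

/-- in `Γ(F_e, U)` the submodules `J^(min k e + 1) • ⊤` and `J^(k+1) • ⊤` agree -/
lemma pow_min_smul_top [IsNoetherian X] (hF : IsCohFormal I F) {U : X.Opens}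
    (hU : IsAffineOpen U) (k : ℕ) :
    (I.map (resA A U)) ^ (min k e + 1) • (⊤ : Submodule Γ(X, U) Γ(F.obj (op e), U)) =
      (I.map (resA A U)) ^ (k + 1) • ⊤ := by
  rcases le_total k e with h | h
  · rw [min_eq_left h]
  · rw [min_eq_right h]
    have h0 := (isAdicTower_sections I F hF hU).smul_top_eq_bot e
    rw [h0, eq_comm, eq_bot_iff, ← h0]
    exact Submodule.smul_mono_left (Ideal.pow_le_pow_right (by omega))

theorem isCok_piE [IsNoetherian X] (hF : IsCohFormal I F) [P.IsQuasicoherent] (k : ℕ) :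
    IsCok (I ^ (k + 1)) (piE I F P e k) := by
  haveI hqF : ∀ n, (F.obj (op n)).IsQuasicoherent := fun n => (hF.1 n).1
  haveI : (EE F P e).IsQuasicoherent :=
    Groth.Agent.Lib.helper16.QCohFibre.isQuasicoherent_biprod _ _
  haveI : (Q (I ^ (k + 1)) P).IsQuasicoherent := isQuasicoherent_Q _ P
  haveI : ((sysE I F P e).obj (op k)).IsQuasicoherent :=
    Groth.Agent.Lib.helper16.QCohFibre.isQuasicoherent_biprod (Q (I ^ (k + 1)) P)
      (F.obj (op (min k e)))
  refine Groth.Agent.Lib.helper8.AffEx.isCok_of_sections _ (fun U : X.affineOpens => U.1)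
    (fun U => U.2) (fun x => ?_) (fun U => ?_) (fun U => ?_)
  · obtain ⟨_, ⟨U, hU, rfl⟩, hxU, -⟩ :=
      X.isBasis_affineOpens.exists_subset_of_mem_open (Set.mem_univ x) isOpen_univ
    exact ⟨⟨U, hU⟩, hxU⟩
  · -- surjectivity
    intro w
    have hT := isAdicTower_sections I F hF U.2
    obtain ⟨g, hg⟩ := appLin_qπ_surjective (I ^ (k + 1)) P U.2
      (appLin (fstE I F P e k) U.1 w)
    obtain ⟨f, hf⟩ := hT.surj (min k e) e (min_le_right k e)
      (appLin (sndE I F P e k) U.1 w)
    refine ⟨appLin biprod.inl U.1 g + appLin biprod.inr U.1 f, ?_⟩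
    apply secE_ext
    · rw [← appLin_comp_apply, piE_fst, appLin_comp_apply, map_add, sec_fst_inl, sec_fst_inr,
        add_zero, hg]
    · rw [← appLin_comp_apply, piE_snd, appLin_comp_apply, map_add, sec_snd_inl, sec_snd_inr,
        zero_add]
      exact hf
  · -- kernel
    have hT := isAdicTower_sections I F hF U.2
    ext y
    rw [Ideal.map_pow, mem_smul_top_biprod_iff, LinearMap.mem_ker]
    have h1 : appLin (piE I F P e k) U.1 y = 0 ↔
        appLin (qπ (I ^ (k + 1)) P) U.1 (appLin biprod.fst U.1 y) = 0 ∧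
        appLin (F.map (homOfLE (min_le_right k e)).op) U.1 (appLin biprod.snd U.1 y) = 0 := by
      constructor
      · intro h
        constructor
        · rw [← appLin_comp_apply, ← piE_fst I F P e k, appLin_comp_apply, h, map_zero]
        · rw [← appLin_comp_apply, ← piE_snd I F P e k, appLin_comp_apply, h, map_zero]
      · rintro ⟨h1, h2⟩
        apply secE_ext
        · rw [← appLin_comp_apply, piE_fst, appLin_comp_apply, h1, map_zero]
        · rw [← appLin_comp_apply, piE_snd, appLin_comp_apply, h2, map_zero]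
    rw [h1]
    have h2 := ker_appLin_qπ (I ^ (k + 1)) P U.2
    have h3 := hT.ker (min k e) e (min_le_right k e)
    rw [pow_min_smul_top I F e hF U.2 k] at h3
    rw [← LinearMap.mem_ker, ← LinearMap.mem_ker, h2, Ideal.map_pow]
    constructor
    · rintro ⟨ha, hb⟩
      refine ⟨ha, ?_⟩
      rw [← h3]
      exact hb
    · rintro ⟨ha, hb⟩
      refine ⟨ha, ?_⟩
      have : appLin biprod.snd U.1 y ∈ LinearMap.ker
          (appLin (F.map (homOfLE (min_le_right k e)).op) U.1) := by
        rw [← h3] at hb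
        exact hb
      exact this

/-- elements of `J^t'` kill the sections of a module killed by `I^t'` -/
lemma smul_eq_zero_of_killedBy {𝔞 : Ideal A} {M : X.Modules} (hk : KilledBy 𝔞 M) {U : X.Opens}
    {b : Γ(X, U)} (hb : b ∈ 𝔞.map (resA A U)) (z : Γ(M, U)) : b • z = 0 := by
  have h1 : b • z ∈ (𝔞.map (resA A U)) • (⊤ : Submodule Γ(X, U) Γ(M, U)) :=
    Submodule.smul_mem_smul hb Submodule.mem_top
  rw [Groth.Agent.Lib.helper8.LimFormal.smul_top_eq_bot_of_killedBy hk U] at h1
  exact (Submodule.mem_bot _).1 h1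

/-- **(H1)**: the kernels of `σ` form a pro-zero system -/
theorem H1_of_killed [IsNoetherian X] (hF : IsCohFormal I F) {t' : ℕ}
    (hK : ∀ n, KilledBy (I ^ t') (kernel (ρ.app (op n)))) {U : X.Opens} (hU : IsAffineOpen U) :
    ∃ e₀ s₁ : ℕ, ∀ e : ℕ, e₀ ≤ e → ∀ s : ℕ, s₁ + e ≤ s →
      ∀ (n : ℕ) (x : Γ(F.obj (op (n + s)), U)),
      appLin ((sigE I F P ρ e).app (op (n + s))) U x = 0 →
      appLin (F.map (homOfLE (Nat.le_add_right n s)).op) U x = 0 := by
  haveI : IsNoetherianRing Γ(X, U) := IsLocallyNoetherian.component_noetherian ⟨U, hU⟩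
  haveI : Module.Finite Γ(X, U) Γ(F.obj (op 0), U) :=
    Groth.Agent.Lib.helper16.CohFinite.finite_sections_of_isCoh _ (hF.1 0) hU
  have hT := isAdicTower_sections I F hF hU
  obtain ⟨e₁, s₁, h⟩ := exists_tr_eq_zero' hT t'
  refine ⟨e₁, s₁, fun e he s hs n x hx => ?_⟩
  refine h (e + 1) s (by omega) (by omega) n x ?_ ?_
  · -- killed by `J^t'`
    intro b hb
    have h1 : appLin (ρ.app (op (n + s))) U x = 0 := by
      rw [← sigE_fst I F P ρ e (n + s), appLin_comp_apply, hx, map_zero]
    have h2 : x ∈ LinearMap.range (appLin (kernel.ι (ρ.app (op (n + s)))) U) := by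
      rw [range_appLin_kernel_ι]; exact h1
    obtain ⟨z, rfl⟩ := h2
    rw [← LinearMap.map_smul,
      smul_eq_zero_of_killedBy (hK (n + s)) (by rw [Ideal.map_pow]; exact hb), map_zero]
  · -- in `J^(e+1) • ⊤`
    have h1 : appLin (F.map (homOfLE (min_le_left (n + s) e)).op) U x = 0 := by
      rw [← sigE_snd I F P ρ e (n + s), appLin_comp_apply, hx, map_zero]
    have h2 : x ∈ LinearMap.ker (appLin (F.map (homOfLE (min_le_left (n + s) e)).op) U) := h1
    have h3 := hT.ker (min (n + s) e) (n + s) (min_le_left (n + s) e)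
    have h4 : min (n + s) e = e := min_eq_right (by omega)
    rw [h3, h4] at h2
    exact h2

/-- **(h0)**: the relations kill the image of `σ` -/
theorem h0_of_comp_eq_zero [IsNoetherian X] {D : X.Modules} [D.IsQuasicoherent] (r' : P ⟶ D)
    (hρr : ρ ≫ completionMap I r' = 0) {U : X.Opens} (hU : IsAffineOpen U) (n : ℕ)
    (x : Γ(F.obj (op n), U)) (y : Γ(EE F P e, U))
    (hxy : appLin (piE I F P e n) U y = appLin ((sigE I F P ρ e).app (op n)) U x) :
    appLin (biprod.fst ≫ r') U y ∈
      (I.map (resA A U)) ^ (n + 1) • (⊤ : Submodule Γ(X, U) Γ(D, U)) := by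
  rw [← Ideal.map_pow, ← ker_appLin_qπ (I ^ (n + 1)) D hU, LinearMap.mem_ker,
    ← appLin_comp_apply, Category.assoc, ← qπ_Qmap, ← Category.assoc, ← piE_fst I F P e n,
    Category.assoc, appLin_comp_apply, hxy, ← appLin_comp_apply, ← Category.assoc, sigE_fst]
  have h1 : ρ.app (op n) ≫ Qmap (I ^ (n + 1)) r' = 0 := by
    have := congrArg (fun τ => τ.app (op n)) hρr
    exact this
  rw [h1]
  rfl

/-- **(h2)**: a power of `J` times the kernel of the relations lies in the image of `σ` -/
theorem h2_of_cokernel [IsNoetherian X] (hF : IsCohFormal I F) [P.IsQuasicoherent]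
    {D : X.Modules} (r' : P ⟶ D) {q' : ℕ}
    (hC : ∀ a ∈ I ^ q', ∀ k : ℕ, kernel.ι r' ≫ smulMod A P a ≫ qπ (I ^ (k + 1)) P ≫
      cokernel.π (ρ.app (op k)) = 0) {U : X.Opens} (hU : IsAffineOpen U) (k : ℕ) :
    ∀ z ∈ (I.map (resA A U)) ^ (q' + (e + 1)) • LinearMap.ker (appLin (biprod.fst ≫ r') U),
      ∃ x : Γ(F.obj (op k), U),
        appLin ((sigE I F P ρ e).app (op k)) U x = appLin (piE I F P e k) U z := by
  haveI hqF : ∀ n, (F.obj (op n)).IsQuasicoherent := fun n => (hF.1 n).1
  haveI : (Q (I ^ (k + 1)) P).IsQuasicoherent := isQuasicoherent_Q _ P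
  haveI : ((Formal.completion I P).obj (op k)).IsQuasicoherent := isQuasicoherent_Q _ P
  have hT := isAdicTower_sections I F hF hU
  -- the submodule of good elements
  let S : Submodule Γ(X, U) Γ(EE F P e, U) :=
    Submodule.comap (appLin (piE I F P e k) U)
      (LinearMap.range (appLin ((sigE I F P ρ e).app (op k)) U))
  suffices hle : (I.map (resA A U)) ^ (q' + (e + 1)) •
      LinearMap.ker (appLin (biprod.fst ≫ r') U) ≤ S by
    intro z hz
    obtain ⟨x, hx⟩ := hle hz
    exact ⟨x, hx⟩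
  rw [pow_add, Submodule.mul_smul, ← Ideal.map_pow, ← Ideal.map_pow]
  refine map_smul_le_of (resA A U) (I ^ q') _ S (fun a ha w hw => ?_)
  -- fix `a`; now handle `w ∈ J^(e+1) • N`
  let S' : Submodule Γ(X, U) Γ(EE F P e, U) :=
    Submodule.comap (LinearMap.lsmul Γ(X, U) Γ(EE F P e, U) (resA A U a)) S
  have hle' : (I ^ (e + 1)).map (resA A U) •
      LinearMap.ker (appLin (biprod.fst ≫ r') U) ≤ S' := by
    refine map_smul_le_of (resA A U) (I ^ (e + 1)) _ S' (fun c hc y hy => ?_)
    show resA A U a • (resA A U c • y) ∈ S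
    -- the core computation
    have hy' : appLin r' U (appLin biprod.fst U y) = 0 := hy
    have h2 : appLin biprod.fst U y ∈ LinearMap.range (appLin (kernel.ι r') U) := by
      rw [range_appLin_kernel_ι]; exact hy'
    obtain ⟨v, hv⟩ := h2
    have h3 : appLin (cokernel.π (ρ.app (op k))) U
        (appLin (qπ (I ^ (k + 1)) P) U (resA A U a • appLin biprod.fst U y)) = 0 := by
      have h4 := congrArg (fun τ => appLin τ U v) (hC a ha k)
      simp only [appLin_comp_apply, appLin_smulMod, hv] at h4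
      exact h4
    obtain ⟨x', hx'⟩ := exists_of_cokernel_π_eq_zero (ρ.app (op k)) hU _ h3
    have hc' : ∀ w' : Γ(F.obj (op (min k e)), U), resA A U c • w' = 0 := by
      intro w'
      have h5 : resA A U c • w' ∈ (I.map (resA A U)) ^ (min k e + 1) •
          (⊤ : Submodule Γ(X, U) Γ(F.obj (op (min k e)), U)) := by
        refine Submodule.smul_mem_smul ?_ Submodule.mem_top
        rw [← Ideal.map_pow]
        exact Ideal.mem_map_of_mem _ (Ideal.pow_le_pow_right (by omega) hc)
      rw [hT.smul_top_eq_bot (min k e)] at h5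
      exact (Submodule.mem_bot _).1 h5
    refine ⟨resA A U c • x', ?_⟩
    apply secE_ext
    · have e1 : appLin (fstE I F P e k) U
          (appLin ((sigE I F P ρ e).app (op k)) U (resA A U c • x')) =
          resA A U c • appLin (ρ.app (op k)) U x' := by
        rw [← appLin_comp_apply, sigE_fst, LinearMap.map_smul]
        rfl
      have e2 : appLin (fstE I F P e k) U
          (appLin (piE I F P e k) U (resA A U a • resA A U c • y)) =
          resA A U c • appLin (qπ (I ^ (k + 1)) P) U (resA A U a • appLin biprod.fst U y) := by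
        rw [← appLin_comp_apply, piE_fst, appLin_comp_apply]
        simp only [LinearMap.map_smul]
        rw [smul_comm]
      exact e1.trans ((congrArg (fun t => resA A U c • t) hx').trans e2.symm)
    · have e1 : appLin (sndE I F P e k) U
          (appLin ((sigE I F P ρ e).app (op k)) U (resA A U c • x')) = 0 := by
        rw [← appLin_comp_apply, sigE_snd, LinearMap.map_smul, hc']
      have e2 : appLin (sndE I F P e k) U
          (appLin (piE I F P e k) U (resA A U a • resA A U c • y)) = 0 := by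
        rw [← appLin_comp_apply, piE_snd, appLin_comp_apply]
        simp only [LinearMap.map_smul]
        rw [hc', smul_zero]
      exact e1.trans e2.symm
  exact hle' hw

end Props

section Assembly

variable (I : Ideal A) (F : ℕᵒᵖ ⥤ X.Modules) (P : X.Modules) (ρ : F ⟶ Formal.completion I P)
  {D : X.Modules} (r' : P ⟶ D)

/-- the candidate algebraization for the data `(ρ, r')` with parameters `e`, `m` -/
noncomputable abbrev midObj (e m : ℕ) : X.Modules :=
  glueObj F (EE F P e) (sysE I F P e) (piE I F P e) (sigE I F P ρ e) (biprod.fst ≫ r') m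

/-- its inclusion into `P ⊞ F_e` -/
noncomputable abbrev midι (e m : ℕ) : midObj I F P ρ r' e m ⟶ EE F P e :=
  glueι F (EE F P e) (sysE I F P e) (piE I F P e) (sigE I F P ρ e) (biprod.fst ≫ r') m

lemma isCoh_sysE [IsNoetherian X] (hF : IsCohFormal I F) (hP : Coh.IsCoh P) (e k : ℕ) :
    Coh.IsCoh ((sysE I F P e).obj (op k)) :=
  isCoh_biprod (P := Q (I ^ (k + 1)) P) (Q := F.obj (op (min k e))) (isCoh_Q' _ P hP) (hF.1 _)

lemma isCoh_midObj [IsNoetherian X] (hF : IsCohFormal I F) (hP : Coh.IsCoh P)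
    (hD : Coh.IsCoh D) (e m : ℕ) : Coh.IsCoh (midObj I F P ρ r' e m) := by
  have hE : Coh.IsCoh (EE F P e) := isCoh_biprod hP (hF.1 e)
  exact Groth.Agent.Lib.helper7.CohKer.isCoh_kernel
    (Groth.Agent.Lib.helper7.CohKer.isCoh_kernel hE hD _)
    (Groth.Agent.Lib.helper7.CohKer.isCoh_cokernel (hF.1 m) (isCoh_sysE I F P hF hP e m) _) _

/-- **the main existence statement** -/
theorem exists_mid [IsNoetherian X] (hF : IsCohFormal I F) (hP : Coh.IsCoh P)
    (hD : Coh.IsCoh D) {t' : ℕ} (hK : ∀ n, KilledBy (I ^ t') (kernel (ρ.app (op n))))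
    (hρr : ρ ≫ completionMap I r' = 0) {q' : ℕ}
    (hC : ∀ a ∈ I ^ q', ∀ k : ℕ, kernel.ι r' ≫ smulMod A P a ≫ qπ (I ^ (k + 1)) P ≫
      cokernel.π (ρ.app (op k)) = 0) :
    ∃ (e m s : ℕ) (p : ∀ n, midObj I F P ρ r' e m ⟶ F.obj (op n)),
      (∀ n, IsCok (I ^ (n + 1)) (p n)) ∧
      (∀ (n m' : ℕ) (h : n ≤ m'), p m' ≫ F.map (homOfLE h).op = p n) ∧
      (∀ n, p n ≫ (sigE I F P ρ e).app (op n) = midι I F P ρ r' e m ≫ piE I F P e n) ∧
      ∀ (n : ℕ) (U : X.Opens) (y : Γ(midObj I F P ρ r' e m, U)) (x : Γ(F.obj (op (n + s)), U)),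
        appLin ((sigE I F P ρ e).app (op (n + s))) U x =
          appLin (midι I F P ρ r' e m ≫ piE I F P e (n + s)) U y →
        appLin (p n) U y = appLin (F.map (homOfLE (Nat.le_add_right n s)).op) U x := by
  haveI : P.IsQuasicoherent := hP.1
  haveI : D.IsQuasicoherent := hD.1
  obtain ⟨d, W, hW, hcov⟩ := exists_finite_affine_cover X
  choose e₀ s₁ hes using fun i => H1_of_killed I F P ρ hF hK (hW i)
  let e := Finset.univ.sup e₀
  have hei : ∀ i, e₀ i ≤ e := fun i => Finset.le_sup (Finset.mem_univ i)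
  have hE : Coh.IsCoh (EE F P e) := isCoh_biprod hP (hF.1 e)
  obtain ⟨m₀, hm₀⟩ := exists_glue I F (EE F P e) (sysE I F P e) (piE I F P e) (sigE I F P ρ e)
    (biprod.fst ≫ r') hF hE (fun k => isCok_piE I F P e hF k) (piE_compat I F P e) hD W hW hcov
    (q' + (e + 1))
    (fun i n x y hxy => h0_of_comp_eq_zero I F P ρ e r' hρr (hW i) n x y hxy)
    (fun i k => h2_of_cokernel I F P ρ e hF r' hC (hW i) k)
    (fun i => ⟨s₁ i + e, fun n x hx => hes i e (hei i) (s₁ i + e) le_rfl n x hx⟩)
  obtain ⟨s, p, h1, h2, h3, h4⟩ := hm₀ m₀ le_rfl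
  exact ⟨e, m₀, s, p, h1, h2, h3, h4⟩

omit ρ r' in
/-- for a subobject `F'` of `P ⊞ Q'` with `Q'` killed by `𝔞`, the kernel of `F' ⟶ P` is killed by `𝔞` -/
lemma killedBy_kernel_comp_fst {P' Q' F' : X.Modules} (j : F' ⟶ P' ⊞ Q') [Mono j] {𝔞 : Ideal A}
    (hQ : KilledBy 𝔞 Q') : KilledBy 𝔞 (kernel (j ≫ biprod.fst)) := by
  intro c hc
  have hcond : kernel.ι (j ≫ biprod.fst) ≫ (j ≫ biprod.fst) = 0 := kernel.condition _
  have key : kernel.ι (j ≫ biprod.fst) ≫ j ≫ smulMod A (P' ⊞ Q') c = 0 := by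
    apply biprod.hom_ext
    · rw [zero_comp, Category.assoc, Category.assoc, smulMod_naturality, ← Category.assoc j,
        ← Category.assoc (kernel.ι (j ≫ biprod.fst)), hcond, zero_comp]
    · rw [zero_comp, Category.assoc, Category.assoc, smulMod_naturality, hQ c hc,
        comp_zero, comp_zero, comp_zero]
  have h2 : smulMod A (kernel (j ≫ biprod.fst)) c ≫ (kernel.ι (j ≫ biprod.fst) ≫ j) = 0 := by
    rw [← Category.assoc, smulMod_naturality, Category.assoc, smulMod_naturality]
    exact key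
  haveI : Mono (kernel.ι (j ≫ biprod.fst) ≫ j) := mono_comp _ _
  exact (cancel_mono (kernel.ι (j ≫ biprod.fst) ≫ j)).1 (h2.trans zero_comp.symm)

/-- the kernel of `F' ⟶ P` is killed by `I^(e+1)` -/
lemma killedBy_kernel_midι_fst (hF : IsCohFormal I F) (e m : ℕ) :
    KilledBy (I ^ (e + 1)) (kernel (midι I F P ρ r' e m ≫ biprod.fst)) :=
  killedBy_kernel_comp_fst (midι I F P ρ r' e m) (hF.2.1 e)

omit ρ in
lemma kernel_ι_comp_rel {E'' : X.Modules} (f : E'' ⟶ D) {Z : X.Modules}
    (g : Z ⟶ kernel f) : (g ≫ kernel.ι f) ≫ f = 0 := by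
  rw [Category.assoc, kernel.condition, comp_zero]

/-- the candidate satisfies the relations -/
lemma midι_comp_rel (e m : ℕ) : midι I F P ρ r' e m ≫ biprod.fst ≫ r' = 0 :=
  kernel_ι_comp_rel (biprod.fst ≫ r') _

/-- lifting morphisms into the candidate -/
theorem exists_lift_mid [IsNoetherian X] (hF : IsCohFormal I F) (hP : Coh.IsCoh P) (e m : ℕ)
    {H : X.Modules} [H.IsQuasicoherent] (u : H ⟶ P) (v : H ⟶ F.obj (op e)) (hu : u ≫ r' = 0)
    {ι : Type*} (W : ι → X.Opens) (hW : ∀ i, IsAffineOpen (W i)) (hcov : ∀ x : X, ∃ i, x ∈ W i)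
    (hsec : ∀ (i : ι) (h : Γ(H, W i)), ∃ x : Γ(F.obj (op m), W i),
      appLin (ρ.app (op m)) (W i) x = appLin (qπ (I ^ (m + 1)) P) (W i) (appLin u (W i) h) ∧
      appLin (F.map (homOfLE (min_le_left m e)).op) (W i) x =
        appLin (F.map (homOfLE (min_le_right m e)).op) (W i) (appLin v (W i) h)) :
    ∃ l : H ⟶ midObj I F P ρ r' e m, l ≫ midι I F P ρ r' e m = biprod.lift u v := by
  have h1 : biprod.lift u v ≫ (biprod.fst ≫ r') = 0 := by
    rw [← Category.assoc, biprod.lift_fst, hu]
  have h2 : biprod.lift u v ≫ piE I F P e m ≫ cokernel.π ((sigE I F P ρ e).app (op m)) = 0 := by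
    refine hom_eq_zero_of_cover _ W hW hcov (fun i h => ?_)
    obtain ⟨x, hx1, hx2⟩ := hsec i h
    have h3 : appLin (piE I F P e m) (W i) (appLin (biprod.lift u v) (W i) h) =
        appLin ((sigE I F P ρ e).app (op m)) (W i) x := by
      apply secE_ext
      · have e1 : appLin (fstE I F P e m) (W i)
            (appLin (piE I F P e m) (W i) (appLin (biprod.lift u v) (W i) h)) =
            appLin (qπ (I ^ (m + 1)) P) (W i) (appLin u (W i) h) := by
          rw [← appLin_comp_apply, piE_fst, ← appLin_comp_apply, ← Category.assoc,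
            biprod.lift_fst, appLin_comp_apply]
        have e2 : appLin (fstE I F P e m) (W i)
            (appLin ((sigE I F P ρ e).app (op m)) (W i) x) = appLin (ρ.app (op m)) (W i) x := by
          rw [← appLin_comp_apply, sigE_fst]
          rfl
        exact e1.trans (hx1.symm.trans e2.symm)
      · have e1 : appLin (sndE I F P e m) (W i)
            (appLin (piE I F P e m) (W i) (appLin (biprod.lift u v) (W i) h)) =
            appLin (F.map (homOfLE (min_le_right m e)).op) (W i) (appLin v (W i) h) := by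
          rw [← appLin_comp_apply, piE_snd, ← appLin_comp_apply, ← Category.assoc,
            biprod.lift_snd, appLin_comp_apply]
        have e2 : appLin (sndE I F P e m) (W i)
            (appLin ((sigE I F P ρ e).app (op m)) (W i) x) =
            appLin (F.map (homOfLE (min_le_left m e)).op) (W i) x := by
          rw [← appLin_comp_apply, sigE_snd]
        exact e1.trans (hx2.symm.trans e2.symm)
    rw [appLin_comp_apply, appLin_comp_apply, h3, ← appLin_comp_apply, cokernel.condition]
    rfl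
  refine ⟨kernel.lift _ (kernel.lift (biprod.fst ≫ r') (biprod.lift u v) h1) ?_, ?_⟩
  · rw [← Category.assoc, kernel.lift_ι]
    exact h2
  · rw [← Category.assoc, kernel.lift_ι, kernel.lift_ι]

end Assembly

end Groth.Agent.Lib.helper8.GEMid
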