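import Mathlib
import Groth.Agent.Lib.Helper8.GETower

/-!
# Two-ideal uniform Artin–Rees for adic towers, and towers of quotients / cokernels (helper8)

* `exists_tr_eq_zero_two` : `B` Noetherian, `(T n)` an adic tower for `J`, `𝔨` a second ideal.  For every
  `t` there are `e`, `s` such that an element of `T (n+s)` killed by `𝔨^t` and lying in `𝔨^e T (n+s)` dies in
  `T n` (for all `n`).
* `quot_tower` : the quotients `T n / 𝔟 T n` of an adic tower again have surjective transition maps with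
  kernel `𝔞 • ⊤`.
* `coker_tower` : the same for the cokernels of a map of towers.
-/

set_option autoImplicit false
universe u

namespace Groth.Agent.Lib.helper8.GETwoIdeal

open Groth.Agent.Lib.Lead.GE Groth.Agent.Lib.helper8.LimAdic Groth.Agent.Lib.helper8.GETower

section Towers

variable {B : Type*} [CommRing B] (𝔞 𝔟 : Ideal B)

lemma map_mem_smul_top' {M N : Type*} [AddCommGroup M] [Module B M] [AddCommGroup N] [Module B N]
    (f : M →ₗ[B] N) {x : M} (h : x ∈ 𝔞 • (⊤ : Submodule B M)) :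
    f x ∈ 𝔞 • (⊤ : Submodule B N) := by
  have h1 : Submodule.map f (𝔞 • (⊤ : Submodule B M)) ≤ 𝔞 • (⊤ : Submodule B N) := by
    rw [Submodule.map_smul'']
    exact Submodule.smul_mono le_rfl le_top
  exact h1 ⟨x, h, rfl⟩

/-- quotient towers -/
theorem quot_tower {T' T G' G : Type*} [AddCommGroup T'] [Module B T'] [AddCommGroup T]
    [Module B T] [AddCommGroup G'] [Module B G'] [AddCommGroup G] [Module B G]
    (tr : T' →ₗ[B] T) (κ' : T' →ₗ[B] G') (κ : T →ₗ[B] G) (g : G' →ₗ[B] G)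
    (htr : Function.Surjective tr) (hker : LinearMap.ker tr = 𝔞 • (⊤ : Submodule B T'))
    (hκ' : Function.Surjective κ') (hkκ' : LinearMap.ker κ' = 𝔟 • (⊤ : Submodule B T'))
    (hκ : Function.Surjective κ) (hkκ : LinearMap.ker κ = 𝔟 • (⊤ : Submodule B T))
    (hcomm : ∀ x, g (κ' x) = κ (tr x)) :
    Function.Surjective g ∧ LinearMap.ker g = 𝔞 • (⊤ : Submodule B G') := by
  constructor
  · intro m
    obtain ⟨y, rfl⟩ := hκ m
    obtain ⟨y', rfl⟩ := htr y
    exact ⟨κ' y', hcomm y'⟩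
  · apply le_antisymm
    · intro m' hm'
      obtain ⟨y, rfl⟩ := hκ' m'
      have h1 : tr y ∈ 𝔟 • (⊤ : Submodule B T) := by
        rw [← hkκ, LinearMap.mem_ker, ← hcomm]
        exact hm'
      have h2 : 𝔟 • (⊤ : Submodule B T) = Submodule.map tr (𝔟 • (⊤ : Submodule B T')) := by
        rw [Submodule.map_smul'', Submodule.map_top, LinearMap.range_eq_top.2 htr]
      rw [h2] at h1
      obtain ⟨y', hy', hyy⟩ := h1
      have h3 : y - y' ∈ 𝔞 • (⊤ : Submodule B T') := by
        rw [← hker, LinearMap.mem_ker, map_sub, hyy, sub_self]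
      have h4 : κ' y' = 0 := by
        rw [← LinearMap.mem_ker, hkκ']
        exact hy'
      have h5 : κ' y = κ' (y - y') := by rw [map_sub, h4, sub_zero]
      rw [h5]
      exact map_mem_smul_top' 𝔞 κ' h3
    · rw [Submodule.smul_le]
      intro a ha m' _
      rw [LinearMap.mem_ker, map_smul]
      obtain ⟨y, hy⟩ := hκ (g m')
      obtain ⟨y', rfl⟩ := htr y
      rw [← hy, ← map_smul, ← map_smul]
      have h1 : a • y' ∈ LinearMap.ker tr := by
        rw [hker]
        exact Submodule.smul_mem_smul ha Submodule.mem_top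
      rw [LinearMap.mem_ker.1 h1, map_zero]

/-- cokernel towers -/
theorem coker_tower {T' T E' E C' C : Type*} [AddCommGroup T'] [Module B T'] [AddCommGroup T]
    [Module B T] [AddCommGroup E'] [Module B E'] [AddCommGroup E] [Module B E]
    [AddCommGroup C'] [Module B C'] [AddCommGroup C] [Module B C]
    (tr : T' →ₗ[B] T) (te : E' →ₗ[B] E) (σ' : T' →ₗ[B] E') (σ : T →ₗ[B] E)
    (c' : E' →ₗ[B] C') (c : E →ₗ[B] C) (g : C' →ₗ[B] C)
    (htr : Function.Surjective tr) (hte : Function.Surjective te)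
    (hkte : LinearMap.ker te = 𝔞 • (⊤ : Submodule B E'))
    (hσ : ∀ x, te (σ' x) = σ (tr x))
    (hc' : Function.Surjective c') (hkc' : ∀ x, c' (σ' x) = 0)
    (hc : Function.Surjective c) (hkc : ∀ z, c z = 0 → ∃ x, σ x = z)
    (hg : ∀ z, g (c' z) = c (te z)) :
    Function.Surjective g ∧ LinearMap.ker g = 𝔞 • (⊤ : Submodule B C') := by
  constructor
  · intro m
    obtain ⟨z, rfl⟩ := hc m
    obtain ⟨z', rfl⟩ := hte z
    exact ⟨c' z', hg z'⟩
  · apply le_antisymm
    · intro m' hm'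
      obtain ⟨z, rfl⟩ := hc' m'
      have h1 : c (te z) = 0 := by rw [← hg]; exact hm'
      obtain ⟨x, hx⟩ := hkc _ h1
      obtain ⟨x', rfl⟩ := htr x
      have h2 : z - σ' x' ∈ 𝔞 • (⊤ : Submodule B E') := by
        rw [← hkte, LinearMap.mem_ker, map_sub, hσ, hx, sub_self]
      have h3 : c' z = c' (z - σ' x') := by rw [map_sub, hkc', sub_zero]
      rw [h3]
      exact map_mem_smul_top' 𝔞 c' h2
    · rw [Submodule.smul_le]
      intro a ha m' _
      rw [LinearMap.mem_ker, map_smul]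
      obtain ⟨z, hz⟩ := hc (g m')
      obtain ⟨z', rfl⟩ := hte z
      rw [← hz, ← map_smul, ← map_smul]
      have h1 : a • z' ∈ LinearMap.ker te := by
        rw [hkte]
        exact Submodule.smul_mem_smul ha Submodule.mem_top
      rw [LinearMap.mem_ker.1 h1, map_zero]

end Towers

variable {B : Type u} [CommRing B] {J : Ideal B}
variable {T : ℕ → Type u} [∀ n, AddCommGroup (T n)] [∀ n, Module B (T n)]
variable {tr : ∀ (n m : ℕ), n ≤ m → T m →ₗ[B] T n}

/-- **two-ideal uniform Artin–Rees for adic towers**: elements of `T (n+s)` killed by `𝔨^t` and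
lying in `𝔨^e T (n+s)` die in `T n` -/
theorem exists_tr_eq_zero_two [IsNoetherianRing B] (hT : IsAdicTower J T tr)
    [Module.Finite B (T 0)] (𝔨 : Ideal B) (t : ℕ) :
    ∃ e s : ℕ, ∀ (n : ℕ) (x : T (n + s)), (∀ a ∈ 𝔨 ^ t, a • x = 0) →
      x ∈ 𝔨 ^ e • (⊤ : Submodule B (T (n + s))) → tr n (n + s) (Nat.le_add_right n s) x = 0 := by
  classical
  have hJ : J.FG := IsNoetherian.noetherian J
  haveI : IsNoetherianRing (AdicCompletion J B) := Groth.Agent.S0542.result B J hJ
  haveI := finite_limit hT hJ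
  obtain ⟨gs, hgs⟩ : (𝔨 ^ t).FG := IsNoetherian.noetherian _
  let μ : LimC J T tr →ₗ[AdicCompletion J B] (gs → LimC J T tr) :=
    LinearMap.pi (fun i => (algebraMap B (AdicCompletion J B) (i : B)) • LinearMap.id)
  have hμ : ∀ (z : LimC J T tr) (i : gs), μ z i = (i : B) • z := by
    intro z i
    simp only [μ, LinearMap.pi_apply, LinearMap.smul_apply, LinearMap.id_apply, algebraMap_smul]
  -- `ker μ` is killed by `𝔎^t`
  have hkill : (𝔨.map (algebraMap B (AdicCompletion J B))) ^ t • LinearMap.ker μ = ⊥ := by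
    rw [eq_bot_iff, Submodule.smul_le]
    intro r hr k hk
    rw [Submodule.mem_bot]
    rw [← Ideal.map_pow, ← hgs, Ideal.map_span] at hr
    revert k
    refine Submodule.span_induction (p := fun r _ => ∀ k ∈ LinearMap.ker μ, r • k = 0)
      ?_ ?_ ?_ ?_ hr
    · rintro _ ⟨i, hi, rfl⟩ k hk
      have h1 : μ k ⟨i, hi⟩ = 0 := by rw [LinearMap.mem_ker.1 hk]; rfl
      rw [hμ] at h1
      rw [algebraMap_smul]
      exact h1
    · intro k _; exact zero_smul _ _
    · intro a b _ _ ha hb k hk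
      rw [add_smul, ha k hk, hb k hk, add_zero]
    · intro a b _ hb k hk
      rw [smul_eq_mul, mul_smul, hb k hk, smul_zero]
  obtain ⟨c₀, hc₀⟩ := ar_sub (𝔨.map (algebraMap B (AdicCompletion J B))) (LinearMap.ker μ)
  obtain ⟨c', hc'⟩ := ar_sub (J.map (algebraMap B (AdicCompletion J B))) (LinearMap.range μ)
  -- the quotient by `𝔎^(t + c₀) M`
  let P : Submodule (AdicCompletion J B) (LimC J T tr) :=
    (𝔨.map (algebraMap B (AdicCompletion J B))) ^ (t + c₀) • ⊤
  have hPN : P ⊓ LinearMap.ker μ = ⊥ := by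
    rw [eq_bot_iff, ← hkill]
    exact hc₀ t
  obtain ⟨c'', hc''⟩ := ar_sub (J.map (algebraMap B (AdicCompletion J B)))
    ((LinearMap.ker μ).map P.mkQ)
  refine ⟨t + c₀, c' + c'', fun n x hx1 hx2 => ?_⟩
  -- a lift of `x` lying in `𝔨^(t + c₀) M`
  have h2 : x ∈ Submodule.map (ev hT (n + (c' + c'')))
      (𝔨 ^ (t + c₀) • (⊤ : Submodule B (LimC J T tr))) := by
    rw [Submodule.map_smul'', Submodule.map_top,
      LinearMap.range_eq_top.2 (ev_surjective hT (n + (c' + c'')))]
    exact hx2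
  obtain ⟨z, hz, rfl⟩ := h2
  have hzP : z ∈ P := (mem_map_pow_smul_top_iff 𝔨 (t + c₀) z).2 hz
  -- step 1
  have h3 : μ z ∈ (J.map (algebraMap B (AdicCompletion J B))) ^ ((n + 1 + c'') + c') •
      (⊤ : Submodule (AdicCompletion J B) (gs → LimC J T tr)) := by
    apply pi_mem_smul_top
    intro i
    rw [hμ, mem_map_pow_smul_top_iff]
    have h4 : (i : B) • z ∈ LinearMap.ker (ev hT (n + (c' + c''))) := by
      rw [LinearMap.mem_ker, map_smul]
      apply hx1
      rw [← hgs]
      exact Ideal.subset_span i.2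
    rw [ker_ev hT hJ] at h4
    have e1 : n + (c' + c'') + 1 = (n + 1 + c'') + c' := by omega
    rw [e1] at h4
    exact h4
  have h5 := hc' (n + 1 + c'') ⟨h3, ⟨z, rfl⟩⟩
  rw [LinearMap.range_eq_map, ← Submodule.map_smul''] at h5
  obtain ⟨y, hy, hyz⟩ := h5
  have h6 : z - y ∈ LinearMap.ker μ := by
    rw [LinearMap.mem_ker, map_sub, hyz, sub_self]
  have hle : ∀ {a b : ℕ}, a ≤ b → (J.map (algebraMap B (AdicCompletion J B))) ^ b •
      (⊤ : Submodule (AdicCompletion J B) (LimC J T tr)) ≤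
      (J.map (algebraMap B (AdicCompletion J B))) ^ a • ⊤ := fun h =>
    Submodule.smul_mono_left (Ideal.pow_le_pow_right h)
  -- step 2: in the quotient
  have hqz : P.mkQ z = 0 := (Submodule.Quotient.mk_eq_zero P).2 hzP
  have h7 : P.mkQ (z - y) ∈ (J.map (algebraMap B (AdicCompletion J B))) ^ ((n + 1) + c'') •
      (⊤ : Submodule (AdicCompletion J B) (LimC J T tr ⧸ P)) ⊓ (LinearMap.ker μ).map P.mkQ := by
    refine ⟨?_, Submodule.mem_map_of_mem h6⟩
    rw [map_sub, hqz, zero_sub]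
    exact Submodule.neg_mem _ (map_mem_smul_top _ P.mkQ hy)
  have h8 := hc'' (n + 1) h7
  rw [← Submodule.map_smul''] at h8
  obtain ⟨w', hw', hww⟩ := h8
  have hw'N : w' ∈ LinearMap.ker μ := Submodule.smul_le_right hw'
  have h9 : (z - y) - w' ∈ P ⊓ LinearMap.ker μ := by
    refine Submodule.mem_inf.2 ⟨?_, Submodule.sub_mem _ h6 hw'N⟩
    rw [← Submodule.Quotient.mk_eq_zero P]
    show P.mkQ ((z - y) - w') = 0
    rw [map_sub, hww, sub_self]
  rw [hPN, Submodule.mem_bot, sub_eq_zero] at h9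
  have h10 : z - y ∈ (J.map (algebraMap B (AdicCompletion J B))) ^ (n + 1) •
      (⊤ : Submodule (AdicCompletion J B) (LimC J T tr)) := by
    rw [h9]
    exact Submodule.smul_mono le_rfl le_top hw'
  have h11 : z ∈ LinearMap.ker (ev hT n) := by
    rw [ker_ev hT hJ, ← mem_map_pow_smul_top_iff (R := AdicCompletion J B)]
    have : z = (z - y) + y := by abel
    rw [this]
    exact Submodule.add_mem _ h10 (hle (by omega) hy)
  rw [ev_compat hT, LinearMap.mem_ker.1 h11]

/-- monotone version of `exists_tr_eq_zero_two` -/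
theorem exists_tr_eq_zero_two' [IsNoetherianRing B] (hT : IsAdicTower J T tr)
    [Module.Finite B (T 0)] (𝔨 : Ideal B) (t : ℕ) :
    ∃ e s : ℕ, ∀ (e' s' : ℕ), e ≤ e' → s ≤ s' → ∀ (n : ℕ) (x : T (n + s')),
      (∀ a ∈ 𝔨 ^ t, a • x = 0) → x ∈ 𝔨 ^ e' • (⊤ : Submodule B (T (n + s'))) →
      tr n (n + s') (Nat.le_add_right n s') x = 0 := by
  obtain ⟨e, s, h⟩ := exists_tr_eq_zero_two hT 𝔨 t
  refine ⟨e, s, fun e' s' he hs n x hx1 hx2 => ?_⟩
  have hle : n + s ≤ n + s' := by omega
  have h1 := h n (tr (n + s) (n + s') hle x) (fun a ha => by rw [← map_smul, hx1 a ha, map_zero])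
    (map_mem_smul_top _ _ (Submodule.smul_mono_left (Ideal.pow_le_pow_right he) hx2))
  rw [hT.trans] at h1
  exact h1

end Groth.Agent.Lib.helper8.GETwoIdeal
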