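import Mathlib
import Groth.Agent.Lib.Helper8.GEMid
import Groth.Agent.Lib.Helper8.GETwoIdeal
import Groth.Agent.Lib.Helper8.DevGen

/-!
# The quotient `N / 𝔠 N` by an ideal sheaf, as the functor `i_* i^*` (helper8)

`𝔠 : X.IdealSheafData`, `i : V(𝔠) ⟶ X` the closed immersion.  `quotF 𝔠 = i^* ⋙ i_*`, with the unit
`quotη 𝔠 : 𝟭 ⟶ quotF 𝔠`.  For `N` quasi-coherent and `U` affine, `Γ(N, U) → Γ(quotF N, U)` is surjective
with kernel `𝔠(U) Γ(N, U)`.

* `isCohFormal_quotSys` : for `F` coherent formal, `F ⋙ quotF 𝔠 = (F_n / 𝔠 F_n)_n` is coherent formal.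
* `exists_factor` : maps to a quasi-coherent module killed by `𝔠` factor through `quotη`.
-/

set_option autoImplicit false
set_option backward.isDefEq.respectTransparency false
set_option linter.style.haveILetI false
set_option linter.unusedSectionVars false
universe u

namespace Groth.Agent.Lib.helper8.GEQuot

open CategoryTheory CategoryTheory.Limits AlgebraicGeometry Opposite TopologicalSpace Formal
open Groth.Agent.Lib.helper8.FF Groth.Agent.Lib.helper8.Rees Groth.Agent.Lib.helper8.FTors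
open Groth.Agent.Lib.Lead.GE Groth.Agent.Lib.helper8.GETower Groth.Agent.Lib.helper8.GEGlue
open Groth.Agent.Lib.helper8.FCompl Groth.Agent.Lib.helper8.GEMid
open Groth.Agent.Lib.helper8.PullbackUnit Groth.Agent.Lib.helper8.Dev
open Groth.Agent.Lib.helper8.GETwoIdeal
open Scheme.Modules

variable {X : Scheme.{u}} (𝔠 : X.IdealSheafData)

/-- `N ↦ N / 𝔠 N`, as `i_* i^*` -/
noncomputable abbrev quotF : X.Modules ⥤ X.Modules :=
  Scheme.Modules.pullback 𝔠.subschemeι ⋙ Scheme.Modules.pushforward 𝔠.subschemeι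

/-- the quotient map `N ⟶ N / 𝔠 N` -/
noncomputable abbrev quotη : 𝟭 X.Modules ⟶ quotF 𝔠 :=
  (pullbackPushforwardAdjunction 𝔠.subschemeι).unit

/-- the quotient map `N ⟶ N / 𝔠 N`, with the expected source -/
noncomputable def quotπ (N : X.Modules) : N ⟶ (quotF 𝔠).obj N := (quotη 𝔠).app N

lemma quotπ_naturality {M N : X.Modules} (f : M ⟶ N) :
    f ≫ quotπ 𝔠 N = quotπ 𝔠 M ≫ (quotF 𝔠).map f := (quotη 𝔠).naturality f

instance isQuasicoherent_quotF (N : X.Modules) [N.IsQuasicoherent] :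
    ((quotF 𝔠).obj N).IsQuasicoherent := by
  haveI : ((Scheme.Modules.pullback 𝔠.subschemeι).obj N).IsQuasicoherent :=
    Groth.Agent.Lib.helper16.QCohPullback.isQuasicoherent_pullback 𝔠.subschemeι N
  exact Groth.Agent.Lib.helper16.QCohAffinePush.isQuasicoherent_push 𝔠.subschemeι _

section Sections

variable (N : X.Modules) [N.IsQuasicoherent] {U : X.Opens} (hU : IsAffineOpen U)

include hU in
lemma isBC_quotη :
    IsBC (𝔠.subschemeι.appLE U (𝔠.subschemeι ⁻¹ᵁ U) le_rfl).hom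
      (ρ 𝔠.subschemeι (le_refl (𝔠.subschemeι ⁻¹ᵁ U)) N) :=
  isBC_ρ 𝔠.subschemeι hU (hU.preimage 𝔠.subschemeι) le_rfl N

include hU in
lemma appLE_surjective :
    Function.Surjective (𝔠.subschemeι.appLE U (𝔠.subschemeι ⁻¹ᵁ U) le_rfl).hom := by
  rw [Scheme.Hom.appLE_eq_app]
  exact 𝔠.subschemeι_app_surjective ⟨U, hU⟩

include hU in
/-- `Γ(N, U) → Γ(N / 𝔠 N, U)` is surjective for `U` affine -/
theorem quotη_surjective : Function.Surjective (appLin (quotπ 𝔠 N) U) := by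
  intro p
  obtain ⟨n, hn⟩ := IsBC.surjective_of_surjective (isBC_quotη 𝔠 N hU) (appLE_surjective 𝔠 hU) p
  refine ⟨n, ?_⟩
  rw [← hn, Groth.Agent.Lib.helper8.ClosedImmUnit.ρ_self_apply]
  rfl

include hU in
/-- the kernel of `Γ(N, U) → Γ(N / 𝔠 N, U)` is `𝔠(U) Γ(N, U)` for `U` affine -/
theorem ker_quotη : LinearMap.ker (appLin (quotπ 𝔠 N) U) =
    𝔠.ideal ⟨U, hU⟩ • (⊤ : Submodule Γ(X, U) Γ(N, U)) := by
  ext t
  have h1 := IsBC.eq_zero_iff_of_surjective (isBC_quotη 𝔠 N hU) (appLE_surjective 𝔠 hU) t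
  rw [Groth.Agent.Lib.helper8.ClosedImmUnit.ρ_self_apply] at h1
  have h2 : RingHom.ker (𝔠.subschemeι.appLE U (𝔠.subschemeι ⁻¹ᵁ U) le_rfl).hom =
      𝔠.ideal ⟨U, hU⟩ := by
    rw [Scheme.Hom.appLE_eq_app]
    exact 𝔠.ker_subschemeι_app ⟨U, hU⟩
  rw [h2] at h1
  exact h1

end Sections

/-- `N / 𝔠 N` is killed by `𝔠` -/
theorem killedByIdeal_quotF (N : X.Modules) : ClSub.KilledByIdeal 𝔠 ((quotF 𝔠).obj N) := by
  have h := killedByIdeal_ker_push 𝔠.subschemeι
    ((Scheme.Modules.pullback 𝔠.subschemeι).obj N)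
  rw [𝔠.ker_subschemeι] at h
  exact h

instance epi_quotπ (N : X.Modules) [N.IsQuasicoherent] : Epi (quotπ 𝔠 N) :=
  Groth.Agent.Lib.helper16.QCohEpi.epi_of_surjective_on_basis _ {U | IsAffineOpen U}
    X.isBasis_affineOpens (fun _ hU => quotη_surjective 𝔠 N hU)

/-- `N / 𝔠 N` is coherent if `N` is -/
theorem isCoh_quotF {N : X.Modules} (hN : Coh.IsCoh N) : Coh.IsCoh ((quotF 𝔠).obj N) := by
  haveI := hN.1
  refine Groth.Agent.Lib.helper16.CohFinite.isCoh_of_finite_sections _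
    (fun U : X.affineOpens => U.1) (fun U => U.2) (iSup_affineOpens_eq_top X) (fun U => ?_)
  haveI := Groth.Agent.Lib.helper16.CohFinite.finite_sections_of_isCoh N hN U.2
  exact Module.Finite.of_surjective (appLin (quotπ 𝔠 N) U.1) (quotη_surjective 𝔠 N U.2)

/-- the quotient map is an isomorphism on modules killed by `𝔠` -/
theorem isIso_quotπ {N : X.Modules} [N.IsQuasicoherent] (h : ClSub.KilledByIdeal 𝔠 N) :
    IsIso (quotπ 𝔠 N) := by
  show IsIso ((pullbackPushforwardAdjunction 𝔠.subschemeι).unit.app N)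
  rw [Groth.Agent.Lib.helper8.ClosedImmUnit.isIso_unit_iff_of_isClosedImmersion, 𝔠.ker_subschemeι]
  exact h

/-- maps to a quasi-coherent module killed by `𝔠` factor through the quotient -/
theorem exists_factor {E N : X.Modules} [N.IsQuasicoherent] (h : ClSub.KilledByIdeal 𝔠 N)
    (f : E ⟶ N) : ∃ f' : (quotF 𝔠).obj E ⟶ N, quotπ 𝔠 E ≫ f' = f := by
  haveI := isIso_quotπ 𝔠 h
  refine ⟨(quotF 𝔠).map f ≫ inv (quotπ 𝔠 N), ?_⟩
  rw [← Category.assoc, ← quotπ_naturality, Category.assoc, IsIso.hom_inv_id, Category.comp_id]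

/-- quotients of modules killed by an ideal sheaf are killed by it -/
theorem killedByIdeal_of_epi {M N : X.Modules} [M.IsQuasicoherent] [N.IsQuasicoherent]
    (f : M ⟶ N) [Epi f] (h : ClSub.KilledByIdeal 𝔠 M) : ClSub.KilledByIdeal 𝔠 N := by
  intro U a ha m
  obtain ⟨y, rfl⟩ := appLin_surjective_of_epi f U.2 m
  rw [← (appLin f U.1).map_smul a y, h U a ha y, map_zero]

/-- monotonicity of `KilledByIdeal` -/
theorem killedByIdeal_mono {𝔠 𝔡 : X.IdealSheafData} (hle : 𝔡 ≤ 𝔠) {M : X.Modules}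
    (h : ClSub.KilledByIdeal 𝔠 M) : ClSub.KilledByIdeal 𝔡 M :=
  fun U a ha m => h U a (hle U ha) m

/-- powers of an ideal sheaf decrease -/
theorem pow_le_pow {e q : ℕ} (h : e ≤ q) (K : X.IdealSheafData) : K ^ q ≤ K ^ e := by
  intro U
  show (K ^ q).ideal U ≤ (K ^ e).ideal U
  rw [Scheme.IdealSheafData.ideal_pow, Scheme.IdealSheafData.ideal_pow]
  exact Ideal.pow_le_pow_right h

section System

variable {A : Type u} [CommRing A] [X.Over (Spec (CommRingCat.of A))]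
variable (I : Ideal A) (F : ℕᵒᵖ ⥤ X.Modules)

/-- the system `(F_n / 𝔠 F_n)_n` -/
noncomputable def quotSys : ℕᵒᵖ ⥤ X.Modules := F ⋙ quotF 𝔠

lemma quotSys_obj (n : ℕ) : (quotSys 𝔠 F).obj (op n) = (quotF 𝔠).obj (F.obj (op n)) := rfl

lemma quotSys_map {n m : ℕᵒᵖ} (f : n ⟶ m) : (quotSys 𝔠 F).map f = (quotF 𝔠).map (F.map f) := rfl

/-- the map of systems `F ⟶ (F_n / 𝔠 F_n)_n` -/
noncomputable def quotSysη : F ⟶ quotSys 𝔠 F where
  app n := quotπ 𝔠 (F.obj n)
  naturality _ _ f := quotπ_naturality 𝔠 (F.map f)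

lemma quotSysη_app (n : ℕ) : (quotSysη 𝔠 F).app (op n) = quotπ 𝔠 (F.obj (op n)) := rfl

/-- `(F_n / 𝔠 F_n)_n` is coherent formal -/
theorem isCohFormal_quotSys [IsNoetherian X] (hF : IsCohFormal I F) :
    IsCohFormal I (quotSys 𝔠 F) := by
  haveI hqF : ∀ n, (F.obj (op n)).IsQuasicoherent := fun n => (hF.1 n).1
  haveI hqG : ∀ n, ((quotSys 𝔠 F).obj (op n)).IsQuasicoherent := fun n =>
    isQuasicoherent_quotF 𝔠 (F.obj (op n))
  refine ⟨fun n => isCoh_quotF 𝔠 (hF.1 n), fun n a ha => ?_, fun n => ?_⟩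
  · -- killed by `I^(n+1)`
    have h1 : quotπ 𝔠 (F.obj (op n)) ≫ smulMod A ((quotF 𝔠).obj (F.obj (op n))) a = 0 := by
      rw [← smulMod_naturality, hF.2.1 n a ha, zero_comp]
    exact (cancel_epi (quotπ 𝔠 (F.obj (op n)))).1 (h1.trans comp_zero.symm)
  · -- the transition maps
    show IsCok (I ^ (n + 1)) ((quotSys 𝔠 F).map (homOfLE (Nat.le_succ n)).op)
    refine Groth.Agent.Lib.helper8.AffEx.isCok_of_sections _ (fun U : X.affineOpens => U.1)
      (fun U => U.2) (fun x => ?_) ?_ ?_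
    · obtain ⟨_, ⟨U, hU, rfl⟩, hxU, -⟩ :=
        X.isBasis_affineOpens.exists_subset_of_mem_open (Set.mem_univ x) isOpen_univ
      exact ⟨⟨U, hU⟩, hxU⟩
    all_goals
      intro U
      have hT := isAdicTower_sections I F hF U.2
      have key := quot_tower ((I ^ (n + 1)).map (resA A U.1)) (𝔠.ideal ⟨U.1, U.2⟩)
        (appLin (F.map (homOfLE (Nat.le_succ n)).op) U.1)
        (appLin (quotπ 𝔠 (F.obj (op (n + 1)))) U.1)
        (appLin (quotπ 𝔠 (F.obj (op n))) U.1)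
        (appLin ((quotSys 𝔠 F).map (homOfLE (Nat.le_succ n)).op) U.1)
        (hT.surj n (n + 1) (Nat.le_succ n))
        (by rw [Ideal.map_pow]; exact hT.ker n (n + 1) (Nat.le_succ n))
        (quotη_surjective 𝔠 _ U.2) (ker_quotη 𝔠 _ U.2)
        (quotη_surjective 𝔠 _ U.2) (ker_quotη 𝔠 _ U.2)
        (fun x => by
          have e := congrArg (fun τ => appLin τ U.1 x)
            (quotπ_naturality 𝔠 (F.map (homOfLE (Nat.le_succ n)).op))
          exact e.symm)
    · exact key.1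
    · exact key.2

end System

end Groth.Agent.Lib.helper8.GEQuot
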