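import Mathlib
import Groth.Agent.Lib.Helper8.GEQuot

/-!
# Algebraizing a coherent formal module mapping to a completion with `K`-power-torsion kernel and
cokernel (helper8)

`X` Noetherian over `Spec A`, `K` an ideal sheaf, `F` coherent formal, `α : F ⟶ H^` with kernels and
cokernels killed by `K^(t+1)`.  Assuming full faithfulness and algebraizability for modules/systems
killed by powers of `K`, `F` is algebraizable (`exists_algebraization`).

Generic tools: biproduct systems `sysB`, cokernel systems `cokerSys`, `isCok_biprod_map`,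
`isCohFormal_sysB`, `isCohFormal_cokerSys`, `killedByIdeal_cokernel_lift`, `exists_rel`.
-/

set_option autoImplicit false
set_option backward.isDefEq.respectTransparency false
set_option linter.style.haveILetI false
set_option linter.unusedSectionVars false
universe u

namespace Groth.Agent.Lib.helper8.GEKGlue

open CategoryTheory CategoryTheory.Limits AlgebraicGeometry Opposite TopologicalSpace Formal
open Groth.Agent.Lib.helper8.FF Groth.Agent.Lib.helper8.Rees Groth.Agent.Lib.helper8.FTors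
open Groth.Agent.Lib.Lead.GE Groth.Agent.Lib.helper8.GETower Groth.Agent.Lib.helper8.GEGlue
open Groth.Agent.Lib.helper8.FCompl Groth.Agent.Lib.helper8.GEMid
open Groth.Agent.Lib.helper8.GETwoIdeal Groth.Agent.Lib.helper8.GEQuot
open Scheme.Modules

variable {X : Scheme.{u}}

section Systems

variable (𝓐 𝓑 : ℕᵒᵖ ⥤ X.Modules)

/-- the biproduct of two systems -/
noncomputable def sysB : ℕᵒᵖ ⥤ X.Modules where
  obj n := 𝓐.obj n ⊞ 𝓑.obj n
  map f := biprod.map (𝓐.map f) (𝓑.map f)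
  map_id n := by
    apply biprod.hom_ext <;> simp
  map_comp f g := by
    apply biprod.hom_ext <;> simp

lemma sysB_map {n m : ℕᵒᵖ} (f : n ⟶ m) :
    (sysB 𝓐 𝓑).map f = biprod.map (𝓐.map f) (𝓑.map f) := rfl

/-- first projection -/
noncomputable def fstB (k : ℕ) : (sysB 𝓐 𝓑).obj (op k) ⟶ 𝓐.obj (op k) := biprod.fst

/-- second projection -/
noncomputable def sndB (k : ℕ) : (sysB 𝓐 𝓑).obj (op k) ⟶ 𝓑.obj (op k) := biprod.snd

lemma secB_ext (k : ℕ) (U : X.Opens) {z z' : Γ((sysB 𝓐 𝓑).obj (op k), U)}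
    (h1 : appLin (fstB 𝓐 𝓑 k) U z = appLin (fstB 𝓐 𝓑 k) U z')
    (h2 : appLin (sndB 𝓐 𝓑 k) U z = appLin (sndB 𝓐 𝓑 k) U z') : z = z' :=
  sec_ext (P := 𝓐.obj (op k)) (Q := 𝓑.obj (op k)) U h1 h2

variable {𝓐 𝓑} {F : ℕᵒᵖ ⥤ X.Modules}

/-- the map of systems into a biproduct of systems -/
noncomputable def liftB (a : F ⟶ 𝓐) (b : F ⟶ 𝓑) : F ⟶ sysB 𝓐 𝓑 where
  app n := biprod.lift (a.app n) (b.app n)
  naturality n k g := by
    apply biprod.hom_ext
    · simp only [sysB, Category.assoc, biprod.map_fst, biprod.lift_fst]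
      rw [← Category.assoc, biprod.lift_fst]
      exact a.naturality g
    · simp only [sysB, Category.assoc, biprod.map_snd, biprod.lift_snd]
      rw [← Category.assoc, biprod.lift_snd]
      exact b.naturality g

lemma liftB_fst (a : F ⟶ 𝓐) (b : F ⟶ 𝓑) (k : ℕ) :
    (liftB a b).app (op k) ≫ fstB 𝓐 𝓑 k = a.app (op k) := biprod.lift_fst _ _

lemma liftB_snd (a : F ⟶ 𝓐) (b : F ⟶ 𝓑) (k : ℕ) :
    (liftB a b).app (op k) ≫ sndB 𝓐 𝓑 k = b.app (op k) := biprod.lift_snd _ _

variable {𝓔 : ℕᵒᵖ ⥤ X.Modules} (σ : F ⟶ 𝓔)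

/-- the system of cokernels of a map of systems -/
noncomputable def cokerSys : ℕᵒᵖ ⥤ X.Modules where
  obj n := cokernel (σ.app n)
  map {n m} f := cokernel.map (σ.app n) (σ.app m) (F.map f) (𝓔.map f) (σ.naturality f).symm
  map_id n := by
    apply coequalizer.hom_ext
    simp
  map_comp f g := by
    apply coequalizer.hom_ext
    simp

/-- the projection onto the system of cokernels -/
noncomputable def cokerSysπ : 𝓔 ⟶ cokerSys σ where
  app n := cokernel.π (σ.app n)
  naturality n m f := by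
    simp [cokerSys]

lemma cokerSysπ_app (k : ℕ) : (cokerSysπ σ).app (op k) = cokernel.π (σ.app (op k)) := rfl

lemma cokerSys_π_map {n m : ℕᵒᵖ} (f : n ⟶ m) :
    cokernel.π (σ.app n) ≫ (cokerSys σ).map f = 𝓔.map f ≫ cokernel.π (σ.app m) :=
  ((cokerSysπ σ).naturality f).symm

end Systems

section Killed

/-- the cokernel of `(a, b) : P ⟶ E₁ ⊞ E₂` is killed by `𝔠₁ 𝔠₂` if `coker a` is killed by `𝔠₁` and
`E₂` by `𝔠₂` -/
theorem killedByIdeal_cokernel_lift {P E₁ E₂ : X.Modules} [P.IsQuasicoherent]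
    [E₁.IsQuasicoherent] [E₂.IsQuasicoherent] (a : P ⟶ E₁) (b : P ⟶ E₂)
    {𝔠₁ 𝔠₂ : X.IdealSheafData} (h1 : ClSub.KilledByIdeal 𝔠₁ (cokernel a))
    (h2 : ClSub.KilledByIdeal 𝔠₂ E₂) :
    ClSub.KilledByIdeal (𝔠₁ * 𝔠₂) (cokernel (biprod.lift a b)) := by
  haveI : (E₁ ⊞ E₂).IsQuasicoherent :=
    Groth.Agent.Lib.helper16.QCohFibre.isQuasicoherent_biprod E₁ E₂
  haveI : (cokernel (biprod.lift a b)).IsQuasicoherent :=
    Groth.Agent.Lib.helper7.CohKer.isQuasicoherent_cokernel _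
  haveI : (cokernel a).IsQuasicoherent :=
    Groth.Agent.Lib.helper7.CohKer.isQuasicoherent_cokernel _
  intro U c hc m
  obtain ⟨z, rfl⟩ := appLin_surjective_of_epi (cokernel.π (biprod.lift a b)) U.2 m
  have hc' : c ∈ 𝔠₁.ideal U * 𝔠₂.ideal U := hc
  have key : ∀ c ∈ 𝔠₁.ideal U * 𝔠₂.ideal U,
      c • z ∈ LinearMap.range (appLin (biprod.lift a b) U.1) := by
    intro c hc
    refine Submodule.mul_induction_on hc (fun a₁ ha₁ a₂ ha₂ => ?_) (fun c c' hc hc' => ?_)
    · have h3 : appLin (cokernel.π a) U.1 (a₁ • appLin biprod.fst U.1 z) = 0 := by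
        rw [(appLin (cokernel.π a) U.1).map_smul]
        exact h1 U a₁ ha₁ _
      obtain ⟨x, hx⟩ := exists_of_cokernel_π_eq_zero a U.2 _ h3
      refine ⟨a₂ • x, ?_⟩
      apply sec_ext
      · rw [← appLin_comp_apply, biprod.lift_fst, (appLin a U.1).map_smul, hx,
          (appLin biprod.fst U.1).map_smul, mul_smul, smul_comm]
      · rw [← appLin_comp_apply, biprod.lift_snd, (appLin b U.1).map_smul, h2 U a₂ ha₂,
          (appLin biprod.snd U.1).map_smul, mul_smul, h2 U a₂ ha₂, smul_zero]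
    · rw [add_smul]
      exact Submodule.add_mem _ hc hc'
  obtain ⟨x, hx⟩ := key c hc'
  rw [← (appLin (cokernel.π (biprod.lift a b)) U.1).map_smul, ← hx, ← appLin_comp_apply,
    cokernel.condition]
  rfl

end Killed

variable {A : Type u} [CommRing A] [X.Over (Spec (CommRingCat.of A))] (I : Ideal A)

section IsCok

/-- the biproduct of two quotient maps by `𝔞` is a quotient map by `𝔞` -/
theorem isCok_biprod_map [IsNoetherian X] {𝔞 : Ideal A} {P₁ R₁ P₂ R₂ : X.Modules}
    [P₁.IsQuasicoherent] [P₂.IsQuasicoherent] {g₁ : P₁ ⟶ R₁} {g₂ : P₂ ⟶ R₂}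
    (h₁ : IsCok 𝔞 g₁) (h₂ : IsCok 𝔞 g₂) : IsCok 𝔞 (biprod.map g₁ g₂) := by
  haveI : R₁.IsQuasicoherent := isQuasicoherent_of_isCok h₁
  haveI : R₂.IsQuasicoherent := isQuasicoherent_of_isCok h₂
  haveI : (P₁ ⊞ P₂).IsQuasicoherent :=
    Groth.Agent.Lib.helper16.QCohFibre.isQuasicoherent_biprod _ _
  haveI : (R₁ ⊞ R₂).IsQuasicoherent :=
    Groth.Agent.Lib.helper16.QCohFibre.isQuasicoherent_biprod _ _
  haveI := h₁.epi
  haveI := h₂.epi
  refine Groth.Agent.Lib.helper8.AffEx.isCok_of_sections _ (fun U : X.affineOpens => U.1)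
    (fun U => U.2) (fun x => ?_) (fun U => ?_) (fun U => ?_)
  · obtain ⟨_, ⟨U, hU, rfl⟩, hxU, -⟩ :=
      X.isBasis_affineOpens.exists_subset_of_mem_open (Set.mem_univ x) isOpen_univ
    exact ⟨⟨U, hU⟩, hxU⟩
  · intro w
    obtain ⟨g, hg⟩ := appLin_surjective_of_epi g₁ U.2 (appLin biprod.fst U.1 w)
    obtain ⟨f, hf⟩ := appLin_surjective_of_epi g₂ U.2 (appLin biprod.snd U.1 w)
    refine ⟨appLin biprod.inl U.1 g + appLin biprod.inr U.1 f, ?_⟩
    apply sec_ext
    · rw [← appLin_comp_apply, biprod.map_fst, appLin_comp_apply, map_add, sec_fst_inl,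
        sec_fst_inr, add_zero, hg]
    · rw [← appLin_comp_apply, biprod.map_snd, appLin_comp_apply, map_add, sec_snd_inl,
        sec_snd_inr, zero_add, hf]
  · ext y
    rw [mem_smul_top_biprod_iff, LinearMap.mem_ker]
    have h1 : appLin (biprod.map g₁ g₂) U.1 y = 0 ↔
        appLin g₁ U.1 (appLin biprod.fst U.1 y) = 0 ∧
        appLin g₂ U.1 (appLin biprod.snd U.1 y) = 0 := by
      constructor
      · intro h
        constructor
        · rw [← appLin_comp_apply, ← biprod.map_fst g₁ g₂, appLin_comp_apply, h, map_zero]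
        · rw [← appLin_comp_apply, ← biprod.map_snd g₁ g₂, appLin_comp_apply, h, map_zero]
      · rintro ⟨h1, h2⟩
        apply sec_ext
        · rw [← appLin_comp_apply, biprod.map_fst, appLin_comp_apply, h1, map_zero]
        · rw [← appLin_comp_apply, biprod.map_snd, appLin_comp_apply, h2, map_zero]
    rw [h1, ← LinearMap.mem_ker, ← LinearMap.mem_ker, ker_appLin_of_isCok' h₁ U.2,
      ker_appLin_of_isCok' h₂ U.2]

/-- postcomposing a quotient map with an isomorphism -/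
lemma IsCok.postcomp_iso {𝔞 : Ideal A} {P R R' : X.Modules} {g : P ⟶ R} (hg : IsCok 𝔞 g)
    (e : R ≅ R') : IsCok 𝔞 (g ≫ e.hom) := by
  have h0 : smulFamily 𝔞 P ≫ g ≫ e.hom = 0 := by
    rw [← Category.assoc, hg.1, zero_comp]
  refine isCok_of_isColimit h0 ?_
  exact IsColimit.ofIsoColimit hg.isColimit
    (Cofork.ext e (by simp [Cofork.π]))

end IsCok

section Formal

variable {𝓐 𝓑 F 𝓔 : ℕᵒᵖ ⥤ X.Modules}

omit [X.Over (Spec (CommRingCat.of A))] in
lemma smulMod_biprod_eq_zero [X.Over (Spec (CommRingCat.of A))] {P Q' : X.Modules} {a : A}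
    (h1 : smulMod A P a = 0) (h2 : smulMod A Q' a = 0) : smulMod A (P ⊞ Q') a = 0 := by
  apply biprod.hom_ext
  · rw [smulMod_naturality, h1, comp_zero, zero_comp]
  · rw [smulMod_naturality, h2, comp_zero, zero_comp]

/-- the biproduct of two coherent formal modules is coherent formal -/
theorem isCohFormal_sysB [IsNoetherian X] (h𝓐 : IsCohFormal I 𝓐) (h𝓑 : IsCohFormal I 𝓑) :
    IsCohFormal I (sysB 𝓐 𝓑) := by
  haveI : ∀ n, (𝓐.obj (op n)).IsQuasicoherent := fun n => (h𝓐.1 n).1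
  haveI : ∀ n, (𝓑.obj (op n)).IsQuasicoherent := fun n => (h𝓑.1 n).1
  refine ⟨fun n => isCoh_biprod (h𝓐.1 n) (h𝓑.1 n), fun n a ha => ?_, fun n => ?_⟩
  · exact smulMod_biprod_eq_zero (h𝓐.2.1 n a ha) (h𝓑.2.1 n a ha)
  · exact isCok_biprod_map (h𝓐.2.2 n) (h𝓑.2.2 n)

/-- the system of cokernels of a map of coherent formal modules is coherent formal -/
theorem isCohFormal_cokerSys [IsNoetherian X] (hF : IsCohFormal I F) (h𝓔 : IsCohFormal I 𝓔)
    (σ : F ⟶ 𝓔) : IsCohFormal I (cokerSys σ) := by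
  haveI hqF : ∀ n, (F.obj (op n)).IsQuasicoherent := fun n => (hF.1 n).1
  haveI hq𝓔 : ∀ n, (𝓔.obj (op n)).IsQuasicoherent := fun n => (h𝓔.1 n).1
  haveI hqC : ∀ n, (cokernel (σ.app (op n))).IsQuasicoherent := fun n =>
    Groth.Agent.Lib.helper7.CohKer.isQuasicoherent_cokernel _
  haveI hqC' : ∀ n, ((cokerSys σ).obj (op n)).IsQuasicoherent := hqC
  refine ⟨fun n => Groth.Agent.Lib.helper7.CohKer.isCoh_cokernel (hF.1 n) (h𝓔.1 n) _,
    fun n a ha => ?_, fun n => ?_⟩
  · have h1 : cokernel.π (σ.app (op n)) ≫ smulMod A (cokernel (σ.app (op n))) a = 0 := by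
      rw [← smulMod_naturality, h𝓔.2.1 n a ha, zero_comp]
    exact (cancel_epi (cokernel.π (σ.app (op n)))).1 (h1.trans comp_zero.symm)
  · show IsCok (I ^ (n + 1)) ((cokerSys σ).map (homOfLE (Nat.le_succ n)).op)
    refine Groth.Agent.Lib.helper8.AffEx.isCok_of_sections _ (fun U : X.affineOpens => U.1)
      (fun U => U.2) (fun x => ?_) ?_ ?_
    · obtain ⟨_, ⟨U, hU, rfl⟩, hxU, -⟩ :=
        X.isBasis_affineOpens.exists_subset_of_mem_open (Set.mem_univ x) isOpen_univ
      exact ⟨⟨U, hU⟩, hxU⟩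
    all_goals
      intro U
      have hT := isAdicTower_sections I F hF U.2
      have hT' := isAdicTower_sections I 𝓔 h𝓔 U.2
      have key := coker_tower ((I ^ (n + 1)).map (resA A U.1))
        (appLin (F.map (homOfLE (Nat.le_succ n)).op) U.1)
        (appLin (𝓔.map (homOfLE (Nat.le_succ n)).op) U.1)
        (appLin (σ.app (op (n + 1))) U.1) (appLin (σ.app (op n)) U.1)
        (appLin (cokernel.π (σ.app (op (n + 1)))) U.1)
        (appLin (cokernel.π (σ.app (op n))) U.1)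
        (appLin ((cokerSys σ).map (homOfLE (Nat.le_succ n)).op) U.1)
        (hT.surj n (n + 1) (Nat.le_succ n)) (hT'.surj n (n + 1) (Nat.le_succ n))
        (by rw [Ideal.map_pow]; exact hT'.ker n (n + 1) (Nat.le_succ n))
        (fun x => by
          have e := congrArg (fun τ => appLin τ U.1 x)
            (σ.naturality (homOfLE (Nat.le_succ n)).op)
          exact e.symm)
        (appLin_surjective_of_epi _ U.2)
        (fun x => by
          have e := congrArg (fun τ => appLin τ U.1 x) (cokernel.condition (σ.app (op (n + 1))))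
          exact e)
        (appLin_surjective_of_epi _ U.2)
        (fun z hz => exists_of_cokernel_π_eq_zero (σ.app (op n)) U.2 z hz)
        (fun z => by
          have e := congrArg (fun τ => appLin τ U.1 z)
            (cokerSys_π_map σ (homOfLE (Nat.le_succ n)).op)
          exact e)
    · exact key.1
    · exact key.2

end Formal

section Rel

/-- **the relations map**: if the system of cokernels `C` of `σ` is algebraized by `C'` (killed by
`𝔠`), then `E' ⟶ C` comes from a map `r : E' ⟶ C'`, by full faithfulness for modules killed by `𝔠` -/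
theorem exists_rel [IsNoetherian X] {E' : X.Modules} (hE' : Coh.IsCoh E')
    {𝓔 C : ℕᵒᵖ ⥤ X.Modules} (π : ∀ k, E' ⟶ 𝓔.obj (op k))
    (hπc : ∀ (n m : ℕ) (h : n ≤ m), π m ≫ 𝓔.map (homOfLE h).op = π n)
    (c : 𝓔 ⟶ C) (𝔠 : X.IdealSheafData) {C' : X.Modules} (hC' : Coh.IsCoh C')
    (hkC' : ClSub.KilledByIdeal 𝔠 C') (θ : Formal.completion I C' ≅ C)
    (FF : ∀ (M N : X.Modules), Coh.IsCoh M → Coh.IsCoh N → ClSub.KilledByIdeal 𝔠 M →
      ClSub.KilledByIdeal 𝔠 N → ∀ ψ : Formal.completion I M ⟶ Formal.completion I N,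
        ∃! φ : M ⟶ N, ∀ n : ℕ, Formal.modPowπ I (n + 1) M ≫ ψ.app (op n) =
          φ ≫ Formal.modPowπ I (n + 1) N) :
    ∃ r : E' ⟶ C', ∀ n, r ≫ qπ (I ^ (n + 1)) C' ≫ θ.hom.app (op n) = π n ≫ c.app (op n) := by
  haveI : E'.IsQuasicoherent := hE'.1
  haveI : C'.IsQuasicoherent := hC'.1
  haveI hqQ : ∀ n, (Q (I ^ (n + 1)) C').IsQuasicoherent := fun n => isQuasicoherent_Q _ C'
  haveI : ∀ n, Epi (qπ (I ^ (n + 1)) C') := fun n => (isCok_qπ _ C').epi
  have hkQ : ∀ n, ClSub.KilledByIdeal 𝔠 (Q (I ^ (n + 1)) C') := fun n =>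
    killedByIdeal_of_epi 𝔠 (qπ (I ^ (n + 1)) C') hkC'
  -- the maps `E' ⟶ C' / I^(n+1) C'`
  let v : ∀ n, E' ⟶ Q (I ^ (n + 1)) C' := fun n => π n ≫ c.app (op n) ≫ θ.inv.app (op n)
  have hv : ∀ (n m : ℕ) (h : n ≤ m),
      v m ≫ (Formal.completion I C').map (homOfLE h).op = v n := by
    intro n m h
    have e1 : θ.inv.app (op m) ≫ (Formal.completion I C').map (homOfLE h).op =
        C.map (homOfLE h).op ≫ θ.inv.app (op n) := (θ.inv.naturality (homOfLE h).op).symm
    have e2 : c.app (op m) ≫ C.map (homOfLE h).op = 𝓔.map (homOfLE h).op ≫ c.app (op n) :=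
      (c.naturality (homOfLE h).op).symm
    calc v m ≫ (Formal.completion I C').map (homOfLE h).op
        = π m ≫ c.app (op m) ≫ (θ.inv.app (op m) ≫
            (Formal.completion I C').map (homOfLE h).op) := by
          simp only [v, Category.assoc]
      _ = π m ≫ (c.app (op m) ≫ C.map (homOfLE h).op) ≫ θ.inv.app (op n) := by
          rw [e1]; simp only [Category.assoc]
      _ = (π m ≫ 𝓔.map (homOfLE h).op) ≫ c.app (op n) ≫ θ.inv.app (op n) := by
          rw [e2]; simp only [Category.assoc]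
      _ = v n := by rw [hπc]
  choose v' hv' using fun n => exists_factor 𝔠 (hkQ n) (v n)
  choose ψ₀ hψ₀ using fun n =>
    IsCok.desc (isCok_qπ (I ^ (n + 1)) ((quotF 𝔠).obj E')) (v' n) (killedBy_Q _ C')
  haveI : ((quotF 𝔠).obj E').IsQuasicoherent := isQuasicoherent_quotF 𝔠 E'
  haveI : ∀ n, Epi (qπ (I ^ (n + 1)) ((quotF 𝔠).obj E')) := fun n => (isCok_qπ _ _).epi
  let ψ : Formal.completion I ((quotF 𝔠).obj E') ⟶ Formal.completion I C' :=
    { app := fun n => ψ₀ n.unop
      naturality := by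
        intro m n g
        induction m using Opposite.rec with | _ m => ?_
        induction n using Opposite.rec with | _ n => ?_
        have hle : n ≤ m := leOfHom g.unop
        have eg : g = (homOfLE hle).op := Quiver.Hom.unop_inj (Subsingleton.elim _ _)
        subst eg
        show (Formal.completion I ((quotF 𝔠).obj E')).map (homOfLE hle).op ≫ ψ₀ n =
          ψ₀ m ≫ (Formal.completion I C').map (homOfLE hle).op
        apply (cancel_epi (qπ (I ^ (m + 1)) ((quotF 𝔠).obj E'))).1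
        apply (cancel_epi (quotπ 𝔠 E')).1
        calc quotπ 𝔠 E' ≫ qπ (I ^ (m + 1)) ((quotF 𝔠).obj E') ≫
              (Formal.completion I ((quotF 𝔠).obj E')).map (homOfLE hle).op ≫ ψ₀ n
            = quotπ 𝔠 E' ≫ (qπ (I ^ (m + 1)) ((quotF 𝔠).obj E') ≫
              (Formal.completion I ((quotF 𝔠).obj E')).map (homOfLE hle).op) ≫ ψ₀ n := by
              simp only [Category.assoc]
          _ = quotπ 𝔠 E' ≫ qπ (I ^ (n + 1)) ((quotF 𝔠).obj E') ≫ ψ₀ n := by
              rw [qπ_completion_map I _ hle]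
          _ = v n := by rw [hψ₀ n, hv' n]
          _ = v m ≫ (Formal.completion I C').map (homOfLE hle).op := (hv n m hle).symm
          _ = quotπ 𝔠 E' ≫ qπ (I ^ (m + 1)) ((quotF 𝔠).obj E') ≫ ψ₀ m ≫
              (Formal.completion I C').map (homOfLE hle).op := by
              rw [← hv' m, ← hψ₀ m]; simp only [Category.assoc] }
  obtain ⟨φ, hφ, -⟩ := FF ((quotF 𝔠).obj E') C' (isCoh_quotF 𝔠 hE') hC'
    (killedByIdeal_quotF 𝔠 E') hkC' ψ
  refine ⟨quotπ 𝔠 E' ≫ φ, fun n => ?_⟩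
  have h1 : qπ (I ^ (n + 1)) ((quotF 𝔠).obj E') ≫ ψ₀ n = φ ≫ qπ (I ^ (n + 1)) C' := hφ n
  calc (quotπ 𝔠 E' ≫ φ) ≫ qπ (I ^ (n + 1)) C' ≫ θ.hom.app (op n)
      = quotπ 𝔠 E' ≫ (φ ≫ qπ (I ^ (n + 1)) C') ≫ θ.hom.app (op n) := by
        simp only [Category.assoc]
    _ = (quotπ 𝔠 E' ≫ qπ (I ^ (n + 1)) ((quotF 𝔠).obj E') ≫ ψ₀ n) ≫ θ.hom.app (op n) := by
        rw [← h1]; simp only [Category.assoc]
    _ = v n ≫ θ.hom.app (op n) := by rw [hψ₀ n, hv' n]
    _ = π n ≫ c.app (op n) ≫ (θ.inv.app (op n) ≫ θ.hom.app (op n)) := by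
        simp only [v, Category.assoc]
    _ = π n ≫ c.app (op n) := by
        rw [← NatTrans.comp_app, θ.inv_hom_id, NatTrans.id_app, Category.comp_id]

end Rel

section Main

/-- the completion of a coherent module is a coherent formal module (no hypothesis on `A`) -/
theorem isCohFormal_completion' (M : X.Modules) (hM : Coh.IsCoh M) :
    IsCohFormal I (Formal.completion I M) := by
  refine ⟨fun n => isCoh_Q' _ M hM, fun n => killedBy_Q _ M, fun n => ?_⟩
  have e : (Formal.completion I M).map (homOfLE (Nat.le_succ n)).op =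
      qTrans (Ideal.pow_le_pow_right (Nat.succ_le_succ (Nat.le_succ n))) M := completion_map I M _
  have h := isCok_qTrans (Ideal.pow_le_pow_right (Nat.succ_le_succ (Nat.le_succ n)) :
    I ^ (n + 1 + 1) ≤ I ^ (n + 1)) M
  rw [← e] at h
  exact h

variable (K : X.IdealSheafData) (F : ℕᵒᵖ ⥤ X.Modules) {H : X.Modules}
  (α : F ⟶ Formal.completion I H) (e : ℕ) {Me : X.Modules}
  (θ : Formal.completion I Me ≅ quotSys (K ^ e) F)

/-- the system `(H / I^(n+1) H ⊞ F_n / K^e F_n)_n` -/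
noncomputable abbrev sysK : ℕᵒᵖ ⥤ X.Modules := sysB (Formal.completion I H) (quotSys (K ^ e) F)

/-- the map of systems `σ = (α, quotient)` -/
noncomputable abbrev sigK : F ⟶ sysK I K F (H := H) e := liftB α (quotSysη (K ^ e) F)

/-- the projections `M_e ⟶ F_k / K^e F_k` -/
noncomputable def pMe (k : ℕ) : Me ⟶ (quotSys (K ^ e) F).obj (op k) :=
  qπ (I ^ (k + 1)) Me ≫ θ.hom.app (op k)

/-- the projections `H ⊞ M_e ⟶ E_k` -/
noncomputable def piK (k : ℕ) : H ⊞ Me ⟶ (sysK I K F (H := H) e).obj (op k) :=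
  biprod.map (qπ (I ^ (k + 1)) H) (pMe I K F e θ k)

lemma pMe_compat (n m : ℕ) (h : n ≤ m) :
    pMe I K F e θ m ≫ (quotSys (K ^ e) F).map (homOfLE h).op = pMe I K F e θ n := by
  unfold pMe
  rw [Category.assoc, ← θ.hom.naturality, ← Category.assoc, qπ_completion_map I Me h]

lemma piK_compat (n m : ℕ) (h : n ≤ m) :
    piK I K F (H := H) e θ m ≫ (sysK I K F (H := H) e).map (homOfLE h).op =
      piK I K F e θ n := by
  unfold piK
  rw [sysB_map]
  apply biprod.hom_ext
  · simp only [Category.assoc, biprod.map_fst]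
    rw [← Category.assoc, biprod.map_fst, Category.assoc, qπ_completion_map I H h]
  · simp only [Category.assoc, biprod.map_snd]
    rw [← Category.assoc, biprod.map_snd, Category.assoc, pMe_compat]

lemma isCok_piK [IsNoetherian X] [H.IsQuasicoherent] [Me.IsQuasicoherent] (k : ℕ) :
    IsCok (I ^ (k + 1)) (piK I K F (H := H) e θ k) :=
  isCok_biprod_map (isCok_qπ _ H) (IsCok.postcomp_iso (isCok_qπ _ Me) (θ.app (op k)))

/-- **(H1)** for `σ = (α, quotient)`: from the two-ideal Artin–Rees lemma -/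
theorem H1_sigK [IsNoetherian X] (hF : IsCohFormal I F) {t : ℕ}
    (hK : ∀ n, ClSub.KilledByIdeal (K ^ (t + 1)) (kernel (α.app (op n)))) {U : X.Opens}
    (hU : IsAffineOpen U) :
    ∃ e₀ s₀ : ℕ, ∀ e : ℕ, e₀ ≤ e → ∀ (n : ℕ) (x : Γ(F.obj (op (n + s₀)), U)),
      appLin ((sigK I K F α e).app (op (n + s₀))) U x = 0 →
      appLin (F.map (homOfLE (Nat.le_add_right n s₀)).op) U x = 0 := by
  haveI hqF : ∀ n, (F.obj (op n)).IsQuasicoherent := fun n => (hF.1 n).1
  haveI : IsNoetherianRing Γ(X, U) := IsLocallyNoetherian.component_noetherian ⟨U, hU⟩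
  haveI : Module.Finite Γ(X, U) Γ(F.obj (op 0), U) :=
    Groth.Agent.Lib.helper16.CohFinite.finite_sections_of_isCoh _ (hF.1 0) hU
  have hT := isAdicTower_sections I F hF hU
  obtain ⟨e₀, s₀, h⟩ := exists_tr_eq_zero_two' hT (K.ideal ⟨U, hU⟩) (t + 1)
  refine ⟨e₀, s₀, fun e he n x hx => ?_⟩
  refine h e s₀ he le_rfl n x ?_ ?_
  · intro b hb
    have h1 : appLin (α.app (op (n + s₀))) U x = 0 := by
      rw [← liftB_fst α (quotSysη (K ^ e) F) (n + s₀), appLin_comp_apply, hx, map_zero]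
    have h2 : x ∈ LinearMap.range (appLin (kernel.ι (α.app (op (n + s₀)))) U) := by
      rw [range_appLin_kernel_ι]; exact h1
    obtain ⟨z, rfl⟩ := h2
    rw [← (appLin (kernel.ι (α.app (op (n + s₀)))) U).map_smul,
      hK (n + s₀) ⟨U, hU⟩ b hb z, map_zero]
  · have h1 : appLin (quotπ (K ^ e) (F.obj (op (n + s₀)))) U x = 0 := by
      have e1 := liftB_snd α (quotSysη (K ^ e) F) (n + s₀)
      have e2 := congrArg (fun τ => appLin τ U x) e1
      simp only [appLin_comp_apply] at e2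
      rw [hx, map_zero] at e2
      exact e2.symm
    have h2 : x ∈ LinearMap.ker (appLin (quotπ (K ^ e) (F.obj (op (n + s₀)))) U) := h1
    rw [ker_quotη (K ^ e) _ hU] at h2
    exact h2

/-- **algebraization from a map to a completion with `K`-power-torsion kernel and cokernel** -/
theorem exists_algebraization [IsNoetherian X] (hF : IsCohFormal I F)
    (h₁ : ∀ e : ℕ,
      (∀ (M N : X.Modules), Coh.IsCoh M → Coh.IsCoh N → ClSub.KilledByIdeal (K ^ e) M →
        ClSub.KilledByIdeal (K ^ e) N → ∀ ψ : Formal.completion I M ⟶ Formal.completion I N,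
          ∃! φ : M ⟶ N, ∀ n : ℕ, Formal.modPowπ I (n + 1) M ≫ ψ.app (op n) =
            φ ≫ Formal.modPowπ I (n + 1) N) ∧
      (∀ G : ℕᵒᵖ ⥤ X.Modules, Formal.IsCohFormal I G →
        (∀ n : ℕ, ClSub.KilledByIdeal (K ^ e) (G.obj (op n))) →
        ∃ M : X.Modules, Coh.IsCoh M ∧ ClSub.KilledByIdeal (K ^ e) M ∧
          Nonempty (Formal.completion I M ≅ G)))
    (hH : Coh.IsCoh H) (hα : Formal2.KerCokerKilledByPow K α) :
    ∃ M : X.Modules, Coh.IsCoh M ∧ Nonempty (Formal.completion I M ≅ F) := by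
  obtain ⟨t, ht⟩ := hα
  haveI : H.IsQuasicoherent := hH.1
  haveI hqF : ∀ n, (F.obj (op n)).IsQuasicoherent := fun n => (hF.1 n).1
  haveI hqH : ∀ n, ((Formal.completion I H).obj (op n)).IsQuasicoherent := fun n =>
    isQuasicoherent_Q _ H
  obtain ⟨d, W, hW, hcov⟩ := exists_finite_affine_cover X
  choose e₀ s₀ hes using fun i => H1_sigK I K F α hF (fun n => (ht n).1) (hW i)
  let e := Finset.univ.sup e₀
  have hei : ∀ i, e₀ i ≤ e := fun i => Finset.le_sup (Finset.mem_univ i)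
  -- the quotient system and its algebraization
  have hG : IsCohFormal I (quotSys (K ^ e) F) := isCohFormal_quotSys (K ^ e) I F hF
  haveI hqG : ∀ n, ((quotSys (K ^ e) F).obj (op n)).IsQuasicoherent := fun n => (hG.1 n).1
  obtain ⟨Me, hMe, hkMe, ⟨θ⟩⟩ := (h₁ e).2 (quotSys (K ^ e) F) hG
    (fun n => killedByIdeal_quotF (K ^ e) (F.obj (op n)))
  haveI : Me.IsQuasicoherent := hMe.1
  have hE' : Coh.IsCoh (H ⊞ Me) := isCoh_biprod hH hMe
  have h𝓔 : IsCohFormal I (sysK I K F (H := H) e) :=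
    isCohFormal_sysB I (isCohFormal_completion' I H hH) hG
  haveI hq𝓔 : ∀ k, ((sysK I K F (H := H) e).obj (op k)).IsQuasicoherent := fun k => (h𝓔.1 k).1
  -- the cokernel system
  have hC : IsCohFormal I (cokerSys (sigK I K F α e)) :=
    isCohFormal_cokerSys I hF h𝓔 (sigK I K F α e)
  have hkC : ∀ n, ClSub.KilledByIdeal (K ^ ((t + 1) + e))
      ((cokerSys (sigK I K F α e)).obj (op n)) := by
    intro n
    have h := killedByIdeal_cokernel_lift (α.app (op n)) (quotπ (K ^ e) (F.obj (op n)))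
      (ht n).2 (killedByIdeal_quotF (K ^ e) (F.obj (op n)))
    rw [← pow_add] at h
    exact h
  obtain ⟨C', hC', hkC', ⟨θC⟩⟩ := (h₁ ((t + 1) + e)).2 _ hC hkC
  haveI : C'.IsQuasicoherent := hC'.1
  obtain ⟨r, hr⟩ := exists_rel I hE' (piK I K F e θ) (piK_compat I K F e θ)
    (cokerSysπ (sigK I K F α e)) (K ^ ((t + 1) + e)) hC' hkC' θC (h₁ ((t + 1) + e)).1
  -- the gluing lemma
  obtain ⟨m₀, hm₀⟩ := exists_glue I F (H ⊞ Me) (sysK I K F (H := H) e) (piK I K F e θ)
    (sigK I K F α e) r hF hE' (fun k => isCok_piK I K F e θ k) (piK_compat I K F e θ) hC'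
    W hW hcov 0
    (fun i n x y hxy => by
      rw [← Ideal.map_pow, ← ker_appLin_qπ (I ^ (n + 1)) C' (hW i), LinearMap.mem_ker]
      have h3 : appLin (r ≫ qπ (I ^ (n + 1)) C' ≫ θC.hom.app (op n)) (W i) y = 0 := by
        rw [hr n, appLin_comp_apply, hxy, ← appLin_comp_apply, cokerSysπ_app,
          cokernel.condition]
        rfl
      apply appLin_injective_of_mono (θC.hom.app (op n)) (W i)
      rw [map_zero]
      exact h3)
    (fun i k z hz => by
      rw [pow_zero, Ideal.one_eq_top, Submodule.top_smul] at hz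
      have hz' : appLin r (W i) z = 0 := hz
      apply exists_of_cokernel_π_eq_zero _ (hW i)
      have h3 : appLin (piK I K F e θ k ≫ (cokerSysπ (sigK I K F α e)).app (op k)) (W i) z =
          0 := by
        rw [← hr k, appLin_comp_apply, hz', map_zero]
      exact h3)
    (fun i => ⟨s₀ i, fun n x hx => hes i e (hei i) n x hx⟩)
  obtain ⟨s, p, h1, h2, -, -⟩ := hm₀ m₀ le_rfl
  obtain ⟨β, -⟩ := completion_iso_of_isCok' I F _ p h1 h2
  refine ⟨_, ?_, ⟨β⟩⟩
  exact Groth.Agent.Lib.helper7.CohKer.isCoh_kernel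
    (Groth.Agent.Lib.helper7.CohKer.isCoh_kernel hE' hC' _)
    (Groth.Agent.Lib.helper7.CohKer.isCoh_cokernel (hF.1 m₀) (h𝓔.1 m₀) _) _

end Main

end Groth.Agent.Lib.helper8.GEKGlue
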