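import Mathlib
import Groth.Agent.Lib.Helper8.FormalCompletion

/-!
# Change of the base ring for coherent formal modules (helper8)

`X` a scheme over `Spec A'` and, through a ring map `ψ : A → A'`, over `Spec A`.
* `toGlobal_comp_specMap`, `smulMod_map`: the action of `a : A` is the action of `ψ a`.
* `killedBy_map`: killed by `J` (over `A`) implies killed by `J.map ψ` (over `A'`).
* `isCok_map`: `R = P / J P` (over `A`) implies `R = P / (J.map ψ) P` (over `A'`).
* `isCohFormal_map`: a coherent formal module for `I` is one for `I.map ψ`.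
-/

set_option autoImplicit false
universe u

namespace Groth.Agent.Lib.helper8.RingChange

open CategoryTheory CategoryTheory.Limits AlgebraicGeometry Opposite TopologicalSpace Formal
open Groth.Agent.Lib.helper8.FF Groth.Agent.Lib.helper8.FTors

variable {A A' : Type u} [CommRing A] [CommRing A'] (ψ : A →+* A') {X : Scheme.{u}}
  (iA : X.Over (Spec (CommRingCat.of A))) (iA' : X.Over (Spec (CommRingCat.of A')))
  (h : iA.hom = iA'.hom ≫ Spec.map (CommRingCat.ofHom ψ))

lemma toGlobal_comp_specMap (p' : X ⟶ Spec (CommRingCat.of A')) (a : A) :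
    Coh.toGlobal (p' ≫ Spec.map (CommRingCat.ofHom ψ)) a = Coh.toGlobal p' (ψ a) := by
  unfold Coh.toGlobal
  have h1 := Scheme.ΓSpecIso_inv_naturality (CommRingCat.ofHom ψ)
  have h2 : (p' ≫ Spec.map (CommRingCat.ofHom ψ)).appTop =
      (Spec.map (CommRingCat.ofHom ψ)).appTop ≫ p'.appTop := Scheme.Hom.comp_appTop _ _
  rw [h2]
  have h3 := congrArg (fun φ => (φ ≫ p'.appTop).hom a) h1
  exact h3.symm

include h in
lemma smulMod_map (M : X.Modules) (a : A) :
    @smulMod A _ X iA M a = @smulMod A' _ X iA' M (ψ a) := by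
  have h1 : @smulMod A _ X iA M a = smulModΓ M (Coh.toGlobal iA.hom a) := rfl
  have h2 : @smulMod A' _ X iA' M (ψ a) = smulModΓ M (Coh.toGlobal iA'.hom (ψ a)) := rfl
  rw [h1, h2, ← toGlobal_comp_specMap ψ iA'.hom a]
  exact congrArg (fun p => smulModΓ M (Coh.toGlobal p a)) h

include h in
lemma killedBy_map {J : Ideal A} {M : X.Modules} (hM : @KilledBy A _ X iA J M) :
    @KilledBy A' _ X iA' (J.map ψ) M := by
  intro a' ha'
  refine Submodule.span_induction (p := fun x _ => @smulMod A' _ X iA' M x = 0) ?_ ?_ ?_ ?_ ha'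
  · rintro _ ⟨a, ha, rfl⟩
    rw [← smulMod_map ψ iA iA' h]
    exact hM a ha
  · exact @smulMod_zero A' _ X iA' M
  · intro x y _ _ hx hy
    rw [@smulMod_add A' _ X iA' M, hx, hy, add_zero]
  · intro b x _ hx
    rw [smul_eq_mul, @smulMod_mul A' _ X iA' M, hx, zero_comp]

include h in
lemma isCok_map {J : Ideal A} {P R : X.Modules} {g : P ⟶ R} (hg : @IsCok A _ X iA J P R g) :
    @IsCok A' _ X iA' (J.map ψ) P R g := by
  have hR : @KilledBy A _ X iA J R := by
    intro a ha
    haveI := @IsCok.epi A _ X iA J P R g hg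
    rw [← cancel_epi g, ← @smulMod_naturality A _ X iA, comp_zero]
    rw [← @ι_smulFamily A _ X iA J P ⟨a, ha⟩, Category.assoc, hg.1, comp_zero]
  have hR' := killedBy_map ψ iA iA' h hR
  have h0 : @smulFamily A' _ X iA' (J.map ψ) P ≫ g = 0 :=
    @smulFamily_comp_eq_zero A' _ X iA' _ _ _ g (fun a' ha' => by
      rw [@smulMod_naturality A' _ X iA', hR' a' ha', comp_zero])
  refine @isCok_of_isColimit A' _ X iA' _ _ _ g h0 ?_
  have hc := @IsCok.isColimit A _ X iA J P R g hg
  have hepi : Epi g := @IsCok.epi A _ X iA J P R g hg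
  have key : ∀ {Z : X.Modules} (k : P ⟶ Z), @smulFamily A' _ X iA' (J.map ψ) P ≫ k = 0 →
      @smulFamily A _ X iA J P ≫ k = 0 := by
    intro Z k hk
    refine @smulFamily_comp_eq_zero A _ X iA _ _ _ k (fun a ha => ?_)
    rw [smulMod_map ψ iA iA' h,
      ← @ι_smulFamily A' _ X iA' (J.map ψ) P ⟨ψ a, Ideal.mem_map_of_mem ψ ha⟩,
      Category.assoc, hk, comp_zero]
  exact CokernelCofork.IsColimit.ofπ _ _
    (fun {Z} k hk => (CokernelCofork.IsColimit.desc' hc k (key k hk)).1)
    (fun {Z} k hk => (CokernelCofork.IsColimit.desc' hc k (key k hk)).2)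
    (fun {Z} k hk m hm => by
      rw [← cancel_epi g, hm]
      exact ((CokernelCofork.IsColimit.desc' hc k (key k hk)).2).symm)

include h in
/-- a coherent formal module for `I` (over `A`) is one for `I.map ψ` (over `A'`) -/
theorem isCohFormal_map (I : Ideal A) (G : ℕᵒᵖ ⥤ X.Modules)
    (hG : @Formal.IsCohFormal A _ X iA I G) : @Formal.IsCohFormal A' _ X iA' (I.map ψ) G := by
  obtain ⟨h1, h2, h3⟩ := hG
  refine ⟨h1, fun n => ?_, fun n => ?_⟩
  · rw [← Ideal.map_pow]
    exact killedBy_map ψ iA iA' h (h2 n)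
  · have hc : @IsCok A _ X iA (I ^ (n + 1)) _ _ (G.map (homOfLE (Nat.le_succ n)).op) := h3 n
    have hc' := isCok_map ψ iA iA' h hc
    rw [Ideal.map_pow] at hc'
    exact hc'

end Groth.Agent.Lib.helper8.RingChange
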