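import Mathlib
import Groth.Agent.Lib.Helper8.GEKGlue
import Groth.Agent.Lib.Helper8.ReesFinal
import Groth.Agent.Lib.Helper8.RingChange
import Groth.Agent.Lib.Helper8.FormalSupp
import Groth.Agent.Lib.Helper11.S0002T5
import Groth.Agent.Lib.Lead.ProperFin2
import Groth.Agent.Lib.Helper21.PushCoh

/-!
# Formal functions for a proper morphism, in sheaf form (helper8)

`f : X ⟶ Y` a proper morphism of schemes over `Spec A`, `Y` Noetherian, `J` an ideal of `A`, `F` coherent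
on `X`.

* `cmp f hf 𝔞 M : (f_* M) / 𝔞 (f_* M) ⟶ f_* (M / 𝔞 M)`, `cmpSys`: the comparison maps.
* `ffs_ker`, `ffs_range`: the theorem on formal functions (in its Artin–Rees / Mittag-Leffler form) for the
  sections over the preimage of an affine open of `Y`.
* `ker_cmp_qTrans`: the kernel of `cmp` dies under a uniform transition map.
* `cmpSys_cancel` (pro-monomorphism) and `exists_lift_cmpSys` (pro-epimorphism): maps of systems from a coherent
  formal module to `(f_* F / J^n)` correspond to maps to `(f_* (F / J^n))`.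
-/

set_option autoImplicit false
set_option backward.isDefEq.respectTransparency false
set_option linter.style.haveILetI false
set_option linter.unusedSectionVars false
universe u

namespace Groth.Agent.Lib.helper8.GEPush

open CategoryTheory CategoryTheory.Limits AlgebraicGeometry Opposite TopologicalSpace Formal
open Groth.Agent.Lib.helper8.FF Groth.Agent.Lib.helper8.Rees Groth.Agent.Lib.helper8.FTors
open Groth.Agent.Lib.helper8.FCompl Groth.Agent.Lib.helper8.FPull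
open Groth.Agent.Lib.Lead.GE
open Scheme.Modules

section Cmp

variable {A : Type u} [CommRing A] {X Y : Scheme.{u}} [X.Over (Spec (CommRingCat.of A))]
  [Y.Over (Spec (CommRingCat.of A))] (f : X ⟶ Y)
  (hf : f ≫ (Y ↘ Spec (CommRingCat.of A)) = X ↘ Spec (CommRingCat.of A))

include hf in
lemma smulFamily_pushforward_qπ (𝔞 : Ideal A) (M : X.Modules) :
    smulFamily 𝔞 ((pushforward f).obj M) ≫ (pushforward f).map (qπ 𝔞 M) = 0 :=
  smulFamily_comp_eq_zero _ (fun a ha => by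
    rw [← pushforward_map_smulMod f hf, ← Functor.map_comp, smulMod_qπ M ha, Functor.map_zero])

/-- `(f_* M) / 𝔞 (f_* M) ⟶ f_* (M / 𝔞 M)` -/
noncomputable def cmp (𝔞 : Ideal A) (M : X.Modules) :
    Q 𝔞 ((pushforward f).obj M) ⟶ (pushforward f).obj (Q 𝔞 M) :=
  cokernel.desc _ ((pushforward f).map (qπ 𝔞 M)) (smulFamily_pushforward_qπ f hf 𝔞 M)

@[reassoc]
lemma qπ_cmp (𝔞 : Ideal A) (M : X.Modules) :
    qπ 𝔞 ((pushforward f).obj M) ≫ cmp f hf 𝔞 M = (pushforward f).map (qπ 𝔞 M) :=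
  cokernel.π_desc _ _ _

@[reassoc]
lemma cmp_qTrans {𝔞 𝔟 : Ideal A} (h : 𝔞 ≤ 𝔟) (M : X.Modules) :
    cmp f hf 𝔞 M ≫ (pushforward f).map (qTrans h M) =
      qTrans h ((pushforward f).obj M) ≫ cmp f hf 𝔟 M := by
  rw [← cancel_epi (qπ 𝔞 ((pushforward f).obj M)), qπ_cmp_assoc, ← Functor.map_comp, qπ_qTrans,
    ← Category.assoc, qπ_qTrans, qπ_cmp]

@[reassoc]
lemma Qmap_cmp (𝔞 : Ideal A) {M N : X.Modules} (φ : M ⟶ N) :
    Qmap 𝔞 ((pushforward f).map φ) ≫ cmp f hf 𝔞 N =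
      cmp f hf 𝔞 M ≫ (pushforward f).map (Qmap 𝔞 φ) := by
  rw [← cancel_epi (qπ 𝔞 ((pushforward f).obj M)), ← Category.assoc, qπ_Qmap, Category.assoc,
    qπ_cmp, qπ_cmp_assoc, ← Functor.map_comp, ← Functor.map_comp, qπ_Qmap]

/-- the comparison map of systems `(f_* M / J^n) ⟶ (f_* (M / J^n))` -/
noncomputable def cmpSys (J : Ideal A) (M : X.Modules) :
    Formal.completion J ((pushforward f).obj M) ⟶ Formal.completion J M ⋙ pushforward f where
  app n := cmp f hf (J ^ (n.unop + 1)) M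
  naturality := by
    intro n k g
    have hle : k.unop ≤ n.unop := leOfHom g.unop
    have eg : g = (homOfLE hle).op := Quiver.Hom.unop_inj (Subsingleton.elim _ _)
    rw [eg]
    change (Formal.completion J _).map (homOfLE hle).op ≫ cmp f hf _ M =
      cmp f hf _ M ≫ (pushforward f).map ((Formal.completion J M).map (homOfLE hle).op)
    rw [completion_map, completion_map]
    exact (cmp_qTrans f hf _ M).symm

lemma cmpSys_app (J : Ideal A) (M : X.Modules) (n : ℕ) :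
    (cmpSys f hf J M).app (op n) = cmp f hf (J ^ (n + 1)) M := rfl

end Cmp

section Restrict

variable {A : Type u} [CommRing A] {X₁ X : Scheme.{u}} [X₁.Over (Spec (CommRingCat.of A))]
  [X.Over (Spec (CommRingCat.of A))] (j : X₁ ⟶ X) [IsOpenImmersion j]
  (hj : j ≫ (X ↘ Spec (CommRingCat.of A)) = X₁ ↘ Spec (CommRingCat.of A))

include hj in
/-- restriction to an open subscheme preserves cokernels of `𝔞 • P` -/
theorem isCok_restrictFunctor_map {𝔞 : Ideal A} {P R : X.Modules} {g : P ⟶ R} (hg : IsCok 𝔞 g) :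
    IsCok 𝔞 ((restrictFunctor j).map g) := by
  have h1 := isCok_pullback_map j hj hg
  let e := restrictFunctorIsoPullback j
  have h2 : (restrictFunctor j).map g =
      e.hom.app P ≫ (Scheme.Modules.pullback j).map g ≫ e.inv.app R := by
    rw [← Category.assoc, ← e.hom.naturality g, Category.assoc, Iso.hom_inv_id_app,
      Category.comp_id]
  rw [h2]
  have h3 : IsCok 𝔞 ((Scheme.Modules.pullback j).map g ≫ e.inv.app R) :=
    Groth.Agent.Lib.helper8.GEKGlue.IsCok.postcomp_iso h1 (e.symm.app R)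
  exact IsCok.precomp_iso _ h3

end Restrict

section TopSections

variable {X : Scheme.{u}} (U : X.Opens)

/-- `Γ(N, U) → Γ(N|_U, ⊤)` -/
noncomputable def toTop (N : X.Modules) : Γ(N, U) →+ Γ(N.restrict U.ι, ⊤) :=
  (N.presheaf.map (eqToHom U.ι_image_top).op).hom

/-- `Γ(N|_U, ⊤) → Γ(N, U)` -/
noncomputable def ofTop (N : X.Modules) : Γ(N.restrict U.ι, ⊤) →+ Γ(N, U) :=
  (N.presheaf.map (eqToHom U.ι_image_top.symm).op).hom

lemma ofTop_toTop (N : X.Modules) (x : Γ(N, U)) : ofTop U N (toTop U N x) = x := by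
  change (N.presheaf.map (eqToHom U.ι_image_top).op ≫
    N.presheaf.map (eqToHom U.ι_image_top.symm).op).hom x = x
  rw [← Functor.map_comp]
  have : (eqToHom U.ι_image_top).op ≫ (eqToHom U.ι_image_top.symm).op = 𝟙 (op U) :=
    Subsingleton.elim _ _
  rw [this, N.presheaf.map_id]
  rfl

lemma toTop_ofTop (N : X.Modules) (x : Γ(N.restrict U.ι, ⊤)) : toTop U N (ofTop U N x) = x := by
  change (N.presheaf.map (eqToHom U.ι_image_top.symm).op ≫
    N.presheaf.map (eqToHom U.ι_image_top).op).hom x = x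
  rw [← Functor.map_comp]
  have : (eqToHom U.ι_image_top.symm).op ≫ (eqToHom U.ι_image_top).op = 𝟙 (op (U.ι ''ᵁ ⊤)) :=
    Subsingleton.elim _ _
  rw [this, N.presheaf.map_id]
  rfl

lemma toTop_naturality {N N' : X.Modules} (φ : N ⟶ N') (x : Γ(N, U)) :
    (((restrictFunctor U.ι).map φ).app ⊤).hom (toTop U N x) = toTop U N' ((φ.app U).hom x) := by
  have h := φ.mapPresheaf.naturality (eqToHom U.ι_image_top).op
  exact congrArg (fun t => t.hom x) h

lemma ofTop_naturality {N N' : X.Modules} (φ : N ⟶ N') (x : Γ(N.restrict U.ι, ⊤)) :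
    (φ.app U).hom (ofTop U N x) = ofTop U N' ((((restrictFunctor U.ι).map φ).app ⊤).hom x) := by
  have h := φ.mapPresheaf.naturality (eqToHom U.ι_image_top.symm).op
  exact congrArg (fun t => t.hom x) h

end TopSections

section Local

variable {A : Type u} [CommRing A] {X Y : Scheme.{u}} [X.Over (Spec (CommRingCat.of A))]
  [Y.Over (Spec (CommRingCat.of A))] (f : X ⟶ Y)
  (hf : f ≫ (Y ↘ Spec (CommRingCat.of A)) = X ↘ Spec (CommRingCat.of A))
  (W : Y.Opens) (hW : IsAffineOpen W)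

/-- the structure morphism `W ≅ Spec Γ(Y, W) ⟶ Spec A` is the restriction of that of `Y` -/
lemma isoSpec_comp_specMap_resA :
    hW.isoSpec.hom ≫ Spec.map (CommRingCat.ofHom (resA A W)) =
      W.ι ≫ (Y ↘ Spec (CommRingCat.of A)) := by
  apply ext_of_isAffine
  rw [Scheme.Hom.comp_appTop, Scheme.Hom.comp_appTop, IsAffineOpen.isoSpec_hom_appTop]
  have h1 : (Spec.map (CommRingCat.ofHom (resA A W))).appTop ≫ (Scheme.ΓSpecIso Γ(Y, W)).hom =
      (Scheme.ΓSpecIso (CommRingCat.of A)).hom ≫ CommRingCat.ofHom (resA A W) :=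
    Scheme.ΓSpecIso_naturality (CommRingCat.ofHom (resA A W))
  rw [reassoc_of% h1]
  ext a
  have e1 : (Scheme.ΓSpecIso (CommRingCat.of A)).inv.hom
      ((Scheme.ΓSpecIso (CommRingCat.of A)).hom.hom a) = a :=
    congrArg (fun φ : Γ(Spec (CommRingCat.of A), ⊤) ⟶ Γ(Spec (CommRingCat.of A), ⊤) => φ.hom a)
      (Scheme.ΓSpecIso (CommRingCat.of A)).hom_inv_id
  change (W.topIso.inv).hom (resA A W ((Scheme.ΓSpecIso (CommRingCat.of A)).hom.hom a)) =
    (W.ι.appTop).hom ((Y ↘ Spec (CommRingCat.of A)).appTop.hom a)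
  change (W.topIso.inv).hom (Coh.resTop Y (op W) ((Y ↘ Spec (CommRingCat.of A)).appTop.hom
    ((Scheme.ΓSpecIso (CommRingCat.of A)).inv.hom
      ((Scheme.ΓSpecIso (CommRingCat.of A)).hom.hom a)))) = _
  rw [e1]
  change (Y.presheaf.map (homOfLE (le_top (a := W))).op ≫
    Y.presheaf.map (eqToHom W.ι_image_top).op).hom _ = (Y.presheaf.map _).hom _
  rw [← Functor.map_comp]
  rfl

/-- `f⁻¹W` as a scheme over `Spec Γ(Y, W)` -/
@[reducible] noncomputable def overW :
    (↑(f ⁻¹ᵁ W) : Scheme.{u}).Over (Spec (CommRingCat.of Γ(Y, W))) :=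
  ⟨(f ∣_ W) ≫ hW.isoSpec.hom⟩

variable (A) in
/-- `f⁻¹W` as a scheme over `Spec A` -/
@[reducible] noncomputable def overA : (↑(f ⁻¹ᵁ W) : Scheme.{u}).Over (Spec (CommRingCat.of A)) :=
  ⟨(f ⁻¹ᵁ W).ι ≫ (X ↘ Spec (CommRingCat.of A))⟩

include hf in
lemma overA_eq : (overA A f W).hom =
    (overW f W hW).hom ≫ Spec.map (CommRingCat.ofHom (resA A W)) := by
  change (f ⁻¹ᵁ W).ι ≫ (X ↘ Spec (CommRingCat.of A)) =
    ((f ∣_ W) ≫ hW.isoSpec.hom) ≫ Spec.map (CommRingCat.ofHom (resA A W))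
  rw [Category.assoc, isoSpec_comp_specMap_resA, ← hf, ← Category.assoc, ← Category.assoc,
    morphismRestrict_ι]

include hf in
lemma exists_theta (J : Ideal A) (F : X.Modules) (n : ℕ) :
    ∃ θ : @Q Γ(Y, W) _ _ (overW f W hW) ((J.map (resA A W)) ^ (n + 1))
        (F.restrict (f ⁻¹ᵁ W).ι) ≅ (Q (J ^ (n + 1)) F).restrict (f ⁻¹ᵁ W).ι,
      @qπ Γ(Y, W) _ _ (overW f W hW) ((J.map (resA A W)) ^ (n + 1))
        (F.restrict (f ⁻¹ᵁ W).ι) ≫ θ.hom =
        (restrictFunctor (f ⁻¹ᵁ W).ι).map (qπ (J ^ (n + 1)) F) := by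
  have h1 : @IsCok A _ _ (overA A f W) (J ^ (n + 1)) _ _
      ((restrictFunctor (f ⁻¹ᵁ W).ι).map (qπ (J ^ (n + 1)) F)) :=
    @isCok_restrictFunctor_map A _ _ X (overA A f W) _ (f ⁻¹ᵁ W).ι _ rfl _ _ _ _ (isCok_qπ _ F)
  have h2 := Groth.Agent.Lib.helper8.RingChange.isCok_map (resA A W) (overA A f W)
    (overW f W hW) (overA_eq f hf W hW) h1
  rw [Ideal.map_pow] at h2
  exact @IsCok.exists_iso Γ(Y, W) _ _ (overW f W hW) _ _ _ _ h2

/-- the `Γ(Y, W)`-linear identification `Γ(F|_{f⁻¹W}, ⊤) → Γ(f_* F, W)` -/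
noncomputable def lW (F : X.Modules) :
    letI := overW f W hW
    letI := Groth.Agent.Lib.Helper18.HH.sectionsModuleOver Γ(Y, W) (F.restrict (f ⁻¹ᵁ W).ι)
    (F.restrict (f ⁻¹ᵁ W).ι).val.obj (op ⊤) →ₗ[Γ(Y, W)] Γ((pushforward f).obj F, W) :=
  letI := overW f W hW
  letI := Groth.Agent.Lib.Helper18.HH.sectionsModuleOver Γ(Y, W) (F.restrict (f ⁻¹ᵁ W).ι)
  { toFun := fun x => ofTop (f ⁻¹ᵁ W) F x
    map_add' := fun x y => map_add _ x y
    map_smul' := fun b x => by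
      change (F.presheaf.map (eqToHom (f ⁻¹ᵁ W).ι_image_top.symm).op).hom
        (@HSMul.hSMul Γ(X, (f ⁻¹ᵁ W).ι ''ᵁ ⊤) Γ(F, (f ⁻¹ᵁ W).ι ''ᵁ ⊤) Γ(F, (f ⁻¹ᵁ W).ι ''ᵁ ⊤) _
          ((((f ⁻¹ᵁ W).ι.appIso ⊤).inv).hom (Coh.toGlobal ((f ∣_ W) ≫ hW.isoSpec.hom) b)) x) =
        @HSMul.hSMul Γ(X, f ⁻¹ᵁ W) Γ(F, f ⁻¹ᵁ W) Γ(F, f ⁻¹ᵁ W) _ ((f.app W).hom b)
          ((F.presheaf.map (eqToHom (f ⁻¹ᵁ W).ι_image_top.symm).op).hom x)
      rw [Scheme.Modules.map_smul]
      congr 1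
      exact Groth.Agent.Lib.helper11.S0002T5.toGlobal_morphismRestrict f W hW b }


variable [IsProper f] [IsNoetherianRing Γ(Y, W)]

include hf hW in
/-- **formal functions, Artin–Rees form**: a section of `F` over `f⁻¹W` dying in `F / J^(n+c+1) F` lies in
`J^(n+1) Γ(f⁻¹W, F)` -/
theorem ffs_ker (J : Ideal A) (F : X.Modules) (hF : Coh.IsCoh F) :
    ∃ c : ℕ, ∀ (n : ℕ) (x : Γ((pushforward f).obj F, W)),
      appLin ((pushforward f).map (qπ (J ^ (n + c + 1)) F)) W x = 0 →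
      x ∈ ((J ^ (n + 1)).map (resA A W)) •
        (⊤ : Submodule Γ(Y, W) Γ((pushforward f).obj F, W)) := by
  letI iB := overW f W hW
  haveI hq : IsProper ((↑(f ⁻¹ᵁ W) : Scheme.{u}) ↘ Spec (CommRingCat.of Γ(Y, W))) := by
    change IsProper ((f ∣_ W) ≫ hW.isoSpec.hom)
    infer_instance
  haveI : IsNoetherian (↑(f ⁻¹ᵁ W) : Scheme.{u}) :=
    Groth.Agent.Lib.helper8.FF.isNoetherian_of_finiteType Γ(Y, W) _
  have hM₁ : Coh.IsCoh (F.restrict (f ⁻¹ᵁ W).ι) :=
    Groth.Agent.Lib.helper11.CounitEpi.isCoh_restrict hF _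
  have hfin : ∀ (N : (↑(f ⁻¹ᵁ W) : Scheme.{u}).Modules), Coh.IsCoh N → ∀ q,
      Module.Finite Γ(Y, W) (Coh.HH (↑(f ⁻¹ᵁ W) : Scheme.{u}) N q) := fun N hN q =>
    Groth.Agent.Lib.Lead.ProperFin.finite_HH_of_isProper Γ(Y, W) _ N hN q
  obtain ⟨c, hc⟩ := s0057 hfin (J.map (resA A W)) (F.restrict (f ⁻¹ᵁ W).ι) hM₁ 0
  refine ⟨c + 1, fun n x hx => ?_⟩
  set M₁ := F.restrict (f ⁻¹ᵁ W).ι with hM₁def
  obtain ⟨θ, hθ⟩ := exists_theta f hf W hW J F (n + (c + 1))
  set x₁ := toTop (f ⁻¹ᵁ W) F x with hx₁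
  set ξ := (Groth.Agent.Lib.Helper18.HH.equiv₀ M₁).symm x₁ with hξ
  -- the class of `x` dies in `H⁰(M₁ / 𝔧^(m+1))`
  have h1 : ((qπ ((J.map (resA A W)) ^ (n + (c + 1) + 1)) M₁).app ⊤).hom x₁ = 0 := by
    have e1 : (θ.hom.app ⊤).hom (((qπ ((J.map (resA A W)) ^ (n + (c + 1) + 1)) M₁).app ⊤).hom x₁) =
        (((restrictFunctor (f ⁻¹ᵁ W).ι).map (qπ (J ^ (n + (c + 1) + 1)) F)).app ⊤).hom x₁ :=
      congrArg (fun t => (t.app ⊤).hom x₁) hθ
    rw [toTop_naturality] at e1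
    have e2 : ((qπ (J ^ (n + (c + 1) + 1)) F).app (f ⁻¹ᵁ W)).hom x = 0 := hx
    rw [e2, map_zero] at e1
    have e3 := congrArg (fun t => (θ.inv.app ⊤).hom t) e1
    simp only [map_zero] at e3
    refine Eq.trans ?_ e3
    exact (congrArg (fun t : Q ((J.map (resA A W)) ^ (n + (c + 1) + 1)) M₁ ⟶
        Q ((J.map (resA A W)) ^ (n + (c + 1) + 1)) M₁ => (t.app ⊤).hom
      (((qπ ((J.map (resA A W)) ^ (n + (c + 1) + 1)) M₁).app ⊤).hom x₁)) θ.hom_inv_id).symm
  have h2 : Formal.toHHmodPow (J.map (resA A W)) M₁ 0 (n + (c + 1)) ξ = 0 := by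
    have := Groth.Agent.Lib.Helper18.HH.equiv₀_symm_naturality
      (qπ ((J.map (resA A W)) ^ (n + (c + 1) + 1)) M₁) x₁
    refine Eq.trans this ?_
    rw [show ((qπ ((J.map (resA A W)) ^ (n + (c + 1) + 1)) M₁).val.app (op ⊤)).hom x₁ = 0 from h1,
      map_zero]
  have h3 : ξ ∈ (J.map (resA A W)) ^ (n + (c + 1) - c) •
      (⊤ : Submodule Γ(Y, W) (Coh.HH (↑(f ⁻¹ᵁ W) : Scheme.{u}) M₁ 0)) :=
    hc (n + (c + 1)) (by omega) h2
  have e4 : n + (c + 1) - c = n + 1 := by omega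
  rw [e4] at h3
  letI := Groth.Agent.Lib.Helper18.HH.sectionsModuleOver Γ(Y, W) M₁
  let L : Coh.HH (↑(f ⁻¹ᵁ W) : Scheme.{u}) M₁ 0 →ₗ[Γ(Y, W)] Γ((pushforward f).obj F, W) :=
    (lW f W hW F).comp (Groth.Agent.Lib.Helper18.HH.equiv₀Over Γ(Y, W) M₁).toLinearMap
  have h4 : L ξ = x := by
    change ofTop (f ⁻¹ᵁ W) F ((Groth.Agent.Lib.Helper18.HH.equiv₀ M₁) ξ) = x
    rw [hξ, LinearEquiv.apply_symm_apply, hx₁, ofTop_toTop]
  have h5 : L ξ ∈ Submodule.map L ((J.map (resA A W)) ^ (n + 1) •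
      (⊤ : Submodule Γ(Y, W) (Coh.HH (↑(f ⁻¹ᵁ W) : Scheme.{u}) M₁ 0))) :=
    Submodule.mem_map_of_mem h3
  rw [Submodule.map_smul'', h4] at h5
  rw [Ideal.map_pow]
  exact Submodule.smul_mono le_rfl le_top h5


include hf hW in
/-- **formal functions, Mittag-Leffler form**: the image of `Γ(f⁻¹W, F / J^(n+c+1) F)` in
`Γ(f⁻¹W, F / J^(n+1) F)` consists of images of sections of `F` -/
theorem ffs_range (J : Ideal A) (F : X.Modules) (hF : Coh.IsCoh F) :
    ∃ c : ℕ, ∀ (n : ℕ) (y : Γ((pushforward f).obj (Q (J ^ (n + c + 1)) F), W)),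
      ∃ x : Γ((pushforward f).obj F, W),
        appLin ((pushforward f).map (qπ (J ^ (n + 1)) F)) W x =
          appLin ((pushforward f).map (qTrans (Ideal.pow_le_pow_right
            (by omega : n + 1 ≤ n + c + 1)) F)) W y := by
  letI iB := overW f W hW
  haveI hq : IsProper ((↑(f ⁻¹ᵁ W) : Scheme.{u}) ↘ Spec (CommRingCat.of Γ(Y, W))) := by
    change IsProper ((f ∣_ W) ≫ hW.isoSpec.hom)
    infer_instance
  haveI : IsNoetherian (↑(f ⁻¹ᵁ W) : Scheme.{u}) :=
    Groth.Agent.Lib.helper8.FF.isNoetherian_of_finiteType Γ(Y, W) _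
  have hM₁ : Coh.IsCoh (F.restrict (f ⁻¹ᵁ W).ι) :=
    Groth.Agent.Lib.helper11.CounitEpi.isCoh_restrict hF _
  have hfin : ∀ (N : (↑(f ⁻¹ᵁ W) : Scheme.{u}).Modules), Coh.IsCoh N → ∀ q,
      Module.Finite Γ(Y, W) (Coh.HH (↑(f ⁻¹ᵁ W) : Scheme.{u}) N q) := fun N hN q =>
    Groth.Agent.Lib.Lead.ProperFin.finite_HH_of_isProper Γ(Y, W) _ N hN q
  obtain ⟨c, hc⟩ := s0058 hfin (J.map (resA A W)) (F.restrict (f ⁻¹ᵁ W).ι) hM₁ 0
  refine ⟨c, fun n y => ?_⟩
  set M₁ := F.restrict (f ⁻¹ᵁ W).ι with hM₁def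
  obtain ⟨θk, hθk⟩ := exists_theta f hf W hW J F (n + c)
  obtain ⟨θn, hθn⟩ := exists_theta f hf W hW J F n
  have hle : (J.map (resA A W)) ^ (n + c + 1) ≤ (J.map (resA A W)) ^ (n + 1) :=
    Ideal.pow_le_pow_right (by omega)
  have hleA : J ^ (n + c + 1) ≤ J ^ (n + 1) := Ideal.pow_le_pow_right (by omega)
  -- compatibility of `θ` with the transition maps
  have hcomp : qTrans hle M₁ ≫ θn.hom =
      θk.hom ≫ (restrictFunctor (f ⁻¹ᵁ W).ι).map (qTrans hleA F) := by
    rw [← cancel_epi (qπ ((J.map (resA A W)) ^ (n + c + 1)) M₁), ← Category.assoc, qπ_qTrans, hθn,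
      ← Category.assoc, hθk, ← Functor.map_comp, qπ_qTrans]
  set y₁ := toTop (f ⁻¹ᵁ W) (Q (J ^ (n + c + 1)) F) y with hy₁
  set y₂ := (θk.inv.app ⊤).hom y₁ with hy₂
  have hy₂' : (θk.hom.app ⊤).hom y₂ = y₁ := by
    rw [hy₂]
    exact congrArg (fun t : (Q (J ^ (n + c + 1)) F).restrict (f ⁻¹ᵁ W).ι ⟶
      (Q (J ^ (n + c + 1)) F).restrict (f ⁻¹ᵁ W).ι => (t.app ⊤).hom y₁) θk.inv_hom_id
  set η := (Groth.Agent.Lib.Helper18.HH.equiv₀
    (Q ((J.map (resA A W)) ^ (n + c + 1)) M₁)).symm y₂ with hη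
  have hr := hc n (n + c) (Nat.le_add_right n c) le_rfl
  have hmem : Sheaf.H.map ((SheafOfModules.toSheaf _).map
      ((Formal.completion (J.map (resA A W)) M₁).map (homOfLE (Nat.le_add_right n c)).op)) 0 η ∈
      Set.range (Formal.toHHmodPow (J.map (resA A W)) M₁ 0 n) := by
    rw [← hr]
    exact ⟨η, rfl⟩
  obtain ⟨ξ, hξ⟩ := hmem
  set x₁ := Groth.Agent.Lib.Helper18.HH.equiv₀ M₁ ξ with hx₁
  refine ⟨ofTop (f ⁻¹ᵁ W) F x₁, ?_⟩
  -- apply `equiv₀` to `hξ`
  have h1 : ((qπ ((J.map (resA A W)) ^ (n + 1)) M₁).app ⊤).hom x₁ =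
      ((qTrans hle M₁).app ⊤).hom y₂ := by
    have e1 := Groth.Agent.Lib.Helper18.HH.equiv₀_naturality
      (qπ ((J.map (resA A W)) ^ (n + 1)) M₁) ξ
    have e2 := Groth.Agent.Lib.Helper18.HH.equiv₀_naturality (qTrans hle M₁) η
    rw [hη, LinearEquiv.apply_symm_apply] at e2
    have e3 : Groth.Agent.Lib.Helper18.HH.map (qπ ((J.map (resA A W)) ^ (n + 1)) M₁) 0 ξ =
        Groth.Agent.Lib.Helper18.HH.map (qTrans hle M₁) 0
          ((Groth.Agent.Lib.Helper18.HH.equiv₀ (Q ((J.map (resA A W)) ^ (n + c + 1)) M₁)).symm y₂) := by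
      refine Eq.trans hξ ?_
      rw [completion_map]
      rfl
    exact e1.symm.trans ((congrArg _ e3).trans e2)
  have h2 : toTop (f ⁻¹ᵁ W) (Q (J ^ (n + 1)) F)
      (((qπ (J ^ (n + 1)) F).app (f ⁻¹ᵁ W)).hom (ofTop (f ⁻¹ᵁ W) F x₁)) =
      toTop (f ⁻¹ᵁ W) (Q (J ^ (n + 1)) F) (((qTrans hleA F).app (f ⁻¹ᵁ W)).hom y) := by
    rw [← toTop_naturality, toTop_ofTop, ← toTop_naturality, ← hy₁, ← hy₂']
    have e1 : (θn.hom.app ⊤).hom (((qπ ((J.map (resA A W)) ^ (n + 1)) M₁).app ⊤).hom x₁) =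
        (((restrictFunctor (f ⁻¹ᵁ W).ι).map (qπ (J ^ (n + 1)) F)).app ⊤).hom x₁ :=
      congrArg (fun t => (t.app ⊤).hom x₁) hθn
    have e2 : (θn.hom.app ⊤).hom (((qTrans hle M₁).app ⊤).hom y₂) =
        (((restrictFunctor (f ⁻¹ᵁ W).ι).map (qTrans hleA F)).app ⊤).hom ((θk.hom.app ⊤).hom y₂) :=
      congrArg (fun t => (t.app ⊤).hom y₂) hcomp
    rw [← e1, h1, e2]
  have h3 := congrArg (ofTop (f ⁻¹ᵁ W) (Q (J ^ (n + 1)) F)) h2
  rw [ofTop_toTop, ofTop_toTop] at h3
  exact h3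


include hW in
/-- sections of `f_* F` over an affine open with Noetherian coordinate ring are finite -/
theorem finite_sections_push (F : X.Modules) (hF : Coh.IsCoh F) :
    Module.Finite Γ(Y, W) Γ((pushforward f).obj F, W) := by
  letI iB := overW f W hW
  haveI hq : IsProper ((↑(f ⁻¹ᵁ W) : Scheme.{u}) ↘ Spec (CommRingCat.of Γ(Y, W))) := by
    change IsProper ((f ∣_ W) ≫ hW.isoSpec.hom)
    infer_instance
  have hM₁ : Coh.IsCoh (F.restrict (f ⁻¹ᵁ W).ι) :=
    Groth.Agent.Lib.helper11.CounitEpi.isCoh_restrict hF _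
  haveI hfin : Module.Finite Γ(Y, W)
      (Coh.HH (↑(f ⁻¹ᵁ W) : Scheme.{u}) (F.restrict (f ⁻¹ᵁ W).ι) 0) :=
    Groth.Agent.Lib.Lead.ProperFin.finite_HH_of_isProper Γ(Y, W) _ _ hM₁ 0
  set M₁ := F.restrict (f ⁻¹ᵁ W).ι with hM₁def
  letI := Groth.Agent.Lib.Helper18.HH.sectionsModuleOver Γ(Y, W) M₁
  let L : Coh.HH (↑(f ⁻¹ᵁ W) : Scheme.{u}) M₁ 0 →ₗ[Γ(Y, W)] Γ((pushforward f).obj F, W) :=
    (lW f W hW F).comp (Groth.Agent.Lib.Helper18.HH.equiv₀Over Γ(Y, W) M₁).toLinearMap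
  refine Module.Finite.of_surjective L (fun x => ?_)
  refine ⟨(Groth.Agent.Lib.Helper18.HH.equiv₀ M₁).symm (toTop (f ⁻¹ᵁ W) F x), ?_⟩
  change ofTop (f ⁻¹ᵁ W) F ((Groth.Agent.Lib.Helper18.HH.equiv₀ M₁)
    ((Groth.Agent.Lib.Helper18.HH.equiv₀ M₁).symm (toTop (f ⁻¹ᵁ W) F x))) = x
  rw [LinearEquiv.apply_symm_apply, ofTop_toTop]


end Local

section Global

variable {A : Type u} [CommRing A] {X Y : Scheme.{u}} [X.Over (Spec (CommRingCat.of A))]
  [Y.Over (Spec (CommRingCat.of A))] (f : X ⟶ Y) [IsProper f]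
  (hf : f ≫ (Y ↘ Spec (CommRingCat.of A)) = X ↘ Spec (CommRingCat.of A))
  [IsNoetherian Y] (J : Ideal A) (F : X.Modules) (hF : Coh.IsCoh F)

lemma pow_le (n c : ℕ) : J ^ (n + c + 1) ≤ J ^ (n + 1) := Ideal.pow_le_pow_right (by omega)

include hf hF in
/-- formal functions, uniformly over a finite family of affine opens -/
theorem exists_uniform_ffs {m : ℕ} (W : Fin m → Y.Opens) (hW : ∀ i, IsAffineOpen (W i)) :
    ∃ c : ℕ,
      (∀ (i : Fin m) (n : ℕ) (x : Γ((pushforward f).obj F, W i)),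
        appLin ((pushforward f).map (qπ (J ^ (n + c + 1)) F)) (W i) x = 0 →
        appLin (qπ (J ^ (n + 1)) ((pushforward f).obj F)) (W i) x = 0) ∧
      (∀ (i : Fin m) (n : ℕ) (y : Γ((pushforward f).obj (Q (J ^ (n + c + 1)) F), W i)),
        ∃ x : Γ((pushforward f).obj F, W i),
          appLin ((pushforward f).map (qπ (J ^ (n + 1)) F)) (W i) x =
            appLin ((pushforward f).map (qTrans (pow_le J n c) F)) (W i) y) := by
  haveI : ∀ i, IsNoetherianRing Γ(Y, W i) := fun i =>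
    IsLocallyNoetherian.component_noetherian ⟨W i, hW i⟩
  choose c₁ hc₁ using fun i => ffs_ker f hf (W i) (hW i) J F hF
  choose c₂ hc₂ using fun i => ffs_range f hf (W i) (hW i) J F hF
  let c := (Finset.univ.sup c₁) + (Finset.univ.sup c₂)
  have h1 : ∀ i, c₁ i ≤ c := fun i =>
    le_trans (Finset.le_sup (f := c₁) (Finset.mem_univ i)) (Nat.le_add_right _ _)
  have h2 : ∀ i, c₂ i ≤ c := fun i =>
    le_trans (Finset.le_sup (f := c₂) (Finset.mem_univ i)) (Nat.le_add_left _ _)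
  refine ⟨c, fun i n x hx => ?_, fun i n y => ?_⟩
  · have hle : J ^ (n + c + 1) ≤ J ^ (n + c₁ i + 1) :=
      Ideal.pow_le_pow_right (by have := h1 i; omega)
    have e : (pushforward f).map (qπ (J ^ (n + c₁ i + 1)) F) =
        (pushforward f).map (qπ (J ^ (n + c + 1)) F) ≫ (pushforward f).map (qTrans hle F) := by
      rw [← Functor.map_comp, qπ_qTrans]
    have hx' : appLin ((pushforward f).map (qπ (J ^ (n + c₁ i + 1)) F)) (W i) x = 0 := by
      rw [e, appLin_comp_apply, hx, map_zero]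
    exact smul_top_le_ker_appLin_qπ _ _ _ (hc₁ i n x hx')
  · have hle : J ^ (n + c + 1) ≤ J ^ (n + c₂ i + 1) :=
      Ideal.pow_le_pow_right (by have := h2 i; omega)
    obtain ⟨x, hx⟩ := hc₂ i n (appLin ((pushforward f).map (qTrans hle F)) (W i) y)
    refine ⟨x, hx.trans ?_⟩
    rw [← appLin_comp_apply, ← Functor.map_comp, qTrans_comp]

variable {J F}

/-- the data of a uniform constant for formal functions on a finite affine cover -/
structure FFSData (m : ℕ) (W : Fin m → Y.Opens) (c : ℕ) : Prop where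
  aff : ∀ i, IsAffineOpen (W i)
  cov : ∀ y : Y, ∃ i, y ∈ W i
  ker : ∀ (i : Fin m) (n : ℕ) (x : Γ((pushforward f).obj F, W i)),
    appLin ((pushforward f).map (qπ (J ^ (n + c + 1)) F)) (W i) x = 0 →
    appLin (qπ (J ^ (n + 1)) ((pushforward f).obj F)) (W i) x = 0
  range : ∀ (i : Fin m) (n : ℕ) (y : Γ((pushforward f).obj (Q (J ^ (n + c + 1)) F), W i)),
    ∃ x : Γ((pushforward f).obj F, W i),
      appLin ((pushforward f).map (qπ (J ^ (n + 1)) F)) (W i) x =
        appLin ((pushforward f).map (qTrans (pow_le J n c) F)) (W i) y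

variable (J F)

include hf hF in
theorem exists_ffsData : ∃ (m : ℕ) (W : Fin m → Y.Opens) (c : ℕ), FFSData f (J := J) (F := F) m W c := by
  obtain ⟨m, W, hW, hcov⟩ := exists_finite_affine_cover Y
  obtain ⟨c, h1, h2⟩ := exists_uniform_ffs f hf J F hF W hW
  exact ⟨m, W, c, ⟨hW, hcov, h1, h2⟩⟩

variable {J F}

include hF in
/-- the kernel of `cmp` at level `n + c` dies at level `n` -/
theorem ker_cmp_qTrans {m : ℕ} {W : Fin m → Y.Opens} {c : ℕ} (D : FFSData f (J := J) (F := F) m W c)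
    (n : ℕ) :
    kernel.ι (cmp f hf (J ^ (n + c + 1)) F) ≫ qTrans (pow_le J n c) ((pushforward f).obj F) = 0 := by
  haveI : F.IsQuasicoherent := hF.1
  haveI : ((pushforward f).obj F).IsQuasicoherent :=
    Groth.Agent.Lib.helper7.QCohPushQC.isQuasicoherent_pushforward f F
  haveI := isQuasicoherent_Q (J ^ (n + c + 1)) ((pushforward f).obj F)
  haveI := isQuasicoherent_Q (J ^ (n + c + 1)) F
  haveI : ((pushforward f).obj (Q (J ^ (n + c + 1)) F)).IsQuasicoherent :=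
    Groth.Agent.Lib.helper7.QCohPushQC.isQuasicoherent_pushforward f _
  haveI : (kernel (cmp f hf (J ^ (n + c + 1)) F)).IsQuasicoherent :=
    Groth.Agent.Lib.helper7.CohKer.isQuasicoherent_kernel _
  refine hom_eq_zero_of_cover _ W D.aff D.cov (fun i z => ?_)
  rw [appLin_comp_apply]
  have hz' : appLin (cmp f hf (J ^ (n + c + 1)) F) (W i)
      (appLin (kernel.ι (cmp f hf (J ^ (n + c + 1)) F)) (W i) z) = 0 := by
    rw [← appLin_comp_apply, kernel.condition]
    rfl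
  obtain ⟨x, hx⟩ := appLin_qπ_surjective (J ^ (n + c + 1)) ((pushforward f).obj F) (D.aff i)
    (appLin (kernel.ι (cmp f hf (J ^ (n + c + 1)) F)) (W i) z)
  have h1 : appLin ((pushforward f).map (qπ (J ^ (n + c + 1)) F)) (W i) x = 0 := by
    rw [← qπ_cmp f hf, appLin_comp_apply, hx, hz']
  have h2 := D.ker i n x h1
  rw [← hx, ← appLin_comp_apply, qπ_qTrans]
  exact h2

include hF in
/-- **pro-monomorphism**: maps of systems into `(f_* F / J^n)` are determined by their composite with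
`cmpSys` -/
theorem cmpSys_cancel {m : ℕ} {W : Fin m → Y.Opens} {c : ℕ} (D : FFSData f (J := J) (F := F) m W c)
    {P : ℕᵒᵖ ⥤ Y.Modules} (hP : ∀ (n k : ℕ) (h : n ≤ k), Epi (P.map (homOfLE h).op))
    (u v : P ⟶ Formal.completion J ((pushforward f).obj F))
    (huv : u ≫ cmpSys f hf J F = v ≫ cmpSys f hf J F) : u = v := by
  apply NatTrans.ext
  funext ⟨n⟩
  have h0 : (u.app (op (n + c)) - v.app (op (n + c))) ≫ cmp f hf (J ^ (n + c + 1)) F = 0 := by
    rw [Preadditive.sub_comp, sub_eq_zero]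
    exact congrArg (fun t => t.app (op (n + c))) huv
  have h1 : (u.app (op (n + c)) - v.app (op (n + c))) ≫
      qTrans (pow_le J n c) ((pushforward f).obj F) = 0 := by
    rw [← kernel.lift_ι _ _ h0, Category.assoc, ker_cmp_qTrans f hf hF D n, comp_zero]
  have hn : ∀ w : P ⟶ Formal.completion J ((pushforward f).obj F),
      P.map (homOfLE (Nat.le_add_right n c)).op ≫ w.app (op n) =
        w.app (op (n + c)) ≫ qTrans (pow_le J n c) ((pushforward f).obj F) := by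
    intro w
    rw [w.naturality, completion_map]
  haveI := hP n (n + c) (Nat.le_add_right n c)
  rw [← cancel_epi (P.map (homOfLE (Nat.le_add_right n c)).op), hn u, hn v, ← sub_eq_zero,
    ← Preadditive.sub_comp]
  exact h1

include hF in
/-- the direct image of a coherent module under a proper morphism to a Noetherian scheme is coherent -/
theorem isCoh_pushforward : Coh.IsCoh ((pushforward f).obj F) := by
  haveI : F.IsQuasicoherent := hF.1
  refine Groth.Agent.Lib.helper21.PushCoh.isCoh_push_of_affine_cover f F (fun z => ?_)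
  obtain ⟨_, ⟨W, hW, rfl⟩, hz, -⟩ :=
    Y.isBasis_affineOpens.exists_subset_of_mem_open (Set.mem_univ z) isOpen_univ
  haveI : IsNoetherianRing Γ(Y, W) := IsLocallyNoetherian.component_noetherian ⟨W, hW⟩
  exact ⟨W, hW, hz, finite_sections_push f W hW F hF⟩


end Global

section Lift

variable {A : Type u} [CommRing A] {X Y : Scheme.{u}} [X.Over (Spec (CommRingCat.of A))]
  [Y.Over (Spec (CommRingCat.of A))] (f : X ⟶ Y) [IsProper f]
  (hf : f ≫ (Y ↘ Spec (CommRingCat.of A)) = X ↘ Spec (CommRingCat.of A))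
  [IsNoetherian Y] {J : Ideal A} {F : X.Modules} (hF : Coh.IsCoh F)
  {P : ℕᵒᵖ ⥤ Y.Modules} (ψ : P ⟶ Formal.completion J F ⋙ pushforward f)

lemma psi_nat {n k : ℕ} (h : n ≤ k) :
    ψ.app (op k) ≫ (pushforward f).map (qTrans (Ideal.pow_le_pow_right (Nat.succ_le_succ h)) F) =
      P.map (homOfLE h).op ≫ ψ.app (op n) := by
  have h1 := ψ.naturality (homOfLE h).op
  rw [h1]
  change _ = ψ.app (op k) ≫ (pushforward f).map ((Formal.completion J F).map (homOfLE h).op)
  rw [completion_map]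

lemma psi_nat_apply {n k : ℕ} (h : n ≤ k) (h' : J ^ (k + 1) ≤ J ^ (n + 1)) (U : Y.Opens)
    (y : Γ(P.obj (op k), U)) :
    appLin ((pushforward f).map (qTrans h' F)) U (appLin (ψ.app (op k)) U y) =
      appLin (ψ.app (op n)) U (appLin (P.map (homOfLE h).op) U y) :=
  congrArg (fun τ => appLin τ U y) (psi_nat f ψ h)

include hF in
/-- **pro-epimorphism**: every map from a coherent formal module to `(f_* (F / J^n))` lifts to
`(f_* F / J^n)` -/
theorem exists_lift_cmpSys {m : ℕ} {W : Fin m → Y.Opens} {c : ℕ}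
    (D : FFSData f (J := J) (F := F) m W c) (hP : IsCohFormal J P) :
    ∃ u : P ⟶ Formal.completion J ((pushforward f).obj F), u ≫ cmpSys f hf J F = ψ := by
  haveI : F.IsQuasicoherent := hF.1
  haveI hqP : ∀ n, (P.obj (op n)).IsQuasicoherent := fun n => (hP.1 n).1
  haveI : ((pushforward f).obj F).IsQuasicoherent :=
    Groth.Agent.Lib.helper7.QCohPushQC.isQuasicoherent_pushforward f F
  haveI hq1 : ∀ 𝔞 : Ideal A, (Q 𝔞 ((pushforward f).obj F)).IsQuasicoherent := fun 𝔞 =>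
    isQuasicoherent_Q 𝔞 ((pushforward f).obj F)
  haveI hq2 : ∀ 𝔞 : Ideal A, (Q 𝔞 F).IsQuasicoherent := fun 𝔞 => isQuasicoherent_Q 𝔞 F
  haveI hq3 : ∀ 𝔞 : Ideal A, ((pushforward f).obj (Q 𝔞 F)).IsQuasicoherent := fun 𝔞 =>
    Groth.Agent.Lib.helper7.QCohPushQC.isQuasicoherent_pushforward f _
  -- the auxiliary maps
  let σ : ∀ n, Q (J ^ (n + c + 1)) ((pushforward f).obj F) ⟶
      (pushforward f).obj (Q (J ^ (n + c + 1)) F) := fun n => cmp f hf (J ^ (n + c + 1)) F
  let ψ' : ∀ n, P.obj (op (n + c + c)) ⟶ (pushforward f).obj (Q (J ^ (n + c + 1)) F) := fun n =>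
    ψ.app (op (n + c + c)) ≫ (pushforward f).map (qTrans (pow_le J (n + c) c) F)
  let t : ∀ n, Q (J ^ (n + c + 1)) ((pushforward f).obj F) ⟶
      Q (J ^ (n + 1)) ((pushforward f).obj F) := fun n => qTrans (pow_le J n c) _
  -- the relation "x lifts ψ' y"
  have hex : ∀ (i : Fin m) (n : ℕ) (y : Γ(P.obj (op (n + c + c)), W i)),
      ∃ x : Γ((pushforward f).obj F, W i),
        appLin ((pushforward f).map (qπ (J ^ (n + c + 1)) F)) (W i) x = appLin (ψ' n) (W i) y := by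
    intro i n y
    obtain ⟨x, hx⟩ := D.range i (n + c) (appLin (ψ.app (op (n + c + c))) (W i) y)
    exact ⟨x, hx⟩
  have hσ : ∀ (n : ℕ) (U : Y.Opens) (x : Γ((pushforward f).obj F, U)),
      appLin (σ n) U (appLin (qπ (J ^ (n + c + 1)) ((pushforward f).obj F)) U x) =
        appLin ((pushforward f).map (qπ (J ^ (n + c + 1)) F)) U x := by
    intro n U x
    rw [← appLin_comp_apply]
    exact congrArg (fun τ => appLin τ U x) (qπ_cmp f hf (J ^ (n + c + 1)) F)
  have ha : ∀ n, ψ' n ≫ cokernel.π (σ n) = 0 := by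
    intro n
    refine hom_eq_zero_of_cover _ W D.aff D.cov (fun i y => ?_)
    obtain ⟨x, hx⟩ := hex i n y
    rw [appLin_comp_apply, ← hx, ← hσ n (W i) x, ← appLin_comp_apply, cokernel.condition]
    rfl
  have hb : ∀ n, kernel.ι (σ n) ≫ t n = 0 := fun n => ker_cmp_qTrans f hf hF D n
  let w : ∀ n, P.obj (op (n + c + c)) ⟶ Q (J ^ (n + 1)) ((pushforward f).obj F) := fun n =>
    Groth.Agent.Lib.helper8.GEGlue.glueMap (σ n) (ψ' n) (t n) (ha n) (hb n)
  have hw : ∀ (n : ℕ) (U : Y.Opens) (y : Γ(P.obj (op (n + c + c)), U))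
      (x : Γ((pushforward f).obj F, U)),
      appLin ((pushforward f).map (qπ (J ^ (n + c + 1)) F)) U x = appLin (ψ' n) U y →
      appLin (w n) U y = appLin (qπ (J ^ (n + 1)) ((pushforward f).obj F)) U x := by
    intro n U y x hxy
    have h1 := Groth.Agent.Lib.helper8.GEGlue.glueMap_apply (σ n) (ψ' n) (t n) (ha n) (hb n) U y
      (appLin (qπ (J ^ (n + c + 1)) ((pushforward f).obj F)) U x) ((hσ n U x).trans hxy)
    refine h1.trans ?_
    rw [← appLin_comp_apply]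
    exact congrArg (fun τ => appLin τ U x) (qπ_qTrans (pow_le J n c) ((pushforward f).obj F))
  -- descent to `P_n`
  have hle2 : ∀ n : ℕ, n ≤ n + c + c := fun n => by omega
  have hdesc : ∀ n, ∃ l : P.obj (op n) ⟶ Q (J ^ (n + 1)) ((pushforward f).obj F),
      P.map (homOfLE (hle2 n)).op ≫ l = w n := fun n =>
    IsCok.desc (isCok_map J P hP (hle2 n)) (w n) (killedBy_Q _ _)
  choose l hl using hdesc
  haveI hepi : ∀ (n k : ℕ) (h : n ≤ k), Epi (P.map (homOfLE h).op) := fun n k h =>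
    (isCok_map J P hP h).epi
  -- transitions of the relation
  have hPP : ∀ (n k j : ℕ) (h1 : n ≤ k) (h2 : k ≤ j) (U : Y.Opens) (y : Γ(P.obj (op j), U)),
      appLin (P.map (homOfLE h1).op) U (appLin (P.map (homOfLE h2).op) U y) =
        appLin (P.map (homOfLE (h1.trans h2)).op) U y := by
    intro n k j h1 h2 U y
    rw [← appLin_comp_apply, ← P.map_comp]
    rfl
  have hrel : ∀ (n k : ℕ) (h : n ≤ k) (U : Y.Opens) (y : Γ(P.obj (op (k + c + c)), U))
      (x : Γ((pushforward f).obj F, U)),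
      appLin ((pushforward f).map (qπ (J ^ (k + c + 1)) F)) U x = appLin (ψ' k) U y →
      appLin ((pushforward f).map (qπ (J ^ (n + c + 1)) F)) U x =
        appLin (ψ' n) U (appLin (P.map (homOfLE (by omega : n + c + c ≤ k + c + c)).op) U y) := by
    intro n k h U y x hxy
    have hle1 : J ^ (k + c + 1) ≤ J ^ (n + c + 1) := Ideal.pow_le_pow_right (by omega)
    have hle3 : J ^ (k + c + c + 1) ≤ J ^ (n + c + c + 1) := Ideal.pow_le_pow_right (by omega)
    have e1 : appLin ((pushforward f).map (qπ (J ^ (n + c + 1)) F)) U x =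
        appLin ((pushforward f).map (qTrans hle1 F)) U
          (appLin ((pushforward f).map (qπ (J ^ (k + c + 1)) F)) U x) := by
      rw [← appLin_comp_apply, ← Functor.map_comp, qπ_qTrans]
    rw [e1, hxy]
    have key : ψ' k ≫ (pushforward f).map (qTrans hle1 F) =
        P.map (homOfLE (by omega : n + c + c ≤ k + c + c)).op ≫ ψ' n := by
      change (ψ.app (op (k + c + c)) ≫ (pushforward f).map (qTrans (pow_le J (k + c) c) F)) ≫
          (pushforward f).map (qTrans hle1 F) =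
        P.map (homOfLE (by omega : n + c + c ≤ k + c + c)).op ≫
          (ψ.app (op (n + c + c)) ≫ (pushforward f).map (qTrans (pow_le J (n + c) c) F))
      rw [Category.assoc, ← Functor.map_comp, qTrans_comp, ← Category.assoc,
        ← psi_nat f ψ (by omega : n + c + c ≤ k + c + c), Category.assoc, ← Functor.map_comp,
        qTrans_comp]
    exact congrArg (fun τ => appLin τ U y) key
  -- naturality
  have hnat : ∀ (n k : ℕ) (h : n ≤ k),
      P.map (homOfLE h).op ≫ l n = l k ≫ qTrans (Ideal.pow_le_pow_right (Nat.succ_le_succ h)) _ := by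
    intro n k h
    rw [← cancel_epi (P.map (homOfLE (hle2 k)).op), ← Category.assoc, ← Category.assoc, hl k]
    have e0 : P.map (homOfLE (hle2 k)).op ≫ P.map (homOfLE h).op =
        P.map (homOfLE (by omega : n + c + c ≤ k + c + c)).op ≫ P.map (homOfLE (hle2 n)).op := by
      rw [← P.map_comp, ← P.map_comp]
      rfl
    rw [e0, Category.assoc, hl n]
    refine hom_ext_of_cover _ _ W D.aff D.cov (fun i y => ?_)
    obtain ⟨x, hx⟩ := hex i k y
    rw [appLin_comp_apply, appLin_comp_apply, hw k (W i) y x hx,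
      hw n (W i) _ x (hrel n k h (W i) y x hx), ← appLin_comp_apply, qπ_qTrans]
  -- the map of systems
  let u : P ⟶ Formal.completion J ((pushforward f).obj F) :=
    { app := fun n => l n.unop
      naturality := by
        intro n k g
        have hle : k.unop ≤ n.unop := leOfHom g.unop
        have eg : g = (homOfLE hle).op := Quiver.Hom.unop_inj (Subsingleton.elim _ _)
        rw [eg, completion_map]
        exact hnat _ _ hle }
  refine ⟨u, ?_⟩
  apply NatTrans.ext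
  funext ⟨n⟩
  change l n ≫ cmp f hf (J ^ (n + 1)) F = ψ.app (op n)
  rw [← cancel_epi (P.map (homOfLE (hle2 n)).op), ← Category.assoc, hl n]
  refine hom_ext_of_cover _ _ W D.aff D.cov (fun i y => ?_)
  obtain ⟨x, hx⟩ := hex i n y
  rw [appLin_comp_apply, hw n (W i) y x hx, ← appLin_comp_apply, qπ_cmp, appLin_comp_apply]
  have hle1 : J ^ (n + c + 1) ≤ J ^ (n + 1) := pow_le J n c
  have e1 : appLin ((pushforward f).map (qπ (J ^ (n + 1)) F)) (W i) x =
      appLin ((pushforward f).map (qTrans hle1 F)) (W i)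
        (appLin ((pushforward f).map (qπ (J ^ (n + c + 1)) F)) (W i) x) := by
    rw [← appLin_comp_apply, ← Functor.map_comp, qπ_qTrans]
  rw [e1, hx]
  have key : ψ' n ≫ (pushforward f).map (qTrans hle1 F) =
      P.map (homOfLE (hle2 n)).op ≫ ψ.app (op n) := by
    change (ψ.app (op (n + c + c)) ≫ (pushforward f).map (qTrans (pow_le J (n + c) c) F)) ≫
        (pushforward f).map (qTrans hle1 F) = _
    rw [Category.assoc, ← Functor.map_comp, qTrans_comp]
    exact psi_nat f ψ (hle2 n)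
  exact congrArg (fun τ => appLin τ (W i) y) key

end Lift

end Groth.Agent.Lib.helper8.GEPush
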