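import Mathlib
import Groth.Prelude.Def_ARSys
import Groth.Agent.Lib.Helper25.ImageLemmas

/-!
# Mittag-Leffler towers of modules: the limit surjects onto the stable images (helper8)

For `S : ℕᵒᵖ ⥤ ModuleCat A` satisfying `ARSys.IsML`:
* `range_eq_of_imageSubobject_eq`: equal image subobjects in `ModuleCat` have equal ranges.
* `exists_range_le_range_limitπ`: for every `n` there is `m ≥ n` with
  `range (S_m → S_n) ≤ range (lim S → S_n)`.
-/

set_option autoImplicit false
universe u

namespace Groth.Agent.Lib.helper8.MLMod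

open CategoryTheory CategoryTheory.Limits Opposite

variable {A : Type u} [CommRing A]

lemma range_le_of_imageSubobject_le {X Y Z : ModuleCat.{u} A} (f : X ⟶ Z) (g : Y ⟶ Z)
    (h : imageSubobject f ≤ imageSubobject g) :
    LinearMap.range f.hom ≤ LinearMap.range g.hom := by
  obtain ⟨P, π, hπ, w, hw⟩ := Groth.Agent.Lib.helper25.exists_refinement_of_imageSubobject_le f g h
  rintro _ ⟨x, rfl⟩
  obtain ⟨p, rfl⟩ := (ModuleCat.epi_iff_surjective π).mp hπ x
  refine ⟨w.hom p, ?_⟩
  have := congrArg (fun φ => φ.hom p) hw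
  simpa using this.symm

lemma range_eq_of_imageSubobject_eq {X Y Z : ModuleCat.{u} A} (f : X ⟶ Z) (g : Y ⟶ Z)
    (h : imageSubobject f = imageSubobject g) :
    LinearMap.range f.hom = LinearMap.range g.hom :=
  le_antisymm (range_le_of_imageSubobject_le f g h.le) (range_le_of_imageSubobject_le g f h.ge)

variable (S : ℕᵒᵖ ⥤ ModuleCat.{u} A)

/-- transition maps as linear maps -/
noncomputable def T {k j : ℕ} (h : k ≤ j) : S.obj (op j) →ₗ[A] S.obj (op k) :=
  (S.map (homOfLE h).op).hom

lemma T_comp {i j k : ℕ} (h1 : i ≤ j) (h2 : j ≤ k) (x : S.obj (op k)) :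
    T S h1 (T S h2 x) = T S (h1.trans h2) x := by
  have e : S.map (homOfLE (h1.trans h2)).op =
      S.map (homOfLE h2).op ≫ S.map (homOfLE h1).op := by
    rw [← S.map_comp]; rfl
  unfold T
  rw [e]
  rfl

lemma T_refl {k : ℕ} (x : S.obj (op k)) : T S (le_refl k) x = x := by
  have e : S.map (homOfLE (le_refl k)).op = 𝟙 _ := S.map_id _
  unfold T
  rw [e]
  rfl

lemma T_eq_map {k j : ℕ} (g : op j ⟶ op k) (x : S.obj (op j)) :
    (S.map g).hom x = T S (leOfHom g.unop) x := by
  have eg : g = (homOfLE (leOfHom g.unop)).op := Quiver.Hom.unop_inj (Subsingleton.elim _ _)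
  conv_lhs => rw [eg]
  rfl

/-- the stable range data of a Mittag-Leffler tower -/
lemma exists_stable (hS : ARSys.IsML S) : ∃ r : ℕ → ℕ, ∀ (k j : ℕ) (h : k + r k ≤ j),
    LinearMap.range (T S ((Nat.le_add_right k (r k)).trans h)) =
      LinearMap.range (T S (Nat.le_add_right k (r k))) := by
  choose r hr using hS
  refine ⟨r, fun k j h => ?_⟩
  obtain ⟨s, rfl⟩ : ∃ s, j = k + s := ⟨j - k, by omega⟩
  have hs : r k ≤ s := by omega
  exact range_eq_of_imageSubobject_eq _ _ (hr k s hs)

theorem exists_range_le_range_limitπ (hS : ARSys.IsML S) (n : ℕ) :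
    ∃ (m : ℕ) (h : n ≤ m), LinearMap.range (T S h) ≤ LinearMap.range (limit.π S (op n)).hom := by
  classical
  obtain ⟨r, hr⟩ := exists_stable S hS
  -- stable images
  let Est : ∀ k : ℕ, Submodule A (S.obj (op k)) :=
    fun k => LinearMap.range (T S (Nat.le_add_right k (r k)))
  have hEst : ∀ (k j : ℕ) (h : k + r k ≤ j),
      LinearMap.range (T S ((Nat.le_add_right k (r k)).trans h)) = Est k := hr
  have hmaps : ∀ {k k' : ℕ} (h : k ≤ k') (z : S.obj (op k')), z ∈ Est k' → T S h z ∈ Est k := by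
    intro k k' h z hz
    let j := max (k' + r k') (k + r k)
    have hj1 : k' + r k' ≤ j := le_max_left _ _
    have hj2 : k + r k ≤ j := le_max_right _ _
    rw [← hEst k' j hj1] at hz
    obtain ⟨x, rfl⟩ := hz
    rw [T_comp, ← hEst k j hj2]
    exact ⟨x, rfl⟩
  have hsurj : ∀ {k k' : ℕ} (h : k ≤ k') (e : S.obj (op k)), e ∈ Est k →
      ∃ z ∈ Est k', T S h z = e := by
    intro k k' h e he
    let j := max (k' + r k') (k + r k)
    have hj1 : k' + r k' ≤ j := le_max_left _ _
    have hj2 : k + r k ≤ j := le_max_right _ _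
    rw [← hEst k j hj2] at he
    obtain ⟨x, rfl⟩ := he
    refine ⟨T S ((Nat.le_add_right k' (r k')).trans hj1) x, ?_, ?_⟩
    · rw [← hEst k' j hj1]
      exact ⟨x, rfl⟩
    · rw [T_comp]
  refine ⟨n + r n, Nat.le_add_right n (r n), ?_⟩
  rintro _ ⟨x0, rfl⟩
  -- the tower of stable images above `n`
  let E : ℕᵒᵖ ⥤ Type u :=
    { obj := fun i => {z : S.obj (op (n + i.unop)) // z ∈ Est (n + i.unop)}
      map := fun {i j} f => TypeCat.ofHom (fun z =>
        ⟨T S (Nat.add_le_add_left (leOfHom f.unop) n) z.1,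
          hmaps (Nat.add_le_add_left (leOfHom f.unop) n) z.1 z.2⟩)
      map_id := by
        intro i
        ext z
        exact T_refl S z.1
      map_comp := by
        intro i j k f g
        ext z
        exact (T_comp S _ _ z.1).symm }
  have hE : ∀ i, Function.Surjective (E.map (homOfLE (Nat.le_succ i)).op) := by
    intro i e
    obtain ⟨z, hz, hze⟩ := hsurj (Nat.add_le_add_left (Nat.le_succ i) n) e.1 e.2
    exact ⟨⟨z, hz⟩, Subtype.ext hze⟩
  let e0 : E.obj (op 0) := ⟨T S (Nat.le_add_right n (r n)) x0, ⟨x0, rfl⟩⟩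
  obtain ⟨s, hs⟩ := Types.surjective_π_app_zero_of_surjective_map (Types.limitConeIsLimit E) hE e0
  have hs0 : (s.1 (op 0)).1 = T S (Nat.le_add_right n (r n)) x0 := congrArg Subtype.val hs
  have hsec : ∀ {i i' : ℕ} (h : i ≤ i'),
      T S (Nat.add_le_add_left h n) (s.1 (op i')).1 = (s.1 (op i)).1 := by
    intro i i' h
    exact congrArg Subtype.val (s.2 (homOfLE h).op)
  -- the compatible family
  let y : ∀ k : ℕᵒᵖ, S.obj k := fun k => T S (Nat.le_add_left k.unop n) (s.1 (op k.unop)).1
  have hy : ∀ {j j' : ℕᵒᵖ} (f : j ⟶ j'), (S ⋙ forget (ModuleCat.{u} A)).map f (y j) = y j' := by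
    intro j j' f
    induction j using Opposite.rec with
    | op k' =>
      induction j' using Opposite.rec with
      | op k =>
        have hkk : k ≤ k' := leOfHom f.unop
        change (S.map f).hom (y (op k')) = y (op k)
        rw [T_eq_map]
        change T S _ (T S (Nat.le_add_left k' n) (s.1 (op k')).1) =
          T S (Nat.le_add_left k n) (s.1 (op k)).1
        rw [T_comp, ← hsec hkk, T_comp]
  let sec : (S ⋙ forget (ModuleCat.{u} A)).sections := ⟨y, fun f => hy f⟩
  let hlim := isLimitOfPreserves (forget (ModuleCat.{u} A)) (limit.isLimit S)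
  refine ⟨(Types.isLimitEquivSections hlim).symm sec, ?_⟩
  have h1 := Types.isLimitEquivSections_symm_apply hlim sec (op n)
  change (limit.π S (op n)).hom ((Types.isLimitEquivSections hlim).symm sec) = y (op n) at h1
  rw [h1]
  change T S (Nat.le_add_left n n) (s.1 (op n)).1 = _
  rw [← hs0, ← hsec (Nat.zero_le n)]

/-- a functor preserving epimorphisms and sending the transition maps of a Mittag-Leffler tower to
epimorphisms sends the projections from the limit to epimorphisms -/
theorem epi_map_limitπ {D : Type*} [Category D] (Φ : ModuleCat.{u} A ⥤ D)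
    [Φ.PreservesEpimorphisms] (hS : ARSys.IsML S) (n : ℕ)
    (hΦ : ∀ (m : ℕ) (h : n ≤ m), Epi (Φ.map (S.map (homOfLE h).op))) :
    Epi (Φ.map (limit.π S (op n))) := by
  obtain ⟨m, hnm, hle⟩ := exists_range_le_range_limitπ S hS n
  have ht := hΦ m hnm
  let E : Submodule A (S.obj (op n)) := LinearMap.range (limit.π S (op n)).hom
  let ι : ModuleCat.of A E ⟶ S.obj (op n) := ModuleCat.ofHom E.subtype
  let p' : limit S ⟶ ModuleCat.of A E := ModuleCat.ofHom (limit.π S (op n)).hom.rangeRestrict
  let t' : S.obj (op m) ⟶ ModuleCat.of A E :=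
    ModuleCat.ofHom (LinearMap.codRestrict E (S.map (homOfLE hnm).op).hom (fun x => hle ⟨x, rfl⟩))
  have hp : p' ≫ ι = limit.π S (op n) := by
    ext x
    rfl
  have ht' : t' ≫ ι = S.map (homOfLE hnm).op := by
    ext x
    rfl
  haveI : Epi p' :=
    (ModuleCat.epi_iff_surjective p').mpr (limit.π S (op n)).hom.surjective_rangeRestrict
  haveI : Epi (Φ.map ι) := by
    have : Epi (Φ.map t' ≫ Φ.map ι) := by
      rw [← Φ.map_comp, ht']
      exact ht
    exact epi_of_epi (Φ.map t') (Φ.map ι)
  rw [← hp, Φ.map_comp]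
  infer_instance

end Groth.Agent.Lib.helper8.MLMod
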