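import Mathlib
import Groth.Prelude.Def_Algz

/-!
# `Algz.IsProIsomorphic` is symmetric (helper8)

* `tr_comp`, `tr_naturality`: transition maps of ℕ-indexed inverse systems.
* `isProIsomorphic_symm`: if `X` is pro-isomorphic to `Y` then `Y` is pro-isomorphic to `X`.
* `isProIsomorphic_of_levelwise`: a levelwise pro-isomorphism gives `IsProIsomorphic`.
-/

set_option autoImplicit false

namespace Groth.Agent.Lib.helper8.ProSymm

open CategoryTheory Opposite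

variable {C : Type*} [Category C]

lemma tr_comp (X : ARSys.PS C) {a b c : ℕ} (h1 : a ≤ b) (h2 : b ≤ c) :
    ARSys.tr X h2 ≫ ARSys.tr X h1 = ARSys.tr X (h1.trans h2) := by
  change X.map (homOfLE h2).op ≫ X.map (homOfLE h1).op = X.map (homOfLE (h1.trans h2)).op
  rw [← X.map_comp]
  rfl

lemma tr_comp_assoc (X : ARSys.PS C) {a b c : ℕ} (h1 : a ≤ b) (h2 : b ≤ c) {Z : C}
    (g : X.obj (op a) ⟶ Z) :
    ARSys.tr X h2 ≫ ARSys.tr X h1 ≫ g = ARSys.tr X (h1.trans h2) ≫ g := by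
  rw [← Category.assoc, tr_comp]

lemma tr_naturality {X Y : ARSys.PS C} (a : X ⟶ Y) {i j : ℕ} (h : i ≤ j) :
    ARSys.tr X h ≫ a.app (op i) = a.app (op j) ≫ ARSys.tr Y h :=
  a.naturality (homOfLE h).op

lemma map_eq_tr (X : ARSys.PS C) {x y : ℕᵒᵖ} (f : x ⟶ y) :
    X.map f = ARSys.tr X (leOfHom f.unop) := by
  have : f = (homOfLE (leOfHom f.unop)).op := Quiver.Hom.unop_inj (Subsingleton.elim _ _)
  rw [this]

/-- a levelwise pro-isomorphism gives `IsProIsomorphic` -/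
lemma isProIsomorphic_of_levelwise {X Y : ARSys.PS C} (a : X ⟶ Y) (ha : DerCA.IsProIso a) :
    Algz.IsProIsomorphic X Y := by
  refine ⟨id, monotone_id, fun n => le_refl n, ?_⟩
  let a₀ : DerCA.reindex X monotone_id ⟶ Y :=
    { app := fun x => a.app x
      naturality := by
        intro x y f
        have hf : (Monotone.functor (f := (id : ℕ → ℕ)) monotone_id).op.map f = f :=
          Quiver.Hom.unop_inj (Subsingleton.elim _ _)
        change X.map ((Monotone.functor (f := (id : ℕ → ℕ)) monotone_id).op.map f) ≫ a.app y = _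
        rw [hf]
        exact a.naturality f }
  refine ⟨a₀, ?_⟩
  intro n
  obtain ⟨k, hk, b, hb1, hb2⟩ := ha n
  exact ⟨k, hk, b, hb1, hb2⟩

/-- build a morphism of inverse systems from components compatible with the transition maps -/
def mkNat {P Q : ARSys.PS C} (φ : ∀ n : ℕ, P.obj (op n) ⟶ Q.obj (op n))
    (hφ : ∀ (i j : ℕ) (h : i ≤ j), ARSys.tr P h ≫ φ i = φ j ≫ ARSys.tr Q h) : P ⟶ Q where
  app x := φ x.unop
  naturality x y f := by
    have hf : f = (homOfLE (leOfHom f.unop)).op := Quiver.Hom.unop_inj (Subsingleton.elim _ _)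
    rw [hf]
    exact hφ _ _ _

@[simp] lemma mkNat_app {P Q : ARSys.PS C} (φ : ∀ n : ℕ, P.obj (op n) ⟶ Q.obj (op n))
    (hφ : ∀ (i j : ℕ) (h : i ≤ j), ARSys.tr P h ≫ φ i = φ j ≫ ARSys.tr Q h) (n : ℕ) :
    (mkNat φ hφ).app (op n) = φ n := rfl

/-- core of the symmetry of `IsProIsomorphic`, with all objects written explicitly -/
theorem symm_core {X Y : ARSys.PS C} (m : ℕ → ℕ) (hm : Monotone m) (hmn : ∀ n, n ≤ m n)
    (α : ∀ n : ℕ, X.obj (op (m n)) ⟶ Y.obj (op n))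
    (hα : ∀ (i j : ℕ) (h : i ≤ j), ARSys.tr X (hm h) ≫ α i = α j ≫ ARSys.tr Y h)
    (hpro : ∀ n : ℕ, ∃ (k : ℕ) (h : n ≤ k) (b : Y.obj (op k) ⟶ X.obj (op (m n))),
      α k ≫ b = ARSys.tr X (hm h) ∧ b ≫ α n = ARSys.tr Y h) :
    Algz.IsProIsomorphic Y X := by
  have hα' : ∀ (i j : ℕ) (h : i ≤ j) {Z : C} (g : Y.obj (op i) ⟶ Z),
      ARSys.tr X (hm h) ≫ α i ≫ g = α j ≫ ARSys.tr Y h ≫ g := by
    intro i j h Z g
    rw [← Category.assoc, hα i j h, Category.assoc]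
  choose k hk b hb1 hb2 using hpro
  let K : ℕ → ℕ := fun n => (Finset.range (n + 1)).sup k
  have hKmono : Monotone K := fun i j hij =>
    Finset.sup_mono (Finset.range_mono (Nat.succ_le_succ hij))
  have hkK : ∀ n, k n ≤ K n := fun n =>
    Finset.le_sup (f := k) (Finset.mem_range.2 (Nat.lt_succ_self n))
  have hnK : ∀ n, n ≤ K n := fun n => (hk n).trans (hkK n)
  obtain ⟨B, hB⟩ : ∃ B : ∀ n, Y.obj (op (K n)) ⟶ X.obj (op (m n)),
      ∀ n, B n = ARSys.tr Y (hkK n) ≫ b n := ⟨fun n => ARSys.tr Y (hkK n) ≫ b n, fun _ => rfl⟩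
  have hB1 : ∀ n, α (K n) ≫ B n = ARSys.tr X (hm (hnK n)) := by
    intro n
    rw [hB n, ← hα' _ _ (hkK n), hb1 n]
    exact tr_comp X (hm (hk n)) (hm (hkK n))
  have hB1' : ∀ n {Z : C} (g : X.obj (op (m n)) ⟶ Z),
      α (K n) ≫ B n ≫ g = ARSys.tr X (hm (hnK n)) ≫ g := by
    intro n Z g
    rw [← Category.assoc, hB1 n]
  have hB2 : ∀ n, B n ≫ α n = ARSys.tr Y (hnK n) := by
    intro n
    rw [hB n, Category.assoc, hb2 n, tr_comp]
  -- the key identity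
  have L : ∀ (n j : ℕ) (hnj : n ≤ j),
      ARSys.tr Y ((hKmono hnj).trans (hnK (K j))) ≫ B n ≫ ARSys.tr X (hmn n) =
        B (K j) ≫ ARSys.tr X ((hmn n).trans (hm (hnj.trans (hnK j)))) := by
    intro n j hnj
    have e1 : ARSys.tr Y ((hKmono hnj).trans (hnK (K j))) =
        ARSys.tr Y (hnK (K j)) ≫ ARSys.tr Y (hKmono hnj) := (tr_comp Y _ _).symm
    rw [e1, ← hB2 (K j), Category.assoc, Category.assoc, ← hα' _ _ (hKmono hnj), hB1' n,
      tr_comp_assoc, tr_comp]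
  have hm' : Monotone (fun n => K (K n)) := fun i j hij => hKmono (hKmono hij)
  let φ : ∀ n : ℕ, Y.obj (op (K (K n))) ⟶ X.obj (op n) := fun n =>
    ARSys.tr Y (hnK (K n)) ≫ B n ≫ ARSys.tr X (hmn n)
  have hφ : ∀ (i j : ℕ) (h : i ≤ j), ARSys.tr Y (hm' h) ≫ φ i = φ j ≫ ARSys.tr X h := by
    intro i j h
    change ARSys.tr Y (hm' h) ≫ ARSys.tr Y (hnK (K i)) ≫ B i ≫ ARSys.tr X (hmn i) =
      (ARSys.tr Y (hnK (K j)) ≫ B j ≫ ARSys.tr X (hmn j)) ≫ ARSys.tr X h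
    rw [tr_comp_assoc, L i j h, L j j (le_refl j), Category.assoc, tr_comp]
  refine ⟨fun n => K (K n), hm', fun n => (hnK n).trans (hnK (K n)),
    mkNat (P := DerCA.reindex Y hm') (Q := X) φ hφ, ?_⟩
  intro n
  refine ⟨m (K (K n)), ((hnK n).trans (hnK (K n))).trans (hmn _), α (K (K n)), ?_, ?_⟩
  · -- `a'_j ≫ α_{KKn} = tr Y`
    change (ARSys.tr Y (hnK (K (m (K (K n))))) ≫ B (m (K (K n))) ≫ ARSys.tr X (hmn (m (K (K n))))) ≫
      α (K (K n)) = ARSys.tr Y (hm' (((hnK n).trans (hnK (K n))).trans (hmn _)))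
    have h1 : ARSys.tr X (hmn (m (K (K n)))) ≫ α (K (K n)) =
        α (m (K (K n))) ≫ ARSys.tr Y (hmn (K (K n))) := hα _ _ (hmn (K (K n)))
    rw [Category.assoc, Category.assoc, h1, ← Category.assoc (B _), hB2, tr_comp, tr_comp]
  · change α (K (K n)) ≫ ARSys.tr Y (hnK (K n)) ≫ B n ≫ ARSys.tr X (hmn n) =
      ARSys.tr X (((hnK n).trans (hnK (K n))).trans (hmn _))
    rw [← hα' _ _ (hnK (K n)), hB1' n, tr_comp_assoc, tr_comp]

/-- `IsProIsomorphic` is symmetric -/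
theorem isProIsomorphic_symm {X Y : ARSys.PS C} (h : Algz.IsProIsomorphic X Y) :
    Algz.IsProIsomorphic Y X := by
  obtain ⟨m, hm, hmn, a, ha⟩ := h
  refine symm_core m hm hmn (fun n => a.app (op n)) (fun i j h => a.naturality (homOfLE h).op) ?_
  intro n
  obtain ⟨k, hk, b, hb1, hb2⟩ := ha n
  exact ⟨k, hk, b, hb1, hb2⟩

end Groth.Agent.Lib.helper8.ProSymm
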