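import Mathlib
import Groth.Agent.Lib.Helper8.AffineExistence
import Groth.Agent.Lib.Helper8.MLModule
import Groth.Agent.Lib.Helper8.ProIsoSymm

/-!
# Towers of modules and coherent formal modules on `Spec A` (helper8)

* `Mq I M`: the tower `n ↦ M / I^(n+1) M` in `ModuleCat A`, with `Mq_smul_top`, `Mq_surjective`, `Mq_ker`.
* `killedBy_of_gamma`: a quasi-coherent module on `Spec A` whose global sections are killed by `𝔞` is
  killed by `𝔞`.
* `isCohFormal_tilde_tower`: a tower `T` of finite `A`-modules with `I^(n+1) T_n = 0` and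
  `T_{n+1} / I^(n+1) T_{n+1} = T_n` gives the coherent formal module `(T_n~)` on `Spec A`.
* `exists_proIso_Mq`: for a Mittag-Leffler tower `T` with `I^(n+1) T_n = 0` whose limit `M` has the
  `I`-adic topology as limit topology, `(M / I^(n+1) M) ⟶ T` is a pro-isomorphism.
-/

set_option autoImplicit false
set_option linter.style.haveILetI false
set_option linter.unusedSectionVars false
universe u

namespace Groth.Agent.Lib.helper8.AdicTower

open CategoryTheory CategoryTheory.Limits AlgebraicGeometry Opposite TopologicalSpace Formal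
open Groth.Agent.Lib.helper8.FF Groth.Agent.Lib.helper8.Rees Groth.Agent.Lib.helper8.FTors
open Groth.Agent.Lib.Lead.GE Groth.Agent.Lib.helper8.AlgzSpec Groth.Agent.Lib.helper8.AffEx
open Scheme.Modules

section Quot

variable {A : Type u} [CommRing A] (I : Ideal A) (M : ModuleCat.{u} A)

lemma pow_smul_le {n m : ℕ} (h : n ≤ m) :
    I ^ (m + 1) • (⊤ : Submodule A M) ≤ I ^ (n + 1) • (⊤ : Submodule A M) :=
  Submodule.smul_mono_left (Ideal.pow_le_pow_right (Nat.succ_le_succ h))

/-- the tower `n ↦ M / I^(n+1) M` -/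
noncomputable def Mq : ℕᵒᵖ ⥤ ModuleCat.{u} A where
  obj n := ModuleCat.of A (M ⧸ (I ^ (n.unop + 1) • (⊤ : Submodule A M)))
  map {x y} f := ModuleCat.ofHom (Submodule.factor (pow_smul_le I M (leOfHom f.unop)))
  map_id x := by
    apply ModuleCat.hom_ext
    apply LinearMap.ext
    intro z
    obtain ⟨z, rfl⟩ := Submodule.mkQ_surjective _ z
    change Submodule.factor (pow_smul_le I M (le_refl x.unop)) (Submodule.mkQ _ z) =
      Submodule.mkQ _ z
    exact Submodule.factor_mk _ z
  map_comp {x y w} f g := by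
    apply ModuleCat.hom_ext
    apply LinearMap.ext
    intro z
    obtain ⟨z, rfl⟩ := Submodule.mkQ_surjective _ z
    change Submodule.factor (pow_smul_le I M (leOfHom (f ≫ g).unop)) (Submodule.mkQ _ z) =
      Submodule.factor (pow_smul_le I M (leOfHom g.unop))
        (Submodule.factor (pow_smul_le I M (leOfHom f.unop)) (Submodule.mkQ _ z))
    rw [Submodule.factor_mk, Submodule.factor_mk, Submodule.factor_mk]

/-- the projection `M ⟶ M / I^(n+1) M` -/
noncomputable def mqπ (n : ℕ) : M ⟶ (Mq I M).obj (op n) :=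
  ModuleCat.ofHom (Submodule.mkQ _)

lemma mqπ_surjective (n : ℕ) : Function.Surjective (mqπ I M n).hom :=
  Submodule.mkQ_surjective _

lemma Mq_map_mqπ {n m : ℕ} (h : n ≤ m) (x : M) :
    ((Mq I M).map (homOfLE h).op).hom ((mqπ I M m).hom x) = (mqπ I M n).hom x := rfl

lemma mqπ_eq_zero_iff (n : ℕ) (x : M) :
    (mqπ I M n).hom x = 0 ↔ x ∈ I ^ (n + 1) • (⊤ : Submodule A M) :=
  Submodule.Quotient.mk_eq_zero _

lemma Mq_smul_top (n : ℕ) :
    I ^ (n + 1) • (⊤ : Submodule A ((Mq I M).obj (op n))) = ⊥ := by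
  rw [eq_bot_iff, Submodule.smul_le]
  intro a ha z _
  obtain ⟨x, rfl⟩ := mqπ_surjective I M n z
  rw [Submodule.mem_bot, ← LinearMap.map_smul, mqπ_eq_zero_iff]
  exact Submodule.smul_mem_smul ha Submodule.mem_top

lemma Mq_surjective (n : ℕ) :
    Function.Surjective ((Mq I M).map (homOfLE (Nat.le_succ n)).op).hom := by
  intro z
  obtain ⟨x, rfl⟩ := mqπ_surjective I M n z
  exact ⟨(mqπ I M (n + 1)).hom x, rfl⟩

lemma Mq_ker (n : ℕ) :
    LinearMap.ker ((Mq I M).map (homOfLE (Nat.le_succ n)).op).hom =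
      I ^ (n + 1) • (⊤ : Submodule A ((Mq I M).obj (op (n + 1)))) := by
  apply le_antisymm
  · intro z hz
    obtain ⟨x, rfl⟩ := mqπ_surjective I M (n + 1) z
    rw [LinearMap.mem_ker, Mq_map_mqπ, mqπ_eq_zero_iff] at hz
    exact Groth.Agent.Lib.helper8.LimAdic.map_mem_smul_top (I ^ (n + 1)) (mqπ I M (n + 1)).hom hz
  · rw [Submodule.smul_le]
    intro a ha z _
    rw [LinearMap.mem_ker, LinearMap.map_smul]
    have h3 : a • ((Mq I M).map (homOfLE (Nat.le_succ n)).op).hom z ∈
        I ^ (n + 1) • (⊤ : Submodule A ((Mq I M).obj (op n))) :=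
      Submodule.smul_mem_smul ha Submodule.mem_top
    rw [Mq_smul_top] at h3
    exact (Submodule.mem_bot A).1 h3

end Quot

section Affine

variable {A : Type u} [CommRing A]

attribute [local instance 2000] Groth.Agent.Lib.helper8.AlgzSpec.ovr

/-- a quasi-coherent module on `Spec A` whose global sections are killed by `𝔞` is killed by `𝔞` -/
theorem killedBy_of_gamma {𝔞 : Ideal A} {M : (Spec (CommRingCat.of A)).Modules} [M.IsQuasicoherent]
    (h : 𝔞 • (⊤ : Submodule A ↑((GΓ A).obj M)) = ⊥) : KilledBy 𝔞 M := by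
  intro a ha
  refine hom_eq_zero_of_cover (smulMod A M a) (fun _ : Unit => (⊤ : (Spec (CommRingCat.of A)).Opens))
    (fun _ => isAffineOpen_top _) (fun x => ⟨(), trivial⟩) (fun _ s => ?_)
  rw [appLin_smulMod]
  have h1 : a • (show ↑((GΓ A).obj M) from s) ∈ 𝔞 • (⊤ : Submodule A ↑((GΓ A).obj M)) :=
    Submodule.smul_mem_smul ha Submodule.mem_top
  rw [h] at h1
  exact (smul_eq M a s).symm.trans ((Submodule.mem_bot A).1 h1)

/-- the unit `N ⟶ Γ(Spec A, N~)` -/
noncomputable abbrev un (N : ModuleCat.{u} A) :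
    N ⟶ (GΓ A).obj (tilde (R := CommRingCat.of A) N) :=
  (tilde.adjunction (R := CommRingCat.of A)).unit.app N

set_option backward.isDefEq.respectTransparency.types false in
lemma un_bijective (N : ModuleCat.{u} A) : Function.Bijective (un N).hom := by
  haveI h1 : IsIso (tilde.adjunction (R := CommRingCat.of A)).unit := by
    dsimp [tilde.adjunction]; infer_instance
  haveI : IsIso (un N) := NatIso.isIso_app_of_isIso _ _
  exact ConcreteCategory.bijective_of_isIso _

lemma un_naturality {N N' : ModuleCat.{u} A} (f : N ⟶ N') (x : N) :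
    ((GΓ A).map (tilde.map (R := CommRingCat.of A) f)).hom ((un N).hom x) =
      (un N').hom (f.hom x) := by
  have h := (tilde.adjunction (R := CommRingCat.of A)).unit.naturality f
  exact (congrArg (fun φ => φ.hom x) h).symm

/-- a tower of finite modules with `I^(n+1) T_n = 0` and `T_{n+1} / I^(n+1) T_{n+1} = T_n` gives a coherent
formal module on `Spec A` -/
theorem isCohFormal_tilde_tower (I : Ideal A) (T : ℕᵒᵖ ⥤ ModuleCat.{u} A)
    (hfin : ∀ n, Module.Finite A (T.obj (op n)))
    (hk : ∀ n, I ^ (n + 1) • (⊤ : Submodule A (T.obj (op n))) = ⊥)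
    (hf : ∀ n, Function.Surjective (T.map (homOfLE (Nat.le_succ n)).op).hom)
    (hker : ∀ n, LinearMap.ker (T.map (homOfLE (Nat.le_succ n)).op).hom =
      I ^ (n + 1) • (⊤ : Submodule A (T.obj (op (n + 1))))) :
    Formal.IsCohFormal I (T ⋙ tilde.functor (CommRingCat.of A)) := by
  have hcoh : ∀ n, Coh.IsCoh (tilde (R := CommRingCat.of A) (T.obj (op n))) := fun n =>
    haveI : Module.Finite (CommRingCat.of A) (T.obj (op n)) := hfin n
    isCoh_tilde' (CommRingCat.of A) (T.obj (op n))
  haveI hq : ∀ n, (tilde (R := CommRingCat.of A) (T.obj (op n))).IsQuasicoherent := fun n =>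
    (hcoh n).1
  have hk' : ∀ n, I ^ (n + 1) • (⊤ : Submodule A
      ↑((GΓ A).obj (tilde (R := CommRingCat.of A) (T.obj (op n))))) = ⊥ := by
    intro n
    rw [eq_bot_iff, Submodule.smul_le]
    intro a ha z _
    obtain ⟨x, rfl⟩ := (un_bijective (T.obj (op n))).2 z
    rw [Submodule.mem_bot, ← LinearMap.map_smul]
    have h1 : a • x ∈ I ^ (n + 1) • (⊤ : Submodule A (T.obj (op n))) :=
      Submodule.smul_mem_smul ha Submodule.mem_top
    rw [hk n] at h1
    rw [(Submodule.mem_bot A).1 h1, map_zero]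
  refine ⟨fun n => hcoh n, fun n => killedBy_of_gamma
    (M := tilde (R := CommRingCat.of A) (T.obj (op n))) (hk' n), fun n => ?_⟩
  have key : IsCok (I ^ (n + 1))
      (tilde.map (R := CommRingCat.of A) (T.map (homOfLE (Nat.le_succ n)).op)) := by
    refine isCok_of_gamma (M := tilde (R := CommRingCat.of A) (T.obj (op (n + 1))))
      (R := tilde (R := CommRingCat.of A) (T.obj (op n))) _ ?_ ?_
    · intro y
      obtain ⟨x, rfl⟩ := (un_bijective (T.obj (op n))).2 y
      obtain ⟨x', rfl⟩ := hf n x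
      exact ⟨(un (T.obj (op (n + 1)))).hom x', un_naturality _ x'⟩
    · apply le_antisymm
      · intro z hz
        obtain ⟨x, rfl⟩ := (un_bijective (T.obj (op (n + 1)))).2 z
        rw [LinearMap.mem_ker] at hz
        have hz' := (un_naturality (T.map (homOfLE (Nat.le_succ n)).op) x).symm.trans hz
        have h0 : (T.map (homOfLE (Nat.le_succ n)).op).hom x = 0 :=
          (un_bijective (T.obj (op n))).1 (hz'.trans (map_zero _).symm)
        have h1 : x ∈ LinearMap.ker (T.map (homOfLE (Nat.le_succ n)).op).hom := h0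
        rw [hker n] at h1
        exact Groth.Agent.Lib.helper8.LimAdic.map_mem_smul_top (I ^ (n + 1))
          (un (T.obj (op (n + 1)))).hom h1
      · rw [Submodule.smul_le]
        intro a ha z _
        rw [LinearMap.mem_ker, LinearMap.map_smul]
        have h3 : a • ((GΓ A).map (tilde.map (R := CommRingCat.of A)
            (T.map (homOfLE (Nat.le_succ n)).op))).hom z ∈
            I ^ (n + 1) • (⊤ : Submodule A
              ↑((GΓ A).obj (tilde (R := CommRingCat.of A) (T.obj (op n))))) :=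
          Submodule.smul_mem_smul ha Submodule.mem_top
        rw [hk' n] at h3
        exact (Submodule.mem_bot A).1 h3
  exact key

end Affine

section ProIso

variable {A : Type u} [CommRing A] (I : Ideal A) (T : ℕᵒᵖ ⥤ ModuleCat.{u} A)
  (hk : ∀ n, I ^ (n + 1) • (⊤ : Submodule A (T.obj (op n))) = ⊥)

open Groth.Agent.Lib.helper8.MLMod

include hk in
lemma smul_le_ker (n : ℕ) : I ^ (n + 1) • (⊤ : Submodule A ↑(limit T)) ≤
    LinearMap.ker (limit.π T (op n)).hom := by
  rw [Submodule.smul_le]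
  intro a ha x _
  rw [LinearMap.mem_ker, LinearMap.map_smul]
  have h3 : a • (limit.π T (op n)).hom x ∈ I ^ (n + 1) • (⊤ : Submodule A (T.obj (op n))) :=
    Submodule.smul_mem_smul ha Submodule.mem_top
  rw [hk n] at h3
  exact (Submodule.mem_bot A).1 h3

/-- `M / I^(n+1) M ⟶ T_n`, `M = lim T` -/
noncomputable def φq (n : ℕ) : (Mq I (limit T)).obj (op n) ⟶ T.obj (op n) :=
  ModuleCat.ofHom (Submodule.liftQ _ (limit.π T (op n)).hom (smul_le_ker I T hk n))

lemma φq_mqπ (n : ℕ) (x : ↑(limit T)) :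
    (φq I T hk n).hom ((mqπ I (limit T) n).hom x) = (limit.π T (op n)).hom x := rfl

lemma limitπ_T {i j : ℕ} (h : i ≤ j) (x : ↑(limit T)) :
    MLMod.T T h ((limit.π T (op j)).hom x) = (limit.π T (op i)).hom x :=
  congrArg (fun φ => φ.hom x) (limit.w T (homOfLE h).op)

lemma φq_nat (i j : ℕ) (h : i ≤ j) :
    ARSys.tr (Mq I (limit T)) h ≫ φq I T hk i = φq I T hk j ≫ ARSys.tr T h := by
  apply ModuleCat.hom_ext
  apply LinearMap.ext
  intro z
  obtain ⟨x, rfl⟩ := mqπ_surjective I (limit T) j z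
  change (φq I T hk i).hom (((Mq I (limit T)).map (homOfLE h).op).hom ((mqπ I (limit T) j).hom x)) =
    MLMod.T T h ((φq I T hk j).hom ((mqπ I (limit T) j).hom x))
  rw [Mq_map_mqπ, φq_mqπ, φq_mqπ, limitπ_T]

/-- the canonical map `(M / I^(n+1) M) ⟶ T` -/
noncomputable def toT : Mq I (limit T) ⟶ T :=
  Groth.Agent.Lib.helper8.ProSymm.mkNat (φq I T hk) (φq_nat I T hk)

lemma ker_limitπ_le {i j : ℕ} (h : i ≤ j) :
    LinearMap.ker (limit.π T (op j)).hom ≤ LinearMap.ker (limit.π T (op i)).hom := by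
  intro x hx
  rw [LinearMap.mem_ker] at hx ⊢
  rw [← limitπ_T T h x, hx, map_zero]

/-- **the pro-isomorphism** `(M / I^(n+1) M) ⟶ T` for a Mittag-Leffler tower whose limit has the `I`-adic
topology -/
theorem isProIso_toT (hML : ARSys.IsML T)
    (hb : ∀ k : ℕ, ∃ n : ℕ, LinearMap.ker (limit.π T (op n)).hom ≤
      I ^ k • (⊤ : Submodule A ↑(limit T))) :
    DerCA.IsProIso (toT I T hk) := by
  intro n
  obtain ⟨n₀, hn₀⟩ := hb (n + 1)
  have hle : LinearMap.ker (limit.π T (op (max n n₀))).hom ≤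
      I ^ (n + 1) • (⊤ : Submodule A ↑(limit T)) :=
    (ker_limitπ_le T (le_max_right n n₀)).trans hn₀
  obtain ⟨k, hk1, hrange⟩ := exists_range_le_range_limitπ T hML (max n n₀)
  have hnk : n ≤ k := (le_max_left n n₀).trans hk1
  let c : T.obj (op k) →ₗ[A] LinearMap.range (limit.π T (op (max n n₀))).hom :=
    LinearMap.codRestrict _ (MLMod.T T hk1) (fun h => hrange ⟨h, rfl⟩)
  let b₀ : T.obj (op k) →ₗ[A] (↑(limit T) ⧸ (I ^ (n + 1) • (⊤ : Submodule A ↑(limit T)))) :=
    (Submodule.factor hle) ∘ₗ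
      ((LinearMap.quotKerEquivRange (limit.π T (op (max n n₀))).hom).symm :
        LinearMap.range (limit.π T (op (max n n₀))).hom →ₗ[A] _) ∘ₗ c
  have hb₀ : ∀ (h : T.obj (op k)) (x : ↑(limit T)),
      (limit.π T (op (max n n₀))).hom x = MLMod.T T hk1 h → b₀ h = (mqπ I (limit T) n).hom x := by
    intro h x hx
    have h1 : c h = ⟨(limit.π T (op (max n n₀))).hom x, ⟨x, rfl⟩⟩ := Subtype.ext hx.symm
    change Submodule.factor hle
      ((LinearMap.quotKerEquivRange (limit.π T (op (max n n₀))).hom).symm (c h)) = _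
    rw [h1, LinearMap.quotKerEquivRange_symm_apply_image, Submodule.factor_mk]
    rfl
  refine ⟨k, hnk, ModuleCat.ofHom b₀, ?_, ?_⟩
  · apply ModuleCat.hom_ext
    apply LinearMap.ext
    intro z
    obtain ⟨x, rfl⟩ := mqπ_surjective I (limit T) k z
    change b₀ ((φq I T hk k).hom ((mqπ I (limit T) k).hom x)) =
      ((Mq I (limit T)).map (homOfLE hnk).op).hom ((mqπ I (limit T) k).hom x)
    rw [φq_mqπ, Mq_map_mqπ]
    exact hb₀ _ x (limitπ_T T hk1 x).symm
  · apply ModuleCat.hom_ext
    apply LinearMap.ext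
    intro h
    obtain ⟨x, hx⟩ := hrange ⟨h, rfl⟩
    change (φq I T hk n).hom (b₀ h) = MLMod.T T hnk h
    rw [hb₀ h x hx, φq_mqπ, ← limitπ_T T (le_max_left n n₀) x, hx, T_comp]

end ProIso

section Finite

variable {A : Type u} [CommRing A] (I : Ideal A) (T : ℕᵒᵖ ⥤ ModuleCat.{u} A)

/-- `M / I^(n+1) M` is finite when the limit topology is `I`-adic and the images of `M` are finite -/
theorem finite_Mq
    (hb : ∀ k : ℕ, ∃ n : ℕ, LinearMap.ker (limit.π T (op n)).hom ≤
      I ^ k • (⊤ : Submodule A ↑(limit T)))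
    (hc : ∀ n : ℕ, Module.Finite A ↥(LinearMap.range (limit.π T (op n)).hom)) (n : ℕ) :
    Module.Finite A ((Mq I (limit T)).obj (op n)) := by
  obtain ⟨n₀, hn₀⟩ := hb (n + 1)
  haveI := hc n₀
  haveI : Module.Finite A (↑(limit T) ⧸ LinearMap.ker (limit.π T (op n₀)).hom) :=
    Module.Finite.equiv (LinearMap.quotKerEquivRange (limit.π T (op n₀)).hom).symm
  exact Module.Finite.of_surjective (Submodule.factor hn₀) (Submodule.factor_surjective hn₀)

end Finite

section Canonical

variable {A : Type u} [CommRing A]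

attribute [local instance 2000] Groth.Agent.Lib.helper8.AlgzSpec.ovr

/-- the sections over `U` of a module killed by `𝔞` are killed by `𝔞` -/
theorem sectMod_smul_top (I : Ideal A) (U : (Spec (CommRingCat.of A)).Opens)
    (G : ℕᵒᵖ ⥤ (↑U : Scheme.{u}).Modules) (n k : ℕ) (hG : KilledBy (I ^ k) (G.obj (op n))) :
    I ^ k • (⊤ : Submodule A ((Algz.sectMod A U G).obj (op n))) = ⊥ := by
  have hf : U.ι ≫ (Spec (CommRingCat.of A) ↘ Spec (CommRingCat.of A)) =
      (↑U : Scheme.{u}) ↘ Spec (CommRingCat.of A) := by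
    change U.ι ≫ 𝟙 _ = U.ι
    exact Category.comp_id _
  have h1 : KilledBy (I ^ k) ((Scheme.Modules.pushforward U.ι).obj (G.obj (op n))) := by
    intro a ha
    rw [← Groth.Agent.Lib.helper8.FPull.pushforward_map_smulMod U.ι hf, hG a ha, Functor.map_zero]
  exact gamma_smul_top_eq_bot h1

/-- **canonical extension from Mittag-Leffler, adic limit topology and finite images** -/
theorem canonicallyExtends_of_isML (I : Ideal A) (U : (Spec (CommRingCat.of A)).Opens)
    (G : ℕᵒᵖ ⥤ (↑U : Scheme.{u}).Modules)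
    (hkill : ∀ n, KilledBy (I ^ (n + 1)) (G.obj (op n)))
    (ha : ARSys.IsML (Algz.sectMod A U G))
    (hb : ∀ k : ℕ, ∃ n : ℕ, LinearMap.ker (limit.π (Algz.sectMod A U G) (op n)).hom ≤
      I ^ k • (⊤ : Submodule A ↑(limit (Algz.sectMod A U G))))
    (hc : ∀ n : ℕ, Module.Finite A
      ↥(LinearMap.range (limit.π (Algz.sectMod A U G) (op n)).hom)) :
    Algz.CanonicallyExtends A I U G := by
  have hk : ∀ n, I ^ (n + 1) • (⊤ : Submodule A ((Algz.sectMod A U G).obj (op n))) = ⊥ :=
    fun n => sectMod_smul_top I U G n (n + 1) (hkill n)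
  refine ⟨Mq I (limit (Algz.sectMod A U G)) ⋙ tilde.functor (CommRingCat.of A), ?_, ?_⟩
  · exact isCohFormal_tilde_tower I _ (finite_Mq I _ hb hc) (Mq_smul_top I _) (Mq_surjective I _)
      (Mq_ker I _)
  · apply Groth.Agent.Lib.helper8.ProSymm.isProIsomorphic_symm
    have h1 := Groth.Agent.Lib.helper8.ProSymm.isProIsomorphic_of_levelwise _
      (isProIso_toT I (Algz.sectMod A U G) hk ha hb)
    exact Groth.Agent.Lib.helper8.AlgzB.isProIsomorphic_comp_functor h1
      (tilde.functor (CommRingCat.of A))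

end Canonical

end Groth.Agent.Lib.helper8.AdicTower
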