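import Mathlib
import Groth.Prelude.Def_Algz
import Groth.Prelude.Def_Formal2
import Groth.Agent.S9498
import Groth.Agent.Lib.Helper7.KerSections
import Groth.Agent.Lib.Helper7.CohKer
import Groth.Agent.Lib.Helper18.HHLoc1
import Groth.Agent.Lib.Helper8.AlgzBasic

/-!
# Sections of `(M / I^(n+1) M)~` and the limit of `H⁰(U, F_n)` (helper8)

* `tilde_map_app_eq_zero_of_ker_le`: if `ker ℓ ≤ ker t` then sections of `Q~` killed by `ℓ~` are
  killed by `t~`.
* `isCoh_restrict_tilde_of_factor`: coherence of `Q~|_U` for a quotient `Q` of a submodule of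
  `H⁰(U, F)`, `F` coherent on `U`.
-/

set_option autoImplicit false
universe u

namespace Groth.Agent.Lib.helper8.AlgzL

open CategoryTheory CategoryTheory.Limits AlgebraicGeometry Opposite TopologicalSpace

variable {R : CommRingCat.{u}}

/-- sections of `Q~` killed by `ℓ~` are killed by `t~` when `ker ℓ ≤ ker t` -/
theorem tilde_map_app_eq_zero_of_ker_le {Q P N : ModuleCat.{u} R} (ℓ : Q ⟶ P) (t : Q ⟶ N)
    (h : LinearMap.ker ℓ.hom ≤ LinearMap.ker t.hom)
    (V : (Spec R).Opens)
    (x : Γ(tilde Q, V))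
    (hx : ((tilde.map ℓ).app V).hom x = 0) :
    ((tilde.map t).app V).hom x = 0 := by
  let K : Submodule R Q := LinearMap.ker ℓ.hom
  let incl : ModuleCat.of R K ⟶ Q := ModuleCat.ofHom K.subtype
  have hz : incl ≫ ℓ = 0 := by
    ext k
    exact k.2
  let S : ShortComplex (ModuleCat.{u} R) := ShortComplex.mk incl ℓ hz
  have hS : S.Exact := by
    rw [ShortComplex.moduleCat_exact_iff]
    intro q hq
    exact ⟨⟨q, hq⟩, rfl⟩
  haveI : Mono S.f := (ModuleCat.mono_iff_injective _).mpr K.injective_subtype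
  have hpl := Groth.Agent.S9498.preservesFiniteLimits_tilde R
  have key : ∀ (S : ShortComplex (ModuleCat.{u} R)), S.Exact ∧ Mono S.f →
      (S.map (tilde.functor R)).Exact ∧ Mono ((tilde.functor R).map S.f) :=
    ((Functor.preservesFiniteLimits_tfae (tilde.functor R)).out 3 1).1 hpl
  have hS' : (S.map (tilde.functor R)).Exact ∧
      Mono ((tilde.functor R).map S.f) := key S ⟨hS, inferInstance⟩
  haveI : Mono (S.map (tilde.functor R)).f := hS'.2
  obtain ⟨x', hx'⟩ := (Groth.Agent.Lib.helper7.KerSections.sections_leftExact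
    (S.map (tilde.functor R)) hS'.1 V).2 x hx
  have ht : incl ≫ t = 0 := by
    ext k
    exact h k.2
  have ht' : tilde.map incl ≫ tilde.map t = 0 := by
    have := congrArg (tilde.functor R).map ht
    rw [Functor.map_comp, Functor.map_zero] at this
    exact this
  rw [← hx']
  exact congrArg (fun ψ => (Scheme.Modules.Hom.app ψ V).hom x') ht'

section App

/-- a quasi-coherent subobject of a coherent module is coherent (copy of lead's lemma, to keep the
import closure light) -/
theorem isCoh_of_mono {X : Scheme.{u}} [IsLocallyNoetherian X] {I F : X.Modules} (ι : I ⟶ F)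
    [Mono ι] (hI : I.IsQuasicoherent) (hF : Coh.IsCoh F) : Coh.IsCoh I := by
  haveI : F.IsQuasicoherent := hF.1
  have hC : Coh.IsCoh (cokernel ι) :=
    ⟨Groth.Agent.Lib.helper7.CohKer.isQuasicoherent_cokernel ι,
      Groth.Agent.Lib.helper7.CohKer.isFiniteType_of_epi (cokernel.π ι) hF.2⟩
  have hK : Coh.IsCoh (kernel (cokernel.π ι)) :=
    Groth.Agent.Lib.helper7.CohKer.isCoh_kernel hF hC _
  exact Groth.Agent.Lib.helper7.CohKer.isCoh_of_iso (asIso (Abelian.factorThruImage ι)).symm hK


variable {X : Scheme.{u}}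

theorem comp_app_apply {M N P : X.Modules} (α : M ⟶ N) (β : N ⟶ P) (V : X.Opens) (s : Γ(M, V)) :
    ((α ≫ β).app V).hom s = (β.app V).hom ((α.app V).hom s) := rfl

theorem id_app_apply {M : X.Modules} (V : X.Opens) (s : Γ(M, V)) :
    ((𝟙 M : M ⟶ M).app V).hom s = s := rfl

theorem app_eq_zero_of_comp_iso {M N P : X.Modules} (α : M ⟶ N) (ψ : N ⟶ P) [IsIso ψ]
    (V : X.Opens) (s : Γ(M, V)) (h : ((α ≫ ψ).app V).hom s = 0) : (α.app V).hom s = 0 := by
  have h1 : ((ψ ≫ inv ψ).app V).hom ((α.app V).hom s) = (α.app V).hom s := by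
    rw [IsIso.hom_inv_id]
    exact id_app_apply V _
  rw [← h1, comp_app_apply ψ (inv ψ), ← comp_app_apply α ψ, h, map_zero]

end App

section Coh

variable (A : Type u) [CommRing A] (U : (Spec (CommRingCat.of A)).Opens)
  [IsLocallyNoetherian (↑U : Scheme.{u})]

/-- `Q~|_U` is coherent for a quotient `Q` of a submodule of a module `P` with `P~|_U` coherent -/
theorem isCoh_restrict_tilde_of_factor (P : ModuleCat.{u} A)
    (hP : Coh.IsCoh ((Scheme.Modules.restrictFunctor U.ι).obj
      (tilde (R := CommRingCat.of A) P)))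
    (E : Submodule A P) (Q : ModuleCat.{u} A)
    (q : ModuleCat.of A E ⟶ Q) (hq : Function.Surjective q.hom) :
    Coh.IsCoh ((Scheme.Modules.restrictFunctor U.ι).obj
      (tilde (R := CommRingCat.of A) Q)) := by
  let Rf := Scheme.Modules.restrictFunctor U.ι
  let ιE : ModuleCat.of A E ⟶ P := ModuleCat.ofHom E.subtype
  haveI h1 : Mono (tilde.map (R := CommRingCat.of A) ιE) :=
    Groth.Agent.S9498.mono_tilde_map (R := CommRingCat.of A) ιE (by
      change Function.Injective E.subtype
      exact E.injective_subtype)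
  haveI := Groth.Agent.Lib.Helper18.HHLoc.preservesLimits_restrictFunctor U.ι
  haveI : PreservesFiniteLimits Rf :=
    (PreservesLimitsOfSize.preservesFiniteLimits.{u, u} (Scheme.Modules.restrictFunctor U.ι) :)
  haveI h2 : Mono (Rf.map (tilde.map (R := CommRingCat.of A) ιE)) := inferInstance
  have hE : Coh.IsCoh (Rf.obj (tilde (R := CommRingCat.of A) (ModuleCat.of A E))) :=
    isCoh_of_mono (Rf.map (tilde.map (R := CommRingCat.of A) ιE))
      inferInstance hP
  haveI : Epi q := (ModuleCat.epi_iff_surjective q).mpr hq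
  haveI : (tilde.functor (CommRingCat.of A)).PreservesEpimorphisms :=
    Functor.preservesEpimorphisms_of_adjunction (tilde.adjunction (R := CommRingCat.of A))
  haveI : Rf.PreservesEpimorphisms :=
    Functor.preservesEpimorphisms_of_adjunction (Scheme.Modules.restrictAdjunction U.ι)
  have h3 : Epi ((tilde.functor (CommRingCat.of A)).map q) := inferInstance
  have h4 : Epi (Rf.map ((tilde.functor (CommRingCat.of A)).map q)) :=
    @Functor.map_epi _ _ _ _ Rf _ _ _ _ h3
  exact ⟨inferInstance, @Groth.Agent.Lib.helper7.CohKer.isFiniteType_of_epi _ _ _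
    (Rf.map ((tilde.functor (CommRingCat.of A)).map q)) h4 hE.2⟩

end Coh

end Groth.Agent.Lib.helper8.AlgzL
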