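import Mathlib
import Groth.Agent.Lib.Helper8.AdicTower
import Groth.Agent.Lib.Helper8.AlgzLimit
import Groth.Agent.Lib.Helper16.CohFinite

/-!
# Coherent formal modules on a punctured spectrum come from systems of finite modules (helper8)

`A` a ring, `𝔞` an ideal, `U = Spec A ∖ V(𝔞)`, `Rf A 𝔞 : M ↦ M~|_U`.

* `TorsMod 𝔞 Q x`, `CoTors 𝔞 P`: `𝔞`-power torsion modulo a submodule; `torsMod_of_span`,
  `exists_pow_of_torsMod`, `exists_fg_le_coTors`, `exists_compatible_fg`,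
  `exists_fg_of_finite_localized` (a module with finite localisation `M_f` has a f.g. submodule with
  `f`-power torsion quotient).
* sections of `M~` over `D(f)`: `exists_pow_smul_eq_toOpen`, `eq_zero_of_toOpen_torsion`,
  `exists_fg_of_finite`, `finite_of_finite_restrict`.
* `Wf A 𝔞 f = D(f) ⊆ U`, `isAffineOpen_Wf`, `exists_mem_Wf`; `torsion_of_isZero`, `isZero_of_torsion`:
  `C~|_U = 0` iff `C` is `𝔞`-power torsion.
* `Rf` is exact (`preservesFiniteLimits_Rf`, `preservesFiniteColimits_Rf`, `additive_Rf`);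
  `isIso_Rf_subtype`, `torsMod_of_mono_Rf`, `torsMod_range_of_epi_Rf`, `exists_fg_coTors_of_isCoh`.
* `IsCok.postcomp_iso`, `IsCok.isIso_of_comp`, `isCok_tilde_map`, `isCok_restrict_map`.
* `main`: S0841.
-/

set_option autoImplicit false
set_option linter.style.haveILetI false
set_option linter.unusedSectionVars false
universe u

namespace Groth.Agent.Lib.helper8.PuncTower

open CategoryTheory CategoryTheory.Limits AlgebraicGeometry Opposite TopologicalSpace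

section Algebra

variable {A : Type u} [CommRing A] {M : Type u} [AddCommGroup M] [Module A M]

/-- `x` is `𝔞`-power torsion modulo the submodule `Q`, elementwise in `𝔞` -/
def TorsMod (𝔞 : Ideal A) (Q : Submodule A M) (x : M) : Prop :=
  ∀ f ∈ 𝔞, ∃ m : ℕ, f ^ m • x ∈ Q

/-- the ideal `(Q : x)` -/
def colonI (Q : Submodule A M) (x : M) : Ideal A :=
  Submodule.comap (LinearMap.toSpanSingleton A M x) Q

lemma mem_colonI (Q : Submodule A M) (x : M) (a : A) : a ∈ colonI Q x ↔ a • x ∈ Q := by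
  unfold colonI
  rw [Submodule.mem_comap, LinearMap.toSpanSingleton_apply]

lemma torsMod_iff (𝔞 : Ideal A) (Q : Submodule A M) (x : M) :
    TorsMod 𝔞 Q x ↔ 𝔞 ≤ (colonI Q x).radical := by
  constructor
  · intro h f hf
    obtain ⟨m, hm⟩ := h f hf
    exact ⟨m, (mem_colonI Q x _).2 hm⟩
  · intro h f hf
    obtain ⟨m, hm⟩ := h hf
    exact ⟨m, (mem_colonI Q x _).1 hm⟩

lemma torsMod_of_span {S : Set A} (Q : Submodule A M) (x : M)
    (h : ∀ f ∈ S, ∃ m : ℕ, f ^ m • x ∈ Q) : TorsMod (Ideal.span S) Q x := by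
  rw [torsMod_iff, Ideal.span_le]
  intro f hf
  obtain ⟨m, hm⟩ := h f hf
  exact ⟨m, (mem_colonI Q x _).2 hm⟩

lemma exists_pow_of_torsMod {𝔞 : Ideal A} (h𝔞 : 𝔞.FG) {Q : Submodule A M} {x : M}
    (h : TorsMod 𝔞 Q x) : ∃ m : ℕ, ∀ a ∈ 𝔞 ^ m, a • x ∈ Q := by
  rw [torsMod_iff] at h
  obtain ⟨k, hk⟩ := Ideal.exists_pow_le_of_le_radical_of_fg h h𝔞
  exact ⟨k, fun a ha => (mem_colonI Q x a).1 (hk ha)⟩

/-- `M / P` is `𝔞`-power torsion -/
def CoTors (𝔞 : Ideal A) (P : Submodule A M) : Prop := ∀ x : M, TorsMod 𝔞 P x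

lemma coTors_comap {N : Type u} [AddCommGroup N] [Module A N] {𝔞 : Ideal A} {P : Submodule A N}
    (hP : CoTors 𝔞 P) (T : M →ₗ[A] N) : CoTors 𝔞 (P.comap T) := by
  intro x f hf
  obtain ⟨m, hm⟩ := hP (T x) f hf
  exact ⟨m, by rw [Submodule.mem_comap, LinearMap.map_smul]; exact hm⟩

/-- shrink a finitely generated co-torsion submodule into a given co-torsion submodule -/
lemma exists_fg_le_coTors {𝔞 : Ideal A} (h𝔞 : 𝔞.FG) {P₀ P' : Submodule A M} (hfg : P₀.FG)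
    (h₀ : CoTors 𝔞 P₀) (h' : CoTors 𝔞 P') : ∃ P : Submodule A M, P ≤ P' ∧ P.FG ∧ CoTors 𝔞 P := by
  classical
  obtain ⟨s, rfl⟩ := hfg
  have h1 : ∀ h ∈ s, ∃ m : ℕ, ∀ a ∈ 𝔞 ^ m, a • h ∈ P' := fun h _ => exists_pow_of_torsMod h𝔞 (h' h)
  choose! mm hmm using h1
  let m := s.sup mm
  refine ⟨𝔞 ^ m • Submodule.span A (s : Set M), ?_, ?_, ?_⟩
  · rw [Submodule.smul_le]
    intro a ha x hx
    induction hx using Submodule.span_induction with
    | mem x hx =>
      exact hmm x hx a (Ideal.pow_le_pow_right (Finset.le_sup (f := mm) hx) ha)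
    | zero => rw [smul_zero]; exact Submodule.zero_mem _
    | add x y _ _ hx hy => rw [smul_add]; exact Submodule.add_mem _ hx hy
    | smul r x _ hx => rw [smul_comm]; exact Submodule.smul_mem _ r hx
  · exact Submodule.FG.smul (Ideal.FG.pow h𝔞) ⟨s, rfl⟩
  · intro x f hf
    obtain ⟨k, hk⟩ := h₀ x f hf
    refine ⟨m + k, ?_⟩
    rw [pow_add, mul_smul]
    exact Submodule.smul_mem_smul (Ideal.pow_mem_pow hf m) hk

/-- a compatible choice of finitely generated co-torsion submodules along a tower -/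
theorem exists_compatible_fg {𝔞 : Ideal A} (h𝔞 : 𝔞.FG) (H : ℕ → Type u)
    [∀ n, AddCommGroup (H n)] [∀ n, Module A (H n)] (T : ∀ n, H (n + 1) →ₗ[A] H n)
    (h₀ : ∀ n, ∃ P : Submodule A (H n), P.FG ∧ CoTors 𝔞 P) :
    ∃ P : ∀ n, Submodule A (H n), (∀ n, (P n).FG) ∧ (∀ n, CoTors 𝔞 (P n)) ∧
      ∀ n, P (n + 1) ≤ (P n).comap (T n) := by
  classical
  have step : ∀ n (Pn : {P : Submodule A (H n) // P.FG ∧ CoTors 𝔞 P}),
      ∃ Q : {P : Submodule A (H (n + 1)) // P.FG ∧ CoTors 𝔞 P}, Q.1 ≤ Pn.1.comap (T n) := by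
    intro n Pn
    obtain ⟨P₀, hfg, hcot⟩ := h₀ (n + 1)
    obtain ⟨P, hle, hPfg, hPcot⟩ := exists_fg_le_coTors h𝔞 hfg hcot (coTors_comap Pn.2.2 (T n))
    exact ⟨⟨P, hPfg, hPcot⟩, hle⟩
  choose next hnext using step
  obtain ⟨P0, hP0⟩ := h₀ 0
  let seq : ∀ n, {P : Submodule A (H n) // P.FG ∧ CoTors 𝔞 P} := fun n =>
    Nat.rec (motive := fun n => {P : Submodule A (H n) // P.FG ∧ CoTors 𝔞 P}) ⟨P0, hP0⟩
      (fun n Pn => next n Pn) n
  exact ⟨fun n => (seq n).1, fun n => (seq n).2.1, fun n => (seq n).2.2, fun n => hnext n (seq n)⟩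

/-- a module whose localisation away from `f` is finite has a finitely generated submodule with
`f`-power torsion quotient -/
lemma exists_fg_of_finite_localized {R : Type*} [CommRing R] (f : R) (S : Type*) [CommRing S]
    [Algebra R S] [IsLocalization.Away f S] {M N : Type*} [AddCommGroup M] [Module R M]
    [AddCommGroup N] [Module R N] [Module S N] [IsScalarTower R S N] (ℓ : M →ₗ[R] N)
    [IsLocalizedModule (Submonoid.powers f) ℓ] [Module.Finite S N] :
    ∃ P : Submodule R M, P.FG ∧ ∀ x : M, ∃ m : ℕ, f ^ m • x ∈ P := by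
  classical
  obtain ⟨s, hs⟩ := (Module.Finite.fg_top : (⊤ : Submodule S N).FG)
  have h1 : ∀ t : N, ∃ (k : ℕ) (h : M), f ^ k • t = ℓ h := by
    intro t
    obtain ⟨⟨h, ⟨_, k, rfl⟩⟩, hk⟩ := IsLocalizedModule.surj (Submonoid.powers f) ℓ t
    exact ⟨k, h, hk⟩
  choose kk hh hkh using h1
  refine ⟨Submodule.span R (hh '' (s : Set N)),
    Submodule.fg_span ((Finset.finite_toSet s).image hh), ?_⟩
  have key : ∀ y ∈ Submodule.span S (s : Set N), ∃ (m : ℕ) (p : M),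
      p ∈ Submodule.span R (hh '' (s : Set N)) ∧ f ^ m • y = ℓ p := by
    intro y hy
    induction hy using Submodule.span_induction with
    | mem t ht => exact ⟨kk t, hh t, Submodule.subset_span ⟨t, ht, rfl⟩, hkh t⟩
    | zero => exact ⟨0, 0, Submodule.zero_mem _, by rw [smul_zero, map_zero]⟩
    | add y1 y2 _ _ h1 h2 =>
      obtain ⟨m1, p1, hp1, e1⟩ := h1
      obtain ⟨m2, p2, hp2, e2⟩ := h2
      refine ⟨m1 + m2, f ^ m2 • p1 + f ^ m1 • p2,
        Submodule.add_mem _ (Submodule.smul_mem _ _ hp1) (Submodule.smul_mem _ _ hp2), ?_⟩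
      rw [smul_add, map_add, LinearMap.map_smul, LinearMap.map_smul, ← e1, ← e2, smul_smul,
        smul_smul, ← pow_add, ← pow_add, add_comm m2 m1]
    | smul r y _ h =>
      obtain ⟨m, p, hp, e⟩ := h
      obtain ⟨⟨a, ⟨_, j, rfl⟩⟩, ha⟩ := IsLocalization.surj (Submonoid.powers f) r
      refine ⟨j + m, a • p, Submodule.smul_mem _ _ hp, ?_⟩
      have ha' : algebraMap R S (f ^ j) * r = algebraMap R S a := by rw [mul_comm]; exact ha
      rw [LinearMap.map_smul, ← e, pow_add, mul_smul, smul_comm (f ^ m) r y,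
        ← algebraMap_smul S (f ^ j) (r • f ^ m • y), smul_smul, ha', algebraMap_smul]
  intro x
  obtain ⟨m, p, hp, e⟩ := key (ℓ x) (hs ▸ Submodule.mem_top)
  rw [← LinearMap.map_smul] at e
  obtain ⟨⟨_, j, rfl⟩, hj⟩ := (IsLocalizedModule.eq_iff_exists (Submonoid.powers f) ℓ).1 e
  refine ⟨j + m, ?_⟩
  have hj' : f ^ j • f ^ m • x = f ^ j • p := hj
  rw [pow_add, mul_smul, hj']
  exact Submodule.smul_mem _ _ hp

end Algebra

section Sec

variable {R : CommRingCat.{u}} (M : ModuleCat.{u} R)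

open Scheme.Modules

lemma exists_pow_smul_eq_toOpen (f : R) (O : (Spec R).Opens)
    (hO : O = PrimeSpectrum.basicOpen f) (s : Γ(tilde M, O)) :
    ∃ (k : ℕ) (h : M), f ^ k • s = (tilde.toOpen M O).hom h := by
  subst hO
  obtain ⟨⟨h, ⟨_, k, rfl⟩⟩, hk⟩ := IsLocalizedModule.surj (Submonoid.powers f)
    (tilde.toOpen M (PrimeSpectrum.basicOpen f)).hom s
  exact ⟨k, h, hk⟩

lemma exists_pow_smul_eq_zero_of_toOpen_eq_zero (f : R) (O : (Spec R).Opens)
    (hO : O = PrimeSpectrum.basicOpen f) (h : M) (hh : (tilde.toOpen M O).hom h = 0) :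
    ∃ k : ℕ, f ^ k • h = 0 := by
  subst hO
  obtain ⟨⟨_, k, rfl⟩, hk⟩ := (IsLocalizedModule.eq_zero_iff (Submonoid.powers f)
    (tilde.toOpen M (PrimeSpectrum.basicOpen f)).hom).1 hh
  exact ⟨k, hk⟩

lemma eq_of_pow_smul_eq (f : R) (O : (Spec R).Opens)
    (hO : O = PrimeSpectrum.basicOpen f) (k : ℕ) (s s' : Γ(tilde M, O))
    (h : f ^ k • s = f ^ k • s') : s = s' := by
  subst hO
  have h1 : IsSMulRegular Γ(tilde M, PrimeSpectrum.basicOpen f) f :=
    (tilde M).isSMulRegular_of_le_basicOpen le_rfl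
  exact (h1.pow k) h

lemma eq_zero_of_toOpen_torsion (f : R) (O : (Spec R).Opens)
    (hO : O = PrimeSpectrum.basicOpen f) (s : Γ(tilde M, O)) (k : ℕ) (c : M)
    (hkc : f ^ k • s = (tilde.toOpen M O).hom c) (m : ℕ) (hm : f ^ m • c = 0) : s = 0 := by
  subst hO
  have h1 : IsSMulRegular Γ(tilde M, PrimeSpectrum.basicOpen f) f :=
    (tilde M).isSMulRegular_of_le_basicOpen le_rfl
  apply (h1.pow (m + k))
  change f ^ (m + k) • s = f ^ (m + k) • (0 : Γ(tilde M, PrimeSpectrum.basicOpen f))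
  rw [smul_zero, pow_add, mul_smul, hkc]
  have h2 := (tilde.toOpen M (PrimeSpectrum.basicOpen f)).hom.map_smul (f ^ m) c
  rw [hm, map_zero] at h2
  exact h2.symm

lemma exists_fg_of_finite (f : R) (O : (Spec R).Opens) (hO : O = PrimeSpectrum.basicOpen f)
    (hfin : Module.Finite Γ(Spec R, O) Γ(tilde M, O)) :
    ∃ P : Submodule R M, P.FG ∧ ∀ x : M, ∃ m : ℕ, f ^ m • x ∈ P := by
  subst hO
  let ℓ : M →ₗ[R] Γ(tilde M, PrimeSpectrum.basicOpen f) :=
    (tilde.toOpen M (PrimeSpectrum.basicOpen f)).hom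
  haveI : IsLocalizedModule (Submonoid.powers f) ℓ :=
    inferInstanceAs (IsLocalizedModule.Away f (tilde.toOpen M (PrimeSpectrum.basicOpen f)).hom)
  exact exists_fg_of_finite_localized f Γ(Spec R, PrimeSpectrum.basicOpen f) ℓ

/-- finiteness of sections of a restriction along an open immersion, read on the target -/
lemma finite_of_finite_restrict {X Y : Scheme.{u}} (j : X ⟶ Y) [IsOpenImmersion j] (N : Y.Modules)
    (W : X.Opens) (h : Module.Finite Γ(X, W) Γ((Scheme.Modules.restrictFunctor j).obj N, W)) :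
    Module.Finite Γ(Y, j ''ᵁ W) Γ(N, j ''ᵁ W) := by
  obtain ⟨s, hs⟩ := h.fg_top
  let s' : Finset Γ(N, j ''ᵁ W) := s
  have key : ∀ y : Γ((Scheme.Modules.restrictFunctor j).obj N, W),
      y ∈ Submodule.span Γ(X, W) (s : Set Γ((Scheme.Modules.restrictFunctor j).obj N, W)) →
      (show Γ(N, j ''ᵁ W) from y) ∈
        Submodule.span Γ(Y, j ''ᵁ W) (s' : Set Γ(N, j ''ᵁ W)) := by
    intro y hy
    induction hy using Submodule.span_induction with
    | mem t ht => exact Submodule.subset_span ht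
    | zero => exact Submodule.zero_mem _
    | add y1 y2 _ _ h1 h2 => exact Submodule.add_mem _ h1 h2
    | smul r y _ h =>
      exact Submodule.smul_mem (Submodule.span Γ(Y, j ''ᵁ W) (s' : Set Γ(N, j ''ᵁ W)))
        ((j.appIso W).inv r) h
  exact ⟨⟨s', eq_top_iff.2 (fun y _ => key y (hs ▸ Submodule.mem_top))⟩⟩

lemma toOpen_naturality {M N : ModuleCat.{u} R} (t : M ⟶ N) (O : (Spec R).Opens) (h : M) :
    ((tilde.map t).app O).hom ((tilde.toOpen M O).hom h) = (tilde.toOpen N O).hom (t.hom h) :=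
  congrArg (fun φ => φ.hom h) (tilde.toOpen_map_app t O)

end Sec

section Punct

variable (A : Type u) [CommRing A] (𝔞 : Ideal A)

open Groth.Agent.Lib.helper8.Rees Groth.Agent.Lib.Lead.GE

/-- the punctured open -/
abbrev UU : (Spec (CommRingCat.of A)).Opens := LocCoh.puncturedOpen A 𝔞

/-- `M ↦ M~|_U` -/
noncomputable abbrev Rf : ModuleCat.{u} A ⥤ (↑(UU A 𝔞) : Scheme.{u}).Modules :=
  tilde.functor (CommRingCat.of A) ⋙ Scheme.Modules.restrictFunctor (UU A 𝔞).ι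

variable {A 𝔞}

lemma basicOpen_le {f : A} (hf : f ∈ 𝔞) :
    (PrimeSpectrum.basicOpen f : (Spec (CommRingCat.of A)).Opens) ≤ UU A 𝔞 := by
  intro x hx
  change x ∈ (PrimeSpectrum.zeroLocus (R := A) (𝔞 : Set A))ᶜ
  intro hx'
  exact hx ((PrimeSpectrum.mem_zeroLocus _ _).1 hx' hf)

variable (A 𝔞) in
/-- `D(f)` as an open of `U` -/
noncomputable abbrev Wf (f : A) : (↑(UU A 𝔞) : Scheme.{u}).Opens :=
  (UU A 𝔞).ι ⁻¹ᵁ (PrimeSpectrum.basicOpen f : (Spec (CommRingCat.of A)).Opens)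

lemma image_Wf {f : A} (hf : f ∈ 𝔞) :
    (UU A 𝔞).ι ''ᵁ (Wf A 𝔞 f) = (PrimeSpectrum.basicOpen f : (Spec (CommRingCat.of A)).Opens) := by
  rw [Scheme.Hom.image_preimage_eq_opensRange_inf, Scheme.Opens.opensRange_ι]
  exact inf_eq_right.2 (basicOpen_le hf)

lemma isAffineOpen_Wf {f : A} (hf : f ∈ 𝔞) : IsAffineOpen (Wf A 𝔞 f) := by
  have h := IsAffineOpen.Spec_basicOpen (R := CommRingCat.of A) f
  refine h.preimage_of_isOpenImmersion (UU A 𝔞).ι ?_
  rw [Scheme.Opens.opensRange_ι]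
  exact basicOpen_le hf

lemma exists_mem_Wf (x : (↑(UU A 𝔞) : Scheme.{u})) : ∃ f : 𝔞, x ∈ Wf A 𝔞 (f : A) := by
  have hx : (UU A 𝔞).ι x ∈ UU A 𝔞 := by
    have h1 : (UU A 𝔞).ι x ∈ (UU A 𝔞).ι.opensRange := ⟨x, rfl⟩
    rwa [Scheme.Opens.opensRange_ι] at h1
  have hx' : ¬ ((𝔞 : Set A) ⊆ ((UU A 𝔞).ι x).asIdeal) := fun h =>
    hx ((PrimeSpectrum.mem_zeroLocus _ _).2 h)
  obtain ⟨f, hf, hfx⟩ := Set.not_subset.1 hx'
  exact ⟨⟨f, hf⟩, hfx⟩

instance isQuasicoherent_Rf (C : ModuleCat.{u} A) : ((Rf A 𝔞).obj C).IsQuasicoherent :=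
  inferInstanceAs ((Scheme.Modules.restrictFunctor (UU A 𝔞).ι).obj
    (tilde (R := CommRingCat.of A) C)).IsQuasicoherent

lemma zero_app_apply {X : Scheme.{u}} {M N : X.Modules} (W : X.Opens) (s : Γ(M, W)) :
    ((0 : M ⟶ N).app W).hom s = 0 := rfl

/-- if `C~|_U = 0` then `C` is `𝔞`-power torsion -/
theorem torsion_of_isZero (C : ModuleCat.{u} A) (hC : IsZero ((Rf A 𝔞).obj C)) (c : C) :
    TorsMod 𝔞 (⊥ : Submodule A C) c := by
  intro f hf
  have h0 : ∀ s : Γ((Rf A 𝔞).obj C, Wf A 𝔞 f), s = 0 := by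
    intro s
    have h1 : ((𝟙 ((Rf A 𝔞).obj C) : _ ⟶ _).app (Wf A 𝔞 f)).hom s = s :=
      Groth.Agent.Lib.helper8.AlgzL.id_app_apply _ s
    rw [← h1, hC.eq_of_src (𝟙 _) 0]
    exact zero_app_apply _ s
  have h2 := h0 ((tilde.toOpen (R := CommRingCat.of A) C ((UU A 𝔞).ι ''ᵁ (Wf A 𝔞 f))).hom c)
  obtain ⟨k, hk⟩ := exists_pow_smul_eq_zero_of_toOpen_eq_zero (R := CommRingCat.of A) C f _
    (image_Wf hf) c h2
  exact ⟨k, (Submodule.mem_bot A).2 hk⟩

/-- if `C` is `𝔞`-power torsion then `C~|_U = 0` -/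
theorem isZero_of_torsion (C : ModuleCat.{u} A)
    (h : ∀ c : C, TorsMod 𝔞 (⊥ : Submodule A C) c) : IsZero ((Rf A 𝔞).obj C) := by
  rw [IsZero.iff_id_eq_zero]
  refine hom_eq_zero_of_cover (𝟙 ((Rf A 𝔞).obj C)) (fun f : 𝔞 => Wf A 𝔞 (f : A))
    (fun f => isAffineOpen_Wf f.2) exists_mem_Wf (fun f s => ?_)
  change s = 0
  obtain ⟨k, c, hkc⟩ := exists_pow_smul_eq_toOpen (R := CommRingCat.of A) C (f : A)
    ((UU A 𝔞).ι ''ᵁ (Wf A 𝔞 (f : A))) (image_Wf f.2) s
  obtain ⟨m, hm⟩ := h c (f : A) f.2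
  have hm' : (f : A) ^ m • c = 0 := (Submodule.mem_bot A).1 hm
  exact eq_zero_of_toOpen_torsion (R := CommRingCat.of A) C (f : A) _ (image_Wf f.2) s k c hkc m hm'

section Exact

theorem additive_tilde (R : CommRingCat.{u}) : (tilde.functor R).Additive := inferInstance

variable (A 𝔞)

instance preservesFiniteLimits_Rf : PreservesFiniteLimits (Rf A 𝔞) := by
  haveI := Groth.Agent.S9498.preservesFiniteLimits_tilde (CommRingCat.of A)
  haveI := Groth.Agent.Lib.Helper18.HHLoc.preservesLimits_restrictFunctor (UU A 𝔞).ι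
  haveI : PreservesFiniteLimits (Scheme.Modules.restrictFunctor (UU A 𝔞).ι) :=
    (PreservesLimitsOfSize.preservesFiniteLimits.{u, u}
      (Scheme.Modules.restrictFunctor (UU A 𝔞).ι) :)
  exact comp_preservesFiniteLimits _ _

instance preservesFiniteColimits_Rf : PreservesFiniteColimits (Rf A 𝔞) := by
  haveI : PreservesFiniteColimits (Scheme.Modules.restrictFunctor (UU A 𝔞).ι) := inferInstance
  haveI := Groth.Agent.S9498.preservesFiniteColimits_tilde (CommRingCat.of A)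
  exact comp_preservesFiniteColimits _ _

instance additive_Rf : (Rf A 𝔞).Additive := by
  haveI := additive_tilde (CommRingCat.of A)
  haveI : (Scheme.Modules.restrictFunctor (UU A 𝔞).ι).Additive :=
    (Scheme.Modules.restrictAdjunction (UU A 𝔞).ι).left_adjoint_additive
  exact (inferInstance : (tilde.functor (CommRingCat.of A) ⋙
    Scheme.Modules.restrictFunctor (UU A 𝔞).ι).Additive)

end Exact

/-- for a submodule with `𝔞`-power torsion quotient the inclusion becomes an isomorphism on `U` -/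
theorem isIso_Rf_subtype (H : ModuleCat.{u} A) (P : Submodule A H) (hP : CoTors 𝔞 P) :
    IsIso ((Rf A 𝔞).map (ModuleCat.ofHom P.subtype)) := by
  let S : ShortComplex (ModuleCat.{u} A) :=
    ShortComplex.mk (ModuleCat.ofHom P.subtype) (ModuleCat.ofHom P.mkQ) (by
      apply ModuleCat.hom_ext
      apply LinearMap.ext
      intro x
      exact (Submodule.Quotient.mk_eq_zero P).2 x.2)
  have hS : S.ShortExact := by
    haveI : Mono S.f := (ModuleCat.mono_iff_injective _).2 P.injective_subtype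
    haveI : Epi S.g := (ModuleCat.epi_iff_surjective _).2 P.mkQ_surjective
    refine ShortComplex.ShortExact.mk ?_
    rw [ShortComplex.moduleCat_exact_iff_range_eq_ker]
    change LinearMap.range P.subtype = LinearMap.ker P.mkQ
    rw [Submodule.range_subtype, Submodule.ker_mkQ]
  have hS' := hS.map_of_exact (Rf A 𝔞)
  have hz : IsZero ((S.map (Rf A 𝔞)).X₃) := by
    refine isZero_of_torsion (ModuleCat.of A (↑H ⧸ P)) (fun c f hf => ?_)
    obtain ⟨x, rfl⟩ := P.mkQ_surjective c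
    obtain ⟨m, hm⟩ := hP x f hf
    refine ⟨m, (Submodule.mem_bot A).2 ?_⟩
    rw [← LinearMap.map_smul]
    exact (Submodule.Quotient.mk_eq_zero P).2 hm
  haveI : Mono ((Rf A 𝔞).map (ModuleCat.ofHom P.subtype)) := hS'.mono_f
  haveI : Epi ((Rf A 𝔞).map (ModuleCat.ofHom P.subtype)) :=
    hS'.exact.epi_f (hz.eq_of_tgt _ _)
  exact isIso_of_mono_of_epi _

/-- if `t~|_U` is a monomorphism, the kernel of `t` is `𝔞`-power torsion -/
theorem torsMod_of_mono_Rf {N N' : ModuleCat.{u} A} (t : N ⟶ N') [Mono ((Rf A 𝔞).map t)]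
    (x : N) (hx : t.hom x = 0) : TorsMod 𝔞 (⊥ : Submodule A N) x := by
  let K : Submodule A N := LinearMap.ker t.hom
  let ιK : ModuleCat.of A ↥K ⟶ N := ModuleCat.ofHom K.subtype
  have h0 : ιK ≫ t = 0 := by
    apply ModuleCat.hom_ext
    apply LinearMap.ext
    intro z
    exact z.2
  haveI : Mono ιK := (ModuleCat.mono_iff_injective _).2 K.injective_subtype
  haveI : Mono ((Rf A 𝔞).map ιK) := inferInstance
  have h1 : (Rf A 𝔞).map ιK = 0 := by
    rw [← cancel_mono ((Rf A 𝔞).map t), zero_comp, ← Functor.map_comp, h0, Functor.map_zero]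
  have hz : IsZero ((Rf A 𝔞).obj (ModuleCat.of A ↥K)) := IsZero.of_mono_eq_zero _ h1
  intro f hf
  obtain ⟨m, hm⟩ := torsion_of_isZero (ModuleCat.of A ↥K) hz ⟨x, hx⟩ f hf
  refine ⟨m, (Submodule.mem_bot A).2 ?_⟩
  exact congrArg Subtype.val ((Submodule.mem_bot A).1 hm)

/-- if `t~|_U` is an epimorphism, the cokernel of `t` is `𝔞`-power torsion -/
theorem torsMod_range_of_epi_Rf {N N' : ModuleCat.{u} A} (t : N ⟶ N') [Epi ((Rf A 𝔞).map t)]
    (y : N') : TorsMod 𝔞 (LinearMap.range t.hom) y := by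
  let q : N' ⟶ ModuleCat.of A (↑N' ⧸ LinearMap.range t.hom) :=
    ModuleCat.ofHom (LinearMap.range t.hom).mkQ
  have h0 : t ≫ q = 0 := by
    apply ModuleCat.hom_ext
    apply LinearMap.ext
    intro z
    exact (Submodule.Quotient.mk_eq_zero _).2 ⟨z, rfl⟩
  haveI : Epi q := (ModuleCat.epi_iff_surjective _).2 (Submodule.mkQ_surjective _)
  haveI : Epi ((Rf A 𝔞).map q) := inferInstance
  have h1 : (Rf A 𝔞).map q = 0 := by
    rw [← cancel_epi ((Rf A 𝔞).map t), comp_zero, ← Functor.map_comp, h0, Functor.map_zero]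
  have hz : IsZero ((Rf A 𝔞).obj (ModuleCat.of A (↑N' ⧸ LinearMap.range t.hom))) :=
    IsZero.of_epi_eq_zero _ h1
  intro f hf
  obtain ⟨m, hm⟩ := torsion_of_isZero _ hz (q.hom y) f hf
  refine ⟨m, ?_⟩
  have h2 : q.hom (f ^ m • y) = 0 := by
    rw [LinearMap.map_smul]
    exact (Submodule.mem_bot A).1 hm
  exact (Submodule.Quotient.mk_eq_zero _).1 h2

/-- if `H~|_U` is coherent, `H` has a finitely generated submodule with `𝔞`-power torsion quotient -/
theorem exists_fg_coTors_of_isCoh (h𝔞 : 𝔞.FG) (H : ModuleCat.{u} A)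
    (hcoh : Coh.IsCoh ((Rf A 𝔞).obj H)) : ∃ P : Submodule A H, P.FG ∧ CoTors 𝔞 P := by
  classical
  obtain ⟨S, hS⟩ := h𝔞
  have h1 : ∀ f ∈ S, ∃ P : Submodule A H, P.FG ∧ ∀ x : H, ∃ m : ℕ, f ^ m • x ∈ P := by
    intro f hfS
    have hf : f ∈ 𝔞 := hS ▸ Ideal.subset_span hfS
    have hfin := Groth.Agent.Lib.helper16.CohFinite.finite_sections_of_isCoh _ hcoh
      (isAffineOpen_Wf hf)
    have hfin' := finite_of_finite_restrict (UU A 𝔞).ι (tilde (R := CommRingCat.of A) H)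
      (Wf A 𝔞 f) hfin
    exact exists_fg_of_finite (R := CommRingCat.of A) H f _ (image_Wf hf) hfin'
  choose! PP hPfg hPP using h1
  refine ⟨S.sup PP, ?_, ?_⟩
  · exact Submodule.fg_finset_sup S PP hPfg
  · intro x
    rw [← hS]
    refine torsMod_of_span _ x (fun f hf => ?_)
    obtain ⟨m, hm⟩ := hPP f hf x
    exact ⟨m, (Finset.le_sup (f := PP) hf) hm⟩

end Punct

section Cok

open Formal Groth.Agent.Lib.helper8.FF Groth.Agent.Lib.helper8.FTors
open Groth.Agent.Lib.helper8.AlgzSpec Groth.Agent.Lib.helper8.AffEx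
open Groth.Agent.Lib.helper8.AdicTower

section General

variable {A : Type u} [CommRing A] {X : Scheme.{u}} [X.Over (Spec (CommRingCat.of A))]

lemma IsCok.postcomp_iso {J : Ideal A} {P R R' : X.Modules} {g : P ⟶ R} (hg : IsCok J g)
    (e : R ⟶ R') [IsIso e] : IsCok J (g ≫ e) := by
  haveI := hg.epi
  have h0 : smulFamily J P ≫ g ≫ e = 0 := by rw [← Category.assoc, hg.1, zero_comp]
  refine isCok_of_isColimit h0 (CokernelCofork.IsColimit.ofπ' _ _ (fun {Z} k hk => ?_))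
  let l := CokernelCofork.IsColimit.desc' hg.isColimit k hk
  have hl : g ≫ l.1 = k := l.2
  exact ⟨inv e ≫ l.1, by rw [Category.assoc, IsIso.hom_inv_id_assoc, hl]⟩

/-- two cokernels of `J • P` are uniquely isomorphic -/
lemma IsCok.isIso_of_comp {J : Ideal A} {P R R' : X.Modules} {g : P ⟶ R} {g' : P ⟶ R'}
    (hg : IsCok J g) (hg' : IsCok J g') (h : R ⟶ R') (hh : g ≫ h = g') : IsIso h := by
  obtain ⟨θ, hθ⟩ := hg.exists_iso
  obtain ⟨θ', hθ'⟩ := hg'.exists_iso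
  haveI : Epi (qπ J P) := (Groth.Agent.Lib.helper8.FCompl.isCok_qπ J P).epi
  have e : θ.hom ≫ h = θ'.hom := by
    rw [← cancel_epi (qπ J P), ← Category.assoc, hθ, hh, hθ']
  have e' : h = θ.inv ≫ θ'.hom := by rw [← e, Iso.inv_hom_id_assoc]
  rw [e']
  infer_instance

end General

section Affine

variable {A : Type u} [CommRing A]

attribute [local instance 2000] Groth.Agent.Lib.helper8.AlgzSpec.ovr

/-- `t~` is a cokernel of `J • N~` when `t` is surjective with kernel `J N` -/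
theorem isCok_tilde_map (J : Ideal A) {N N' : ModuleCat.{u} A} (t : N ⟶ N')
    (hsurj : Function.Surjective t.hom)
    (hker : LinearMap.ker t.hom = J • (⊤ : Submodule A N)) :
    IsCok J (tilde.map (R := CommRingCat.of A) t) := by
  refine isCok_of_gamma (M := tilde (R := CommRingCat.of A) N)
    (R := tilde (R := CommRingCat.of A) N') _ ?_ ?_
  · intro y
    obtain ⟨x, rfl⟩ := (un_bijective N').2 y
    obtain ⟨x', rfl⟩ := hsurj x
    exact ⟨(un N).hom x', un_naturality _ x'⟩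
  · apply le_antisymm
    · intro z hz
      obtain ⟨x, rfl⟩ := (un_bijective N).2 z
      rw [LinearMap.mem_ker] at hz
      have hz' := (un_naturality t x).symm.trans hz
      have h0 : t.hom x = 0 := (un_bijective N').1 (hz'.trans (map_zero _).symm)
      have h1 : x ∈ LinearMap.ker t.hom := h0
      rw [hker] at h1
      exact Groth.Agent.Lib.helper8.LimAdic.map_mem_smul_top J (un N).hom h1
    · rw [Submodule.smul_le]
      intro a ha z _
      obtain ⟨x, rfl⟩ := (un_bijective N).2 z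
      rw [LinearMap.mem_ker, ← LinearMap.map_smul, un_naturality]
      have h1 : a • x ∈ LinearMap.ker t.hom := by
        rw [hker]
        exact Submodule.smul_mem_smul ha Submodule.mem_top
      rw [(LinearMap.mem_ker).1 h1, map_zero]

/-- restriction to an open of `Spec A` preserves cokernels of `J • P` -/
theorem isCok_restrict_map (U : (Spec (CommRingCat.of A)).Opens) {J : Ideal A}
    {P R : (Spec (CommRingCat.of A)).Modules} {g : P ⟶ R} (hg : IsCok J g) :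
    IsCok J ((Scheme.Modules.restrictFunctor U.ι).map g) := by
  have hf : U.ι ≫ (Spec (CommRingCat.of A) ↘ Spec (CommRingCat.of A)) =
      (↑U : Scheme.{u}) ↘ Spec (CommRingCat.of A) := by
    change U.ι ≫ 𝟙 _ = U.ι
    exact Category.comp_id _
  have h1 := Groth.Agent.Lib.helper8.FCompl.isCok_pullback_map U.ι hf hg
  let e := Scheme.Modules.restrictFunctorIsoPullback U.ι
  have h2 : (Scheme.Modules.restrictFunctor U.ι).map g =
      e.hom.app P ≫ (Scheme.Modules.pullback U.ι).map g ≫ e.inv.app R := by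
    rw [← Category.assoc, ← e.hom.naturality g, Category.assoc, Iso.hom_inv_id_app,
      Category.comp_id]
  rw [h2]
  exact IsCok.precomp_iso _ (IsCok.postcomp_iso h1 _)

end Affine

end Cok

section Main

open Formal Groth.Agent.Lib.helper8.FF Groth.Agent.Lib.helper8.FTors

variable {A : Type u} [CommRing A] [IsNoetherianRing A] (I 𝔞 : Ideal A)
  (F : ℕᵒᵖ ⥤ (↑(UU A 𝔞) : Scheme.{u}).Modules)

/-- `H⁰(U, F_n)` -/
noncomputable abbrev HH (n : ℕ) : ModuleCat.{u} A := (Algz.sectMod A (UU A 𝔞) F).obj (op n)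

/-- the transition map `H⁰(U, F_{n+1}) → H⁰(U, F_n)` -/
noncomputable abbrev TT (n : ℕ) : HH 𝔞 F (n + 1) →ₗ[A] HH 𝔞 F n :=
  ((Algz.sectMod A (UU A 𝔞) F).map (homOfLE (Nat.le_succ n)).op).hom

variable (hq : ∀ n, (F.obj n).IsQuasicoherent)

/-- `(H⁰(U, F_n))~|_U ≅ F_n` -/
noncomputable def eH (n : ℕ) : (Rf A 𝔞).obj (HH 𝔞 F n) ≅ F.obj (op n) :=
  (Groth.Agent.Lib.helper8.AlgzB.sectSysRestrictIso A (UU A 𝔞) F hq).app (op n)

lemma eH_naturality (n : ℕ) :
    (Rf A 𝔞).map (ModuleCat.ofHom (TT 𝔞 F n)) ≫ (eH 𝔞 F hq n).hom =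
      (eH 𝔞 F hq (n + 1)).hom ≫ F.map (homOfLE (Nat.le_succ n)).op :=
  (Groth.Agent.Lib.helper8.AlgzB.sectSysRestrictIso A (UU A 𝔞) F hq).hom.naturality
    (homOfLE (Nat.le_succ n)).op

variable (P : ∀ n, Submodule A (HH 𝔞 F n)) (hle : ∀ n, P (n + 1) ≤ (P n).comap (TT 𝔞 F n))

/-- restricted transition maps -/
noncomputable def gP (n : ℕ) : ↥(P (n + 1)) →ₗ[A] ↥(P n) :=
  (TT 𝔞 F n).restrict (fun _ hx => hle n hx)

lemma gP_comm (n : ℕ) :
    ModuleCat.ofHom (gP 𝔞 F P hle n) ≫ ModuleCat.ofHom (P n).subtype =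
      ModuleCat.ofHom (P (n + 1)).subtype ≫ ModuleCat.ofHom (TT 𝔞 F n) := by
  apply ModuleCat.hom_ext
  apply LinearMap.ext
  intro x
  rfl

/-- `P_n~|_U ⟶ F_n` -/
noncomputable def εP (n : ℕ) : (Rf A 𝔞).obj (ModuleCat.of A ↥(P n)) ⟶ F.obj (op n) :=
  (Rf A 𝔞).map (ModuleCat.ofHom (P n).subtype) ≫ (eH 𝔞 F hq n).hom

lemma εP_naturality (n : ℕ) :
    (Rf A 𝔞).map (ModuleCat.ofHom (gP 𝔞 F P hle n)) ≫ εP 𝔞 F hq P n =
      εP 𝔞 F hq P (n + 1) ≫ F.map (homOfLE (Nat.le_succ n)).op := by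
  unfold εP
  rw [← Category.assoc, ← Functor.map_comp, gP_comm, Functor.map_comp, Category.assoc,
    eH_naturality, Category.assoc]

lemma isIso_εP (hcot : ∀ n, CoTors 𝔞 (P n)) (n : ℕ) : IsIso (εP 𝔞 F hq P n) := by
  haveI := isIso_Rf_subtype (HH 𝔞 F n) (P n) (hcot n)
  unfold εP
  infer_instance

/-- the system `(P_n~|_U)` -/
noncomputable abbrev GP : ℕᵒᵖ ⥤ (↑(UU A 𝔞) : Scheme.{u}).Modules :=
  Functor.ofOpSequence
    (X := fun n => (Scheme.Modules.restrictFunctor (UU A 𝔞).ι).obj (Formal2.tmod A ↥(P n)))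
    (fun n => (Scheme.Modules.restrictFunctor (UU A 𝔞).ι).map
      (Formal2.tmodMap A (gP 𝔞 F P hle n)))

include hq in
theorem nonempty_iso (hcot : ∀ n, CoTors 𝔞 (P n)) : Nonempty (F ≅ GP 𝔞 F P hle) := by
  let ε : GP 𝔞 F P hle ⟶ F := NatTrans.ofOpSequence (fun n => εP 𝔞 F hq P n) (fun n => by
    rw [Functor.ofOpSequence_map_homOfLE_succ]
    exact εP_naturality 𝔞 F hq P hle n)
  haveI : ∀ X, IsIso (ε.app X) := fun X => isIso_εP 𝔞 F hq P hcot X.unop
  haveI : IsIso ε := NatIso.isIso_of_isIso_app ε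
  exact ⟨(asIso ε).symm⟩

include hq in
lemma isCok_Rf_gP (hF : IsCohFormal I F) (hcot : ∀ n, CoTors 𝔞 (P n)) (n : ℕ) :
    IsCok (I ^ (n + 1)) ((Rf A 𝔞).map (ModuleCat.ofHom (gP 𝔞 F P hle n))) := by
  haveI := isIso_εP 𝔞 F hq P hcot n
  haveI := isIso_εP 𝔞 F hq P hcot (n + 1)
  have h1 : (Rf A 𝔞).map (ModuleCat.ofHom (gP 𝔞 F P hle n)) =
      εP 𝔞 F hq P (n + 1) ≫ F.map (homOfLE (Nat.le_succ n)).op ≫ inv (εP 𝔞 F hq P n) := by
    rw [← Category.assoc, ← εP_naturality 𝔞 F hq P hle n, Category.assoc, IsIso.hom_inv_id,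
      Category.comp_id]
  rw [h1]
  exact IsCok.precomp_iso _ (IsCok.postcomp_iso (isCok_step I F hF n) _)

include hq in
theorem exists_pow_range (hF : IsCohFormal I F) (hcot : ∀ n, CoTors 𝔞 (P n)) (n : ℕ)
    (y : ↥(P n)) : ∃ m : ℕ, ∀ a ∈ 𝔞 ^ m, a • y ∈ LinearMap.range (gP 𝔞 F P hle n) := by
  haveI : Epi ((Rf A 𝔞).map (ModuleCat.ofHom (gP 𝔞 F P hle n))) :=
    (isCok_Rf_gP I 𝔞 F hq P hle hF hcot n).epi
  have h := torsMod_range_of_epi_Rf (𝔞 := 𝔞) (ModuleCat.ofHom (gP 𝔞 F P hle n)) y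
  exact exists_pow_of_torsMod (IsNoetherian.noetherian 𝔞) h

include hq in
theorem exists_pow_ker (hF : IsCohFormal I F) (hcot : ∀ n, CoTors 𝔞 (P n))
    (hkill : ∀ n, I ^ (n + 1) • (⊤ : Submodule A (HH 𝔞 F n)) = ⊥) (n : ℕ)
    (x : ↥(P (n + 1))) (hx : gP 𝔞 F P hle n x = 0) :
    ∃ m : ℕ, ∀ a ∈ 𝔞 ^ m, a • x ∈ I ^ (n + 1) • (⊤ : Submodule A ↥(P (n + 1))) := by
  obtain ⟨JN, hJN⟩ : ∃ JN : Submodule A ↥(P (n + 1)),
      JN = I ^ (n + 1) • (⊤ : Submodule A ↥(P (n + 1))) := ⟨_, rfl⟩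
  rw [← hJN]
  let π : ModuleCat.of A ↥(P (n + 1)) ⟶ ModuleCat.of A (↥(P (n + 1)) ⧸ JN) :=
    ModuleCat.ofHom JN.mkQ
  have hJle : JN ≤ LinearMap.ker (gP 𝔞 F P hle n) := by
    rw [hJN, Submodule.smul_le]
    intro a ha z _
    rw [LinearMap.mem_ker, LinearMap.map_smul]
    apply Subtype.ext
    have h3 : a • ((gP 𝔞 F P hle n z : ↥(P n)) : HH 𝔞 F n) ∈
        I ^ (n + 1) • (⊤ : Submodule A (HH 𝔞 F n)) :=
      Submodule.smul_mem_smul ha Submodule.mem_top
    rw [hkill n] at h3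
    exact (Submodule.mem_bot A).1 h3
  let gbar : ModuleCat.of A (↥(P (n + 1)) ⧸ JN) ⟶ ModuleCat.of A ↥(P n) :=
    ModuleCat.ofHom (JN.liftQ (gP 𝔞 F P hle n) hJle)
  have hfac : π ≫ gbar = ModuleCat.ofHom (gP 𝔞 F P hle n) := by
    apply ModuleCat.hom_ext
    exact Submodule.liftQ_mkQ _ _ _
  have hπ : IsCok (I ^ (n + 1)) ((Rf A 𝔞).map π) :=
    isCok_restrict_map (UU A 𝔞) (isCok_tilde_map (I ^ (n + 1)) π (Submodule.mkQ_surjective _)
      ((Submodule.ker_mkQ _).trans hJN))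
  have hg := isCok_Rf_gP I 𝔞 F hq P hle hF hcot n
  haveI : IsIso ((Rf A 𝔞).map gbar) :=
    IsCok.isIso_of_comp hπ hg _ (by rw [← Functor.map_comp, hfac])
  have h := torsMod_of_mono_Rf (𝔞 := 𝔞) gbar (JN.mkQ x) (by
    change JN.liftQ _ hJle (JN.mkQ x) = 0
    rw [Submodule.mkQ_apply, Submodule.liftQ_apply]
    exact hx)
  have h' : TorsMod 𝔞 JN x := by
    intro f hf
    obtain ⟨m, hm⟩ := h f hf
    refine ⟨m, ?_⟩
    have h2 : JN.mkQ (f ^ m • x) = 0 := by
      rw [LinearMap.map_smul]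
      exact (Submodule.mem_bot A).1 hm
    exact (Submodule.Quotient.mk_eq_zero _).1 h2
  exact exists_pow_of_torsMod (IsNoetherian.noetherian 𝔞) h'

/-- compatible finitely generated submodules `P_n ⊆ H⁰(U, F_n)` with `𝔞`-power torsion quotients -/
theorem exists_system (hF : IsCohFormal I F) :
    ∃ (P : ∀ n, Submodule A (HH 𝔞 F n)) (_ : ∀ n, P (n + 1) ≤ (P n).comap (TT 𝔞 F n)),
      (∀ n, (P n).FG) ∧ (∀ n, CoTors 𝔞 (P n)) := by
  have hq : ∀ n, (F.obj n).IsQuasicoherent := fun n => (hF.1 n.unop).1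
  have h𝔞 : 𝔞.FG := IsNoetherian.noetherian 𝔞
  have h₀ : ∀ n, ∃ P : Submodule A (HH 𝔞 F n), P.FG ∧ CoTors 𝔞 P := fun n =>
    exists_fg_coTors_of_isCoh h𝔞 (HH 𝔞 F n)
      (Groth.Agent.Lib.helper7.CohKer.isCoh_of_iso (eH 𝔞 F hq n).symm (hF.1 n))
  obtain ⟨P, hfg, hcot, hle⟩ := exists_compatible_fg h𝔞 (fun n => ↑(HH 𝔞 F n)) (TT 𝔞 F) h₀
  exact ⟨P, hle, hfg, hcot⟩

/-- **coherent formal modules on a punctured spectrum come from systems of finite modules** -/
theorem main (hF : IsCohFormal I F) :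
    ∃ (M : ℕ → Type u) (_ : ∀ n, AddCommGroup (M n)) (_ : ∀ n, Module A (M n))
      (g : ∀ n, M (n + 1) →ₗ[A] M n),
      (∀ n, Module.Finite A (M n)) ∧ (∀ n, I ^ (n + 1) • (⊤ : Submodule A (M n)) = ⊥) ∧
      (∀ n (x : M (n + 1)), g n x = 0 →
        ∃ m : ℕ, ∀ a ∈ 𝔞 ^ m, a • x ∈ I ^ (n + 1) • (⊤ : Submodule A (M (n + 1)))) ∧
      (∀ n (y : M n), ∃ m : ℕ, ∀ a ∈ 𝔞 ^ m, a • y ∈ LinearMap.range (g n)) ∧
      Nonempty (F ≅ Functor.ofOpSequence
        (X := fun n => (Scheme.Modules.restrictFunctor (UU A 𝔞).ι).obj (Formal2.tmod A (M n)))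
        (fun n => (Scheme.Modules.restrictFunctor (UU A 𝔞).ι).map
          (Formal2.tmodMap A (g n)))) := by
  have hq : ∀ n, (F.obj n).IsQuasicoherent := fun n => (hF.1 n.unop).1
  obtain ⟨P, hle, hfg, hcot⟩ := exists_system I 𝔞 F hF
  have hkill : ∀ n, I ^ (n + 1) • (⊤ : Submodule A (HH 𝔞 F n)) = ⊥ := fun n =>
    Groth.Agent.Lib.helper8.AdicTower.sectMod_smul_top I (UU A 𝔞) F n (n + 1) (hF.2.1 n)
  refine ⟨fun n => ↥(P n), fun n => inferInstance, fun n => inferInstance,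
    fun n => gP 𝔞 F P hle n, ?_, ?_, ?_, ?_, ?_⟩
  · intro n
    exact Module.Finite.of_fg (hfg n)
  · intro n
    rw [eq_bot_iff, Submodule.smul_le]
    intro a ha z _
    rw [Submodule.mem_bot]
    apply Subtype.ext
    have h3 : a • (z : HH 𝔞 F n) ∈ I ^ (n + 1) • (⊤ : Submodule A (HH 𝔞 F n)) :=
      Submodule.smul_mem_smul ha Submodule.mem_top
    rw [hkill n] at h3
    exact (Submodule.mem_bot A).1 h3
  · intro n x hx
    exact exists_pow_ker I 𝔞 F hq P hle hF hcot hkill n x hx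
  · intro n y
    exact exists_pow_range I 𝔞 F hq P hle hF hcot n y
  · exact nonempty_iso 𝔞 F hq P hle hcot

end Main

end Groth.Agent.Lib.helper8.PuncTower
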