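import Mathlib
import Groth.Agent.Lib.Helper8.FormalQuot

/-!
# Formal functions: inverse limits along sequences of ideals (helper8)

For a sequence of ideals `𝔞 : ℕ → Ideal A`, `Bij 𝔞 M p` says that `H^p(X, M) → lim_n H^p(X, M / 𝔞_n M)`
is bijective (injectivity and surjectivity on compatible families stated separately).
* `Bij.of_cofinal` : invariance under cofinal change of the sequence.
* `bij_pow_iff` : for `𝔞 n = I ^ (n + 1)` this is bijectivity of `Formal.toHHlim I M p`.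
-/

set_option autoImplicit false
universe u
open CategoryTheory CategoryTheory.Limits AlgebraicGeometry Opposite TopologicalSpace

namespace Groth.Agent.Lib.helper8.FF

open Formal Groth.Agent.Lib.Helper18

variable {A : Type u} [CommRing A] {X : Scheme.{u}} [X.Over (Spec (CommRingCat.of A))]

/-- compatible families in `∏ H^p(X, M / 𝔞_n M)`. -/
def Compat (𝔞 : ℕ → Ideal A) (M : X.Modules) (p : ℕ) (y : ∀ n, Coh.HH X (Q (𝔞 n) M) p) : Prop :=
  ∀ (n m : ℕ) (h : 𝔞 m ≤ 𝔞 n), HH.map (qTrans h M) p (y m) = y n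

/-- `H^p(X, M) → lim_n H^p(X, M / 𝔞_n M)` is bijective. -/
def Bij (𝔞 : ℕ → Ideal A) (M : X.Modules) (p : ℕ) : Prop :=
  (∀ x : Coh.HH X M p, (∀ n, HH.map (qπ (𝔞 n) M) p x = 0) → x = 0) ∧
    ∀ y : ∀ n, Coh.HH X (Q (𝔞 n) M) p, Compat 𝔞 M p y → ∃ x, ∀ n, HH.map (qπ (𝔞 n) M) p x = y n

lemma map_qπ_trans {𝔞 𝔟 : Ideal A} (h : 𝔞 ≤ 𝔟) (M : X.Modules) (p : ℕ) (x : Coh.HH X M p) :
    HH.map (qTrans h M) p (HH.map (qπ 𝔞 M) p x) = HH.map (qπ 𝔟 M) p x := by
  rw [← HH.map_comp_apply, qπ_qTrans]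

lemma map_qTrans_trans {𝔞 𝔟 𝔠 : Ideal A} (h : 𝔞 ≤ 𝔟) (h' : 𝔟 ≤ 𝔠) (M : X.Modules) (p : ℕ)
    (x : Coh.HH X (Q 𝔞 M) p) :
    HH.map (qTrans h' M) p (HH.map (qTrans h M) p x) = HH.map (qTrans (h.trans h') M) p x := by
  rw [← HH.map_comp_apply, qTrans_comp]

/-- the canonical family is compatible -/
lemma compat_canonical (𝔞 : ℕ → Ideal A) (M : X.Modules) (p : ℕ) (x : Coh.HH X M p) :
    Compat 𝔞 M p (fun n => HH.map (qπ (𝔞 n) M) p x) :=
  fun _ _ h => map_qπ_trans h M p x

/-- invariance under cofinal change of the sequence of ideals. -/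
theorem Bij.of_cofinal {𝔞 𝔟 : ℕ → Ideal A} (h𝔟 : Antitone 𝔟)
    (h1 : ∀ n, ∃ m, 𝔟 m ≤ 𝔞 n) (h2 : ∀ n, ∃ m, 𝔞 m ≤ 𝔟 n) {M : X.Modules} {p : ℕ}
    (h : Bij 𝔞 M p) : Bij 𝔟 M p := by
  choose m1 hm1 using h1
  choose m2 hm2 using h2
  refine ⟨fun x hx => h.1 x (fun n => ?_), fun y hy => ?_⟩
  · rw [← map_qπ_trans (hm1 n) M p x, hx, map_zero]
  · -- independence of the choice
    have hind : ∀ (n k k' : ℕ) (hk : 𝔟 k ≤ 𝔞 n) (hk' : 𝔟 k' ≤ 𝔞 n),
        HH.map (qTrans hk M) p (y k) = HH.map (qTrans hk' M) p (y k') := by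
      intro n k k' hk hk'
      have e1 := hy k (max k k') (h𝔟 (le_max_left k k'))
      have e2 := hy k' (max k k') (h𝔟 (le_max_right k k'))
      rw [← e1, ← e2, map_qTrans_trans, map_qTrans_trans]
    let y' : ∀ n, Coh.HH X (Q (𝔞 n) M) p := fun n => HH.map (qTrans (hm1 n) M) p (y (m1 n))
    have hy' : Compat 𝔞 M p y' := by
      intro n k hk
      show HH.map (qTrans hk M) p (HH.map (qTrans (hm1 k) M) p (y (m1 k))) = _
      rw [map_qTrans_trans]
      exact hind n _ _ _ _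
    obtain ⟨x, hx⟩ := h.2 y' hy'
    refine ⟨x, fun n => ?_⟩
    rw [← map_qπ_trans (hm2 n) M p x, hx (m2 n)]
    show HH.map (qTrans (hm2 n) M) p (HH.map (qTrans (hm1 (m2 n)) M) p (y (m1 (m2 n)))) = _
    rw [map_qTrans_trans]
    exact hy n _ _

section Pow

variable (I : Ideal A) (M : X.Modules) (p : ℕ)

/-- a compatible family in the sense of the Prelude is compatible in the sense of `Compat`. -/
lemma compat_of_HHlim (y : ∀ n, HHmodPow I M p n)
    (hy : ∀ n, HHmodPowTrans I M p n (y (n + 1)) = y n) :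
    Compat (fun n => I ^ (n + 1)) M p y := by
  -- first for `n ≤ m`
  have key : ∀ (n k : ℕ) (h : I ^ (n + k + 1) ≤ I ^ (n + 1)),
      HH.map (qTrans h M) p (y (n + k)) = y n := by
    intro n k h
    induction k with
    | zero =>
      have : qTrans h M = 𝟙 (Q (I ^ (n + 1)) M) := qTrans_refl (I ^ (n + 1)) M
      rw [this, HH.map_id]
      rfl
    | succ k ih =>
      have h1 := hy (n + k)
      have h1' : HH.map (qTrans (Ideal.pow_le_pow_right (Nat.le_succ (n + k + 1))) M) p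
          (y (n + k + 1)) = y (n + k) := h1
      have h2 := ih (Ideal.pow_le_pow_right (by omega))
      rw [← h2, ← h1', map_qTrans_trans]
      rfl
  intro n m h
  rcases le_total n m with hnm | hmn
  · obtain ⟨k, rfl⟩ := Nat.exists_eq_add_of_le hnm
    exact key n k h
  · obtain ⟨k, rfl⟩ := Nat.exists_eq_add_of_le hmn
    have h' : I ^ (m + k + 1) ≤ I ^ (m + 1) := Ideal.pow_le_pow_right (by omega)
    have e := key m k h'
    show HH.map (qTrans h M) p (y m) = y (m + k)
    rw [← e, map_qTrans_trans]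
    have : qTrans (h'.trans h) M = 𝟙 (Q (I ^ (m + k + 1)) M) := qTrans_refl _ M
    rw [this, HH.map_id]
    rfl

/-- for powers of an ideal, `Bij` is bijectivity of the canonical map of the Prelude. -/
theorem bij_pow_iff :
    Bij (fun n => I ^ (n + 1)) M p ↔ Function.Bijective (toHHlim I M p) := by
  constructor
  · rintro ⟨hinj, hsurj⟩
    constructor
    · rw [injective_iff_map_eq_zero]
      intro x hx
      apply hinj x
      intro n
      have := congrArg (fun z : HHlim I M p => z.1 n) hx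
      exact this
    · intro y
      obtain ⟨x, hx⟩ := hsurj y.1 (compat_of_HHlim I M p y.1 y.2)
      exact ⟨x, Subtype.ext (funext hx)⟩
  · intro hb
    constructor
    · intro x hx
      apply hb.1
      rw [map_zero]
      exact Subtype.ext (funext hx)
    · intro y hy
      have hy' : y ∈ HHlim I M p := fun n =>
        hy n (n + 1) (Ideal.pow_le_pow_right (Nat.le_succ (n + 1)))
      obtain ⟨x, hx⟩ := hb.2 ⟨y, hy'⟩
      refine ⟨x, fun n => ?_⟩
      have := congrArg (fun z : HHlim I M p => z.1 n) hx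
      exact this

end Pow

end Groth.Agent.Lib.helper8.FF
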