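import Mathlib

/-!
# Formal functions: the algebraic core (helper8)

`H` an `I`-adically complete module, `c n : H → T n` a compatible family of maps to an inverse
system, such that
* (a) `ker (c (n + c₀)) ⊆ I ^ n H` (the filtration `ker c_n` is `I`-good),
* (c) `I ^ (n + 1) H ⊆ ker (c n)`,
* (b) every compatible family is levelwise in the image of `c n`.
Then `H → lim T n` is bijective.
-/

set_option autoImplicit false
universe u v w

namespace Groth.Agent.Lib.helper8.FF

theorem bijective_core {A : Type u} [CommRing A] (I : Ideal A) {H : Type v} [AddCommGroup H]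
    [Module A H] [IsAdicComplete I H] {T : ℕ → Type w} [∀ n, AddCommGroup (T n)]
    (c : ∀ n, H →+ T n) (τ : ∀ n, T (n + 1) →+ T n)
    (hτ : ∀ n x, τ n (c (n + 1) x) = c n x)
    (c₀ : ℕ) (ha : ∀ n x, c (n + c₀) x = 0 → x ∈ (I ^ n • ⊤ : Submodule A H))
    (hc : ∀ n x, x ∈ (I ^ (n + 1) • ⊤ : Submodule A H) → c n x = 0)
    (hb : ∀ y : ∀ n, T n, (∀ n, τ n (y (n + 1)) = y n) → ∀ n, ∃ h, c n h = y n) :
    (∀ x, (∀ n, c n x = 0) → x = 0) ∧
      ∀ y : ∀ n, T n, (∀ n, τ n (y (n + 1)) = y n) → ∃ x, ∀ n, c n x = y n := by
  constructor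
  · intro x hx
    apply IsHausdorff.haus (inferInstance : IsHausdorff I H) x
    intro n
    rw [SModEq.zero]
    exact ha n x (hx _)
  · intro y hy
    -- descending compatibility
    have hdesc : ∀ k m x, c (m + k) x = y (m + k) → c m x = y m := by
      intro k
      induction k with
      | zero => intro m x h; exact h
      | succ k ih =>
        intro m x h
        apply ih m x
        have h1 := hτ (m + k) x
        have h2 : c (m + k + 1) x = y (m + k + 1) := h
        rw [← h1, h2, hy]
    choose h hh using hb y hy
    let g : ℕ → H := fun n => h (n + c₀)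
    have hstep : ∀ n, g (n + 1) - g n ∈ (I ^ n • ⊤ : Submodule A H) := by
      intro n
      apply ha n
      rw [map_sub]
      have h1 : c (n + c₀) (g (n + 1)) = y (n + c₀) := by
        apply hdesc 1 (n + c₀)
        have : n + c₀ + 1 = n + 1 + c₀ := by omega
        rw [this]
        exact hh (n + 1 + c₀)
      rw [h1, hh (n + c₀), sub_self]
    have hmono : ∀ m k, g (m + k) - g m ∈ (I ^ m • ⊤ : Submodule A H) := by
      intro m k
      induction k with
      | zero => simp
      | succ k ih =>
        have h1 : g (m + (k + 1)) - g m = (g (m + k + 1) - g (m + k)) + (g (m + k) - g m) := by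
          rw [← add_assoc]; abel
        rw [h1]
        refine Submodule.add_mem _ ?_ ih
        have h2 := hstep (m + k)
        have hle : (I ^ (m + k) • ⊤ : Submodule A H) ≤ I ^ m • ⊤ :=
          Submodule.smul_mono_left (Ideal.pow_le_pow_right (Nat.le_add_right m k))
        exact hle h2
    obtain ⟨L, hL⟩ := IsPrecomplete.prec (inferInstance : IsPrecomplete I H) (f := g) (by
      intro m n hmn
      obtain ⟨k, rfl⟩ := Nat.exists_eq_add_of_le hmn
      rw [SModEq.sub_mem]
      have := hmono m k
      rw [← neg_sub]
      exact Submodule.neg_mem _ this)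
    refine ⟨L, fun m => ?_⟩
    have h1 : L - g (m + 1) ∈ (I ^ (m + 1) • ⊤ : Submodule A H) := by
      have := hL (m + 1)
      rw [SModEq.sub_mem] at this
      rw [← neg_sub]
      exact Submodule.neg_mem _ this
    have h2 : c m (L - g (m + 1)) = 0 := hc m _ h1
    have h3 : c m (g (m + 1)) = y m := by
      apply hdesc (1 + c₀) m
      have : m + (1 + c₀) = m + 1 + c₀ := by omega
      rw [this]
      exact hh (m + 1 + c₀)
    rw [map_sub, h3, sub_eq_zero] at h2
    exact h2

end Groth.Agent.Lib.helper8.FF
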