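import Mathlib
import Groth.Agent.Lib.Helper8.FormalPrincipal
import Groth.Agent.Lib.Helper8.FormalCore

/-!
# Formal functions for a principal ideal (helper8)

`bijective_toHHlim_principal`: `A` Noetherian and `(a)`-adically complete, `X` a Noetherian scheme
over `A`, `M` coherent, all cohomology groups of coherent modules finite over `A`.  Then
`H^p(X, M) → lim_n H^p(X, M / a^(n+1) M)` is bijective.
-/

set_option autoImplicit false
universe u v
open CategoryTheory CategoryTheory.Limits AlgebraicGeometry Opposite TopologicalSpace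

namespace Groth.Agent.Lib.helper8.FF

open Formal Groth.Agent.Lib.Helper18 TensorProduct

/-- a finite module over a complete Noetherian ring is complete (as in `S16981`). -/
theorem isAdicComplete_of_finite' {S : Type v} [CommRing S] [IsNoetherianRing S] (J : Ideal S)
    [IsAdicComplete J S]
    (M : Type v) [AddCommGroup M] [Module S M] [Module.Finite S M] : IsAdicComplete J M := by
  rw [← AdicCompletion.of_bijective_iff]
  have h1 := AdicCompletion.ofTensorProduct_bijective_of_finite_of_isNoetherian J M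
  have h2 : Function.Bijective (LinearMap.rTensor M (AdicCompletion.of J S)) := by
    have hb : Function.Bijective (AdicCompletion.of J S) := AdicCompletion.of_bijective J S
    exact (LinearEquiv.rTensor M (LinearEquiv.ofBijective (AdicCompletion.of J S) hb)).bijective
  have hone : (AdicCompletion.of J S) 1 = 1 := rfl
  have h3 : ⇑(AdicCompletion.of J M) = (AdicCompletion.ofTensorProduct J M) ∘
      (LinearMap.rTensor M (AdicCompletion.of J S)) ∘ (TensorProduct.lid S M).symm := by
    funext x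
    simp [AdicCompletion.ofTensorProduct_tmul, hone]
  rw [h3]
  exact h1.comp (h2.comp (TensorProduct.lid S M).symm.bijective)

/-- uniform bound on the exponent of `a`-power torsion in a Noetherian module -/
theorem exists_torsion_bound {A : Type*} [CommRing A] (a : A) (G : Type*) [AddCommGroup G]
    [Module A G] [IsNoetherian A G] :
    ∃ N : ℕ, ∀ (z : G) (s : ℕ), a ^ s • z = 0 → a ^ N • z = 0 := by
  let f : ℕ →o Submodule A G :=
    ⟨fun s => LinearMap.ker (LinearMap.lsmul A G (a ^ s)), by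
      intro s t hst z hz
      obtain ⟨k, rfl⟩ := Nat.exists_eq_add_of_le hst
      simp only [LinearMap.mem_ker, LinearMap.lsmul_apply] at hz ⊢
      rw [pow_add, mul_comm, mul_smul, hz, smul_zero]⟩
  obtain ⟨N, hN⟩ := monotone_stabilizes_iff_noetherian.mpr (inferInstance : IsNoetherian A G) f
  refine ⟨N, fun z s hz => ?_⟩
  have h1 : z ∈ f (N + s) := by
    show z ∈ LinearMap.ker (LinearMap.lsmul A G (a ^ (N + s)))
    simp only [LinearMap.mem_ker, LinearMap.lsmul_apply]
    rw [pow_add, mul_smul, hz, smul_zero]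
  rw [← hN (N + s) (Nat.le_add_right N s)] at h1
  simpa [f] using h1

variable {A : Type u} [CommRing A] {X : Scheme.{u}} [X.Over (Spec (CommRingCat.of A))]

lemma map_bijective_of_isIso {F G : X.Modules} (f : F ⟶ G) [IsIso f] (n : ℕ) :
    Function.Bijective (HH.map f n) := by
  constructor
  · intro x y h
    have := congrArg (HH.map (inv f) n) h
    rwa [← HH.map_comp_apply, ← HH.map_comp_apply, IsIso.hom_inv_id, HH.map_id] at this
  · intro y
    refine ⟨HH.map (inv f) n y, ?_⟩
    rw [← HH.map_comp_apply, IsIso.inv_hom_id, HH.map_id]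
    rfl

/-- classes in `𝔞 H^p(M)` die in `H^p(M / 𝔞 M)`. -/
theorem map_qπ_eq_zero_of_mem (𝔞 : Ideal A) (M : X.Modules) (p : ℕ) (x : Coh.HH X M p)
    (hx : x ∈ (𝔞 • ⊤ : Submodule A (Coh.HH X M p))) : HH.map (qπ 𝔞 M) p x = 0 := by
  have key : ∀ y ∈ (𝔞 • ⊤ : Submodule A (Coh.HH X M p)), HH.mapOver A (qπ 𝔞 M) p y = 0 := by
    intro y hy
    refine Submodule.smul_induction_on hy (fun r hr h _ => ?_) (fun y z hy hz => ?_)
    · rw [map_smul]
      exact smul_eq_zero_of_smulMod_eq_zero _ r (smulMod_Q M hr) p _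
    · rw [map_add, hy, hz, add_zero]
  exact key x hx

section Compat

variable (I : Ideal A) (M : X.Modules) (p : ℕ)

lemma HHmodPowTrans_apply (n : ℕ) (z : HHmodPow I M p (n + 1)) :
    HHmodPowTrans I M p n z =
      HH.map (qTrans (Ideal.pow_le_pow_right (Nat.le_succ (n + 1))) M) p z := rfl

lemma toHHmodPow_apply (n : ℕ) (x : Coh.HH X M p) :
    toHHmodPow I M p n x = HH.map (qπ (I ^ (n + 1)) M) p x := rfl

/-- a compatible family is compatible along all transition maps. -/
theorem compat_trans (y : ∀ n, HHmodPow I M p n)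
    (hy : ∀ n, HHmodPowTrans I M p n (y (n + 1)) = y n) (n k : ℕ) :
    HH.map (qTrans (Ideal.pow_le_pow_right (show n + 1 ≤ n + k + 1 by omega)) M) p (y (n + k)) =
      y n := by
  induction k with
  | zero =>
    have : qTrans (Ideal.pow_le_pow_right (show n + 1 ≤ n + 0 + 1 by omega)) M =
        𝟙 (Q (I ^ (n + 1)) M) := qTrans_refl (I ^ (n + 1)) M
    rw [this, HH.map_id]
    rfl
  | succ k ih =>
    have h1 := hy (n + k)
    rw [HHmodPowTrans_apply] at h1
    rw [← ih, ← h1, ← HH.map_comp_apply, qTrans_comp]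
    rfl

end Compat

section Principal

variable (a : A) (M : X.Modules) (p : ℕ)

/-- stabilisation hypothesis -/
def Stable (c : ℕ) : Prop :=
  ∀ m : ℕ, c ≤ m → ∀ (k : ℕ) (T : X.Modules) (t : T ⟶ M),
    t ≫ smulMod A M (a ^ m) ≫ smulMod A M (a ^ k) = 0 → t ≫ smulMod A M (a ^ m) = 0

variable {a M}

/-- (a) of the core: the kernel filtration is `(a)`-good. -/
theorem mem_smul_top_of_map_qπ_eq_zero {c : ℕ} (hc : Stable a M c) (k : ℕ) (x : Coh.HH X M p)
    (hx : HH.map (qπ ((Ideal.span {a}) ^ (c + k)) M) p x = 0) :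
    x ∈ ((Ideal.span {a}) ^ k • ⊤ : Submodule A (Coh.HH X M p)) := by
  obtain ⟨z, rfl⟩ := (HH.exact₂ (ses_shortExact ((Ideal.span {a}) ^ (c + k)) M) p x).mp hx
  have hle : c ≤ c + k := Nat.le_add_right c k
  haveI := isIso_θθ a M hc hle le_rfl
  obtain ⟨z', rfl⟩ := (map_bijective_of_isIso (θθ a M hle) p).2 z
  have h1 : HH.map (kι a M (c + k)) p (HH.map (θθ a M hle) p z') =
      a ^ k • HH.map (kι a M c) p z' := by
    rw [← HH.map_comp_apply]
    have : θθ a M hle ≫ kι a M (c + k) = kι a M c ≫ smulMod A M (a ^ k) := by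
      have := θθ_ι a M hle
      rw [Nat.add_sub_cancel_left] at this
      exact this
    rw [this, HH.map_comp_apply, map_smulMod]
  show HH.map (kι a M (c + k)) p (HH.map (θθ a M hle) p z') ∈ _
  rw [h1]
  exact Submodule.smul_mem_smul (pow_mem_span_pow a k) Submodule.mem_top

/-- transport of the torsion bound along `θ`. -/
theorem torsion_bound_transport {c N : ℕ} (hc : Stable a M c)
    (hN : ∀ (z : Coh.HH X (KK a M c) (p + 1)) (s : ℕ), a ^ s • z = 0 → a ^ N • z = 0)
    {m : ℕ} (hm : c ≤ m) (z : Coh.HH X (KK a M m) (p + 1)) (s : ℕ) (hz : a ^ s • z = 0) :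
    a ^ N • z = 0 := by
  haveI := isIso_θθ a M hc hm le_rfl
  obtain ⟨z', rfl⟩ := (map_bijective_of_isIso (θθ a M hm) (p + 1)).2 z
  have h1 : HH.mapOver A (θθ a M hm) (p + 1) (a ^ s • z') = 0 := by
    rw [map_smul]; exact hz
  have h2 : a ^ s • z' = 0 :=
    (map_bijective_of_isIso (θθ a M hm) (p + 1)).1 (h1.trans (map_zero _).symm)
  have h3 := hN z' s h2
  have h4 : HH.mapOver A (θθ a M hm) (p + 1) (a ^ N • z') = 0 := by rw [h3, map_zero]
  rw [map_smul] at h4
  exact h4

/-- the inclusions `K m₂ → K m₁` kill `a`-power torsion classes when `m₂ - m₁` is large. -/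
theorem map_jj_eq_zero {c N : ℕ} (hc : Stable a M c)
    (hN : ∀ (z : Coh.HH X (KK a M c) (p + 1)) (s : ℕ), a ^ s • z = 0 → a ^ N • z = 0)
    {m₁ m₂ : ℕ} (h : m₁ ≤ m₂) (hm : c ≤ m₁) (hk : N ≤ m₂ - m₁)
    (z : Coh.HH X (KK a M m₂) (p + 1)) (s : ℕ) (hz : a ^ s • z = 0) :
    HH.map (jj a M h) (p + 1) z = 0 := by
  haveI := isIso_θθ a M hc h hm
  apply (map_bijective_of_isIso (θθ a M h) (p + 1)).1
  rw [← HH.map_comp_apply, jj_θθ, map_smulMod, map_zero]
  have h1 := torsion_bound_transport p hc hN (hm.trans h) z s hz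
  obtain ⟨d, hd⟩ := Nat.exists_eq_add_of_le hk
  rw [hd, pow_add, mul_comm, mul_smul, h1, smul_zero]


/-- (b) of the core: every compatible family is levelwise in the image of `H^p(X, M)`. -/
theorem exists_toHHmodPow_eq {c N : ℕ} (hc : Stable a M c)
    (hN : ∀ (z : Coh.HH X (KK a M c) (p + 1)) (s : ℕ), a ^ s • z = 0 → a ^ N • z = 0)
    (y : ∀ n, HHmodPow (Ideal.span {a}) M p n)
    (hy : ∀ n, HHmodPowTrans (Ideal.span {a}) M p n (y (n + 1)) = y n) (n : ℕ) :
    ∃ h : Coh.HH X M p, toHHmodPow (Ideal.span {a}) M p n h = y n := by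
  -- the obstruction classes
  let q : ∀ m, Coh.HH X (KK a M (m + 1)) (p + 1) := fun m =>
    HH.δ (ses_shortExact ((Ideal.span {a}) ^ (m + 1)) M) p (y m)
  -- they are torsion
  have htors : ∀ m, a ^ (m + 1) • q m = 0 := by
    intro m
    have h1 : a ^ (m + 1) • y m = 0 :=
      smul_eq_zero_of_smulMod_eq_zero _ _ (smulMod_Q M (pow_mem_span_pow a (m + 1))) p _
    have h2 := (HH.δOver (ses_shortExact ((Ideal.span {a}) ^ (m + 1)) M) A p).map_smul
      (a ^ (m + 1)) (y m)
    have h3 := (congrArg (HH.δOver (ses_shortExact ((Ideal.span {a}) ^ (m + 1)) M) A p) h1).trans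
      (map_zero _)
    exact h2.symm.trans h3
  -- naturality
  have hnat : ∀ k, q n = HH.map (jj a M (show n + 1 ≤ n + k + 1 by omega)) (p + 1) (q (n + k)) := by
    intro k
    have h1 := δ_naturality (ses_shortExact ((Ideal.span {a}) ^ (n + k + 1)) M)
      (ses_shortExact ((Ideal.span {a}) ^ (n + 1)) M)
      (sesMap (Ideal.pow_le_pow_right (show n + 1 ≤ n + k + 1 by omega)) M) p (y (n + k))
    have h2 := compat_trans (Ideal.span {a}) M p y hy n k
    show HH.δ (ses_shortExact ((Ideal.span {a}) ^ (n + 1)) M) p (y n) = _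
    rw [← h2]
    exact h1
  have hq : q n = 0 := by
    rw [hnat (c + N)]
    have hle1 : n + 1 ≤ n + 1 + c := Nat.le_add_right _ _
    have hle2 : n + 1 + c ≤ n + (c + N) + 1 := by omega
    rw [← jj_comp a M hle1 hle2, HH.map_comp_apply]
    rw [map_jj_eq_zero p hc hN hle2 (by omega) (by omega) (q (n + (c + N))) _ (htors _), map_zero]
  obtain ⟨h, hh⟩ := (HH.exact₃ (ses_shortExact ((Ideal.span {a}) ^ (n + 1)) M) p (y n)).mp hq
  exact ⟨h, hh⟩

end Principal

/-- **Theorem on formal functions for a principal ideal**, given finiteness of cohomology. -/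
theorem bijective_toHHlim_principal [IsNoetherianRing A] [IsNoetherian X] (a : A)
    [IsAdicComplete (Ideal.span {a}) A] (M : X.Modules) (hM : Coh.IsCoh M)
    (hfin : ∀ N : X.Modules, Coh.IsCoh N → ∀ q : ℕ, Module.Finite A (Coh.HH X N q)) (p : ℕ) :
    Function.Bijective (toHHlim (Ideal.span {a}) M p) := by
  obtain ⟨c, hc⟩ := exists_kernel_stable a M hM
  have hc' : Stable a M c := hc
  haveI : Module.Finite A (Coh.HH X (KK a M c) (p + 1)) := hfin _ (isCoh_KK a M hM c) (p + 1)
  haveI : Module.Finite A (Coh.HH X M p) := hfin _ hM p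
  obtain ⟨N, hN⟩ := exists_torsion_bound a (Coh.HH X (KK a M c) (p + 1))
  haveI : IsAdicComplete (Ideal.span {a}) (Coh.HH X M p) := isAdicComplete_of_finite' _ _
  obtain ⟨hinj, hsurj⟩ := bijective_core (Ideal.span {a}) (H := Coh.HH X M p)
    (T := fun n => HHmodPow (Ideal.span {a}) M p n)
    (fun n => toHHmodPow (Ideal.span {a}) M p n) (fun n => HHmodPowTrans (Ideal.span {a}) M p n)
    (fun n x => ((toHHlim (Ideal.span {a}) M p x).2 n)) c
    (fun n x hx => by
      have h1 : HH.map (qπ ((Ideal.span {a}) ^ (c + (n + 1))) M) p x = 0 := by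
        have : n + c + 1 = c + (n + 1) := by omega
        rw [← this]
        exact hx
      have h2 := mem_smul_top_of_map_qπ_eq_zero p hc' (n + 1) x h1
      have hle : ((Ideal.span {a}) ^ (n + 1) • ⊤ : Submodule A (Coh.HH X M p)) ≤
          (Ideal.span {a}) ^ n • ⊤ :=
        Submodule.smul_mono_left (Ideal.pow_le_pow_right (Nat.le_succ n))
      exact hle h2)
    (fun n x hx => map_qπ_eq_zero_of_mem _ M p x hx)
    (fun y hy n => exists_toHHmodPow_eq p hc' hN y hy n)
  constructor
  · rw [injective_iff_map_eq_zero]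
    intro x hx
    apply hinj x
    intro n
    have := congrArg (fun z : HHlim (Ideal.span {a}) M p => z.1 n) hx
    exact this
  · intro y
    obtain ⟨x, hx⟩ := hsurj y.1 y.2
    exact ⟨x, Subtype.ext (funext hx)⟩

end Groth.Agent.Lib.helper8.FF
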