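import Mathlib
import Groth.Agent.Lib.Helper8.FormalLim
import Groth.Agent.Lib.Helper8.FormalPrincipal2

/-!
# Formal functions: induction on the number of generators (helper8)

* `isAdicComplete_of_le` : a Noetherian ring complete for `I` is complete for every `J ≤ I`.
* `Bij.sup` : the induction step (limit over `𝔭_n ⊔ 𝔧_n` from the limits over `𝔭_n` and over `𝔧_m`
  on the quotients `M / 𝔭_n M`).
* `bijective_toHHlim_of_finite` : **theorem on formal functions over a complete base**, given finiteness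
  of the cohomology of coherent modules.
-/

set_option autoImplicit false
universe u
open CategoryTheory CategoryTheory.Limits AlgebraicGeometry Opposite TopologicalSpace

namespace Groth.Agent.Lib.helper8.FF

open Formal Groth.Agent.Lib.Helper18

/-- a Noetherian ring complete for `I` is complete for every smaller ideal. -/
theorem isAdicComplete_of_le {A : Type u} [CommRing A] [IsNoetherianRing A] (I J : Ideal A)
    (hJI : J ≤ I) [IsAdicComplete I A] : IsAdicComplete J A := by
  refine { haus' := ?_, prec' := ?_ }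
  · intro x hx
    apply IsHausdorff.haus (inferInstance : IsHausdorff I A) x
    intro n
    have := hx n
    rw [SModEq.zero] at this ⊢
    exact Submodule.smul_mono_left (Ideal.pow_right_mono hJI n) this
  · intro f hf
    have hf' : ∀ {m n : ℕ}, m ≤ n → f m ≡ f n [SMOD (I ^ m • ⊤ : Submodule A A)] := by
      intro m n hmn
      have := hf hmn
      rw [SModEq.sub_mem] at this ⊢
      exact Submodule.smul_mono_left (Ideal.pow_right_mono hJI m) this
    obtain ⟨L, hL⟩ := IsPrecomplete.prec (inferInstance : IsPrecomplete I A) hf'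
    refine ⟨L, fun n => ?_⟩
    rw [SModEq.sub_mem, smul_eq_mul, Ideal.mul_top]
    -- work in the finite module `A ⧸ J ^ n`, which is `I`-adically separated
    haveI : IsAdicComplete I (A ⧸ J ^ n) := isAdicComplete_of_finite' I (A ⧸ J ^ n)
    have hz : (Ideal.Quotient.mk (J ^ n)) (f n - L) = 0 := by
      apply IsHausdorff.haus (inferInstance : IsHausdorff I (A ⧸ J ^ n))
      intro k
      rw [SModEq.zero]
      have h1 : f n - f (max n k) ∈ J ^ n := by
        have := hf (le_max_left n k)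
        rw [SModEq.sub_mem, smul_eq_mul, Ideal.mul_top] at this
        exact this
      have h2 : f (max n k) - L ∈ I ^ k := by
        have := hL (max n k)
        rw [SModEq.sub_mem, smul_eq_mul, Ideal.mul_top] at this
        exact Ideal.pow_le_pow_right (le_max_right n k) this
      have h3 : (Ideal.Quotient.mk (J ^ n)) (f n - L) =
          (Ideal.Quotient.mk (J ^ n)) (f (max n k) - L) := by
        rw [Ideal.Quotient.eq]
        have : f n - L - (f (max n k) - L) = f n - f (max n k) := by ring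
        rw [this]
        exact h1
      rw [h3]
      have h4 : (Ideal.Quotient.mk (J ^ n)) (f (max n k) - L) =
          (f (max n k) - L) • (1 : A ⧸ J ^ n) := by
        rw [Algebra.smul_def, mul_one]; rfl
      rw [h4]
      exact Submodule.smul_mem_smul h2 Submodule.mem_top
    exact Ideal.Quotient.eq_zero_iff_mem.mp hz

variable {A : Type u} [CommRing A] {X : Scheme.{u}} [X.Over (Spec (CommRingCat.of A))]

lemma Bij.inj' {𝔞 : ℕ → Ideal A} {M : X.Modules} {p : ℕ} (h : Bij 𝔞 M p) (x x' : Coh.HH X M p)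
    (hx : ∀ n, HH.map (qπ (𝔞 n) M) p x = HH.map (qπ (𝔞 n) M) p x') : x = x' := by
  rw [← sub_eq_zero]
  apply h.1
  intro n
  rw [map_sub, hx n, sub_self]

/-- **the induction step**. -/
theorem Bij.sup {𝔭 𝔧 : ℕ → Ideal A} (h𝔭 : Antitone 𝔭) (h𝔧 : Antitone 𝔧) {M : X.Modules} {p : ℕ}
    (H1 : Bij 𝔭 M p) (H2 : ∀ n, Bij 𝔧 (Q (𝔭 n) M) p) : Bij (fun n => 𝔭 n ⊔ 𝔧 n) M p := by
  have h𝔠 : Antitone (fun n => 𝔭 n ⊔ 𝔧 n) := fun a b hab => sup_le_sup (h𝔭 hab) (h𝔧 hab)
  have hk : ∀ n m, 𝔭 (max n m) ⊔ 𝔧 (max n m) ≤ 𝔭 n ⊔ 𝔧 m := fun n m =>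
    sup_le_sup (h𝔭 (le_max_left n m)) (h𝔧 (le_max_right n m))
  refine ⟨fun x hx => ?_, fun y hy => ?_⟩
  · apply H1.1 x
    intro n
    apply (H2 n).1
    intro m
    rw [← HH.map_comp_apply, ← qπ_qqHom, HH.map_comp_apply, ← map_qπ_trans (hk n m) M p x, hx,
      map_zero, map_zero]
  · -- the double family
    let u : ∀ n m, Coh.HH X (Q (𝔭 n ⊔ 𝔧 m) M) p := fun n m =>
      HH.map (qTrans (hk n m) M) p (y (max n m))
    have hind : ∀ (n m k : ℕ) (h : 𝔭 k ⊔ 𝔧 k ≤ 𝔭 n ⊔ 𝔧 m),
        HH.map (qTrans h M) p (y k) = u n m := by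
      intro n m k h
      have e1 := hy k (max k (max n m)) (h𝔠 (le_max_left _ _))
      have e2 := hy (max n m) (max k (max n m)) (h𝔠 (le_max_right _ _))
      show _ = HH.map (qTrans (hk n m) M) p (y (max n m))
      rw [← e1, ← e2, map_qTrans_trans, map_qTrans_trans]
    have hu : ∀ (n m n' m' : ℕ) (h : 𝔭 n' ⊔ 𝔧 m' ≤ 𝔭 n ⊔ 𝔧 m),
        HH.map (qTrans h M) p (u n' m') = u n m := by
      intro n m n' m' h
      show HH.map (qTrans h M) p (HH.map (qTrans (hk n' m') M) p (y (max n' m'))) = _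
      rw [map_qTrans_trans]
      exact hind n m _ _
    let z : ∀ n m, Coh.HH X (Q (𝔧 m) (Q (𝔭 n) M)) p := fun n m =>
      HH.map (qqHom (𝔭 n) (𝔧 m) M) p (u n m)
    have hz : ∀ n, Compat 𝔧 (Q (𝔭 n) M) p (z n) := by
      intro n m m' h
      show HH.map (qTrans h (Q (𝔭 n) M)) p (HH.map (qqHom (𝔭 n) (𝔧 m') M) p (u n m')) =
        HH.map (qqHom (𝔭 n) (𝔧 m) M) p (u n m)
      rw [← HH.map_comp_apply, qqHom_trans_right, HH.map_comp_apply, hu]
    choose w hw using fun n => (H2 n).2 (z n) (hz n)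
    have hwc : Compat 𝔭 M p w := by
      intro n n' h
      apply (H2 n).inj'
      intro m
      rw [hw n m, ← HH.map_comp_apply]
      have e1 : qTrans h M ≫ qπ (𝔧 m) (Q (𝔭 n) M) =
          qπ (𝔧 m) (Q (𝔭 n') M) ≫ Qmap (𝔧 m) (qTrans h M) := (qπ_Qmap _ _).symm
      rw [e1, HH.map_comp_apply, hw n' m]
      show HH.map (Qmap (𝔧 m) (qTrans h M)) p (HH.map (qqHom (𝔭 n') (𝔧 m) M) p (u n' m)) =
        HH.map (qqHom (𝔭 n) (𝔧 m) M) p (u n m)
      rw [← HH.map_comp_apply, qqHom_trans_left, HH.map_comp_apply, hu]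
    obtain ⟨x, hx⟩ := H1.2 w hwc
    refine ⟨x, fun n => ?_⟩
    apply (map_bijective_of_isIso (qqHom (𝔭 n) (𝔧 n) M) p).1
    rw [← HH.map_comp_apply, qπ_qqHom, HH.map_comp_apply, hx n, hw n n]
    show HH.map (qqHom (𝔭 n) (𝔧 n) M) p (u n n) = _
    congr 1
    rw [← hind n n n le_rfl]
    have : qTrans (le_refl (𝔭 n ⊔ 𝔧 n)) M = 𝟙 _ := qTrans_refl _ M
    rw [this, HH.map_id]
    rfl

section Main

variable [IsNoetherianRing A] [IsNoetherian X]
  (hfin : ∀ N : X.Modules, Coh.IsCoh N → ∀ q : ℕ, Module.Finite A (Coh.HH X N q)) (p : ℕ)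

include hfin

/-- principal case in the `Bij` form. -/
theorem bij_principal (a : A) [IsAdicComplete (Ideal.span {a}) A] (M : X.Modules)
    (hM : Coh.IsCoh M) : Bij (fun n => (Ideal.span {a}) ^ (n + 1)) M p :=
  (bij_pow_iff _ M p).mpr (bijective_toHHlim_principal a M hM hfin p)

theorem bij_span_finset (s : Finset A) :
    IsAdicComplete (Ideal.span (s : Set A)) A → ∀ M : X.Modules, Coh.IsCoh M →
      Bij (fun n => (Ideal.span (s : Set A)) ^ (n + 1)) M p := by
  classical
  induction s using Finset.induction_on with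
  | empty =>
    intro hcomp M hM
    have e : Ideal.span ((∅ : Finset A) : Set A) = Ideal.span {(0 : A)} := by simp
    rw [e] at hcomp ⊢
    exact bij_principal hfin p 0 M hM
  | insert a s _ ih =>
    intro hcomp M hM
    have e : Ideal.span ((insert a s : Finset A) : Set A) =
        Ideal.span {a} ⊔ Ideal.span (s : Set A) := by
      rw [Finset.coe_insert, Ideal.span_insert]
    rw [e] at hcomp ⊢
    haveI := hcomp
    haveI h1 : IsAdicComplete (Ideal.span {a}) A :=
      isAdicComplete_of_le (Ideal.span {a} ⊔ Ideal.span (s : Set A)) _ le_sup_left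
    have h2 : IsAdicComplete (Ideal.span (s : Set A)) A :=
      isAdicComplete_of_le (Ideal.span {a} ⊔ Ideal.span (s : Set A)) _ le_sup_right
    have H1 := bij_principal hfin p a M hM
    have H2 : ∀ n, Bij (fun m => (Ideal.span (s : Set A)) ^ (m + 1))
        (Q ((Ideal.span {a}) ^ (n + 1)) M) p := fun n => ih h2 _ (isCoh_Q _ M hM)
    have H := Bij.sup (𝔭 := fun n => (Ideal.span {a}) ^ (n + 1))
      (𝔧 := fun m => (Ideal.span (s : Set A)) ^ (m + 1))
      (fun m n h => Ideal.pow_le_pow_right (Nat.succ_le_succ h))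
      (fun m n h => Ideal.pow_le_pow_right (Nat.succ_le_succ h)) H1 H2
    refine Bij.of_cofinal (fun m n h => Ideal.pow_le_pow_right (Nat.succ_le_succ h))
      (fun n => ⟨2 * n + 1, ?_⟩) (fun n => ⟨n, ?_⟩) H
    · have : 2 * n + 1 + 1 = (n + 1) + (n + 1) := by ring
      show (Ideal.span {a} ⊔ Ideal.span (s : Set A)) ^ (2 * n + 1 + 1) ≤ _
      rw [this]
      exact Ideal.sup_pow_add_le_pow_sup_pow
    · exact sup_le (Ideal.pow_right_mono le_sup_left _) (Ideal.pow_right_mono le_sup_right _)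

/-- **Theorem on formal functions over a complete base**, given finiteness of the cohomology of
coherent modules. -/
theorem bijective_toHHlim_of_finite (I : Ideal A) [hI : IsAdicComplete I A] (M : X.Modules)
    (hM : Coh.IsCoh M) : Function.Bijective (toHHlim I M p) := by
  obtain ⟨s, rfl⟩ := (isNoetherianRing_iff_ideal_fg A).mp inferInstance I
  exact (bij_pow_iff _ M p).mp (bij_span_finset hfin p s hI M hM)

end Main

end Groth.Agent.Lib.helper8.FF
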