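import Mathlib
import Groth.Agent.Lib.Helper8.GEPush
import Groth.Agent.Lib.Helper8.PuncturedTower
import Groth.Agent.Lib.Helper11.PullUnit
import Groth.Agent.Lib.Helper21.PushCoh
import Groth.Agent.Lib.Lead.GE8

/-!
# Push-pull of formal modules: the complete affine case (helper8)

`R` Noetherian and `I`-adically complete, `X'` proper over `Spec R`, an isomorphism over the basic opens `D(k)`,
`k ∈ S`. For a coherent formal module `G'` on `Spec R` and a coherent `F'` on `X'` with `(f'^* G'_n) ≅ (F'/I^n F')`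
there is a map of systems `G' ⟶ (f'_* F' / I^n)`, adjoint to the given isomorphism, whose kernels and cokernels on
global sections are killed by a fixed power of the ideal generated by `S`.
-/

set_option autoImplicit false
set_option backward.isDefEq.respectTransparency false
set_option linter.style.haveILetI false
set_option linter.unusedSectionVars false
universe u

namespace Groth.Agent.Lib.helper8.GEPushAff

open CategoryTheory CategoryTheory.Limits AlgebraicGeometry Opposite TopologicalSpace Formal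
open Groth.Agent.Lib.helper8.FF Groth.Agent.Lib.helper8.Rees Groth.Agent.Lib.helper8.FTors
open Groth.Agent.Lib.helper8.FCompl Groth.Agent.Lib.helper8.FPull
open Groth.Agent.Lib.Lead.GE Groth.Agent.Lib.helper8.GEPush
open Scheme.Modules

section UnitIso

variable {X Y : Scheme.{u}} (e : X ⟶ Y) [IsIso e]

/-- the pushforward along an isomorphism of schemes is an equivalence -/
noncomputable def pushforwardEquivalence : X.Modules ≌ Y.Modules :=
  CategoryTheory.Equivalence.mk (pushforward e) (pushforward (inv e))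
    ((pushforwardId X).symm ≪≫ pushforwardCongr (IsIso.hom_inv_id e).symm ≪≫
      (pushforwardComp e (inv e)).symm)
    (pushforwardComp (inv e) e ≪≫ pushforwardCongr (IsIso.inv_hom_id e) ≪≫ pushforwardId Y)

instance : (pushforward e).IsEquivalence := (pushforwardEquivalence e).isEquivalence_functor

instance : (Scheme.Modules.pullback e).IsEquivalence :=
  (pullbackPushforwardAdjunction e).isEquivalence_left_of_isEquivalence_right

theorem isIso_unit_of_isIso (N : Y.Modules) :
    IsIso ((pullbackPushforwardAdjunction e).unit.app N) := inferInstance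

end UnitIso

section Algebra

variable {R' : Type u} [CommRing R'] {T H : Type u} [AddCommGroup T] [Module R' T]
  [AddCommGroup H] [Module R' H]

/-- if the cokernel of `a` is killed by `k` and the kernel by `k'`, then the kernel of `a` modulo `𝔞` is
killed by `k' k` -/
lemma smul_mem_of_map_mem (a : T →ₗ[R'] H) (𝔞 : Ideal R') (k k' : R')
    (hcok : ∀ y : H, ∃ x : T, a x = k • y) (hker : ∀ x : T, a x = 0 → k' • x = 0)
    (x : T) (hx : a x ∈ 𝔞 • (⊤ : Submodule R' H)) :
    (k' * k) • x ∈ 𝔞 • (⊤ : Submodule R' T) := by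
  have key : ∀ z ∈ 𝔞 • (⊤ : Submodule R' H), ∃ w ∈ 𝔞 • (⊤ : Submodule R' T), a w = k • z := by
    intro z hz
    refine Submodule.smul_induction_on hz ?_ ?_
    · intro j hj h _
      obtain ⟨x₀, hx₀⟩ := hcok h
      refine ⟨j • x₀, Submodule.smul_mem_smul hj Submodule.mem_top, ?_⟩
      rw [LinearMap.map_smul, hx₀, smul_comm]
    · rintro z₁ z₂ ⟨w₁, hw₁, e₁⟩ ⟨w₂, hw₂, e₂⟩
      exact ⟨w₁ + w₂, Submodule.add_mem _ hw₁ hw₂, by rw [map_add, e₁, e₂, smul_add]⟩
  obtain ⟨w, hw, e⟩ := key (a x) hx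
  have h1 : a (k • x - w) = 0 := by rw [map_sub, LinearMap.map_smul, e, sub_self]
  have h2 := hker _ h1
  rw [smul_sub, sub_eq_zero, smul_smul] at h2
  rw [h2]
  exact Submodule.smul_mem _ _ hw

open Groth.Agent.Lib.helper8.PuncTower in
/-- a finitely generated submodule all of whose elements are `𝔞`-power torsion modulo `P` is killed by a
power of `𝔞` modulo `P` -/
lemma exists_pow_smul_mem {𝔞 : Ideal R'} (h𝔞 : 𝔞.FG) (N P : Submodule R' H) (hN : N.FG)
    (h : ∀ x ∈ N, TorsMod 𝔞 P x) : ∃ m : ℕ, ∀ a ∈ 𝔞 ^ m, ∀ x ∈ N, a • x ∈ P := by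
  classical
  obtain ⟨s, hs⟩ := hN
  have h1 : ∀ x ∈ s, ∃ m : ℕ, ∀ a ∈ 𝔞 ^ m, a • x ∈ P := fun x hx =>
    exists_pow_of_torsMod h𝔞 (h x (hs ▸ Submodule.subset_span hx))
  choose! mm hmm using h1
  refine ⟨s.sup mm, fun a ha x hxN => ?_⟩
  have hx : x ∈ Submodule.span R' (s : Set H) := by rw [hs]; exact hxN
  induction hx using Submodule.span_induction with
  | mem x hx => exact hmm x hx a (Ideal.pow_le_pow_right (Finset.le_sup (f := mm) hx) ha)
  | zero => rw [smul_zero]; exact Submodule.zero_mem _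
  | add x y hx' hy' hx hy =>
    rw [smul_add]
    exact Submodule.add_mem _ (hx (hs ▸ hx')) (hy (hs ▸ hy'))
  | smul r x hx' hx =>
    rw [smul_comm]
    exact Submodule.smul_mem _ r (hx (hs ▸ hx'))

end Algebra

section GP

attribute [local instance 2000] Groth.Agent.Lib.helper8.AlgzSpec.ovr

variable {R : Type u} [CommRing R] [IsNoetherianRing R] (I : Ideal R) [IsAdicComplete I R]
  {X' : Scheme.{u}} [X'.Over (Spec (CommRingCat.of R))]
  (f' : X' ⟶ Spec (CommRingCat.of R)) [IsProper f']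
  (hff : f' ≫ (Spec (CommRingCat.of R) ↘ Spec (CommRingCat.of R)) = X' ↘ Spec (CommRingCat.of R))

lemma isCoh_pullback' {X Y : Scheme.{u}} (p : X ⟶ Y) (N : Y.Modules) (hN : Coh.IsCoh N) :
    Coh.IsCoh ((Scheme.Modules.pullback p).obj N) := by
  haveI : N.IsQuasicoherent := hN.1
  exact ⟨Groth.Agent.Lib.helper16.QCohPullback.isQuasicoherent_pullback p N,
    Groth.Agent.Lib.helper16.QCohPullback2.isFiniteType_pullback p N hN.2⟩

/-- **the complete affine case** -/
theorem exists_alpha (S : Set Γ(Spec (CommRingCat.of R), ⊤))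
    (hS : ∀ k ∈ S, IsIso (f' ∣_ (Spec (CommRingCat.of R)).basicOpen k))
    (G' : ℕᵒᵖ ⥤ (Spec (CommRingCat.of R)).Modules) (hG' : IsCohFormal I G')
    (F' : X'.Modules) (hF' : Coh.IsCoh F')
    (β' : G' ⋙ Scheme.Modules.pullback f' ≅ Formal.completion I F') :
    ∃ α' : G' ⟶ Formal.completion I ((pushforward f').obj F'),
      (∀ n : ℕ, α'.app (op n) ≫ cmp f' hff (I ^ (n + 1)) F' =
        (pullbackPushforwardAdjunction f').unit.app (G'.obj (op n)) ≫
          (pushforward f').map (β'.hom.app (op n))) ∧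
      ∃ t : ℕ, ∀ (n : ℕ) (k : Γ(Spec (CommRingCat.of R), ⊤)), k ∈ (Ideal.span S) ^ t →
        (∀ τ : Γ(G'.obj (op n), ⊤), appLin (α'.app (op n)) ⊤ τ = 0 → k • τ = 0) ∧
        (∀ y : Γ(Q (I ^ (n + 1)) ((pushforward f').obj F'), ⊤),
          ∃ τ : Γ(G'.obj (op n), ⊤), appLin (α'.app (op n)) ⊤ τ = k • y) := by
  have hfeq : X' ↘ Spec (CommRingCat.of R) = f' := by
    rw [← hff]
    exact Category.comp_id _
  haveI : IsProper (X' ↘ Spec (CommRingCat.of R)) := by
    rw [hfeq]
    infer_instance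
  haveI : IsNoetherian X' := Groth.Agent.Lib.helper8.FF.isNoetherian_of_finiteType R X'
  obtain ⟨G₀, hG₀, ⟨ε⟩⟩ :=
    Groth.Agent.Lib.helper8.AffEx.exists_completion_iso_of_complete I G' hG'
  haveI : G₀.IsQuasicoherent := hG₀.1
  haveI : F'.IsQuasicoherent := hF'.1
  set M := (Scheme.Modules.pullback f').obj G₀ with hMdef
  have hM : Coh.IsCoh M := isCoh_pullback' f' G₀ hG₀
  haveI : M.IsQuasicoherent := hM.1
  -- the isomorphism of systems
  let τ : Formal.completion I M ⟶ Formal.completion I F' :=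
    (completionPullbackIso f' hff I G₀).hom ≫
      Functor.whiskerRight ε.hom (Scheme.Modules.pullback f') ≫ β'.hom
  let τi : Formal.completion I F' ⟶ Formal.completion I M :=
    β'.inv ≫ Functor.whiskerRight ε.inv (Scheme.Modules.pullback f') ≫
      (completionPullbackIso f' hff I G₀).inv
  have hτ1 : τ ≫ τi = 𝟙 _ := by
    change ((completionPullbackIso f' hff I G₀).hom ≫
      Functor.whiskerRight ε.hom (Scheme.Modules.pullback f') ≫ β'.hom) ≫
      β'.inv ≫ Functor.whiskerRight ε.inv (Scheme.Modules.pullback f') ≫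
        (completionPullbackIso f' hff I G₀).inv = 𝟙 _
    simp only [Category.assoc, Iso.hom_inv_id_assoc]
    rw [← Functor.whiskerRight_comp_assoc, ε.hom_inv_id, Functor.whiskerRight_id']
    simp
  have hτ2 : τi ≫ τ = 𝟙 _ := by
    change (β'.inv ≫ Functor.whiskerRight ε.inv (Scheme.Modules.pullback f') ≫
        (completionPullbackIso f' hff I G₀).inv) ≫
      (completionPullbackIso f' hff I G₀).hom ≫
      Functor.whiskerRight ε.hom (Scheme.Modules.pullback f') ≫ β'.hom = 𝟙 _
    simp only [Category.assoc, Iso.inv_hom_id_assoc]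
    rw [← Functor.whiskerRight_comp_assoc, ε.inv_hom_id, Functor.whiskerRight_id']
    simp
  obtain ⟨b, hb, -⟩ := existsUnique_of_proper I (homDict R M) hM F' hF' τ
  obtain ⟨b', hb', -⟩ := existsUnique_of_proper I (homDict R F') hF' M hM τi
  have hbb' : b ≫ b' = 𝟙 M := by
    obtain ⟨φ, -, hu⟩ := existsUnique_of_proper I (homDict R M) hM M hM (𝟙 _)
    have h1 : b ≫ b' = φ := hu _ (fun n => by
      have e1 : τ.app (op n) ≫ τi.app (op n) = 𝟙 _ := congrArg (fun t => t.app (op n)) hτ1
      rw [Category.assoc, ← hb' n, ← Category.assoc, ← hb n, Category.assoc, e1]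
      rfl)
    have h2 : 𝟙 M = φ := hu _ (fun n => by
      rw [Category.id_comp]
      exact Category.comp_id _)
    exact h1.trans h2.symm
  have hb'b : b' ≫ b = 𝟙 F' := by
    obtain ⟨φ, -, hu⟩ := existsUnique_of_proper I (homDict R F') hF' F' hF' (𝟙 _)
    have h1 : b' ≫ b = φ := hu _ (fun n => by
      have e1 : τi.app (op n) ≫ τ.app (op n) = 𝟙 _ := congrArg (fun t => t.app (op n)) hτ2
      rw [Category.assoc, ← hb n, ← Category.assoc, ← hb' n, Category.assoc, e1]
      rfl)
    have h2 : 𝟙 F' = φ := hu _ (fun n => by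
      rw [Category.id_comp]
      exact Category.comp_id _)
    exact h1.trans h2.symm
  haveI : IsIso b := ⟨b', hbb', hb'b⟩
  let adj := pullbackPushforwardAdjunction f'
  let a₀ : G₀ ⟶ (pushforward f').obj F' := adj.unit.app G₀ ≫ (pushforward f').map b
  let α' : G' ⟶ Formal.completion I ((pushforward f').obj F') := ε.inv ≫ completionMap I a₀
  have hα'app : ∀ n : ℕ, α'.app (op n) = ε.inv.app (op n) ≫ Qmap (I ^ (n + 1)) a₀ := fun n => rfl
  have hcompat : ∀ n : ℕ, α'.app (op n) ≫ cmp f' hff (I ^ (n + 1)) F' =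
      adj.unit.app (G'.obj (op n)) ≫ (pushforward f').map (β'.hom.app (op n)) := by
    intro n
    haveI : Epi (qπ (I ^ (n + 1)) G₀ ≫ ε.hom.app (op n)) := epi_comp _ _
    rw [← cancel_epi (qπ (I ^ (n + 1)) G₀ ≫ ε.hom.app (op n)), hα'app]
    have e1 : (qπ (I ^ (n + 1)) G₀ ≫ ε.hom.app (op n)) ≫
        (ε.inv.app (op n) ≫ Qmap (I ^ (n + 1)) a₀) ≫ cmp f' hff (I ^ (n + 1)) F' =
        a₀ ≫ (pushforward f').map (qπ (I ^ (n + 1)) F') := by
      simp only [Category.assoc, Iso.hom_inv_id_app_assoc]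
      rw [← Category.assoc, qπ_Qmap, Category.assoc, qπ_cmp]
    rw [e1]
    have e2 := adj.unit.naturality (qπ (I ^ (n + 1)) G₀ ≫ ε.hom.app (op n))
    simp only [Functor.id_obj, Functor.id_map, Functor.comp_obj, Functor.comp_map] at e2
    rw [← Category.assoc, e2]
    change (adj.unit.app G₀ ≫ (pushforward f').map b) ≫ _ = _
    rw [Category.assoc, Category.assoc, ← Functor.map_comp, ← Functor.map_comp]
    congr 2
    -- `b ≫ qπ = f'^*(qπ ≫ ε) ≫ β'`
    have e3 := hb n
    have e4 : τ.app (op n) = (pullbackQIso f' hff (I ^ (n + 1)) G₀).hom ≫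
        (Scheme.Modules.pullback f').map (ε.hom.app (op n)) ≫ β'.hom.app (op n) := rfl
    have e5 : b ≫ qπ (I ^ (n + 1)) F' = qπ (I ^ (n + 1)) M ≫ τ.app (op n) := e3.symm
    rw [e5, e4, ← Category.assoc, qπ_pullbackQIso_hom, Functor.map_comp, Category.assoc]
  refine ⟨α', hcompat, ?_⟩
  -- module level
  have hY'aff : IsAffineOpen (⊤ : (Spec (CommRingCat.of R)).Opens) := isAffineOpen_top _
  haveI : IsNoetherian (Spec (CommRingCat.of R)) := inferInstance
  haveI hNR : IsNoetherianRing Γ(Spec (CommRingCat.of R), ⊤) :=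
    IsLocallyNoetherian.component_noetherian ⟨⊤, hY'aff⟩
  have hPcoh : Coh.IsCoh ((pushforward f').obj F') := isCoh_pushforward f' hF'
  haveI : ((pushforward f').obj F').IsQuasicoherent := hPcoh.1
  haveI hfinT : Module.Finite Γ(Spec (CommRingCat.of R), ⊤) Γ(G₀, ⊤) :=
    Groth.Agent.Lib.helper16.CohFinite.finite_sections_of_isCoh G₀ hG₀ hY'aff
  haveI hfinH : Module.Finite Γ(Spec (CommRingCat.of R), ⊤) Γ((pushforward f').obj F', ⊤) :=
    Groth.Agent.Lib.helper16.CohFinite.finite_sections_of_isCoh _ hPcoh hY'aff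
  -- `a₀` is bijective on sections over `D(k)`, `k ∈ S`
  have hbij : ∀ k ∈ S, Function.Bijective
      (appLin a₀ ((Spec (CommRingCat.of R)).basicOpen k)) := by
    intro k hk
    haveI := hS k hk
    have h1 : IsIso ((restrictFunctor ((Spec (CommRingCat.of R)).basicOpen k).ι).map
        (adj.unit.app G₀)) :=
      Groth.Agent.Lib.helper11.PullUnit.isIso_restrict_unit f' _ G₀
        (isIso_unit_of_isIso (f' ∣_ (Spec (CommRingCat.of R)).basicOpen k) _)
    have h2 : IsIso ((restrictFunctor ((Spec (CommRingCat.of R)).basicOpen k).ι).map a₀) := by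
      change IsIso ((restrictFunctor ((Spec (CommRingCat.of R)).basicOpen k).ι).map
        (adj.unit.app G₀ ≫ (pushforward f').map b))
      rw [Functor.map_comp]
      infer_instance
    have h3 : IsIso (((restrictFunctor ((Spec (CommRingCat.of R)).basicOpen k).ι).map a₀).app ⊤) :=
      inferInstance
    have h4 : IsIso (a₀.app (((Spec (CommRingCat.of R)).basicOpen k).ι ''ᵁ ⊤)) := h3
    rw [((Spec (CommRingCat.of R)).basicOpen k).ι_image_top] at h4
    exact (ConcreteCategory.isIso_iff_bijective _).mp h4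
  set a := appLin a₀ (⊤ : (Spec (CommRingCat.of R)).Opens) with ha
  have hfgS : (Ideal.span S).FG := IsNoetherian.noetherian _
  -- the kernel of `a` is torsion
  have hker : ∃ m₁ : ℕ, ∀ k ∈ (Ideal.span S) ^ m₁, ∀ x : Γ(G₀, ⊤), a x = 0 → k • x = 0 := by
    obtain ⟨m, hm⟩ := exists_pow_smul_mem hfgS (LinearMap.ker a) ⊥ (IsNoetherian.noetherian _)
      (fun x hx => Groth.Agent.Lib.helper8.PuncTower.torsMod_of_span ⊥ x (fun k hk => by
        have hx0 : a x = 0 := hx
        have h1 := Groth.Agent.Lib.helper16.QCohEpi.app_map a₀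
          ((Spec (CommRingCat.of R)).basicOpen_le k) x
        have h2 : ((pushforward f').obj F').presheaf.map
            (homOfLE ((Spec (CommRingCat.of R)).basicOpen_le k)).op ((a₀.app ⊤).hom x) = 0 := by
          have : (a₀.app ⊤).hom x = 0 := hx0
          rw [this, map_zero]
        rw [h2] at h1
        have h3 : G₀.presheaf.map (homOfLE ((Spec (CommRingCat.of R)).basicOpen_le k)).op x = 0 :=
          (hbij k hk).1 (h1.trans (map_zero _).symm)
        obtain ⟨n, hn⟩ := Groth.Agent.Lib.helper7.exists_pow_smul_eq_zero_of_isAffineOpen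
          hY'aff G₀ k x h3
        exact ⟨n, (Submodule.mem_bot _).2 hn⟩))
    exact ⟨m, fun k hk x hx => (Submodule.mem_bot _).1 (hm k hk x hx)⟩
  -- the cokernel of `a` is torsion
  have hcok : ∃ m₂ : ℕ, ∀ k ∈ (Ideal.span S) ^ m₂, ∀ y : Γ((pushforward f').obj F', ⊤),
      ∃ x : Γ(G₀, ⊤), a x = k • y := by
    obtain ⟨m, hm⟩ := exists_pow_smul_mem hfgS ⊤ (LinearMap.range a) Module.Finite.fg_top
      (fun y _ => Groth.Agent.Lib.helper8.PuncTower.torsMod_of_span _ y (fun k hk => by
        obtain ⟨s, hs⟩ := (hbij k hk).2 (((pushforward f').obj F').presheaf.map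
          (homOfLE ((Spec (CommRingCat.of R)).basicOpen_le k)).op y)
        obtain ⟨n, x, hx⟩ :=
          Groth.Agent.Lib.helper7.exists_pow_smul_eq_map_of_isAffineOpen hY'aff G₀ k s
        have h1 := Groth.Agent.Lib.helper16.QCohEpi.app_map a₀
          ((Spec (CommRingCat.of R)).basicOpen_le k) x
        rw [hx] at h1
        have h2 : (a₀.app ((Spec (CommRingCat.of R)).basicOpen k)).hom
            (((Spec (CommRingCat.of R)).presheaf.map
              (homOfLE ((Spec (CommRingCat.of R)).basicOpen_le k)).op k) ^ n • s) =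
            ((Spec (CommRingCat.of R)).presheaf.map
              (homOfLE ((Spec (CommRingCat.of R)).basicOpen_le k)).op k) ^ n •
              (a₀.app ((Spec (CommRingCat.of R)).basicOpen k)).hom s :=
          (appLin a₀ ((Spec (CommRingCat.of R)).basicOpen k)).map_smul _ s
        rw [h2] at h1
        have h3 : (a₀.app ((Spec (CommRingCat.of R)).basicOpen k)).hom s =
            ((pushforward f').obj F').presheaf.map
              (homOfLE ((Spec (CommRingCat.of R)).basicOpen_le k)).op y := hs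
        rw [h3] at h1
        have h4 : ((pushforward f').obj F').presheaf.map
            (homOfLE ((Spec (CommRingCat.of R)).basicOpen_le k)).op (k ^ n • y - a x) = 0 := by
          rw [map_sub, Scheme.Modules.map_smul, map_pow, h1]
          exact sub_self _
        obtain ⟨n', hn'⟩ :=
          Groth.Agent.Lib.helper7.exists_pow_smul_eq_zero_of_isAffineOpen
            hY'aff ((pushforward f').obj F') k _ h4
        refine ⟨n' + n, ?_⟩
        rw [smul_sub, sub_eq_zero] at hn'
        rw [pow_add, mul_smul, hn', ← LinearMap.map_smul]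
        exact ⟨_, rfl⟩))
    refine ⟨m, fun k hk y => ?_⟩
    obtain ⟨x, hx⟩ := hm k hk y Submodule.mem_top
    exact ⟨x, hx⟩
  obtain ⟨m₁, hm₁⟩ := hker
  obtain ⟨m₂, hm₂⟩ := hcok
  refine ⟨m₁ + m₂, fun n k hk => ?_⟩
  rw [pow_add] at hk
  -- sections of the isomorphisms `ε`
  have he1 : ∀ ξ : Γ(Q (I ^ (n + 1)) G₀, ⊤), appLin (ε.inv.app (op n)) ⊤
      (appLin (ε.hom.app (op n)) ⊤ ξ) = ξ := by
    intro ξ
    rw [← appLin_comp_apply]
    exact congrArg (fun t : Q (I ^ (n + 1)) G₀ ⟶ Q (I ^ (n + 1)) G₀ => appLin t ⊤ ξ)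
      (ε.hom_inv_id_app (op n))
  have he2 : ∀ τ : Γ(G'.obj (op n), ⊤), appLin (ε.hom.app (op n)) ⊤
      (appLin (ε.inv.app (op n)) ⊤ τ) = τ := by
    intro τ
    rw [← appLin_comp_apply]
    exact congrArg (fun t : G'.obj (op n) ⟶ G'.obj (op n) => appLin t ⊤ τ)
      (ε.inv_hom_id_app (op n))
  have hQ : ∀ x : Γ(G₀, ⊤), appLin (Qmap (I ^ (n + 1)) a₀) ⊤ (appLin (qπ (I ^ (n + 1)) G₀) ⊤ x) =
      appLin (qπ (I ^ (n + 1)) ((pushforward f').obj F')) ⊤ (a x) := by
    intro x
    rw [← appLin_comp_apply, qπ_Qmap]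
    rfl
  have hα : ∀ τ : Γ(G'.obj (op n), ⊤), appLin (α'.app (op n)) ⊤ τ =
      appLin (Qmap (I ^ (n + 1)) a₀) ⊤ (appLin (ε.inv.app (op n)) ⊤ τ) := fun τ => rfl
  refine Submodule.mul_induction_on hk ?_ ?_
  · intro k' hk' k'' hk''
    constructor
    · intro τ hτ
      obtain ⟨x, hx⟩ := appLin_qπ_surjective (I ^ (n + 1)) G₀ hY'aff
        (appLin (ε.inv.app (op n)) ⊤ τ)
      rw [hα, ← hx, hQ] at hτ
      have h1 : a x ∈ ((I ^ (n + 1)).map
          (resA R (⊤ : (Spec (CommRingCat.of R)).Opens))) •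
          (⊤ : Submodule Γ(Spec (CommRingCat.of R), ⊤) Γ((pushforward f').obj F', ⊤)) := by
        rw [← ker_appLin_qπ (I ^ (n + 1)) ((pushforward f').obj F') hY'aff]
        exact hτ
      have h2 := smul_mem_of_map_mem a _ k'' k' (hm₂ k'' hk'') (hm₁ k' hk') x h1
      have h3 : appLin (qπ (I ^ (n + 1)) G₀) ⊤ ((k' * k'') • x) = 0 :=
        smul_top_le_ker_appLin_qπ _ _ _ h2
      rw [LinearMap.map_smul, hx] at h3
      have h4 := congrArg (appLin (ε.hom.app (op n)) ⊤) h3
      rw [LinearMap.map_smul, he2, map_zero] at h4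
      exact h4
    · intro y
      obtain ⟨h, hh⟩ := appLin_qπ_surjective (I ^ (n + 1)) ((pushforward f').obj F') hY'aff y
      obtain ⟨x, hx⟩ := hm₂ k'' hk'' h
      refine ⟨appLin (ε.hom.app (op n)) ⊤ (appLin (qπ (I ^ (n + 1)) G₀) ⊤ (k' • x)), ?_⟩
      rw [hα, he1, hQ, LinearMap.map_smul, hx, ← hh, mul_smul, LinearMap.map_smul,
        LinearMap.map_smul]
  · rintro k₁ k₂ ⟨h1a, h1b⟩ ⟨h2a, h2b⟩
    constructor
    · intro τ hτ
      rw [add_smul, h1a τ hτ, h2a τ hτ, add_zero]
    · intro y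
      obtain ⟨τ₁, e₁⟩ := h1b y
      obtain ⟨τ₂, e₂⟩ := h2b y
      exact ⟨τ₁ + τ₂, by rw [map_add, e₁, e₂, add_smul]⟩

end GP

end Groth.Agent.Lib.helper8.GEPushAff
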