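import Mathlib
import Groth.Agent.Lib.Helper8.FlatBC

/-!
# The flat base change map `g^* f_* ⟶ f'_* g'^*` as a natural transformation (helper8)

For a cartesian square `g' : X' ⟶ X`, `f' : X' ⟶ Y'`, `f : X ⟶ Y`, `g : Y' ⟶ Y`:
* `bcPre h F : f_* F ⟶ g_* f'_* g'^* F`, `bcMap h F : g^* f_* F ⟶ f'_* g'^* F` with `bcMap_naturality`;
* `bcNat h : pushforward f ⋙ pullback g ⟶ pullback g' ⋙ pushforward f'`;
* `isIso_bcMap`: an isomorphism for `f` qcqs, `g` flat, `F` quasi-coherent (`FlatBC.isIso_baseChange_of_flat_qcqs`);
* `bcIsoOn`: the resulting isomorphism `G ⋙ pushforward f ⋙ pullback g ≅ G ⋙ pullback g' ⋙ pushforward f'` for a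
  diagram `G` of quasi-coherent modules.
-/

set_option autoImplicit false
universe u

namespace Groth.Agent.Lib.helper8.FlatBCNat

open CategoryTheory AlgebraicGeometry TopologicalSpace Opposite Scheme.Modules

variable {X Y X' Y' : Scheme.{u}} {f : X ⟶ Y} {g : Y' ⟶ Y} {g' : X' ⟶ X} {f' : X' ⟶ Y'}
  (h : IsPullback g' f' f g)

/-- `f_* F ⟶ g_* f'_* g'^* F` -/
noncomputable def bcPre (F : X.Modules) :
    (pushforward f).obj F ⟶ (pushforward g).obj ((pushforward f').obj ((pullback g').obj F)) :=
  (pushforward f).map ((pullbackPushforwardAdjunction g').unit.app F) ≫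
    (pushforwardComp g' f).hom.app ((pullback g').obj F) ≫
    (pushforwardCongr h.w).hom.app ((pullback g').obj F) ≫
    (pushforwardComp f' g).inv.app ((pullback g').obj F)

lemma bcPre_naturality {F₁ F₂ : X.Modules} (t : F₁ ⟶ F₂) :
    (pushforward f).map t ≫ bcPre h F₂ =
      bcPre h F₁ ≫ (pushforward g).map ((pushforward f').map ((pullback g').map t)) := by
  unfold bcPre
  have h1 := (pullbackPushforwardAdjunction g').unit.naturality t
  have h2 := (pushforwardComp g' f).hom.naturality ((pullback g').map t)
  have h3 := (pushforwardCongr h.w).hom.naturality ((pullback g').map t)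
  have h4 := (pushforwardComp f' g).inv.naturality ((pullback g').map t)
  simp only [Functor.id_obj, Functor.comp_obj, Functor.id_map, Functor.comp_map] at h1 h2 h3 h4
  simp only [Category.assoc]
  rw [← Functor.map_comp_assoc, h1, Functor.map_comp_assoc, reassoc_of% h2, reassoc_of% h3, h4]

/-- the base change map `g^* f_* F ⟶ f'_* g'^* F` -/
noncomputable def bcMap (F : X.Modules) :
    (pullback g).obj ((pushforward f).obj F) ⟶ (pushforward f').obj ((pullback g').obj F) :=
  ((pullbackPushforwardAdjunction g).homEquiv ((pushforward f).obj F)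
    ((pushforward f').obj ((pullback g').obj F))).symm (bcPre h F)

lemma bcMap_naturality {F₁ F₂ : X.Modules} (t : F₁ ⟶ F₂) :
    (pullback g).map ((pushforward f).map t) ≫ bcMap h F₂ =
      bcMap h F₁ ≫ (pushforward f').map ((pullback g').map t) := by
  unfold bcMap
  rw [← Adjunction.homEquiv_naturality_left_symm, ← Adjunction.homEquiv_naturality_right_symm,
    bcPre_naturality]

/-- the base change natural transformation -/
noncomputable def bcNat : pushforward f ⋙ pullback g ⟶ pullback g' ⋙ pushforward f' where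
  app F := bcMap h F
  naturality _ _ t := bcMap_naturality h t

theorem isIso_bcMap [QuasiCompact f] [QuasiSeparated f] [Flat g] (F : X.Modules)
    [F.IsQuasicoherent] : IsIso (bcMap h F) :=
  Groth.Agent.Lib.helper8.FlatBC.isIso_baseChange_of_flat_qcqs f g g' f' h F

/-- flat base change for a diagram of quasi-coherent modules -/
noncomputable def bcIsoOn [QuasiCompact f] [QuasiSeparated f] [Flat g] {J : Type*} [Category J]
    (G : J ⥤ X.Modules) (hG : ∀ j, (G.obj j).IsQuasicoherent) :
    G ⋙ pushforward f ⋙ pullback g ≅ G ⋙ pullback g' ⋙ pushforward f' :=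
  NatIso.ofComponents (fun j => @asIso _ _ _ _ (bcMap h (G.obj j))
    (haveI := hG j; isIso_bcMap h (G.obj j))) (by
    intro j k t
    exact bcMap_naturality h (G.map t))

end Groth.Agent.Lib.helper8.FlatBCNat
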