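import Mathlib
import Groth.Agent.Lib.Helper8.GEPush
import Groth.Agent.Lib.Helper8.FlatBCNat
import Groth.Agent.Lib.Helper8.RingChange

/-!
# Push-pull of formal modules: flat base change with change of the base ring (helper8)

A cartesian square `g' : X' ⟶ X`, `f' : X' ⟶ Y'`, `f : X ⟶ Y`, `g : Y' ⟶ Y` with `X`, `Y` over `Spec A` and
`X'`, `Y'` over `Spec R`, compatibly with `ψ : A →+* R`.

* `thetaIso`, `map_unit_bcMap`: the isomorphism `g^* ⋙ f'^* ≅ f^* ⋙ g'^*` conjugate to the identification of the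
  two pushforwards to `Y`, and the compatibility of the base change map with the units.
* `isCok_pullback_map_rc`, `pqIso`: `p^* (M / 𝔞 M) = p^* M / (𝔞 R) p^* M`.
* `betaIso`, `kappa`, `bridge`: transport of the data of `inverse_systems_push_pull` to `Y'` and the uniqueness of
  the resulting map of systems.
-/

set_option autoImplicit false
set_option backward.isDefEq.respectTransparency false
set_option linter.style.haveILetI false
set_option linter.unusedSectionVars false
universe u

namespace Groth.Agent.Lib.helper8.GEPushBC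

open CategoryTheory CategoryTheory.Limits AlgebraicGeometry Opposite TopologicalSpace Formal
open Groth.Agent.Lib.helper8.FF Groth.Agent.Lib.helper8.Rees Groth.Agent.Lib.helper8.FTors
open Groth.Agent.Lib.helper8.FCompl Groth.Agent.Lib.helper8.FPull
open Groth.Agent.Lib.Lead.GE Groth.Agent.Lib.helper8.GEPush Groth.Agent.Lib.helper8.FlatBCNat
open Scheme.Modules

section Mate

variable {X Y X' Y' : Scheme.{u}} {f : X ⟶ Y} {g : Y' ⟶ Y} {g' : X' ⟶ X} {f' : X' ⟶ Y'}
  (w : g' ≫ f = f' ≫ g)

/-- `g'_* ⋙ f_* ≅ f'_* ⋙ g_*` -/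
noncomputable def pushIso : pushforward g' ⋙ pushforward f ≅ pushforward f' ⋙ pushforward g :=
  pushforwardComp g' f ≪≫ pushforwardCongr w ≪≫ (pushforwardComp f' g).symm

variable (f g g' f') in
/-- the composite adjunction `f^* ⋙ g'^* ⊣ g'_* ⋙ f_*` -/
noncomputable abbrev adjA :
    Scheme.Modules.pullback f ⋙ Scheme.Modules.pullback g' ⊣ pushforward g' ⋙ pushforward f :=
  (pullbackPushforwardAdjunction f).comp (pullbackPushforwardAdjunction g')

variable (f g g' f') in
/-- the composite adjunction `g^* ⋙ f'^* ⊣ f'_* ⋙ g_*` -/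
noncomputable abbrev adjB :
    Scheme.Modules.pullback g ⋙ Scheme.Modules.pullback f' ⊣ pushforward f' ⋙ pushforward g :=
  (pullbackPushforwardAdjunction g).comp (pullbackPushforwardAdjunction f')

/-- the base change isomorphism of pullbacks, conjugate to `pushIso` -/
noncomputable def thetaIso :
    Scheme.Modules.pullback g ⋙ Scheme.Modules.pullback f' ≅
      Scheme.Modules.pullback f ⋙ Scheme.Modules.pullback g' :=
  (conjugateIsoEquiv (adjA f g') (adjB g f')).symm (pushIso w)

/-- the base change map is compatible with the units of the adjunctions -/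
theorem map_unit_bcMap (h : IsPullback g' f' f g) (N : Y.Modules) :
    (Scheme.Modules.pullback g).map ((pullbackPushforwardAdjunction f).unit.app N) ≫
        bcMap h ((Scheme.Modules.pullback f).obj N) =
      (pullbackPushforwardAdjunction f').unit.app ((Scheme.Modules.pullback g).obj N) ≫
        (pushforward f').map ((thetaIso h.w).hom.app N) := by
  apply ((pullbackPushforwardAdjunction g).homEquiv _ _).injective
  have e0 : ((pullbackPushforwardAdjunction g).homEquiv _ _)
      ((Scheme.Modules.pullback g).map ((pullbackPushforwardAdjunction f).unit.app N) ≫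
        bcMap h ((Scheme.Modules.pullback f).obj N)) =
      (pullbackPushforwardAdjunction f).unit.app N ≫
        ((pullbackPushforwardAdjunction g).homEquiv _ _)
          (bcMap h ((Scheme.Modules.pullback f).obj N)) :=
    Adjunction.homEquiv_naturality_left _ _ _
  have e1 : ((pullbackPushforwardAdjunction g).homEquiv _ _)
      (bcMap h ((Scheme.Modules.pullback f).obj N)) = bcPre h ((Scheme.Modules.pullback f).obj N) :=
    Equiv.apply_symm_apply _ _
  have e4 : ((pullbackPushforwardAdjunction g).homEquiv _ _)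
      ((pullbackPushforwardAdjunction f').unit.app ((Scheme.Modules.pullback g).obj N) ≫
        (pushforward f').map ((thetaIso h.w).hom.app N)) =
      (pullbackPushforwardAdjunction g).unit.app N ≫ (pushforward g).map
        ((pullbackPushforwardAdjunction f').unit.app ((Scheme.Modules.pullback g).obj N) ≫
          (pushforward f').map ((thetaIso h.w).hom.app N)) :=
    Adjunction.homEquiv_unit _ _ _ _
  refine (e0.trans (congrArg (fun t => (pullbackPushforwardAdjunction f).unit.app N ≫ t) e1)).trans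
    (Eq.trans ?_ e4.symm)
  have key := unit_conjugateEquiv_symm (adjA f g') (adjB g f') (pushIso h.w).hom N
  have e2 : (adjA f g').unit.app N = (pullbackPushforwardAdjunction f).unit.app N ≫
      (pushforward f).map ((pullbackPushforwardAdjunction g').unit.app
        ((Scheme.Modules.pullback f).obj N)) := Adjunction.comp_unit_app _ _ _
  have e3 : (adjB g f').unit.app N = (pullbackPushforwardAdjunction g).unit.app N ≫
      (pushforward g).map ((pullbackPushforwardAdjunction f').unit.app
        ((Scheme.Modules.pullback g).obj N)) := Adjunction.comp_unit_app _ _ _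
  rw [e2, e3] at key
  rw [Functor.map_comp]
  simp only [Category.assoc] at key ⊢
  exact key

end Mate

section PQ

variable {A R : Type u} [CommRing A] [CommRing R] (ψ : A →+* R)
  {Z Z' : Scheme.{u}} [Z.Over (Spec (CommRingCat.of A))] [Z'.Over (Spec (CommRingCat.of R))]
  (p : Z' ⟶ Z)
  (hp : (Z' ↘ Spec (CommRingCat.of R)) ≫ Spec.map (CommRingCat.ofHom ψ) =
    p ≫ (Z ↘ Spec (CommRingCat.of A)))

include hp in
/-- pullback with change of the base ring preserves cokernels of `𝔞 • P` -/
theorem isCok_pullback_map_rc {𝔞 : Ideal A} {P Q' : Z.Modules} {t : P ⟶ Q'} (ht : IsCok 𝔞 t) :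
    IsCok (𝔞.map ψ) ((Scheme.Modules.pullback p).map t) := by
  let iA' : Z'.Over (Spec (CommRingCat.of A)) := ⟨p ≫ (Z ↘ Spec (CommRingCat.of A))⟩
  have h1 : @IsCok A _ Z' iA' 𝔞 _ _ ((Scheme.Modules.pullback p).map t) :=
    @isCok_pullback_map Z' Z p A _ iA' _ rfl _ _ _ _ ht
  exact Groth.Agent.Lib.helper8.RingChange.isCok_map ψ iA' inferInstance hp.symm h1

/-- `p^* M / (J R)^(n+1) ≅ p^* (M / J^(n+1))` -/
noncomputable def pqIso (J : Ideal A) (M : Z.Modules) (n : ℕ) :
    Q ((J.map ψ) ^ (n + 1)) ((Scheme.Modules.pullback p).obj M) ≅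
      (Scheme.Modules.pullback p).obj (Q (J ^ (n + 1)) M) :=
  (show IsCok ((J.map ψ) ^ (n + 1)) ((Scheme.Modules.pullback p).map (qπ (J ^ (n + 1)) M)) from by
    rw [← Ideal.map_pow]
    exact isCok_pullback_map_rc ψ p hp (isCok_qπ _ M)).exists_iso.choose

@[reassoc]
lemma qπ_pqIso_hom (J : Ideal A) (M : Z.Modules) (n : ℕ) :
    qπ ((J.map ψ) ^ (n + 1)) ((Scheme.Modules.pullback p).obj M) ≫ (pqIso ψ p hp J M n).hom =
      (Scheme.Modules.pullback p).map (qπ (J ^ (n + 1)) M) :=
  (show IsCok ((J.map ψ) ^ (n + 1)) ((Scheme.Modules.pullback p).map (qπ (J ^ (n + 1)) M)) from by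
    rw [← Ideal.map_pow]
    exact isCok_pullback_map_rc ψ p hp (isCok_qπ _ M)).exists_iso.choose_spec

@[reassoc]
lemma map_qπ_pqIso_inv (J : Ideal A) (M : Z.Modules) (n : ℕ) :
    (Scheme.Modules.pullback p).map (qπ (J ^ (n + 1)) M) ≫ (pqIso ψ p hp J M n).inv =
      qπ ((J.map ψ) ^ (n + 1)) ((Scheme.Modules.pullback p).obj M) := by
  rw [← qπ_pqIso_hom ψ p hp J M n, Category.assoc, Iso.hom_inv_id, Category.comp_id]

instance epi_map_qπ (𝔞 : Ideal A) (M : Z.Modules) :
    Epi ((Scheme.Modules.pullback p).map (qπ 𝔞 M)) :=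
  (Scheme.Modules.pullback p).map_epi _

@[reassoc]
lemma pqIso_hom_qTrans (J : Ideal A) (M : Z.Modules) {n k : ℕ} (h : n ≤ k)
    (h₁ : (J.map ψ) ^ (k + 1) ≤ (J.map ψ) ^ (n + 1)) (h₂ : J ^ (k + 1) ≤ J ^ (n + 1)) :
    (pqIso ψ p hp J M k).hom ≫ (Scheme.Modules.pullback p).map (qTrans h₂ M) =
      qTrans h₁ _ ≫ (pqIso ψ p hp J M n).hom := by
  rw [← cancel_epi (qπ ((J.map ψ) ^ (k + 1)) ((Scheme.Modules.pullback p).obj M)),
    qπ_pqIso_hom_assoc, ← Functor.map_comp, qπ_qTrans, ← Category.assoc, qπ_qTrans, qπ_pqIso_hom]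

@[reassoc]
lemma map_qTrans_pqIso_inv (J : Ideal A) (M : Z.Modules) {n k : ℕ} (h : n ≤ k)
    (h₁ : (J.map ψ) ^ (k + 1) ≤ (J.map ψ) ^ (n + 1)) (h₂ : J ^ (k + 1) ≤ J ^ (n + 1)) :
    (Scheme.Modules.pullback p).map (qTrans h₂ M) ≫ (pqIso ψ p hp J M n).inv =
      (pqIso ψ p hp J M k).inv ≫ qTrans h₁ _ := by
  rw [Iso.comp_inv_eq, Category.assoc, ← pqIso_hom_qTrans ψ p hp J M h h₁ h₂, Iso.inv_hom_id_assoc]

end PQ

section Bridge

variable {A R : Type u} [CommRing A] [CommRing R] (ψ : A →+* R) (J : Ideal A)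
  {X Y X' Y' : Scheme.{u}} [X.Over (Spec (CommRingCat.of A))] [Y.Over (Spec (CommRingCat.of A))]
  [X'.Over (Spec (CommRingCat.of R))] [Y'.Over (Spec (CommRingCat.of R))]
  {f : X ⟶ Y} {g : Y' ⟶ Y} {g' : X' ⟶ X} {f' : X' ⟶ Y'} (h : IsPullback g' f' f g)
  (hf : f ≫ (Y ↘ Spec (CommRingCat.of A)) = X ↘ Spec (CommRingCat.of A))
  (hf' : f' ≫ (Y' ↘ Spec (CommRingCat.of R)) = X' ↘ Spec (CommRingCat.of R))
  (hg : (Y' ↘ Spec (CommRingCat.of R)) ≫ Spec.map (CommRingCat.ofHom ψ) =
    g ≫ (Y ↘ Spec (CommRingCat.of A)))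

include h hf hf' hg in
lemma hg'_of : (X' ↘ Spec (CommRingCat.of R)) ≫ Spec.map (CommRingCat.ofHom ψ) =
    g' ≫ (X ↘ Spec (CommRingCat.of A)) := by
  rw [← hf', Category.assoc, hg, ← Category.assoc, ← h.w, Category.assoc, hf]

variable (F : X.Modules) (G : ℕᵒᵖ ⥤ Y.Modules)
  (β : G ⋙ Scheme.Modules.pullback f ≅ Formal.completion J F)

/-- the components of the transported isomorphism `β'` -/
noncomputable def betaComp (n : ℕ) :
    (Scheme.Modules.pullback f').obj ((Scheme.Modules.pullback g).obj (G.obj (op n))) ≅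
      Q ((J.map ψ) ^ (n + 1)) ((Scheme.Modules.pullback g').obj F) :=
  (thetaIso h.w).app (G.obj (op n)) ≪≫ (Scheme.Modules.pullback g').mapIso (β.app (op n)) ≪≫
    (pqIso ψ g' (hg'_of ψ h hf hf' hg) J F n).symm

lemma betaComp_hom (n : ℕ) :
    (betaComp ψ J h hf hf' hg F G β n).hom =
      (thetaIso h.w).hom.app (G.obj (op n)) ≫ (Scheme.Modules.pullback g').map (β.hom.app (op n)) ≫
        (pqIso ψ g' (hg'_of ψ h hf hf' hg) J F n).inv := rfl

/-- the transported isomorphism of systems on `X'` -/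
noncomputable def betaIso :
    (G ⋙ Scheme.Modules.pullback g) ⋙ Scheme.Modules.pullback f' ≅
      Formal.completion (J.map ψ) ((Scheme.Modules.pullback g').obj F) :=
  NatIso.ofComponents (fun n => betaComp ψ J h hf hf' hg F G β n.unop) (by
    intro n k φ
    have hle : k.unop ≤ n.unop := leOfHom φ.unop
    have eg : φ = (homOfLE hle).op := Quiver.Hom.unop_inj (Subsingleton.elim _ _)
    rw [eg, completion_map]
    change (Scheme.Modules.pullback f').map ((Scheme.Modules.pullback g).map
        (G.map (homOfLE hle).op)) ≫ (betaComp ψ J h hf hf' hg F G β k.unop).hom =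
      (betaComp ψ J h hf hf' hg F G β n.unop).hom ≫ qTrans _ _
    rw [betaComp_hom, betaComp_hom]
    have e1 := (thetaIso h.w).hom.naturality (G.map (homOfLE hle).op)
    simp only [Functor.comp_map] at e1
    rw [reassoc_of% e1]
    have e2 := β.hom.naturality (homOfLE hle).op
    simp only [Functor.comp_map] at e2
    rw [← Functor.map_comp_assoc, e2, completion_map, Functor.map_comp_assoc]
    simp only [Category.assoc]
    rw [map_qTrans_pqIso_inv ψ g' (hg'_of ψ h hf hf' hg) J F hle
      (Ideal.pow_le_pow_right (Nat.succ_le_succ hle))])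

lemma betaIso_hom_app (n : ℕ) :
    (betaIso ψ J h hf hf' hg F G β).hom.app (op n) = (betaComp ψ J h hf hf' hg F G β n).hom := rfl

/-- `g^* ((f_* F) / J^(n+1)) ⟶ (f'_* g'^* F) / (J R)^(n+1)` -/
noncomputable def kappa (n : ℕ) :
    (Scheme.Modules.pullback g).obj (Q (J ^ (n + 1)) ((pushforward f).obj F)) ⟶
      Q ((J.map ψ) ^ (n + 1)) ((pushforward f').obj ((Scheme.Modules.pullback g').obj F)) :=
  (pqIso ψ g hg J ((pushforward f).obj F) n).inv ≫ Qmap ((J.map ψ) ^ (n + 1)) (bcMap h F)

@[reassoc]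
lemma map_qπ_kappa (n : ℕ) :
    (Scheme.Modules.pullback g).map (qπ (J ^ (n + 1)) ((pushforward f).obj F)) ≫
        kappa ψ J h hg F n =
      bcMap h F ≫ qπ ((J.map ψ) ^ (n + 1)) _ := by
  unfold kappa
  rw [map_qπ_pqIso_inv_assoc, qπ_Qmap]

lemma kappa_qTrans {n k : ℕ} (hle : n ≤ k)
    (h₁ : (J.map ψ) ^ (k + 1) ≤ (J.map ψ) ^ (n + 1)) (h₂ : J ^ (k + 1) ≤ J ^ (n + 1)) :
    kappa ψ J h hg F k ≫ qTrans h₁ _ =
      (Scheme.Modules.pullback g).map (qTrans h₂ ((pushforward f).obj F)) ≫ kappa ψ J h hg F n := by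
  unfold kappa
  rw [Category.assoc, Qmap_qTrans, ← Category.assoc, ← Category.assoc,
    map_qTrans_pqIso_inv ψ g hg J _ hle h₁ h₂]

/-- `κ` intertwines the comparison maps `cmp` of `f` and `f'` -/
lemma kappa_cmp (n : ℕ) :
    kappa ψ J h hg F n ≫ cmp f' hf' ((J.map ψ) ^ (n + 1)) ((Scheme.Modules.pullback g').obj F) =
      (Scheme.Modules.pullback g).map (cmp f hf (J ^ (n + 1)) F) ≫ bcMap h (Q (J ^ (n + 1)) F) ≫
        (pushforward f').map (pqIso ψ g' (hg'_of ψ h hf hf' hg) J F n).inv := by
  rw [← cancel_epi ((Scheme.Modules.pullback g).map (qπ (J ^ (n + 1)) ((pushforward f).obj F))),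
    map_qπ_kappa_assoc, qπ_cmp, ← Functor.map_comp_assoc, qπ_cmp,
    ← Category.assoc, bcMap_naturality, Category.assoc, ← Functor.map_comp, map_qπ_pqIso_inv]

/-- **uniqueness of the transported map**: a map of systems on `Y'` adjoint to the transported isomorphism `β'` is
the pullback of the map of systems on `Y` adjoint to `β` -/
theorem bridge [IsProper f'] [IsNoetherian Y'] {m : ℕ} {W' : Fin m → Y'.Opens} {c : ℕ}
    (hF' : Coh.IsCoh ((Scheme.Modules.pullback g').obj F))
    (D' : FFSData f' (J := J.map ψ) (F := (Scheme.Modules.pullback g').obj F) m W' c)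
    (α : G ⟶ Formal.completion J ((pushforward f).obj F))
    (hα : ∀ n : ℕ, α.app (op n) ≫ cmp f hf (J ^ (n + 1)) F =
      (pullbackPushforwardAdjunction f).unit.app (G.obj (op n)) ≫
        (pushforward f).map (β.hom.app (op n)))
    (hepi : ∀ (n k : ℕ) (hle : n ≤ k), Epi (G.map (homOfLE hle).op))
    (α' : G ⋙ Scheme.Modules.pullback g ⟶
      Formal.completion (J.map ψ) ((pushforward f').obj ((Scheme.Modules.pullback g').obj F)))
    (hα' : ∀ n : ℕ, α'.app (op n) ≫
        cmp f' hf' ((J.map ψ) ^ (n + 1)) ((Scheme.Modules.pullback g').obj F) =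
      (pullbackPushforwardAdjunction f').unit.app ((Scheme.Modules.pullback g).obj (G.obj (op n))) ≫
        (pushforward f').map ((betaIso ψ J h hf hf' hg F G β).hom.app (op n))) :
    ∀ n : ℕ, α'.app (op n) =
      (Scheme.Modules.pullback g).map (α.app (op n)) ≫ kappa ψ J h hg F n := by
  let u : G ⋙ Scheme.Modules.pullback g ⟶
      Formal.completion (J.map ψ) ((pushforward f').obj ((Scheme.Modules.pullback g').obj F)) :=
    { app := fun n => (Scheme.Modules.pullback g).map (α.app n) ≫ kappa ψ J h hg F n.unop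
      naturality := by
        intro n k φ
        have hle : k.unop ≤ n.unop := leOfHom φ.unop
        have eg : φ = (homOfLE hle).op := Quiver.Hom.unop_inj (Subsingleton.elim _ _)
        rw [eg, completion_map]
        change (Scheme.Modules.pullback g).map (G.map (homOfLE hle).op) ≫
            (Scheme.Modules.pullback g).map (α.app k) ≫ kappa ψ J h hg F k.unop =
          ((Scheme.Modules.pullback g).map (α.app n) ≫ kappa ψ J h hg F n.unop) ≫ qTrans _ _
        rw [← Functor.map_comp_assoc, α.naturality, completion_map, Functor.map_comp_assoc,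
          Category.assoc, kappa_qTrans ψ J h hg F hle _
            (Ideal.pow_le_pow_right (Nat.succ_le_succ hle))] }
  have hu : u = α' := by
    refine cmpSys_cancel f' hf' hF' D' (fun n k hle => ?_) u α' ?_
    · haveI := hepi n k hle
      exact (Scheme.Modules.pullback g).map_epi _
    · apply NatTrans.ext
      funext ⟨n⟩
      change ((Scheme.Modules.pullback g).map (α.app (op n)) ≫ kappa ψ J h hg F n) ≫
          cmp f' hf' ((J.map ψ) ^ (n + 1)) _ = α'.app (op n) ≫ cmp f' hf' ((J.map ψ) ^ (n + 1)) _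
      have e5 : (Scheme.Modules.pullback g).map ((pushforward f).map (β.hom.app (op n))) ≫
          bcMap h (Q (J ^ (n + 1)) F) =
          bcMap h ((Scheme.Modules.pullback f).obj (G.obj (op n))) ≫
            (pushforward f').map ((Scheme.Modules.pullback g').map (β.hom.app (op n))) :=
        bcMap_naturality h (β.hom.app (op n))
      have e6 := map_unit_bcMap h (G.obj (op n))
      rw [hα' n, Category.assoc, kappa_cmp ψ J h hf hf' hg F n, ← Functor.map_comp_assoc, hα n,
        Functor.map_comp_assoc, reassoc_of% e5, reassoc_of% e6, ← Functor.map_comp,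
        ← Functor.map_comp, betaIso_hom_app, betaComp_hom]
  intro n
  rw [← hu]


end Bridge

end Groth.Agent.Lib.helper8.GEPushBC
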