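import Mathlib
import Groth.Agent.Lib.Helper8.GEPushBC
import Groth.Agent.Lib.Helper8.GEPushAff
import Groth.Agent.Lib.Helper8.PullbackUnit
import Groth.Agent.Lib.Helper8.DevSupp
import Groth.Agent.S0542

/-!
# Push-pull of formal modules: the general case (helper8)

`f : X ⟶ Y` proper over `Spec A`, `Y` Noetherian, an isomorphism over the complement of the support of an ideal
sheaf `K`. For a coherent formal module `G` on `Y` and `F` coherent on `X` with `(f^* G_n) ≅ (F / J^n F)` there is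
a map of systems `G ⟶ (f_* F / J^n)` whose kernels and cokernels are killed by a fixed power of `K`
(`inverse_systems_push_pull`).

The proof reduces, over each affine open `W` of a finite cover of `Y`, to the complete affine case
(`GEPushAff.exists_alpha`) after the flat base change to the `J`-adic completion of `Γ(Y, W)`; modules killed by
a power of `J` do not change under this base change (`bijective_of_isBC_of_killed`).
-/

set_option autoImplicit false
set_option backward.isDefEq.respectTransparency false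
set_option linter.style.haveILetI false
set_option linter.unusedSectionVars false
universe u

namespace Groth.Agent.Lib.helper8.GEPushMain

open CategoryTheory CategoryTheory.Limits AlgebraicGeometry Opposite TopologicalSpace Formal
open Groth.Agent.Lib.helper8.FF Groth.Agent.Lib.helper8.Rees Groth.Agent.Lib.helper8.FTors
open Groth.Agent.Lib.helper8.FCompl Groth.Agent.Lib.helper8.FPull
open Groth.Agent.Lib.Lead.GE Groth.Agent.Lib.helper8.GEPush Groth.Agent.Lib.helper8.FlatBCNat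
open Groth.Agent.Lib.helper8.GEPushBC Groth.Agent.Lib.helper8.GEPushAff
open Groth.Agent.Lib.helper8.PullbackUnit
open Scheme.Modules

section T

/-- a module killed by `𝔧^m` does not change under a base change `φ : B → R'` inducing an isomorphism modulo
`𝔧^m` -/
theorem bijective_of_isBC_of_killed {B R' : Type u} [CommRing B] [CommRing R'] (𝔧 : Ideal B) (m : ℕ)
    (φ : B →+* R') (ε : R' →+* B ⧸ 𝔧 ^ m) (hε : ∀ b, ε (φ b) = Ideal.Quotient.mk _ b)
    (hker : ∀ r', ε r' = 0 → r' ∈ (𝔧 ^ m).map φ)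
    {N P : Type u} [AddCommGroup N] [Module B N] [AddCommGroup P] [Module R' P]
    (hN : ∀ j ∈ 𝔧 ^ m, ∀ n : N, j • n = 0) (k : N →+ P) (hk : IsBC φ k) :
    Function.Bijective k := by
  have hkill : ∀ r' ∈ (𝔧 ^ m).map φ, ∀ n : N, r' • k n = 0 := by
    intro r' hr' n
    refine Submodule.span_induction (p := fun r' _ => r' • k n = 0) ?_ ?_ ?_ ?_ hr'
    · rintro _ ⟨j, hj, rfl⟩
      rw [← hk.map_smul, hN j hj, map_zero]
    · exact zero_smul _ _
    · intro x y _ _ hx hy
      rw [add_smul, hx, hy, add_zero]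
    · intro a x _ hx
      rw [smul_eq_mul, mul_smul, hx, smul_zero]
  have htors : Module.IsTorsionBySet B N (𝔧 ^ m : Ideal B) := fun n j => hN j.1 j.2 n
  letI mq : Module (B ⧸ 𝔧 ^ m) N := htors.module
  letI mR : Module R' N := Module.compHom N ε
  have hsm : ∀ (b : B) (n : N), (φ b) • n = b • n := by
    intro b n
    show ε (φ b) • n = b • n
    rw [hε]
    exact htors.mk_smul b n
  obtain ⟨h', hh', -⟩ := hk.existsUnique_lift N (AddMonoidHom.id N) (fun b n => (hsm b n).symm)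
  have hklin : ∀ (r' : R') (n : N), k (r' • n) = r' • k n := by
    intro r' n
    obtain ⟨b, hb⟩ := Ideal.Quotient.mk_surjective (ε r')
    have h1 : r' • n = b • n := by
      show ε r' • n = b • n
      rw [← hb]
      exact htors.mk_smul b n
    have h2 : r' - φ b ∈ (𝔧 ^ m).map φ := hker _ (by rw [map_sub, hε, hb, sub_self])
    have h3 := hkill _ h2 n
    rw [sub_smul, sub_eq_zero] at h3
    rw [h1, hk.map_smul, h3]
  refine ⟨fun a b hab => ?_, fun p => ?_⟩
  · have := congrArg h' hab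
    rwa [hh', hh'] at this
  · let kl : N →ₗ[R'] P := { toFun := k, map_add' := k.map_add, map_smul' := hklin }
    obtain ⟨u, -, huniq⟩ := hk.existsUnique_lift P k hk.map_smul
    have e1 : kl.comp h' = u := huniq _ (fun n => by
      show k (h' (k n)) = k n
      rw [hh']
      rfl)
    have e2 : LinearMap.id = u := huniq _ (fun n => rfl)
    refine ⟨h' p, ?_⟩
    exact congrArg (fun l : P →ₗ[R'] P => l p) (e1.trans e2.symm)

end T

section Rho

variable {Y Y' : Scheme.{u}} (g : Y' ⟶ Y) {U : Y.Opens} {V : Y'.Opens} (e : V ≤ g ⁻¹ᵁ U)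

/-- `ρ` is natural in the module -/
lemma ρ_naturality {N N' : Y.Modules} (φ : N ⟶ N') (x : Γ(N, U)) :
    ρ g e N' (appLin φ U x) = appLin ((Scheme.Modules.pullback g).map φ) V (ρ g e N x) := by
  rw [ρ_apply, ρ_apply]
  have e1 := (pullbackPushforwardAdjunction g).unit.naturality φ
  simp only [Functor.id_obj, Functor.comp_obj, Functor.id_map, Functor.comp_map] at e1
  have e2 : (((pullbackPushforwardAdjunction g).unit.app N').app U).hom (appLin φ U x) =
      (((Scheme.Modules.pullback g).map φ).app (g ⁻¹ᵁ U)).hom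
        ((((pullbackPushforwardAdjunction g).unit.app N).app U).hom x) :=
    congrArg (fun τ => appLin τ U x) e1
  rw [e2]
  exact (Groth.Agent.Lib.helper16.QCohEpi.app_map ((Scheme.Modules.pullback g).map φ) e _).symm

end Rho

section Geo

variable {X Y X' Y' : Scheme.{u}} {f : X ⟶ Y} {g : Y' ⟶ Y} {g' : X' ⟶ X} {f' : X' ⟶ Y'}

/-- if `f` is an isomorphism over `V`, its base change `f'` is an isomorphism over every open of `g⁻¹ V` -/
lemma isIso_morphismRestrict_of_isPullback (h : IsPullback g' f' f g) (V : Y.Opens)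
    [IsIso (f ∣_ V)] (U' : Y'.Opens) (hU' : U' ≤ g ⁻¹ᵁ V) : IsIso (f' ∣_ U') := by
  have hr : Set.range (U'.ι ≫ g).base ⊆ Set.range V.ι.base := by
    rintro _ ⟨x, rfl⟩
    rw [Scheme.Opens.range_ι]
    exact hU' x.2
  let q : (U' : Scheme) ⟶ V := IsOpenImmersion.lift V.ι (U'.ι ≫ g) hr
  have hq : q ≫ V.ι = U'.ι ≫ g := IsOpenImmersion.lift_fac _ _ _
  have s1 : IsPullback (f' ∣_ U') ((f' ⁻¹ᵁ U').ι ≫ g') (U'.ι ≫ g) f :=
    (isPullback_morphismRestrict f' U').paste_vert h.flip
  rw [← hq] at s1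
  have s2 := IsPullback.of_bot' s1 (isPullback_morphismRestrict f V)
  exact s2.isIso_fst_of_isIso

/-- the basic open of a section of the ideal `K` misses the support of `K` -/
lemma basicOpen_le_support_compl (K : Y.IdealSheafData) (W : Y.affineOpens) (k : Γ(Y, W.1))
    (hk : k ∈ K.ideal W) : Y.basicOpen k ≤ K.support.compl := by
  intro x hx
  have hxW : x ∈ W.1 := Y.basicOpen_le k hx
  intro hxs
  have h1 := (Scheme.IdealSheafData.mem_support_iff_of_mem (I := K) hxW).mp hxs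
  rw [Scheme.mem_zeroLocus_iff] at h1
  exact h1 k hk hx

end Geo

section L

attribute [local instance 2000] Groth.Agent.Lib.helper8.AlgzSpec.ovr

variable {A R : Type u} [CommRing A] [CommRing R] [IsNoetherianRing R] (ψ : A →+* R) (J : Ideal A)
  [IsAdicComplete (J.map ψ) R]
  {X Y X' : Scheme.{u}} [X.Over (Spec (CommRingCat.of A))] [Y.Over (Spec (CommRingCat.of A))]
  [X'.Over (Spec (CommRingCat.of R))]
  {f : X ⟶ Y} {g : Spec (CommRingCat.of R) ⟶ Y} {g' : X' ⟶ X} {f' : X' ⟶ Spec (CommRingCat.of R)}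
  (h : IsPullback g' f' f g)
  (hf : f ≫ (Y ↘ Spec (CommRingCat.of A)) = X ↘ Spec (CommRingCat.of A))
  (hf' : f' ≫ (Spec (CommRingCat.of R) ↘ Spec (CommRingCat.of R)) = X' ↘ Spec (CommRingCat.of R))
  (hg : (Spec (CommRingCat.of R) ↘ Spec (CommRingCat.of R)) ≫ Spec.map (CommRingCat.ofHom ψ) =
    g ≫ (Y ↘ Spec (CommRingCat.of A)))
  [IsProper f] [IsNoetherian Y] [Flat g]

lemma isIso_Qmap {Z : Scheme.{u}} [Z.Over (Spec (CommRingCat.of A))] (𝔞 : Ideal A) {M N : Z.Modules}
    (φ : M ⟶ N) [IsIso φ] : IsIso (Qmap 𝔞 φ) :=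
  ⟨Qmap 𝔞 (inv φ), by rw [← Qmap_comp, IsIso.hom_inv_id, Qmap_id],
    by rw [← Qmap_comp, IsIso.inv_hom_id, Qmap_id]⟩

/-- sections over an affine open of a module killed by `J^(n+1)` are killed by `(J Γ(Y, W))^(n+1)` -/
lemma smul_eq_zero_of_killedBy {Z : Scheme.{u}} [Z.Over (Spec (CommRingCat.of A))] (W : Z.Opens) (n : ℕ)
    (M : Z.Modules) (hM : KilledBy (J ^ (n + 1)) M) (j : Γ(Z, W))
    (hj : j ∈ (J.map (resA A W)) ^ (n + 1)) (x : Γ(M, W)) : j • x = 0 := by
  rw [← Ideal.map_pow] at hj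
  refine Submodule.span_induction (p := fun j _ => j • x = 0) ?_ ?_ ?_ ?_ hj
  · rintro _ ⟨a, ha, rfl⟩
    rw [← appLin_smulMod, hM a ha]
    rfl
  · exact zero_smul _ _
  · intro a b _ _ ha hb
    rw [add_smul, ha, hb, add_zero]
  · intro a b _ hb
    rw [smul_eq_mul, mul_smul, hb, smul_zero]

include h hf' hg in
/-- **the bound over one affine open**, by base change to a complete Noetherian ring -/
theorem local_bound (K : Y.IdealSheafData) (hV : IsIso (f ∣_ K.support.compl))
    (G : ℕᵒᵖ ⥤ Y.Modules) (hG : IsCohFormal J G) (F : X.Modules) (hF : Coh.IsCoh F)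
    (β : G ⋙ Scheme.Modules.pullback f ≅ Formal.completion J F)
    (α : G ⟶ Formal.completion J ((pushforward f).obj F))
    (hα : ∀ n : ℕ, α.app (op n) ≫ cmp f hf (J ^ (n + 1)) F =
      (pullbackPushforwardAdjunction f).unit.app (G.obj (op n)) ≫
        (pushforward f).map (β.hom.app (op n)))
    (W : Y.Opens) (hW : IsAffineOpen W) (e : (⊤ : (Spec (CommRingCat.of R)).Opens) ≤ g ⁻¹ᵁ W)
    (hT : ∀ m : ℕ, ∃ ε : Γ(Spec (CommRingCat.of R), ⊤) →+* Γ(Y, W) ⧸ (J.map (resA A W)) ^ m,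
      (∀ b, ε ((g.appLE W ⊤ e).hom b) = Ideal.Quotient.mk _ b) ∧
      (∀ r', ε r' = 0 → r' ∈ ((J.map (resA A W)) ^ m).map (g.appLE W ⊤ e).hom)) :
    ∃ t : ℕ, ∀ (n : ℕ) (k : Γ(Y, W)), k ∈ (K.ideal ⟨W, hW⟩) ^ t →
      (∀ τ : Γ(G.obj (op n), W), appLin (α.app (op n)) W τ = 0 → k • τ = 0) ∧
      (∀ y : Γ(Q (J ^ (n + 1)) ((pushforward f).obj F), W),
        ∃ τ : Γ(G.obj (op n), W), appLin (α.app (op n)) W τ = k • y) := by
  haveI : IsProper f' := MorphismProperty.of_isPullback (P := @IsProper) h inferInstance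
  haveI : IsNoetherian (Spec (CommRingCat.of R)) := inferInstance
  have hF' : Coh.IsCoh ((Scheme.Modules.pullback g').obj F) := isCoh_pullback' g' F hF
  obtain ⟨m', W', c', D'⟩ := exists_ffsData f' hf' (J.map ψ) _ hF'
  have hG' : IsCohFormal (J.map ψ) (G ⋙ Scheme.Modules.pullback g) := by
    let iA' : (Spec (CommRingCat.of R)).Over (Spec (CommRingCat.of A)) :=
      ⟨g ≫ (Y ↘ Spec (CommRingCat.of A))⟩
    have h1 : @IsCohFormal A _ _ iA' J (G ⋙ Scheme.Modules.pullback g) :=
      @isCohFormal_pullback _ Y g A _ iA' _ rfl J G hG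
    exact Groth.Agent.Lib.helper8.RingChange.isCohFormal_map ψ iA' inferInstance hg.symm J _ h1
  have hS : ∀ k' ∈ ((g.appLE W ⊤ e).hom '' (K.ideal ⟨W, hW⟩ : Set Γ(Y, W))),
      IsIso (f' ∣_ (Spec (CommRingCat.of R)).basicOpen k') := by
    rintro _ ⟨k, hk, rfl⟩
    haveI := hV
    refine isIso_morphismRestrict_of_isPullback h K.support.compl _ ?_
    have h1 : (Spec (CommRingCat.of R)).basicOpen ((g.appLE W ⊤ e).hom k) =
        ⊤ ⊓ g ⁻¹ᵁ (Y.basicOpen k) := Scheme.basicOpen_appLE g ⊤ W e k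
    rw [h1]
    exact inf_le_right.trans (fun x hx => basicOpen_le_support_compl K ⟨W, hW⟩ k hk hx)
  obtain ⟨α', hα', t, ht⟩ := exists_alpha (J.map ψ) f' hf' _ hS (G ⋙ Scheme.Modules.pullback g) hG'
    ((Scheme.Modules.pullback g').obj F) hF' (betaIso ψ J h hf hf' hg F G β)
  have hbr := bridge ψ J h hf hf' hg F G β hF' D' α hα
    (fun n k hle => (isCok_map J G hG hle).epi) α' hα'
  refine ⟨t, fun n k hk => ?_⟩
  have hk' : (g.appLE W ⊤ e).hom k ∈
      (Ideal.span ((g.appLE W ⊤ e).hom '' (K.ideal ⟨W, hW⟩ : Set Γ(Y, W)))) ^ t := by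
    have h1 : (g.appLE W ⊤ e).hom k ∈ ((K.ideal ⟨W, hW⟩) ^ t).map (g.appLE W ⊤ e).hom :=
      Ideal.mem_map_of_mem _ hk
    rw [Ideal.map_pow] at h1
    exact h1
  obtain ⟨hker', hcok'⟩ := ht n _ hk'
  haveI hq1 : (G.obj (op n)).IsQuasicoherent := (hG.1 n).1
  have hPcoh : Coh.IsCoh ((pushforward f).obj F) := isCoh_pushforward f hF
  haveI : ((pushforward f).obj F).IsQuasicoherent := hPcoh.1
  haveI hq2 : (Q (J ^ (n + 1)) ((pushforward f).obj F)).IsQuasicoherent := isQuasicoherent_Q _ _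
  have hY'aff : IsAffineOpen (⊤ : (Spec (CommRingCat.of R)).Opens) := isAffineOpen_top _
  obtain ⟨ε, hε, hkerε⟩ := hT (n + 1)
  have hb1 : Function.Bijective (ρ g e (G.obj (op n))) :=
    bijective_of_isBC_of_killed _ (n + 1) _ ε hε hkerε
      (fun j hj x => smul_eq_zero_of_killedBy J W n _ (hG.2.1 n) j hj x) _
      (isBC_ρ g hW hY'aff e _)
  have hb2 : Function.Bijective (ρ g e (Q (J ^ (n + 1)) ((pushforward f).obj F))) :=
    bijective_of_isBC_of_killed _ (n + 1) _ ε hε hkerε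
      (fun j hj x => smul_eq_zero_of_killedBy J W n _ (killedBy_Q _ _) j hj x) _
      (isBC_ρ g hW hY'aff e _)
  haveI : F.IsQuasicoherent := hF.1
  haveI : IsIso (bcMap h F) := isIso_bcMap h F
  haveI : IsIso (kappa ψ J h hg F n) := by
    unfold kappa
    haveI : IsIso (Qmap ((J.map ψ) ^ (n + 1)) (bcMap h F)) := isIso_Qmap _ _
    infer_instance
  have key : ∀ τ : Γ(G.obj (op n), W),
      appLin (α'.app (op n)) ⊤ (ρ g e (G.obj (op n)) τ) =
        appLin (kappa ψ J h hg F n) ⊤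
          (ρ g e (Q (J ^ (n + 1)) ((pushforward f).obj F)) (appLin (α.app (op n)) W τ)) := by
    intro τ
    rw [hbr n, appLin_comp_apply]
    congr 1
    exact (ρ_naturality g e (α.app (op n)) τ).symm
  refine ⟨fun τ hτ => ?_, fun y => ?_⟩
  · have h1 : appLin (α'.app (op n)) ⊤ (ρ g e (G.obj (op n)) τ) = 0 := by
      rw [key τ, hτ, map_zero, map_zero]
    have h2 := hker' _ h1
    have h3 : ρ g e (G.obj (op n)) (k • τ) = 0 := by
      rw [(isBC_ρ g hW hY'aff e (G.obj (op n))).map_smul]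
      exact h2
    exact hb1.1 (h3.trans (map_zero _).symm)
  · obtain ⟨τ', hτ'⟩ := hcok' (appLin (kappa ψ J h hg F n) ⊤
      (ρ g e (Q (J ^ (n + 1)) ((pushforward f).obj F)) y))
    obtain ⟨τ, rfl⟩ := hb1.2 τ'
    refine ⟨τ, ?_⟩
    apply hb2.1
    apply appLin_injective_of_mono (kappa ψ J h hg F n) ⊤
    rw [← key τ, hτ', (isBC_ρ g hW hY'aff e _).map_smul, LinearMap.map_smul]

end L

section C

attribute [local instance 2000] Groth.Agent.Lib.helper8.AlgzSpec.ovr

variable {A : Type u} [CommRing A] (J : Ideal A) {Y : Scheme.{u}} [Y.Over (Spec (CommRingCat.of A))]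
  (W : Y.Opens) (hW : IsAffineOpen W)

/-- the completion of `Γ(Y, W)` along `J` -/
abbrev RW : Type u := AdicCompletion (J.map (resA A W)) Γ(Y, W)

/-- `A → Γ(Y, W) → Γ(Y, W)^` -/
noncomputable abbrev ψW : A →+* RW J W := (algebraMap Γ(Y, W) (RW J W)).comp (resA A W)

/-- `Spec Γ(Y, W)^ ⟶ Spec Γ(Y, W) ⟶ Y` -/
noncomputable abbrev gW : Spec (CommRingCat.of (RW J W)) ⟶ Y :=
  Spec.map (CommRingCat.ofHom (algebraMap Γ(Y, W) (RW J W))) ≫ hW.fromSpec

lemma isNoetherianRing_RW [IsNoetherianRing Γ(Y, W)] : IsNoetherianRing (RW J W) :=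
  Groth.Agent.S0542.result Γ(Y, W) (J.map (resA A W)) (IsNoetherian.noetherian _)

lemma isAdicComplete_RW [IsNoetherianRing Γ(Y, W)] : IsAdicComplete (J.map (ψW J W)) (RW J W) := by
  have hfg : (J.map (resA A W)).FG := IsNoetherian.noetherian _
  have e : J.map (ψW J W) = (J.map (resA A W)).map (algebraMap Γ(Y, W) (RW J W)) :=
    (Ideal.map_map _ _).symm
  rw [e]
  exact (IsAdicComplete.map_algebraMap_iff (R := Γ(Y, W)) (S := RW J W) (I := J.map (resA A W))
    (M := RW J W)).mpr (AdicCompletion.isAdicComplete hfg)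

lemma flat_gW [IsNoetherianRing Γ(Y, W)] : Flat (gW J W hW) := by
  haveI : Flat (Spec.map (CommRingCat.ofHom (algebraMap Γ(Y, W) (RW J W)))) := by
    rw [Flat.SpecMap_iff]
    show (algebraMap Γ(Y, W) (RW J W)).Flat
    rw [RingHom.flat_algebraMap_iff]
    infer_instance
  infer_instance

lemma top_le_gW : (⊤ : (Spec (CommRingCat.of (RW J W))).Opens) ≤ (gW J W hW) ⁻¹ᵁ W := by
  intro x _
  show (gW J W hW).base x ∈ W
  have h1 : (gW J W hW).base x = hW.fromSpec.base
      ((Spec.map (CommRingCat.ofHom (algebraMap Γ(Y, W) (RW J W)))).base x) := rfl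
  rw [h1]
  exact hW.range_fromSpec.le ⟨_, rfl⟩

lemma hg_gW :
    (Spec (CommRingCat.of (RW J W)) ↘ Spec (CommRingCat.of (RW J W))) ≫
        Spec.map (CommRingCat.ofHom (ψW J W)) =
      gW J W hW ≫ (Y ↘ Spec (CommRingCat.of A)) := by
  have h1 : hW.fromSpec ≫ (Y ↘ Spec (CommRingCat.of A)) =
      Spec.map (CommRingCat.ofHom (resA A W)) := by
    rw [← hW.isoSpec_inv_ι, Category.assoc, ← isoSpec_comp_specMap_resA W hW, Iso.inv_hom_id_assoc]
  have h2 : (Spec (CommRingCat.of (RW J W)) ↘ Spec (CommRingCat.of (RW J W))) = 𝟙 _ := rfl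
  rw [h2, Category.id_comp]
  change Spec.map (CommRingCat.ofHom ((algebraMap Γ(Y, W) (RW J W)).comp (resA A W))) =
    (Spec.map (CommRingCat.ofHom (algebraMap Γ(Y, W) (RW J W))) ≫ hW.fromSpec) ≫ _
  rw [Category.assoc, h1, ← Spec.map_comp]
  rfl

lemma appLE_gW : (gW J W hW).appLE W ⊤ (top_le_gW J W hW) =
    CommRingCat.ofHom (algebraMap Γ(Y, W) (RW J W)) ≫
      (Scheme.ΓSpecIso (CommRingCat.of (RW J W))).inv := by
  apply Spec.map_injective
  rw [← cancel_mono hW.fromSpec, IsAffineOpen.SpecMap_appLE_fromSpec (gW J W hW) hW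
    (isAffineOpen_top _) (top_le_gW J W hW), IsAffineOpen.fromSpec_top, Scheme.isoSpec_Spec_inv,
    Spec.map_comp, Category.assoc]

lemma hT_gW [IsNoetherianRing Γ(Y, W)] (m : ℕ) :
    ∃ ε : Γ(Spec (CommRingCat.of (RW J W)), ⊤) →+* Γ(Y, W) ⧸ (J.map (resA A W)) ^ m,
      (∀ b, ε (((gW J W hW).appLE W ⊤ (top_le_gW J W hW)).hom b) = Ideal.Quotient.mk _ b) ∧
      (∀ r', ε r' = 0 →
        r' ∈ ((J.map (resA A W)) ^ m).map ((gW J W hW).appLE W ⊤ (top_le_gW J W hW)).hom) := by
  have hfg : (J.map (resA A W)).FG := IsNoetherian.noetherian _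
  have hφ : ((gW J W hW).appLE W ⊤ (top_le_gW J W hW)).hom =
      (Scheme.ΓSpecIso (CommRingCat.of (RW J W))).inv.hom.comp
        (algebraMap Γ(Y, W) (RW J W)) := by
    rw [appLE_gW]
    rfl
  have hinv : ∀ r : RW J W, (Scheme.ΓSpecIso (CommRingCat.of (RW J W))).hom.hom
      ((Scheme.ΓSpecIso (CommRingCat.of (RW J W))).inv.hom r) = r := fun r =>
    congrArg (fun φ : CommRingCat.of (RW J W) ⟶ CommRingCat.of (RW J W) => φ.hom r)
      (Scheme.ΓSpecIso (CommRingCat.of (RW J W))).inv_hom_id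
  have hinv' : ∀ r' : Γ(Spec (CommRingCat.of (RW J W)), ⊤),
      (Scheme.ΓSpecIso (CommRingCat.of (RW J W))).inv.hom
        ((Scheme.ΓSpecIso (CommRingCat.of (RW J W))).hom.hom r') = r' := fun r' =>
    congrArg (fun φ : Γ(Spec (CommRingCat.of (RW J W)), ⊤) ⟶
        Γ(Spec (CommRingCat.of (RW J W)), ⊤) => φ.hom r')
      (Scheme.ΓSpecIso (CommRingCat.of (RW J W))).hom_inv_id
  refine ⟨(AdicCompletion.evalₐ (J.map (resA A W)) m).toRingHom.comp
    (Scheme.ΓSpecIso (CommRingCat.of (RW J W))).hom.hom, fun b => ?_, fun r' hr' => ?_⟩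
  · rw [hφ]
    show AdicCompletion.evalₐ (J.map (resA A W)) m
      ((Scheme.ΓSpecIso (CommRingCat.of (RW J W))).hom.hom
        ((Scheme.ΓSpecIso (CommRingCat.of (RW J W))).inv.hom (algebraMap Γ(Y, W) (RW J W) b))) = _
    rw [hinv]
    exact (AdicCompletion.evalₐ (J.map (resA A W)) m).commutes b
  · have h1 : AdicCompletion.evalₐ (J.map (resA A W)) m
        ((Scheme.ΓSpecIso (CommRingCat.of (RW J W))).hom.hom r') = 0 := hr'
    have h2 : (Scheme.ΓSpecIso (CommRingCat.of (RW J W))).hom.hom r' ∈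
        ((J.map (resA A W)) ^ m).map (algebraMap Γ(Y, W) (RW J W)) := by
      rw [← Submodule.restrictScalars_mem Γ(Y, W), ← Ideal.smul_top_eq_map,
        AdicCompletion.pow_smul_top_eq_ker_eval hfg, LinearMap.mem_ker,
        ← AdicCompletion.factor_evalₐ_eq_eval _ _ (by simp), h1, map_zero]
    rw [hφ, ← Ideal.map_map, ← hinv' r']
    exact Ideal.mem_map_of_mem _ h2

end C

section Main

attribute [local instance 2000] Groth.Agent.Lib.helper8.AlgzSpec.ovr

variable {A : Type u} [CommRing A] (J : Ideal A) {X Y : Scheme.{u}}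
  [X.Over (Spec (CommRingCat.of A))] [Y.Over (Spec (CommRingCat.of A))] [IsNoetherian Y]
  (f : X ⟶ Y) [IsProper f]
  (hf : f ≫ (Y ↘ Spec (CommRingCat.of A)) = X ↘ Spec (CommRingCat.of A))

/-- the bound over an arbitrary affine open of `Y` -/
theorem local_bound' (K : Y.IdealSheafData) (hV : IsIso (f ∣_ K.support.compl))
    (G : ℕᵒᵖ ⥤ Y.Modules) (hG : IsCohFormal J G) (F : X.Modules) (hF : Coh.IsCoh F)
    (β : G ⋙ Scheme.Modules.pullback f ≅ Formal.completion J F)
    (α : G ⟶ Formal.completion J ((pushforward f).obj F))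
    (hα : ∀ n : ℕ, α.app (op n) ≫ cmp f hf (J ^ (n + 1)) F =
      (pullbackPushforwardAdjunction f).unit.app (G.obj (op n)) ≫
        (pushforward f).map (β.hom.app (op n)))
    (W : Y.Opens) (hW : IsAffineOpen W) :
    ∃ t : ℕ, ∀ (n : ℕ) (k : Γ(Y, W)), k ∈ (K.ideal ⟨W, hW⟩) ^ t →
      (∀ τ : Γ(G.obj (op n), W), appLin (α.app (op n)) W τ = 0 → k • τ = 0) ∧
      (∀ y : Γ(Q (J ^ (n + 1)) ((pushforward f).obj F), W),
        ∃ τ : Γ(G.obj (op n), W), appLin (α.app (op n)) W τ = k • y) := by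
  haveI hNB : IsNoetherianRing Γ(Y, W) := IsLocallyNoetherian.component_noetherian ⟨W, hW⟩
  haveI := isNoetherianRing_RW J W
  haveI := isAdicComplete_RW J W
  haveI := flat_gW J W hW
  letI : (pullback f (gW J W hW)).Over (Spec (CommRingCat.of (RW J W))) :=
    ⟨pullback.snd f (gW J W hW)⟩
  exact local_bound (ψW J W) J (IsPullback.of_hasPullback f (gW J W hW)) hf (Category.comp_id _)
    (hg_gW J W hW) K hV G hG F hF β α hα W hW (top_le_gW J W hW) (hT_gW J W hW)

include hf in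
/-- **`inverse_systems_push_pull`** -/
theorem inverse_systems_push_pull (K : Y.IdealSheafData) (hV : IsIso (f ∣_ K.support.compl))
    (G : ℕᵒᵖ ⥤ Y.Modules) (hG : IsCohFormal J G) (F : X.Modules) (hF : Coh.IsCoh F)
    (β : G ⋙ Scheme.Modules.pullback f ≅ Formal.completion J F) :
    ∃ α : G ⟶ Formal.completion J ((pushforward f).obj F), Formal2.KerCokerKilledByPow K α := by
  obtain ⟨m, W, c, D⟩ := exists_ffsData f hf J F hF
  let γ : G ⟶ Formal.completion J F ⋙ pushforward f :=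
    { app := fun n => (pullbackPushforwardAdjunction f).unit.app (G.obj n) ≫
        (pushforward f).map (β.hom.app n)
      naturality := by
        intro n k φ
        have e1 := (pullbackPushforwardAdjunction f).unit.naturality (G.map φ)
        have e2 := β.hom.naturality φ
        simp only [Functor.id_obj, Functor.comp_obj, Functor.id_map, Functor.comp_map] at e1 e2
        change G.map φ ≫ (pullbackPushforwardAdjunction f).unit.app (G.obj k) ≫
            (pushforward f).map (β.hom.app k) =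
          ((pullbackPushforwardAdjunction f).unit.app (G.obj n) ≫
            (pushforward f).map (β.hom.app n)) ≫
              (pushforward f).map ((Formal.completion J F).map φ)
        rw [reassoc_of% e1, ← Functor.map_comp, e2, Functor.map_comp, Category.assoc] }
  obtain ⟨α, hα0⟩ := exists_lift_cmpSys f hf hF γ D hG
  have hα : ∀ n : ℕ, α.app (op n) ≫ cmp f hf (J ^ (n + 1)) F =
      (pullbackPushforwardAdjunction f).unit.app (G.obj (op n)) ≫
        (pushforward f).map (β.hom.app (op n)) := fun n =>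
    congrArg (fun τ : G ⟶ Formal.completion J F ⋙ pushforward f => τ.app (op n)) hα0
  refine ⟨α, ?_⟩
  choose t ht using fun i => local_bound' J f hf K hV G hG F hF β α hα (W i) (D.aff i)
  have hsup : ⨆ i, ((⟨W i, D.aff i⟩ : Y.affineOpens)).1 = ⊤ := by
    rw [eq_top_iff]
    intro x _
    obtain ⟨i, hi⟩ := D.cov x
    exact Opens.mem_iSup.mpr ⟨i, hi⟩
  have hPcoh : Coh.IsCoh ((pushforward f).obj F) := isCoh_pushforward f hF
  refine ⟨Finset.univ.sup t, fun n => ?_⟩
  have hQ : Coh.IsCoh (Q (J ^ (n + 1)) ((pushforward f).obj F)) := isCoh_Q' _ _ hPcoh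
  have hle : ∀ i, (K.ideal ⟨W i, D.aff i⟩) ^ (Finset.univ.sup t + 1) ≤
      (K.ideal ⟨W i, D.aff i⟩) ^ (t i) := fun i =>
    Ideal.pow_le_pow_right ((Finset.le_sup (f := t) (Finset.mem_univ i)).trans (Nat.le_succ _))
  constructor
  · have hcoh : Coh.IsCoh (kernel (α.app (op n))) :=
      Groth.Agent.Lib.helper7.CohKer.isCoh_kernel (hG.1 n) hQ _
    rw [Groth.Agent.Lib.helper8.Dev.killedByIdeal_iff_le_annI _ _ hcoh]
    refine Scheme.IdealSheafData.le_of_iSup_eq_top (fun i => ⟨W i, D.aff i⟩) hsup (fun i => ?_)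
    intro a ha
    rw [Groth.Agent.Lib.helper8.Dev.mem_annI_iff]
    intro s
    have ha' : a ∈ (K.ideal ⟨W i, D.aff i⟩) ^ (t i) := hle i ha
    apply appLin_injective_of_mono (kernel.ι (α.app (op n))) (W i)
    rw [LinearMap.map_smul, map_zero]
    apply (ht i n a ha').1
    rw [← appLin_comp_apply, kernel.condition]
    rfl
  · have hcoh : Coh.IsCoh (cokernel (α.app (op n))) :=
      Groth.Agent.Lib.helper7.CohKer.isCoh_cokernel (hG.1 n) hQ _
    rw [Groth.Agent.Lib.helper8.Dev.killedByIdeal_iff_le_annI _ _ hcoh]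
    refine Scheme.IdealSheafData.le_of_iSup_eq_top (fun i => ⟨W i, D.aff i⟩) hsup (fun i => ?_)
    intro a ha
    rw [Groth.Agent.Lib.helper8.Dev.mem_annI_iff]
    intro s
    haveI : ((Formal.completion J ((pushforward f).obj F)).obj (op n)).IsQuasicoherent := hQ.1
    haveI : (cokernel (α.app (op n))).IsQuasicoherent := hcoh.1
    obtain ⟨y, rfl⟩ := appLin_surjective_of_epi (cokernel.π (α.app (op n))) (D.aff i) s
    obtain ⟨τ, hτ⟩ := (ht i n a (hle i ha)).2 y
    rw [← LinearMap.map_smul, ← hτ, ← appLin_comp_apply, cokernel.condition]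
    rfl

end Main

end Groth.Agent.Lib.helper8.GEPushMain
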