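import Mathlib
import Groth.Agent.Lib.Helper8.GEPushMain
import Groth.Agent.Lib.Helper8.PinchMod
import Groth.Agent.Lib.Helper8.SupportProper
import Groth.Agent.Lib.Helper16.PushColim3
import Groth.Agent.Lib.Helper11.PnBridge
import Groth.Agent.S0025
import Groth.Agent.S0060
import Groth.Agent.S0061
import Groth.Agent.S0830
import Groth.Agent.S0831

/-!
# Grothendieck's existence theorem for proper schemes (helper8)

`A` Noetherian and `I`-adically complete, `X` proper over `Spec A`: every coherent formal module on `X` is the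
completion of a coherent module (`essSurj_of_proper`).

Noetherian induction on the closed subsets of `X` (`essSurj_of_closedImmersion`); the induction step
(`essSurj_step`) combines Chow's lemma (S0025), the projective case (S0061), `inverse_systems_push_pull` (S0831)
and the gluing lemma S0830, whose hypotheses on modules killed by a power of an ideal sheaf `𝒥` are verified
on the closed subschemes `V(𝒥^e)` via the push-forward along the closed immersion.
-/

set_option autoImplicit false
set_option backward.isDefEq.respectTransparency false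
set_option linter.style.haveILetI false
set_option linter.unusedSectionVars false
universe u

namespace Groth.Agent.Lib.helper8.GEProper

open CategoryTheory CategoryTheory.Limits AlgebraicGeometry Opposite TopologicalSpace Formal
open Groth.Agent.Lib.helper8.FF Groth.Agent.Lib.helper8.Rees Groth.Agent.Lib.helper8.FTors
open Groth.Agent.Lib.helper8.FCompl Groth.Agent.Lib.helper8.FPull
open Groth.Agent.Lib.Lead.GE Groth.Agent.Lib.helper8.GEPush
open Groth.Agent.Lib.helper8.GEQuot
open Scheme.Modules

section Push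

variable {A : Type u} [CommRing A] {Z X : Scheme.{u}} [Z.Over (Spec (CommRingCat.of A))]
  [X.Over (Spec (CommRingCat.of A))] (i : Z ⟶ X) [IsClosedImmersion i]
  (hi : i ≫ (X ↘ Spec (CommRingCat.of A)) = Z ↘ Spec (CommRingCat.of A))

include hi in
lemma sigmaComparison_smulFamily_push (J : Ideal A) (M : Z.Modules) :
    sigmaComparison (pushforward i) (fun _ : J => M) ≫ (pushforward i).map (smulFamily J M) =
      smulFamily J ((pushforward i).obj M) := by
  apply Sigma.hom_ext
  intro a
  rw [← Category.assoc, ι_comp_sigmaComparison, ← Functor.map_comp, ι_smulFamily, ι_smulFamily,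
    pushforward_map_smulMod i hi]

include hi in
/-- the direct image along a closed immersion preserves cokernels of `J • P` -/
theorem isCok_pushforward_map {J : Ideal A} {P R : Z.Modules} {g : P ⟶ R} (hg : IsCok J g) :
    IsCok J ((pushforward i).map g) := by
  haveI := Groth.Agent.Lib.helper16.PushColim.preservesColimits_pushforward i
  have h0 := hg.1
  have hz : smulFamily J ((pushforward i).obj P) ≫ (pushforward i).map g = 0 := by
    rw [← sigmaComparison_smulFamily_push i hi, Category.assoc, ← Functor.map_comp, h0,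
      Functor.map_zero, comp_zero]
  have hc := hg.isColimit
  have hc' := CokernelCofork.mapIsColimit _ hc (pushforward i)
  have hc'' := isCokernelEpiComp hc' (sigmaComparison (pushforward i) (fun _ : ↥J => P))
    (sigmaComparison_smulFamily_push i hi J P).symm
  exact isCok_of_isColimit hz hc''

end Push

section Main

variable (A : Type u) [CommRing A] [IsNoetherianRing A] (I : Ideal A) [IsAdicComplete I A]

/-- essential surjectivity of the completion functor -/
def EssSurj (Z : Scheme.{u}) [Z.Over (Spec (CommRingCat.of A))] : Prop :=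
  ∀ G : ℕᵒᵖ ⥤ Z.Modules, IsCohFormal I G →
    ∃ M : Z.Modules, Coh.IsCoh M ∧ Nonempty (Formal.completion I M ≅ G)

omit [IsNoetherianRing A] [IsAdicComplete I A] in
/-- on the empty scheme there is nothing to prove -/
lemma essSurj_of_isEmpty (Z : Scheme.{u}) [Z.Over (Spec (CommRingCat.of A))] [IsEmpty Z] :
    EssSurj A I Z := by
  intro G hG
  have hz : ∀ N : Z.Modules, IsZero N := fun N =>
    Groth.Agent.Lib.helper8.PinchMod.isZero_of_subsingleton_sections (fun U _ =>
      Groth.Agent.Lib.helper8.SchemeSupport.subsingleton_sections_of_isEmpty N U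
        (fun z => (IsEmpty.false z).elim))
  exact ⟨G.obj (op 0), hG.1 0,
    ⟨NatIso.ofComponents (fun n => (hz _).iso (hz _)) (fun f => (hz _).eq_of_tgt _ _)⟩⟩

/-- the transfer of the induction hypothesis from `V(𝔠)` to modules killed by `𝔠` -/
theorem exists_killed_of_essSurj (Z : Scheme.{u}) [Z.Over (Spec (CommRingCat.of A))]
    [IsNoetherian Z] (𝔠 : Z.IdealSheafData)
    (h𝔠 : @EssSurj A _ I 𝔠.subscheme ⟨𝔠.subschemeι ≫ (Z ↘ Spec (CommRingCat.of A))⟩)
    (G' : ℕᵒᵖ ⥤ Z.Modules) (hG' : IsCohFormal I G')
    (hk : ∀ n : ℕ, ClSub.KilledByIdeal 𝔠 (G'.obj (op n))) :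
    ∃ M : Z.Modules, Coh.IsCoh M ∧ ClSub.KilledByIdeal 𝔠 M ∧
      Nonempty (Formal.completion I M ≅ G') := by
  letI : 𝔠.subscheme.Over (Spec (CommRingCat.of A)) :=
    ⟨𝔠.subschemeι ≫ (Z ↘ Spec (CommRingCat.of A))⟩
  have hi₁ : 𝔠.subschemeι ≫ (Z ↘ Spec (CommRingCat.of A)) =
      𝔠.subscheme ↘ Spec (CommRingCat.of A) := rfl
  obtain ⟨M₁, hM₁, ⟨θ₁⟩⟩ := h𝔠 (G' ⋙ Scheme.Modules.pullback 𝔠.subschemeι)
    (isCohFormal_pullback 𝔠.subschemeι hi₁ I G' hG')
  haveI hq : ∀ n, (G'.obj (op n)).IsQuasicoherent := fun n => (hG'.1 n).1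
  haveI hu : ∀ n, IsIso ((pullbackPushforwardAdjunction 𝔠.subschemeι).unit.app (G'.obj (op n))) :=
    fun n => @isIso_quotπ _ 𝔠 (G'.obj (op n)) (hq n) (hk n)
  refine ⟨(pushforward 𝔠.subschemeι).obj M₁, isCoh_pushforward 𝔠.subschemeι hM₁, ?_, ?_⟩
  · have h := Groth.Agent.Lib.helper8.Dev.killedByIdeal_ker_push 𝔠.subschemeι M₁
    rw [𝔠.ker_subschemeι] at h
    exact h
  · refine Groth.Agent.Lib.helper8.AffEx.completion_iso_of_isCok I G' _
      (fun n => (pushforward 𝔠.subschemeι).map
          (qπ (I ^ (n + 1)) M₁ ≫ θ₁.hom.app (op n)) ≫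
        inv ((pullbackPushforwardAdjunction 𝔠.subschemeι).unit.app (G'.obj (op n))))
      (fun n => ?_) (fun n m h => ?_)
    · have h1 : IsCok (I ^ (n + 1)) (qπ (I ^ (n + 1)) M₁ ≫ θ₁.hom.app (op n)) :=
        Groth.Agent.Lib.helper8.GEKGlue.IsCok.postcomp_iso (isCok_qπ _ M₁) (θ₁.app (op n))
      have h2 := isCok_pushforward_map 𝔠.subschemeι hi₁ h1
      exact Groth.Agent.Lib.helper8.GEKGlue.IsCok.postcomp_iso h2
        (asIso ((pullbackPushforwardAdjunction 𝔠.subschemeι).unit.app (G'.obj (op n)))).symm
    · have e1 := (pullbackPushforwardAdjunction 𝔠.subschemeι).unit.naturality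
        (G'.map (homOfLE h).op)
      simp only [Functor.id_obj, Functor.comp_obj, Functor.id_map, Functor.comp_map] at e1
      have e2 : inv ((pullbackPushforwardAdjunction 𝔠.subschemeι).unit.app (G'.obj (op m))) ≫
          G'.map (homOfLE h).op =
          (pushforward 𝔠.subschemeι).map ((Scheme.Modules.pullback 𝔠.subschemeι).map
            (G'.map (homOfLE h).op)) ≫
            inv ((pullbackPushforwardAdjunction 𝔠.subschemeι).unit.app (G'.obj (op n))) := by
        rw [IsIso.inv_comp_eq, ← Category.assoc, ← e1, Category.assoc, IsIso.hom_inv_id,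
          Category.comp_id]
      have e3 := θ₁.hom.naturality (homOfLE h).op
      simp only [Functor.comp_map] at e3
      rw [Category.assoc, e2, ← Category.assoc, ← Functor.map_comp, Category.assoc, ← e3,
        completion_map, ← Category.assoc, qπ_qTrans]

/-- **the induction step**: Chow's lemma, the projective case, push-pull and gluing -/
theorem essSurj_step (Z : Scheme.{u}) [Z.Over (Spec (CommRingCat.of A))]
    [IsProper (Z ↘ Spec (CommRingCat.of A))] [Nonempty Z]
    (hind : ∀ 𝒦 : Z.IdealSheafData, 𝒦.support ≠ ⊤ →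
      @EssSurj A _ I 𝒦.subscheme ⟨𝒦.subschemeι ≫ (Z ↘ Spec (CommRingCat.of A))⟩) :
    EssSurj A I Z := by
  intro G hG
  haveI : IsNoetherian Z := isNoetherian_of_finiteType A Z
  obtain ⟨n, Z', π, j, hj, hjπ, hπ, -, U, hU, hiso⟩ :=
    Groth.Agent.S0025.result (Z ↘ Spec (CommRingCat.of A))
  haveI := hj
  haveI := hπ
  haveI : IsProper (j ≫ CohB1.ProjSpaceOver.toBase n (Spec (CommRingCat.of A))) := by
    rw [hjπ]
    infer_instance
  obtain ⟨N, r, hr, hrq⟩ :=
    Groth.Agent.Lib.helper11.PnBridge.exists_closedImmersion_projSpace_of_immersion j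
  haveI := hr
  letI : Z'.Over (Spec (CommRingCat.of A)) := ⟨π ≫ (Z ↘ Spec (CommRingCat.of A))⟩
  have hπ' : π ≫ (Z ↘ Spec (CommRingCat.of A)) = Z' ↘ Spec (CommRingCat.of A) := rfl
  have hr' : r ≫ CohB1.ProjSpace.toSpec N A = Z' ↘ Spec (CommRingCat.of A) := hrq.trans hjπ
  obtain ⟨F', hF', ⟨θ⟩⟩ := Groth.Agent.S0061.result A I N Z' r hr'
    (G ⋙ Scheme.Modules.pullback π) (isCohFormal_pullback π hπ' I G hG)
  -- the ideal sheaf of the complement of `U`
  let C : Closeds Z := ⟨(U : Set Z)ᶜ, U.isOpen.isClosed_compl⟩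
  have hsupp : (Scheme.IdealSheafData.vanishingIdeal C).support = C :=
    Closeds.ext (Scheme.IdealSheafData.coe_support_vanishingIdeal C)
  have hcompl : (Scheme.IdealSheafData.vanishingIdeal C).support.compl = U := by
    rw [hsupp]
    ext x
    simp [C]
  have hV : IsIso (π ∣_ (Scheme.IdealSheafData.vanishingIdeal C).support.compl) := by
    rw [hcompl]
    exact hiso
  obtain ⟨α, hα⟩ := Groth.Agent.S0831.result A I Z' Z π hπ'
    (Scheme.IdealSheafData.vanishingIdeal C) hV G hG F' hF' θ.symm
  refine Groth.Agent.S0830.result A I Z (Scheme.IdealSheafData.vanishingIdeal C) G hG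
    (fun e => ⟨fun M N hM hN _ _ ψ => Groth.Agent.S0060.result A I Z M N hM hN ψ,
      fun G' hG' hk => ?_⟩)
    ⟨(pushforward π).obj F', α, isCoh_pushforward π hF', hα⟩
  -- the closed subscheme `V(𝒥^e)` is topologically smaller
  obtain ⟨x, hx⟩ : ∃ x : Z, x ∈ (U : Set Z) := hU.nonempty
  have hne : ((Scheme.IdealSheafData.vanishingIdeal C) ^ e).support ≠ ⊤ := by
    intro htop
    have hx' : x ∈ (((Scheme.IdealSheafData.vanishingIdeal C) ^ e).support : Set Z) := by
      rw [htop]
      trivial
    cases e with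
    | zero =>
      have h0 : (((Scheme.IdealSheafData.vanishingIdeal C) ^ 0).support : Set Z) = ∅ := by
        show (if (0 : ℕ) = 0 then (∅ : Set Z) else
          (Scheme.IdealSheafData.vanishingIdeal C).supportSet) = ∅
        exact if_pos rfl
      rw [h0] at hx'
      exact hx'
    | succ k =>
      rw [Scheme.IdealSheafData.support_pow_succ, hsupp] at hx'
      exact hx' hx
  exact exists_killed_of_essSurj A I Z _ (hind _ hne) G' hG' hk

/-- **Noetherian induction** over the closed subsets of `X` -/
theorem essSurj_of_closedImmersion (X : Scheme.{u}) [X.Over (Spec (CommRingCat.of A))]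
    [IsProper (X ↘ Spec (CommRingCat.of A))] (T : Closeds X) :
    ∀ (Z : Scheme.{u}) [Z.Over (Spec (CommRingCat.of A))] (i : Z ⟶ X) [IsClosedImmersion i],
      i ≫ (X ↘ Spec (CommRingCat.of A)) = Z ↘ Spec (CommRingCat.of A) →
      Set.range i = (T : Set X) → EssSurj A I Z := by
  haveI : IsNoetherian X := isNoetherian_of_finiteType A X
  refine WellFoundedLT.induction (motive := fun T : Closeds X =>
    ∀ (Z : Scheme.{u}) [Z.Over (Spec (CommRingCat.of A))] (i : Z ⟶ X) [IsClosedImmersion i],
      i ≫ (X ↘ Spec (CommRingCat.of A)) = Z ↘ Spec (CommRingCat.of A) →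
      Set.range i = (T : Set X) → EssSurj A I Z) T (fun T ih => ?_)
  intro Z _ i _ hi hrange
  by_cases hZ : IsEmpty Z
  · exact essSurj_of_isEmpty A I Z
  · rw [not_isEmpty_iff] at hZ
    haveI : IsProper (Z ↘ Spec (CommRingCat.of A)) := by
      rw [← hi]
      infer_instance
    refine essSurj_step A I Z (fun 𝒦 h𝒦 => ?_)
    have hr1 : Set.range (𝒦.subschemeι ≫ i) = i '' (𝒦.support : Set Z) := by
      rw [Scheme.Hom.comp_base, TopCat.coe_comp, Set.range_comp, 𝒦.range_subschemeι]
    have hcl : IsClosed (Set.range (𝒦.subschemeι ≫ i)) :=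
      (𝒦.subschemeι ≫ i).isClosedEmbedding.isClosed_range
    have hlt : (⟨Set.range (𝒦.subschemeι ≫ i), hcl⟩ : Closeds X) < T := by
      refine lt_of_le_of_ne ?_ ?_
      · show Set.range (𝒦.subschemeι ≫ i) ⊆ (T : Set X)
        rw [hr1, ← hrange]
        exact Set.image_subset_range _ _
      · intro heq
        apply h𝒦
        have h1 : i '' (𝒦.support : Set Z) = i '' Set.univ := by
          rw [Set.image_univ, ← hr1, hrange]
          exact congrArg (fun S : Closeds X => (S : Set X)) heq
        exact Closeds.ext (i.isClosedEmbedding.injective.image_injective h1)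
    exact @ih _ hlt 𝒦.subscheme ⟨𝒦.subschemeι ≫ (Z ↘ Spec (CommRingCat.of A))⟩
      (𝒦.subschemeι ≫ i) inferInstance
      ((Category.assoc _ _ _).trans (congrArg (fun τ => 𝒦.subschemeι ≫ τ) hi)) rfl

/-- **Grothendieck's existence theorem**: on a scheme proper over a complete Noetherian ring every coherent
formal module is the completion of a coherent module -/
theorem essSurj_of_proper (X : Scheme.{u}) [X.Over (Spec (CommRingCat.of A))]
    [IsProper (X ↘ Spec (CommRingCat.of A))] : EssSurj A I X :=
  essSurj_of_closedImmersion A I X ⊤ X (𝟙 X) (Category.id_comp _)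
    (Set.range_eq_univ.mpr (fun x => ⟨x, rfl⟩))

end Main

end Groth.Agent.Lib.helper8.GEProper
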