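import Mathlib
import Groth.Agent.Lib.Helper8.GEProper
import Groth.Agent.Lib.Helper7.QCohPushQC
import Groth.Agent.Lib.Helper16.CohFinite

/-!
# Extension by zero of coherent formal modules along an open immersion (helper8)

`o : Y ⟶ Yb` an open immersion over `Spec A`, `T' ⊆ Y` with `o '' T'` closed in `Yb`.

* `isCoh_pushforward_openImmersion`: `o_* M` is coherent for `M` coherent with support in `T'`.
* `isCok_pushforward_openImmersion`: `o_*` preserves `R = P / J P` for `P`, `R` with support in `T'`.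
* `isCohFormal_pushforward_openImmersion`: the componentwise direct image of a coherent formal module with
  supports in `T'` is a coherent formal module.
-/

set_option autoImplicit false
set_option backward.isDefEq.respectTransparency false
set_option linter.style.haveILetI false
set_option linter.unusedSectionVars false
universe u

namespace Groth.Agent.Lib.helper8.GEExtZero

open CategoryTheory CategoryTheory.Limits AlgebraicGeometry Opposite TopologicalSpace Formal
open Groth.Agent.Lib.helper8.FF Groth.Agent.Lib.helper8.Rees Groth.Agent.Lib.helper8.FTors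
open Groth.Agent.Lib.helper8.FCompl Groth.Agent.Lib.helper8.FPull
open Groth.Agent.Lib.Lead.GE Groth.Agent.Lib.helper8.GEPush
open Groth.Agent.Lib.helper8.GEQuot Groth.Agent.Lib.helper8.GEGlue
open Scheme.Modules

section Alg

lemma mem_map_smul_top_iff_closure {A R M : Type*} [CommRing A] [CommRing R] [AddCommGroup M]
    [Module R M] (f : A →+* R) (𝔞 : Ideal A) (x : M) :
    x ∈ (𝔞.map f) • (⊤ : Submodule R M) ↔
      x ∈ AddSubgroup.closure {y : M | ∃ a ∈ 𝔞, ∃ m : M, y = f a • m} := by
  constructor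
  · intro hx
    refine Submodule.smul_induction_on hx (fun r hr m _ => ?_) (fun x y hx hy => add_mem hx hy)
    have key : ∀ m : M, r • m ∈ AddSubgroup.closure {y : M | ∃ a ∈ 𝔞, ∃ m : M, y = f a • m} := by
      refine Submodule.span_induction (p := fun r _ => ∀ m : M, r • m ∈
        AddSubgroup.closure {y : M | ∃ a ∈ 𝔞, ∃ m : M, y = f a • m}) ?_ ?_ ?_ ?_ hr
      · rintro _ ⟨a, ha, rfl⟩ m
        exact AddSubgroup.subset_closure ⟨a, ha, m, rfl⟩
      · intro m
        rw [zero_smul]
        exact zero_mem _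
      · intro x y _ _ hx hy m
        rw [add_smul]
        exact add_mem (hx m) (hy m)
      · intro c x _ hx m
        rw [smul_eq_mul, mul_comm, mul_smul]
        exact hx (c • m)
    exact key m
  · intro hx
    refine AddSubgroup.closure_induction
      (p := fun y _ => y ∈ (𝔞.map f) • (⊤ : Submodule R M)) ?_ ?_ ?_ ?_ hx
    · rintro _ ⟨a, ha, m, rfl⟩
      exact Submodule.smul_mem_smul (Ideal.mem_map_of_mem f ha) Submodule.mem_top
    · exact zero_mem _
    · intro x y _ _ hx hy
      exact add_mem hx hy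
    · intro x _ hx
      exact neg_mem hx

lemma finite_of_ringHom_surjective {R S M : Type*} [CommRing R] [CommRing S] [AddCommGroup M]
    [Module R M] [Module S M] (φ : R →+* S) (hφ : Function.Surjective φ)
    (hsm : ∀ (r : R) (m : M), r • m = φ r • m) [hfin : Module.Finite S M] : Module.Finite R M := by
  obtain ⟨s, hs⟩ := Module.finite_def.mp hfin
  refine ⟨⟨s, ?_⟩⟩
  rw [eq_top_iff]
  intro x _
  have hx : x ∈ Submodule.span S (s : Set M) := by
    rw [hs]
    trivial
  refine Submodule.span_induction (p := fun x _ => x ∈ Submodule.span R (s : Set M))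
    ?_ ?_ ?_ ?_ hx
  · intro y hy
    exact Submodule.subset_span hy
  · exact zero_mem _
  · intro x y _ _ hx hy
    exact add_mem hx hy
  · intro c x _ hx
    obtain ⟨r, rfl⟩ := hφ c
    rw [← hsm]
    exact Submodule.smul_mem _ r hx

end Alg

section Supp

variable {Y : Scheme.{u}}

/-- sections over an open set missing the support vanish -/
lemma subsingleton_sections_of_not_mem_support (M : Y.Modules) (V : Y.Opens)
    (h : ∀ x ∈ V, x ∉ CohB1.support M) : Subsingleton Γ(M, V) := by
  refine ⟨fun a b => ?_⟩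
  refine TopCat.Presheaf.section_ext ⟨M.presheaf, M.isSheaf⟩ V a b ?_
  intro x hx
  have hs : Subsingleton (ToType (M.presheaf.stalk x)) := by
    by_contra hns
    exact h x hx hns
  exact @Subsingleton.elim _ hs _ _

end Supp

variable {A : Type u} [CommRing A] {Y Yb : Scheme.{u}} [Y.Over (Spec (CommRingCat.of A))]
  [Yb.Over (Spec (CommRingCat.of A))] (o : Y ⟶ Yb) [IsOpenImmersion o]
  (ho : o ≫ (Yb ↘ Spec (CommRingCat.of A)) = Y ↘ Spec (CommRingCat.of A))

/-- the affine opens of `Yb` contained in the range of `o` or disjoint from `C` -/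
def CovIdx (C : Set Yb) : Type u :=
  {W : Yb.affineOpens // W.1 ≤ o.opensRange ∨ Disjoint (W.1 : Set Yb) C}

lemma exists_covIdx (C : Set Yb) (hC : IsClosed C) (hCr : C ⊆ Set.range o) (x : Yb) :
    ∃ i : CovIdx o C, x ∈ i.1.1 := by
  by_cases hx : x ∈ C
  · have hx' : x ∈ (o.opensRange : Set Yb) := hCr hx
    obtain ⟨_, ⟨W, hW, rfl⟩, hxW, hWU⟩ :=
      Yb.isBasis_affineOpens.exists_subset_of_mem_open hx' o.opensRange.isOpen
    exact ⟨⟨⟨W, hW⟩, Or.inl hWU⟩, hxW⟩
  · obtain ⟨_, ⟨W, hW, rfl⟩, hxW, hWU⟩ :=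
      Yb.isBasis_affineOpens.exists_subset_of_mem_open (show x ∈ Cᶜ from hx) hC.isOpen_compl
    exact ⟨⟨⟨W, hW⟩, Or.inr (Set.disjoint_left.mpr fun y hy hyC => hWU hy hyC)⟩, hxW⟩

lemma iSup_covIdx (C : Set Yb) (hC : IsClosed C) (hCr : C ⊆ Set.range o) :
    ⨆ i : CovIdx o C, i.1.1 = (⊤ : Yb.Opens) :=
  eq_top_iff.mpr fun x _ => Opens.mem_iSup.mpr (exists_covIdx o C hC hCr x)

lemma subsingleton_sections_push {T' : Set Y} (M : Y.Modules) (hs : CohB1.support M ⊆ T')
    (W : Yb.Opens) (hW : Disjoint (W : Set Yb) (o '' T')) : Subsingleton Γ(M, o ⁻¹ᵁ W) := by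
  refine subsingleton_sections_of_not_mem_support M _ (fun x hx hxs => ?_)
  exact Set.disjoint_left.mp hW hx ⟨x, hs hxs, rfl⟩

include ho in
lemma resA_preimage (W : Yb.Opens) (a : A) :
    resA A (o ⁻¹ᵁ W) a = (o.app W).hom (resA A W a) := by
  show (Coh.resTop Y (op (o ⁻¹ᵁ W))) (Coh.toGlobal (Y ↘ Spec (CommRingCat.of A)) a) =
    (o.app W).hom ((Coh.resTop Yb (op W)) (Coh.toGlobal (Yb ↘ Spec (CommRingCat.of A)) a))
  rw [FPull.toGlobal_eq o ho a]
  exact FPull.resTop_appTop o (op W) _

/-- the direct image of a coherent module whose support is closed in `Yb` is coherent -/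
theorem isCoh_pushforward_openImmersion [QuasiCompact o] (M : Y.Modules) (hM : Coh.IsCoh M)
    (T' : Set Y) (hT : IsClosed (o '' T')) (hs : CohB1.support M ⊆ T') :
    Coh.IsCoh ((pushforward o).obj M) := by
  haveI : M.IsQuasicoherent := hM.1
  haveI : ((pushforward o).obj M).IsQuasicoherent :=
    Groth.Agent.Lib.helper7.QCohPushQC.isQuasicoherent_pushforward o M
  refine Groth.Agent.Lib.helper16.CohFinite.isCoh_of_finite_sections _
    (fun i : CovIdx o (o '' T') => i.1.1) (fun i => i.1.2)
    (iSup_covIdx o _ hT (Set.image_subset_range _ _)) (fun i => ?_)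
  rcases i.2 with h | h
  · have hV : IsAffineOpen (o ⁻¹ᵁ i.1.1) := i.1.2.preimage_of_isOpenImmersion o h
    haveI : Module.Finite Γ(Y, o ⁻¹ᵁ i.1.1) Γ(M, o ⁻¹ᵁ i.1.1) :=
      Groth.Agent.Lib.helper16.CohFinite.finite_sections_of_isCoh M hM hV
    haveI : IsIso (o.app i.1.1) := o.isIso_app i.1.1 h
    have hsurj : Function.Surjective (o.app i.1.1).hom :=
      (ConcreteCategory.bijective_of_isIso (o.app i.1.1)).2
    exact @finite_of_ringHom_surjective Γ(Yb, i.1.1) Γ(Y, o ⁻¹ᵁ i.1.1) Γ(M, o ⁻¹ᵁ i.1.1) _ _ _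
      (show Module Γ(Yb, i.1.1) Γ((pushforward o).obj M, i.1.1) from inferInstance) _
      (o.app i.1.1).hom hsurj (fun r m => rfl) _
  · haveI : Subsingleton Γ(M, o ⁻¹ᵁ i.1.1) := subsingleton_sections_push o M hs _ h
    haveI : Subsingleton Γ((pushforward o).obj M, i.1.1) :=
      (show Subsingleton Γ(M, o ⁻¹ᵁ i.1.1) from inferInstance)
    infer_instance

include ho in
/-- the direct image along `o` preserves `R = P / J P` for modules with support closed in `Yb` -/
theorem isCok_pushforward_openImmersion [IsNoetherian Y] {J : Ideal A} {P R : Y.Modules}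
    [P.IsQuasicoherent] [R.IsQuasicoherent] {g : P ⟶ R} (hg : IsCok J g)
    (T' : Set Y) (hT : IsClosed (o '' T')) (hP : CohB1.support P ⊆ T')
    (hR : CohB1.support R ⊆ T') : IsCok J ((pushforward o).map g) := by
  haveI : ((pushforward o).obj P).IsQuasicoherent :=
    Groth.Agent.Lib.helper7.QCohPushQC.isQuasicoherent_pushforward o P
  haveI : ((pushforward o).obj R).IsQuasicoherent :=
    Groth.Agent.Lib.helper7.QCohPushQC.isQuasicoherent_pushforward o R
  haveI := hg.epi
  refine Groth.Agent.Lib.helper8.AffEx.isCok_of_sections ((pushforward o).map g)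
    (fun i : CovIdx o (o '' T') => i.1.1) (fun i => i.1.2)
    (exists_covIdx o _ hT (Set.image_subset_range _ _)) (fun i => ?_) (fun i => ?_)
  · rcases i.2 with h | h
    · have hV : IsAffineOpen (o ⁻¹ᵁ i.1.1) := i.1.2.preimage_of_isOpenImmersion o h
      intro y
      obtain ⟨x, hx⟩ := appLin_surjective_of_epi g hV (show Γ(R, o ⁻¹ᵁ i.1.1) from y)
      exact ⟨x, hx⟩
    · haveI : Subsingleton Γ(R, o ⁻¹ᵁ i.1.1) := subsingleton_sections_push o R hR _ h
      intro y
      exact ⟨0, Subsingleton.elim (α := Γ(R, o ⁻¹ᵁ i.1.1)) _ _⟩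
  · rcases i.2 with h | h
    · have hV : IsAffineOpen (o ⁻¹ᵁ i.1.1) := i.1.2.preimage_of_isOpenImmersion o h
      have hk := ker_appLin_of_isCok' hg hV
      ext s
      rw [LinearMap.mem_ker, mem_map_smul_top_iff_closure]
      have h1 : (show Γ(P, o ⁻¹ᵁ i.1.1) from s) ∈ LinearMap.ker (appLin g (o ⁻¹ᵁ i.1.1)) ↔
          (show Γ(P, o ⁻¹ᵁ i.1.1) from s) ∈ AddSubgroup.closure
            {y : Γ(P, o ⁻¹ᵁ i.1.1) | ∃ a ∈ J, ∃ m : Γ(P, o ⁻¹ᵁ i.1.1),
              y = resA A (o ⁻¹ᵁ i.1.1) a • m} := by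
        rw [hk, mem_map_smul_top_iff_closure]
      have h2 : {y : Γ(P, o ⁻¹ᵁ i.1.1) | ∃ a ∈ J, ∃ m : Γ(P, o ⁻¹ᵁ i.1.1),
              y = resA A (o ⁻¹ᵁ i.1.1) a • m} =
          {y : Γ((pushforward o).obj P, i.1.1) | ∃ a ∈ J, ∃ m : Γ((pushforward o).obj P, i.1.1),
              y = resA A i.1.1 a • m} := by
        ext y
        constructor
        · rintro ⟨a, ha, m, rfl⟩
          refine ⟨a, ha, m, ?_⟩
          rw [resA_preimage o ho]
          rfl
        · rintro ⟨a, ha, m, rfl⟩
          refine ⟨a, ha, m, ?_⟩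
          rw [resA_preimage o ho]
          rfl
      rw [h2] at h1
      exact h1
    · haveI : Subsingleton Γ(P, o ⁻¹ᵁ i.1.1) := subsingleton_sections_push o P hP _ h
      haveI : Subsingleton Γ((pushforward o).obj P, i.1.1) :=
        (show Subsingleton Γ(P, o ⁻¹ᵁ i.1.1) from inferInstance)
      ext s
      have hs0 : s = 0 := Subsingleton.elim _ _
      subst hs0
      simp

include ho in
/-- the componentwise direct image along `o` of a coherent formal module with supports closed in `Yb` -/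
theorem isCohFormal_pushforward_openImmersion [IsNoetherian Y] (I : Ideal A)
    (G' : ℕᵒᵖ ⥤ Y.Modules) (hG' : IsCohFormal I G') (T' : Set Y) (hT : IsClosed (o '' T'))
    (hs : ∀ n : ℕ, CohB1.support (G'.obj (op n)) ⊆ T') :
    IsCohFormal I (G' ⋙ pushforward o) := by
  refine ⟨fun n => ?_, fun n a ha => ?_, fun n => ?_⟩
  · exact isCoh_pushforward_openImmersion o _ (hG'.1 n) T' hT (hs n)
  · change smulMod A ((pushforward o).obj (G'.obj (op n))) a = 0
    rw [← FPull.pushforward_map_smulMod o ho, hG'.2.1 n a ha, Functor.map_zero]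
  · haveI : (G'.obj (op (n + 1))).IsQuasicoherent := (hG'.1 (n + 1)).1
    haveI : (G'.obj (op n)).IsQuasicoherent := (hG'.1 n).1
    exact isCok_pushforward_openImmersion o ho (isCok_step I G' hG' n) T' hT (hs (n + 1)) (hs n)

end Groth.Agent.Lib.helper8.GEExtZero
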