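import Mathlib
import Groth.Agent.Lib.Helper8.GEExtZero
import Groth.Agent.Lib.Helper28.QCohSupport
import Groth.Agent.S0787
import Groth.Agent.S0796

/-!
# Supports of coherent formal modules (helper8)

* `support_subset_support_zero`: all terms of a coherent formal module are supported in the support of the
  first one.
* `support_pushforward_subset`: `Supp p_* N ⊆ C` for `C` closed containing `p (Supp N)`.
* `mem_support_Q_of_mem_zeroLocus`: Nakayama, `Supp (M / 𝔞 M) ⊇ Supp M ∩ V(𝔞)`.
* `exists_mem_zeroLocus_of_isClosed`: a nonempty closed subset of a scheme proper over an `I`-adically complete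
  ring meets `V(I)`.
* `support_subset_of_support_Q_subset`: over such a ring, `Supp (M / I M) ⊆ V` (open) implies `Supp M ⊆ V`.
* `isProperOver_preimage_openImmersion`.
-/

set_option autoImplicit false
set_option backward.isDefEq.respectTransparency false
set_option linter.style.haveILetI false
set_option linter.unusedSectionVars false
universe u

namespace Groth.Agent.Lib.helper8.GESupp

open CategoryTheory CategoryTheory.Limits AlgebraicGeometry Opposite TopologicalSpace Formal
open Groth.Agent.Lib.helper8.FF Groth.Agent.Lib.helper8.Rees Groth.Agent.Lib.helper8.FTors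
open Groth.Agent.Lib.helper8.FCompl Groth.Agent.Lib.helper8.FPull
open Groth.Agent.Lib.Lead.GE Groth.Agent.Lib.helper8.GEPush
open Groth.Agent.Lib.helper8.GEQuot Groth.Agent.Lib.helper8.GEGlue
open Groth.Agent.Lib.helper8.GETower Groth.Agent.Lib.helper8.GEExtZero
open Scheme.Modules

section Push

variable {Y Yb : Scheme.{u}} (p : Y ⟶ Yb)

/-- the support of a direct image is contained in every closed set containing the image of the support -/
theorem support_pushforward_subset (N : Y.Modules) (T' : Set Y) (hs : CohB1.support N ⊆ T')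
    (C : Set Yb) (hC : IsClosed C) (hpT : p '' T' ⊆ C) :
    CohB1.support ((pushforward p).obj N) ⊆ C := by
  intro z hz
  by_contra hzC
  apply hz
  let W : Yb.Opens := ⟨Cᶜ, hC.isOpen_compl⟩
  have hzW : z ∈ W := hzC
  have key : ∀ t : ToType (((pushforward p).obj N).presheaf.stalk z), t = 0 := by
    intro t
    obtain ⟨V, hzV, s, rfl⟩ := TopCat.Presheaf.exists_germ_eq ((pushforward p).obj N).presheaf t
    haveI : Subsingleton Γ(N, p ⁻¹ᵁ (V ⊓ W)) := by
      refine subsingleton_sections_of_not_mem_support N _ (fun x hx hxs => ?_)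
      exact hx.2 (hpT ⟨x, hs hxs, rfl⟩)
    have h1 : ((pushforward p).obj N).presheaf.map (homOfLE (inf_le_left : V ⊓ W ≤ V)).op s = 0 :=
      Subsingleton.elim (α := Γ(N, p ⁻¹ᵁ (V ⊓ W))) _ _
    have h2 := TopCat.Presheaf.germ_res_apply ((pushforward p).obj N).presheaf
      (homOfLE (inf_le_left : V ⊓ W ≤ V)) z ⟨hzV, hzW⟩ s
    rw [← h2, h1, map_zero]
  exact ⟨fun a b => (key a).trans (key b).symm⟩

end Push

variable {A : Type u} [CommRing A] {X : Scheme.{u}} [X.Over (Spec (CommRingCat.of A))]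

section Zero

variable (I : Ideal A) (F : ℕᵒᵖ ⥤ X.Modules)

/-- all terms of a coherent formal module have their support in the support of the first term -/
theorem support_subset_support_zero [IsNoetherian X] (hF : IsCohFormal I F) (n : ℕ) :
    CohB1.support (F.obj (op n)) ⊆ CohB1.support (F.obj (op 0)) := by
  intro x hx
  obtain ⟨_, ⟨U, hU, rfl⟩, hxU, -⟩ :=
    X.isBasis_affineOpens.exists_subset_of_mem_open (Set.mem_univ x) isOpen_univ
  haveI : (F.obj (op n)).IsQuasicoherent := (hF.1 n).1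
  haveI : (F.obj (op 0)).IsQuasicoherent := (hF.1 0).1
  have k₁ := Groth.Agent.Lib.helper28.primeIdealOf_mem_support_iff (F.obj (op n)) hU x hxU
  have k₀ := Groth.Agent.Lib.helper28.primeIdealOf_mem_support_iff (F.obj (op 0)) hU x hxU
  have hT := isAdicTower_sections I F hF hU
  have hx' : hU.primeIdealOf ⟨x, hxU⟩ ∈ Module.support Γ(X, U) Γ(F.obj (op n), U) := k₁.mpr hx
  refine k₀.mp ?_
  haveI : Module.Finite Γ(X, U) Γ(F.obj (op n), U) :=
    Groth.Agent.Lib.helper16.CohFinite.finite_sections_of_isCoh _ (hF.1 n) hU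
  have hsurj : Function.Surjective (appLin (F.map (homOfLE (Nat.zero_le n)).op) U) :=
    hT.surj 0 n (Nat.zero_le n)
  have hker : LinearMap.ker (appLin (F.map (homOfLE (Nat.zero_le n)).op) U) =
      (I.map (resA A U)) • (⊤ : Submodule Γ(X, U) Γ(F.obj (op n), U)) := by
    have := hT.ker 0 n (Nat.zero_le n)
    rw [zero_add, pow_one] at this
    exact this
  let e : (Γ(F.obj (op n), U) ⧸ ((I.map (resA A U)) • (⊤ : Submodule Γ(X, U) Γ(F.obj (op n), U))))
      ≃ₗ[Γ(X, U)] Γ(F.obj (op 0), U) :=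
    (Submodule.quotEquivOfEq _ _ hker.symm).trans
      (LinearMap.quotKerEquivOfSurjective _ hsurj)
  rw [← e.support_eq, Module.support_quotient]
  refine ⟨hx', ?_⟩
  rw [PrimeSpectrum.mem_zeroLocus]
  have h1 : (I.map (resA A U)) ^ (n + 1) ≤ (hU.primeIdealOf ⟨x, hxU⟩).asIdeal := by
    refine le_trans ?_ (Module.annihilator_le_of_mem_support hx')
    intro r hr
    rw [Module.mem_annihilator]
    intro m
    have h2 : r • m ∈ (I.map (resA A U)) ^ (n + 1) •
        (⊤ : Submodule Γ(X, U) Γ(F.obj (op n), U)) :=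
      Submodule.smul_mem_smul hr Submodule.mem_top
    rw [hT.smul_top_eq_bot n] at h2
    exact (Submodule.mem_bot _).mp h2
  exact (hU.primeIdealOf ⟨x, hxU⟩).isPrime.le_of_pow_le h1

end Zero

section Nak

/-- the image of a point in `Spec A` is the contraction of its prime ideal in an affine open -/
lemma apply_asIdeal_eq_comap {U : X.Opens} (hU : IsAffineOpen U) (x : X) (hx : x ∈ U) :
    ((X ↘ Spec (CommRingCat.of A)) x : PrimeSpectrum A).asIdeal =
      (hU.primeIdealOf ⟨x, hx⟩).asIdeal.comap (resA A U) := by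
  have h := isoSpec_comp_specMap_resA (A := A) U hU
  have h1 := congrArg (fun φ : (U : Scheme.{u}) ⟶ Spec (CommRingCat.of A) => φ ⟨x, hx⟩) h
  simp only [Scheme.Hom.comp_apply] at h1
  have h2 : U.ι ⟨x, hx⟩ = x := rfl
  rw [h2] at h1
  rw [← h1]
  rfl

/-- Nakayama: `Supp M ∩ V(𝔞) ⊆ Supp (M / 𝔞 M)` -/
theorem mem_support_Q_of_mem_zeroLocus [IsNoetherian X] (𝔞 : Ideal A) (M : X.Modules)
    (hM : Coh.IsCoh M) (x : X) (hx : x ∈ CohB1.support M)
    (hxa : (𝔞 : Set A) ⊆ ((X ↘ Spec (CommRingCat.of A)) x : PrimeSpectrum A).asIdeal) :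
    x ∈ CohB1.support (Q 𝔞 M) := by
  obtain ⟨_, ⟨U, hU, rfl⟩, hxU, -⟩ :=
    X.isBasis_affineOpens.exists_subset_of_mem_open (Set.mem_univ x) isOpen_univ
  haveI : M.IsQuasicoherent := hM.1
  haveI : (Q 𝔞 M).IsQuasicoherent := isQuasicoherent_Q 𝔞 M
  have k₁ := Groth.Agent.Lib.helper28.primeIdealOf_mem_support_iff M hU x hxU
  have k₀ := Groth.Agent.Lib.helper28.primeIdealOf_mem_support_iff (Q 𝔞 M) hU x hxU
  have hx' : hU.primeIdealOf ⟨x, hxU⟩ ∈ Module.support Γ(X, U) Γ(M, U) := k₁.mpr hx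
  refine k₀.mp ?_
  haveI : Module.Finite Γ(X, U) Γ(M, U) :=
    Groth.Agent.Lib.helper16.CohFinite.finite_sections_of_isCoh _ hM hU
  have hsurj : Function.Surjective (appLin (qπ 𝔞 M) U) := appLin_qπ_surjective 𝔞 M hU
  have hker : LinearMap.ker (appLin (qπ 𝔞 M) U) =
      (𝔞.map (resA A U)) • (⊤ : Submodule Γ(X, U) Γ(M, U)) := ker_appLin_qπ 𝔞 M hU
  let e : (Γ(M, U) ⧸ ((𝔞.map (resA A U)) • (⊤ : Submodule Γ(X, U) Γ(M, U))))
      ≃ₗ[Γ(X, U)] Γ(Q 𝔞 M, U) :=
    (Submodule.quotEquivOfEq _ _ hker.symm).trans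
      (LinearMap.quotKerEquivOfSurjective _ hsurj)
  rw [← e.support_eq, Module.support_quotient]
  refine ⟨hx', ?_⟩
  rw [PrimeSpectrum.mem_zeroLocus]
  have h1 : 𝔞.map (resA A U) ≤ (hU.primeIdealOf ⟨x, hxU⟩).asIdeal := by
    rw [Ideal.map_le_iff_le_comap, ← apply_asIdeal_eq_comap hU x hxU]
    exact hxa
  exact h1

end Nak

section Complete

variable [IsNoetherianRing A] (I : Ideal A) [IsAdicComplete I A]

omit [IsNoetherianRing A] in
/-- a nonempty closed subset of a scheme proper over a complete ring meets the special fibre -/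
theorem exists_mem_zeroLocus_of_isClosed [UniversallyClosed (X ↘ Spec (CommRingCat.of A))]
    (C : Set X) (hC : IsClosed C) (hne : C.Nonempty) :
    ∃ z ∈ C, (I : Set A) ⊆ ((X ↘ Spec (CommRingCat.of A)) z : PrimeSpectrum A).asIdeal := by
  have hcl : IsClosed ((X ↘ Spec (CommRingCat.of A)) '' C) :=
    (X ↘ Spec (CommRingCat.of A)).isClosedMap C hC
  obtain ⟨𝔞, h𝔞⟩ := (PrimeSpectrum.isClosed_iff_zeroLocus_ideal _).mp hcl
  have hne' : 𝔞 ≠ ⊤ := by
    rintro rfl
    obtain ⟨c, hc⟩ := hne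
    have : (X ↘ Spec (CommRingCat.of A)) c ∈ PrimeSpectrum.zeroLocus ((⊤ : Ideal A) : Set A) := by
      rw [← h𝔞]
      exact ⟨c, hc, rfl⟩
    rw [PrimeSpectrum.zeroLocus_empty_of_one_mem (Submodule.mem_top)] at this
    exact this
  obtain ⟨𝔪, h𝔪, hle⟩ := Ideal.exists_le_maximal 𝔞 hne'
  have hmem : (⟨𝔪, h𝔪.isPrime⟩ : PrimeSpectrum A) ∈ PrimeSpectrum.zeroLocus (𝔞 : Set A) := hle
  rw [← h𝔞] at hmem
  obtain ⟨z, hzC, hz⟩ := hmem
  refine ⟨z, hzC, ?_⟩
  rw [hz]
  intro a ha
  have h1 : I ≤ 𝔪 := (IsAdicComplete.le_jacobson_bot I).trans (sInf_le ⟨bot_le, h𝔪⟩)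
  exact h1 ha

/-- over a complete ring and on a proper scheme the support of `M` lies in every open set containing the
support of `M / I M` -/
theorem support_subset_of_support_Q_subset [IsProper (X ↘ Spec (CommRingCat.of A))]
    (M : X.Modules) (hM : Coh.IsCoh M) (V : Set X) (hV : IsOpen V)
    (h : CohB1.support (Q (I ^ (0 + 1)) M) ⊆ V) : CohB1.support M ⊆ V := by
  haveI : IsNoetherian X := isNoetherian_of_finiteType A X
  haveI : M.IsQuasicoherent := hM.1
  have hcl : IsClosed (CohB1.support M) :=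
    Groth.Agent.Lib.helper8.SchemeSupport.isClosed_support M hM.2
  by_contra hns
  have hne : (CohB1.support M ∩ Vᶜ).Nonempty := by
    rw [Set.not_subset] at hns
    obtain ⟨x, hx, hxV⟩ := hns
    exact ⟨x, hx, hxV⟩
  obtain ⟨z, ⟨hz1, hz2⟩, hzI⟩ :=
    exists_mem_zeroLocus_of_isClosed I _ (hcl.inter hV.isClosed_compl) hne
  have hz3 := mem_support_Q_of_mem_zeroLocus (I ^ (0 + 1)) M hM z hz1 (fun a ha => hzI (by
    rw [zero_add, pow_one] at ha
    exact ha))
  exact hz2 (h hz3)

end Complete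

section PreimageOpen

variable {Y Yb S : Scheme.{u}} (o : Y ⟶ Yb) [IsOpenImmersion o] (q : Yb ⟶ S) (p : Y ⟶ S)
  (w : o ≫ q = p)

include w in
/-- a closed subset of `Yb`, proper over the base and contained in the range of the open immersion `o`, has a
preimage proper over the base -/
theorem isProperOver_preimage_openImmersion [LocallyOfFiniteType p] (T : Set Yb)
    (hT : ClSub.IsProperOver q T) (hTr : T ⊆ Set.range o) : ClSub.IsProperOver p (o ⁻¹' T) := by
  obtain ⟨hc, hp⟩ := hT
  have hc' : IsClosed (o ⁻¹' T) := hc.preimage o.continuous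
  set I₀ := Scheme.IdealSheafData.vanishingIdeal ⟨T, hc⟩ with hI₀
  have hr : Set.range I₀.subschemeι = T := by
    rw [Scheme.IdealSheafData.range_subschemeι, hI₀,
      Scheme.IdealSheafData.coe_support_vanishingIdeal]
    rfl
  have hsub : Set.range I₀.subschemeι ⊆ Set.range o := by
    rw [hr]
    exact hTr
  let i : I₀.subscheme ⟶ Y := IsOpenImmersion.lift o I₀.subschemeι hsub
  have hi : i ≫ o = I₀.subschemeι := IsOpenImmersion.lift_fac o I₀.subschemeι hsub
  haveI : IsClosedImmersion (i ≫ o) := by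
    rw [hi]
    infer_instance
  haveI : IsClosedImmersion i := IsClosedImmersion.of_comp i o
  refine ((Groth.Agent.S0787.result p (o ⁻¹' T) hc').1).mpr ⟨I₀.subscheme, i, inferInstance, ?_, ?_⟩
  · ext y
    constructor
    · rintro ⟨t, rfl⟩
      show o (i t) ∈ T
      rw [← hr]
      exact ⟨t, by rw [← hi]; rfl⟩
    · intro hy
      have hy' : o y ∈ Set.range I₀.subschemeι := by
        rw [hr]
        exact hy
      obtain ⟨t, ht⟩ := hy'
      refine ⟨t, ?_⟩
      apply o.isOpenEmbedding.injective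
      rw [← ht, ← hi]
      rfl
  · have : i ≫ p = I₀.subschemeι ≫ q := by
      rw [← w, ← Category.assoc, hi]
    rw [this]
    exact hp

end PreimageOpen

end Groth.Agent.Lib.helper8.GESupp
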