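import Mathlib
import Groth.Agent.Lib.Helper8.GESupp
import Groth.Agent.Lib.Helper8.DevSupp
import Groth.Agent.Lib.Helper8.PushSupp
import Groth.Agent.S0788
import Groth.Agent.S0789
import Groth.Agent.S0790
import Groth.Agent.S0794

/-!
# Grothendieck's existence theorem with proper supports (helper8)

`A` Noetherian and `I`-adically complete, `X` separated of finite type over `Spec A`.

* `KP A I Z`: every coherent formal module on `Z` whose first term has support proper over `A` is killed by an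
  ideal sheaf with support proper over `A`.
* `kp_step`: the induction step (Chow's lemma, extension by zero to a projective closure, the projective
  case of the existence theorem, `inverse_systems_push_pull`).
* `kp_of_closedImmersion`: Noetherian induction.
* `exists_algebraization`: every coherent formal module whose first term has proper support is the completion
  of a coherent module with proper support.
-/

set_option autoImplicit false
set_option backward.isDefEq.respectTransparency false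
set_option linter.style.haveILetI false
set_option linter.unusedSectionVars false
universe u

namespace Groth.Agent.Lib.helper8.GEKill

open CategoryTheory CategoryTheory.Limits AlgebraicGeometry Opposite TopologicalSpace Formal
open Groth.Agent.Lib.helper8.FF Groth.Agent.Lib.helper8.Rees Groth.Agent.Lib.helper8.FTors
open Groth.Agent.Lib.helper8.FCompl Groth.Agent.Lib.helper8.FPull
open Groth.Agent.Lib.Lead.GE Groth.Agent.Lib.helper8.GEPush
open Groth.Agent.Lib.helper8.GEQuot Groth.Agent.Lib.helper8.GEGlue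
open Groth.Agent.Lib.helper8.GETower Groth.Agent.Lib.helper8.GEExtZero
open Groth.Agent.Lib.helper8.GESupp Groth.Agent.Lib.helper8.GEProper
open Groth.Agent.Lib.helper8.Dev Groth.Agent.Lib.helper8.SchemeSupport
open Scheme.Modules

section Kill

variable {Z : Scheme.{u}}

/-- the elementwise argument: if `ker α` is killed by `𝔠`, the target of `α` by `𝓘₀` and `N / 𝔠 N` by `𝒥'`,
then `N` is killed by `𝓘₀ 𝒥'` -/
theorem killedByIdeal_mul_of (𝔠 𝓘₀ 𝒥' : Z.IdealSheafData) {N H' : Z.Modules}
    [N.IsQuasicoherent] (α : N ⟶ H') (hker : ClSub.KilledByIdeal 𝔠 (kernel α))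
    (hH : ClSub.KilledByIdeal 𝓘₀ H') (hq : ClSub.KilledByIdeal 𝒥' ((quotF 𝔠).obj N)) :
    ClSub.KilledByIdeal (𝓘₀ * 𝒥') N := by
  intro U c hc s
  have key : 𝓘₀.ideal U * 𝒥'.ideal U ≤ Module.annihilator Γ(Z, U.1) Γ(N, U.1) := by
    refine Ideal.mul_le.mpr (fun a ha b hb => Module.mem_annihilator.mpr (fun s => ?_))
    rw [mul_smul]
    have h1 : b • s ∈ LinearMap.ker (appLin (quotπ 𝔠 N) U.1) := by
      rw [LinearMap.mem_ker, LinearMap.map_smul]
      exact hq U b hb _
    rw [ker_quotη 𝔠 N U.2] at h1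
    have h2 : ∀ y ∈ 𝔠.ideal ⟨U.1, U.2⟩ • (⊤ : Submodule Γ(Z, U.1) Γ(N, U.1)), a • y = 0 := by
      intro y hy
      refine Submodule.smul_induction_on hy (fun k hk s' _ => ?_) (fun x y hx hy => ?_)
      · rw [smul_comm]
        have h3 : a • s' ∈ LinearMap.ker (appLin α U.1) := by
          rw [LinearMap.mem_ker, LinearMap.map_smul]
          exact hH U a ha _
        rw [← range_appLin_kernel_ι] at h3
        obtain ⟨m', hm'⟩ := h3
        rw [← hm', ← LinearMap.map_smul, hker U k hk m', map_zero]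
      · rw [smul_add, hx, hy, add_zero]
    exact h2 _ h1
  exact Module.mem_annihilator.mp (key hc) s

end Kill

section Main

variable (A : Type u) [CommRing A] [IsNoetherianRing A] (I : Ideal A) [IsAdicComplete I A]

/-- every coherent formal module whose first term has proper support is killed by an ideal sheaf with proper
support -/
def KP (Z : Scheme.{u}) [Z.Over (Spec (CommRingCat.of A))] : Prop :=
  ∀ G : ℕᵒᵖ ⥤ Z.Modules, IsCohFormal I G →
    ClSub.IsProperOver (Z ↘ Spec (CommRingCat.of A)) (CohB1.support (G.obj (op 0))) →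
    ∃ 𝒥 : Z.IdealSheafData,
      ClSub.IsProperOver (Z ↘ Spec (CommRingCat.of A)) (𝒥.support : Set Z) ∧
      ∀ n : ℕ, ClSub.KilledByIdeal 𝒥 (G.obj (op n))

omit [IsNoetherianRing A] [IsAdicComplete I A] in
lemma kp_of_isEmpty (Z : Scheme.{u}) [Z.Over (Spec (CommRingCat.of A))] [IsEmpty Z] :
    KP A I Z := by
  intro G hG hGs
  refine ⟨⊤, ?_, fun n U a ha m => ?_⟩
  · exact Groth.Agent.S0796.isProperOver_of_subset _ (⊤ : Z.IdealSheafData).support.isClosed
      (fun x _ => (IsEmpty.false x).elim) hGs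
  · haveI := subsingleton_sections_of_isEmpty (G.obj (op n)) U.1 (fun z => (IsEmpty.false z).elim)
    exact Subsingleton.elim (α := Γ(G.obj (op n), U.1)) _ _

/-- transfer of the induction hypothesis from the closed subscheme `V(𝔠)` -/
theorem exists_killing_quot (Z : Scheme.{u}) [Z.Over (Spec (CommRingCat.of A))]
    [LocallyOfFiniteType (Z ↘ Spec (CommRingCat.of A))] (𝔠 : Z.IdealSheafData)
    (h𝔠 : @KP A _ I 𝔠.subscheme ⟨𝔠.subschemeι ≫ (Z ↘ Spec (CommRingCat.of A))⟩)
    (G : ℕᵒᵖ ⥤ Z.Modules) (hG : IsCohFormal I G)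
    (hGs : ClSub.IsProperOver (Z ↘ Spec (CommRingCat.of A)) (CohB1.support (G.obj (op 0)))) :
    ∃ 𝒥' : Z.IdealSheafData,
      ClSub.IsProperOver (Z ↘ Spec (CommRingCat.of A)) (𝒥'.support : Set Z) ∧
      ∀ n : ℕ, ClSub.KilledByIdeal 𝒥' ((quotF 𝔠).obj (G.obj (op n))) := by
  letI : 𝔠.subscheme.Over (Spec (CommRingCat.of A)) :=
    ⟨𝔠.subschemeι ≫ (Z ↘ Spec (CommRingCat.of A))⟩
  have hi₁ : 𝔠.subschemeι ≫ (Z ↘ Spec (CommRingCat.of A)) =
      𝔠.subscheme ↘ Spec (CommRingCat.of A) := rfl
  haveI : LocallyOfFiniteType (𝔠.subscheme ↘ Spec (CommRingCat.of A)) :=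
    (show LocallyOfFiniteType (𝔠.subschemeι ≫ (Z ↘ Spec (CommRingCat.of A))) from inferInstance)
  haveI : (G.obj (op 0)).IsQuasicoherent := (hG.1 0).1
  have hs0 : ClSub.IsProperOver (𝔠.subscheme ↘ Spec (CommRingCat.of A))
      (CohB1.support ((G ⋙ Scheme.Modules.pullback 𝔠.subschemeι).obj (op 0))) := by
    show ClSub.IsProperOver _ (CohB1.support ((Scheme.Modules.pullback 𝔠.subschemeι).obj
      (G.obj (op 0))))
    rw [Groth.Agent.S0794.support_pullback 𝔠.subschemeι (G.obj (op 0)) (hG.1 0).2]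
    exact Groth.Agent.S0790.result (𝔠.subscheme ↘ Spec (CommRingCat.of A))
      (Z ↘ Spec (CommRingCat.of A)) 𝔠.subschemeι hi₁ _ hGs
  obtain ⟨𝒥₁, hp₁, hk₁⟩ := h𝔠 (G ⋙ Scheme.Modules.pullback 𝔠.subschemeι)
    (isCohFormal_pullback 𝔠.subschemeι hi₁ I G hG) hs0
  refine ⟨(𝒥₁.subschemeι ≫ 𝔠.subschemeι).ker, ?_, fun n U a ha m => ?_⟩
  · have hsupp : (((𝒥₁.subschemeι ≫ 𝔠.subschemeι).ker.support : Closeds Z) : Set Z) =
        𝔠.subschemeι '' (𝒥₁.support : Set 𝔠.subscheme) := by
      rw [Scheme.Hom.support_ker,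
        (𝒥₁.subschemeι ≫ 𝔠.subschemeι).isClosedEmbedding.isClosed_range.closure_eq,
        Scheme.Hom.comp_base, TopCat.coe_comp, Set.range_comp, 𝒥₁.range_subschemeι]
    rw [hsupp]
    exact Groth.Agent.S0789.result (𝔠.subscheme ↘ Spec (CommRingCat.of A))
      (Z ↘ Spec (CommRingCat.of A)) 𝔠.subschemeι hi₁ _ hp₁
  · rw [Scheme.Hom.ker_apply, RingHom.mem_ker] at ha
    have hV : IsAffineOpen (𝔠.subschemeι ⁻¹ᵁ U.1) := U.2.preimage 𝔠.subschemeι
    have hb : (𝔠.subschemeι.app U.1).hom a ∈ 𝒥₁.ideal ⟨𝔠.subschemeι ⁻¹ᵁ U.1, hV⟩ := by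
      have e := congrArg (fun J : 𝔠.subscheme.IdealSheafData =>
        J.ideal ⟨𝔠.subschemeι ⁻¹ᵁ U.1, hV⟩) 𝒥₁.ker_subschemeι
      simp only at e
      rw [← e, Scheme.Hom.ker_apply, RingHom.mem_ker]
      rw [Scheme.Hom.comp_app] at ha
      exact ha
    have h1 := hk₁ n ⟨𝔠.subschemeι ⁻¹ᵁ U.1, hV⟩ _ hb
      (show Γ((Scheme.Modules.pullback 𝔠.subschemeι).obj (G.obj (op n)), 𝔠.subschemeι ⁻¹ᵁ U.1)
        from m)
    exact h1

/-- **the induction step** -/
theorem kp_step (Z : Scheme.{u}) [Z.Over (Spec (CommRingCat.of A))]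
    [IsSeparated (Z ↘ Spec (CommRingCat.of A))] [LocallyOfFiniteType (Z ↘ Spec (CommRingCat.of A))]
    [QuasiCompact (Z ↘ Spec (CommRingCat.of A))] [Nonempty Z]
    (hind : ∀ 𝒦 : Z.IdealSheafData, 𝒦.support ≠ ⊤ →
      @KP A _ I 𝒦.subscheme ⟨𝒦.subschemeι ≫ (Z ↘ Spec (CommRingCat.of A))⟩) :
    KP A I Z := by
  intro G hG hGs
  haveI : IsNoetherian Z := isNoetherian_of_finiteType A Z
  obtain ⟨n, Z', π, j, hj, hjπ, hπ, -, U, hU, hiso⟩ :=
    Groth.Agent.S0025.result (Z ↘ Spec (CommRingCat.of A))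
  haveI := hj
  haveI := hπ
  letI : Z'.Over (Spec (CommRingCat.of A)) := ⟨π ≫ (Z ↘ Spec (CommRingCat.of A))⟩
  have hπ' : π ≫ (Z ↘ Spec (CommRingCat.of A)) = Z' ↘ Spec (CommRingCat.of A) := rfl
  haveI : LocallyOfFiniteType (Z' ↘ Spec (CommRingCat.of A)) :=
    (show LocallyOfFiniteType (π ≫ (Z ↘ Spec (CommRingCat.of A))) from inferInstance)
  haveI : QuasiCompact (Z' ↘ Spec (CommRingCat.of A)) :=
    (show QuasiCompact (π ≫ (Z ↘ Spec (CommRingCat.of A))) from inferInstance)
  haveI : IsNoetherian Z' := isNoetherian_of_finiteType A Z'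
  -- the projective closure
  haveI hproj : IsProper (CohB1.ProjSpaceOver.toBase n (Spec (CommRingCat.of A))) :=
    Groth.Agent.Lib.helper19.ProjSpaceProper.proper_toBase n _
  letI : j.image.Over (Spec (CommRingCat.of A)) :=
    ⟨j.imageι ≫ CohB1.ProjSpaceOver.toBase n (Spec (CommRingCat.of A))⟩
  have hZb : j.imageι ≫ CohB1.ProjSpaceOver.toBase n (Spec (CommRingCat.of A)) =
      j.image ↘ Spec (CommRingCat.of A) := rfl
  haveI hZbp : IsProper (j.image ↘ Spec (CommRingCat.of A)) :=
    (show IsProper (j.imageι ≫ CohB1.ProjSpaceOver.toBase n (Spec (CommRingCat.of A))) from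
      inferInstance)
  have ho : j.toImage ≫ (j.image ↘ Spec (CommRingCat.of A)) = Z' ↘ Spec (CommRingCat.of A) := by
    rw [← hZb, ← Category.assoc, j.toImage_imageι, hjπ, hπ']
  haveI : IsProper (j.imageι ≫ CohB1.ProjSpaceOver.toBase n (Spec (CommRingCat.of A))) := hZbp
  obtain ⟨N, r, hr, hrq⟩ :=
    Groth.Agent.Lib.helper11.PnBridge.exists_closedImmersion_projSpace_of_immersion j.imageι
  haveI := hr
  have hr' : r ≫ CohB1.ProjSpace.toSpec N A = j.image ↘ Spec (CommRingCat.of A) := hrq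
  -- the pulled back module and its extension by zero
  have hG' := isCohFormal_pullback π hπ' I G hG
  have hT' : ClSub.IsProperOver (Z' ↘ Spec (CommRingCat.of A))
      (π ⁻¹' CohB1.support (G.obj (op 0))) :=
    Groth.Agent.S0790.result (Z' ↘ Spec (CommRingCat.of A)) (Z ↘ Spec (CommRingCat.of A)) π hπ' _ hGs
  have hoT : ClSub.IsProperOver (j.image ↘ Spec (CommRingCat.of A))
      (j.toImage '' (π ⁻¹' CohB1.support (G.obj (op 0)))) :=
    Groth.Agent.S0788.result (Z' ↘ Spec (CommRingCat.of A)) (j.image ↘ Spec (CommRingCat.of A))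
      j.toImage ho _ hT'
  obtain ⟨hoTc, -⟩ := hoT
  have hs' : ∀ m : ℕ, CohB1.support ((G ⋙ Scheme.Modules.pullback π).obj (op m)) ⊆
      π ⁻¹' CohB1.support (G.obj (op 0)) := by
    intro m
    haveI : (G.obj (op m)).IsQuasicoherent := (hG.1 m).1
    show CohB1.support ((Scheme.Modules.pullback π).obj (G.obj (op m))) ⊆ _
    rw [Groth.Agent.S0794.support_pullback π (G.obj (op m)) (hG.1 m).2]
    exact Set.preimage_mono (support_subset_support_zero I G hG m)
  have hF' := isCohFormal_pushforward_openImmersion j.toImage ho I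
    (G ⋙ Scheme.Modules.pullback π) hG' _ hoTc hs'
  obtain ⟨Fb, hFb, ⟨θ⟩⟩ := Groth.Agent.S0061.result A I N j.image r hr'
    ((G ⋙ Scheme.Modules.pullback π) ⋙ pushforward j.toImage) hF'
  -- restriction to `Z'`
  have hF'' : Coh.IsCoh ((Scheme.Modules.pullback j.toImage).obj Fb) :=
    Groth.Agent.Lib.helper8.GEPushAff.isCoh_pullback' j.toImage Fb hFb
  let ec : pushforward j.toImage ⋙ Scheme.Modules.pullback j.toImage ≅ 𝟭 Z'.Modules :=
    Functor.isoWhiskerLeft (pushforward j.toImage) (restrictFunctorIsoPullback j.toImage).symm ≪≫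
      restrictFunctorAdjCounitIso j.toImage
  let β : (G ⋙ Scheme.Modules.pullback π) ≅
      Formal.completion I ((Scheme.Modules.pullback j.toImage).obj Fb) :=
    (Functor.rightUnitor _).symm ≪≫
      Functor.isoWhiskerLeft (G ⋙ Scheme.Modules.pullback π) ec.symm ≪≫
      Functor.isoWhiskerRight θ.symm (Scheme.Modules.pullback j.toImage) ≪≫
      (completionPullbackIso j.toImage ho I Fb).symm
  -- the ideal sheaf of the complement of `U`
  let C : Closeds Z := ⟨(U : Set Z)ᶜ, U.isOpen.isClosed_compl⟩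
  have hsupp : (Scheme.IdealSheafData.vanishingIdeal C).support = C :=
    Closeds.ext (Scheme.IdealSheafData.coe_support_vanishingIdeal C)
  have hcompl : (Scheme.IdealSheafData.vanishingIdeal C).support.compl = U := by
    rw [hsupp]
    ext x
    simp [C]
  have hV : IsIso (π ∣_ (Scheme.IdealSheafData.vanishingIdeal C).support.compl) := by
    rw [hcompl]
    exact hiso
  obtain ⟨α, t, ht⟩ := Groth.Agent.S0831.result A I Z' Z π hπ'
    (Scheme.IdealSheafData.vanishingIdeal C) hV G hG _ hF'' β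
  -- the direct image `H` and its support
  have hH : Coh.IsCoh ((pushforward π).obj ((Scheme.Modules.pullback j.toImage).obj Fb)) :=
    isCoh_pushforward π hF''
  haveI : Fb.IsQuasicoherent := hFb.1
  have hFbc : IsClosed (CohB1.support Fb) := isClosed_support Fb hFb.2
  have hFbr : CohB1.support Fb ⊆ Set.range j.toImage := by
    refine support_subset_of_support_Q_subset I Fb hFb _ j.toImage.isOpenEmbedding.isOpen_range ?_
    intro x hx
    have hx' : x ∈ CohB1.support ((Formal.completion I Fb).obj (op 0)) := hx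
    rw [Groth.Agent.Lib.helper8.StalkLen.support_eq_of_iso (θ.app (op 0))] at hx'
    have h1 := support_pushforward_subset j.toImage
      ((G ⋙ Scheme.Modules.pullback π).obj (op 0)) _ (hs' 0) _ hoTc subset_rfl hx'
    exact Set.image_subset_range _ _ h1
  have hFbP : ClSub.IsProperOver (j.image ↘ Spec (CommRingCat.of A)) (CohB1.support Fb) :=
    ⟨hFbc, inferInstance⟩
  have hS'' : ClSub.IsProperOver (Z' ↘ Spec (CommRingCat.of A))
      (CohB1.support ((Scheme.Modules.pullback j.toImage).obj Fb)) := by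
    rw [Groth.Agent.S0794.support_pullback j.toImage Fb hFb.2]
    exact isProperOver_preimage_openImmersion j.toImage (j.image ↘ Spec (CommRingCat.of A))
      (Z' ↘ Spec (CommRingCat.of A)) ho _ hFbP hFbr
  have hπS := Groth.Agent.S0789.result (Z' ↘ Spec (CommRingCat.of A))
    (Z ↘ Spec (CommRingCat.of A)) π hπ' _ hS''
  haveI : ((pushforward π).obj ((Scheme.Modules.pullback j.toImage).obj Fb)).IsQuasicoherent :=
    hH.1
  have hHs : ClSub.IsProperOver (Z ↘ Spec (CommRingCat.of A))
      (CohB1.support ((pushforward π).obj ((Scheme.Modules.pullback j.toImage).obj Fb))) := by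
    refine Groth.Agent.S0796.isProperOver_of_subset _ (isClosed_support _ hH.2) ?_ hπS
    exact support_pushforward_subset π _ _ subset_rfl _ hπS.1 subset_rfl
  -- the two ideals
  have h₀p : ClSub.IsProperOver (Z ↘ Spec (CommRingCat.of A))
      ((annI _ hH).support : Set Z) := by
    rw [← support_eq_annI_support _ hH]
    exact hHs
  have h₀k : ClSub.KilledByIdeal (annI _ hH)
      ((pushforward π).obj ((Scheme.Modules.pullback j.toImage).obj Fb)) :=
    (killedByIdeal_iff_le_annI _ _ hH).mpr le_rfl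
  obtain ⟨x, hx⟩ : ∃ x : Z, x ∈ (U : Set Z) := hU.nonempty
  have hne : ((Scheme.IdealSheafData.vanishingIdeal C) ^ (t + 1)).support ≠ ⊤ := by
    intro htop
    have hx' : x ∈ (((Scheme.IdealSheafData.vanishingIdeal C) ^ (t + 1)).support : Set Z) := by
      rw [htop]
      trivial
    rw [Scheme.IdealSheafData.support_pow_succ, hsupp] at hx'
    exact hx' hx
  obtain ⟨𝒥', hp', hk'⟩ := exists_killing_quot A I Z _ (hind _ hne) G hG hGs
  refine ⟨annI _ hH * 𝒥', ?_, fun m => ?_⟩
  · rw [Scheme.IdealSheafData.support_mul]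
    exact Groth.Agent.S0796.isProperOver_union _ h₀p hp'
  · haveI : (G.obj (op m)).IsQuasicoherent := (hG.1 m).1
    haveI : ((Formal.completion I
        ((pushforward π).obj ((Scheme.Modules.pullback j.toImage).obj Fb))).obj
          (op m)).IsQuasicoherent :=
      isQuasicoherent_Q (I ^ (m + 1)) _
    have hHm : ClSub.KilledByIdeal (annI _ hH) ((Formal.completion I
        ((pushforward π).obj ((Scheme.Modules.pullback j.toImage).obj Fb))).obj (op m)) :=
      killedByIdeal_of_epi (annI _ hH)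
        (qπ (I ^ (m + 1)) ((pushforward π).obj ((Scheme.Modules.pullback j.toImage).obj Fb))) h₀k
    exact killedByIdeal_mul_of _ _ _ (α.app (op m)) (ht m).1 hHm (hk' m)

/-- **Noetherian induction** over the closed subsets of `X` -/
theorem kp_of_closedImmersion (X : Scheme.{u}) [X.Over (Spec (CommRingCat.of A))]
    [IsSeparated (X ↘ Spec (CommRingCat.of A))] [LocallyOfFiniteType (X ↘ Spec (CommRingCat.of A))]
    [QuasiCompact (X ↘ Spec (CommRingCat.of A))] (T : Closeds X) :
    ∀ (Z : Scheme.{u}) [Z.Over (Spec (CommRingCat.of A))] (i : Z ⟶ X) [IsClosedImmersion i],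
      i ≫ (X ↘ Spec (CommRingCat.of A)) = Z ↘ Spec (CommRingCat.of A) →
      Set.range i = (T : Set X) → KP A I Z := by
  haveI : IsNoetherian X := isNoetherian_of_finiteType A X
  refine WellFoundedLT.induction (motive := fun T : Closeds X =>
    ∀ (Z : Scheme.{u}) [Z.Over (Spec (CommRingCat.of A))] (i : Z ⟶ X) [IsClosedImmersion i],
      i ≫ (X ↘ Spec (CommRingCat.of A)) = Z ↘ Spec (CommRingCat.of A) →
      Set.range i = (T : Set X) → KP A I Z) T (fun T ih => ?_)
  intro Z _ i _ hi hrange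
  by_cases hZ : IsEmpty Z
  · exact kp_of_isEmpty A I Z
  · rw [not_isEmpty_iff] at hZ
    haveI : IsSeparated (Z ↘ Spec (CommRingCat.of A)) := by
      rw [← hi]
      infer_instance
    haveI : LocallyOfFiniteType (Z ↘ Spec (CommRingCat.of A)) := by
      rw [← hi]
      infer_instance
    haveI : QuasiCompact (Z ↘ Spec (CommRingCat.of A)) := by
      rw [← hi]
      infer_instance
    refine kp_step A I Z (fun 𝒦 h𝒦 => ?_)
    have hr1 : Set.range (𝒦.subschemeι ≫ i) = i '' (𝒦.support : Set Z) := by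
      rw [Scheme.Hom.comp_base, TopCat.coe_comp, Set.range_comp, 𝒦.range_subschemeι]
    have hcl : IsClosed (Set.range (𝒦.subschemeι ≫ i)) :=
      (𝒦.subschemeι ≫ i).isClosedEmbedding.isClosed_range
    have hlt : (⟨Set.range (𝒦.subschemeι ≫ i), hcl⟩ : Closeds X) < T := by
      refine lt_of_le_of_ne ?_ ?_
      · show Set.range (𝒦.subschemeι ≫ i) ⊆ (T : Set X)
        rw [hr1, ← hrange]
        exact Set.image_subset_range _ _
      · intro heq
        apply h𝒦
        have h1 : i '' (𝒦.support : Set Z) = i '' Set.univ := by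
          rw [Set.image_univ, ← hr1, hrange]
          exact congrArg (fun S : Closeds X => (S : Set X)) heq
        exact Closeds.ext (i.isClosedEmbedding.injective.image_injective h1)
    exact @ih _ hlt 𝒦.subscheme ⟨𝒦.subschemeι ≫ (Z ↘ Spec (CommRingCat.of A))⟩
      (𝒦.subschemeι ≫ i) inferInstance
      ((Category.assoc _ _ _).trans (congrArg (fun τ => 𝒦.subschemeι ≫ τ) hi)) rfl

/-- **Grothendieck's existence theorem with proper supports** (essential surjectivity) -/
theorem exists_algebraization (X : Scheme.{u}) [X.Over (Spec (CommRingCat.of A))]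
    [IsSeparated (X ↘ Spec (CommRingCat.of A))] [LocallyOfFiniteType (X ↘ Spec (CommRingCat.of A))]
    [QuasiCompact (X ↘ Spec (CommRingCat.of A))] (G : ℕᵒᵖ ⥤ X.Modules) (hG : IsCohFormal I G)
    (hGs : ClSub.IsProperOver (X ↘ Spec (CommRingCat.of A)) (CohB1.support (G.obj (op 0)))) :
    ∃ M : X.Modules, Coh.IsCoh M ∧
      ClSub.IsProperOver (X ↘ Spec (CommRingCat.of A)) (CohB1.support M) ∧
      Nonempty (Formal.completion I M ≅ G) := by
  haveI : IsNoetherian X := isNoetherian_of_finiteType A X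
  obtain ⟨𝒥, hp, hk⟩ := kp_of_closedImmersion A I X ⊤ X (𝟙 X) (Category.id_comp _)
    (Set.range_eq_univ.mpr (fun x => ⟨x, rfl⟩)) G hG hGs
  letI : 𝒥.subscheme.Over (Spec (CommRingCat.of A)) :=
    ⟨𝒥.subschemeι ≫ (X ↘ Spec (CommRingCat.of A))⟩
  haveI : IsProper (𝒥.subscheme ↘ Spec (CommRingCat.of A)) :=
    ((Groth.Agent.S0787.result (X ↘ Spec (CommRingCat.of A)) (𝒥.support : Set X)
      𝒥.support.isClosed).2.mp hp) 𝒥.subscheme 𝒥.subschemeι inferInstance 𝒥.range_subschemeι
  obtain ⟨M, hM, hMk, hiso⟩ := exists_killed_of_essSurj A I X 𝒥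
    (essSurj_of_proper A I 𝒥.subscheme) G hG hk
  refine ⟨M, hM, ?_, hiso⟩
  haveI : M.IsQuasicoherent := hM.1
  refine Groth.Agent.S0796.isProperOver_of_subset _ (isClosed_support M hM.2) ?_ hp
  rw [support_eq_annI_support M hM]
  exact Scheme.IdealSheafData.support_antitone ((killedByIdeal_iff_le_annI 𝒥 M hM).mp hMk)

end Main

end Groth.Agent.Lib.helper8.GEKill
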