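import Mathlib
import Groth.Agent.Lib.Helper8.GEKill
import Groth.Agent.Lib.Helper8.DevInd

/-!
# Clopen proper neighbourhoods of the closed fibre (helper8)

`A` Noetherian and `I`-adically complete, `f : X ⟶ Spec A` separated of finite type such that `f⁻¹ V(I)` is proper
over `A`.  Then `f⁻¹ V(I)` is contained in an open and closed subscheme of `X` which is proper over `A` and contains
every closed subscheme proper over `A` (EGA III 5.5.1), `exists_clopen_proper`.

The proof algebraizes the formal module `(O_X / I^(n+1) O_X)`, which has proper support, by a coherent module `M`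
(`GEKill.exists_algebraization`); the support `T` of `M` is the open and closed set.
-/

set_option autoImplicit false
set_option backward.isDefEq.respectTransparency false
set_option linter.style.haveILetI false
set_option linter.unusedSectionVars false
universe u

namespace Groth.Agent.Lib.helper8.GEClopen

open CategoryTheory CategoryTheory.Limits AlgebraicGeometry Opposite TopologicalSpace Formal
open Groth.Agent.Lib.helper8.FF Groth.Agent.Lib.helper8.Rees Groth.Agent.Lib.helper8.FTors
open Groth.Agent.Lib.helper8.FCompl Groth.Agent.Lib.helper8.FPull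
open Groth.Agent.Lib.Lead.GE Groth.Agent.Lib.helper8.GEPush
open Groth.Agent.Lib.helper8.GEQuot Groth.Agent.Lib.helper8.GEGlue
open Groth.Agent.Lib.helper8.GETower Groth.Agent.Lib.helper8.GEExtZero
open Groth.Agent.Lib.helper8.GESupp Groth.Agent.Lib.helper8.GEProper
open Groth.Agent.Lib.helper8.GEKill
open Groth.Agent.Lib.helper8.Dev Groth.Agent.Lib.helper8.SchemeSupport
open Scheme.Modules

section Alg

/-- Krull: an ideal contained in all powers of `J'` is killed by an element of `1 + J'` -/
lemma exists_kill_of_le_pow {R : Type*} [CommRing R] [IsNoetherianRing R] (J' J : Ideal R)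
    (h : ∀ n : ℕ, J ≤ J' ^ (n + 1)) : ∃ r : R, r - 1 ∈ J' ∧ ∀ m ∈ J, r * m = 0 := by
  obtain ⟨k, hk⟩ := Ideal.exists_pow_inf_eq_pow_smul J' (J : Submodule R R)
  have h1 : J ≤ J' • J := by
    intro m hm
    have h2 := hk (k + 1) (Nat.le_succ k)
    have hm' : m ∈ (J' ^ (k + 1) • (⊤ : Submodule R R)) ⊓ J := by
      refine ⟨?_, hm⟩
      have : J' ^ (k + 1) • (⊤ : Submodule R R) = J' ^ (k + 1) := by
        rw [smul_eq_mul, Ideal.mul_top]
      rw [this]
      exact h k hm
    rw [h2, Nat.add_sub_cancel_left, pow_one] at hm'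
    exact Submodule.smul_mono le_rfl inf_le_right hm'
  obtain ⟨r, hr1, hr2⟩ := Submodule.exists_sub_one_mem_and_smul_eq_zero_of_fg_of_le_smul J' J
    (IsNoetherian.noetherian J) h1
  exact ⟨r, hr1, fun m hm => hr2 m hm⟩

end Alg

variable {A : Type u} [CommRing A] {X : Scheme.{u}} [X.Over (Spec (CommRingCat.of A))]

/-- `Supp (M / 𝔞 M) ⊆ V(𝔞)` -/
theorem subset_of_mem_support_Q [IsNoetherian X] (𝔞 : Ideal A) (M : X.Modules)
    (hM : Coh.IsCoh M) (x : X) (hx : x ∈ CohB1.support (Q 𝔞 M)) :
    (𝔞 : Set A) ⊆ ((X ↘ Spec (CommRingCat.of A)) x : PrimeSpectrum A).asIdeal := by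
  obtain ⟨_, ⟨U, hU, rfl⟩, hxU, -⟩ :=
    X.isBasis_affineOpens.exists_subset_of_mem_open (Set.mem_univ x) isOpen_univ
  haveI : M.IsQuasicoherent := hM.1
  haveI : (Q 𝔞 M).IsQuasicoherent := isQuasicoherent_Q 𝔞 M
  have k₀ := Groth.Agent.Lib.helper28.primeIdealOf_mem_support_iff (Q 𝔞 M) hU x hxU
  have hx' := k₀.mpr hx
  haveI : Module.Finite Γ(X, U) Γ(M, U) :=
    Groth.Agent.Lib.helper16.CohFinite.finite_sections_of_isCoh _ hM hU
  have hsurj : Function.Surjective (appLin (qπ 𝔞 M) U) := appLin_qπ_surjective 𝔞 M hU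
  have hker : LinearMap.ker (appLin (qπ 𝔞 M) U) =
      (𝔞.map (resA A U)) • (⊤ : Submodule Γ(X, U) Γ(M, U)) := ker_appLin_qπ 𝔞 M hU
  let e : (Γ(M, U) ⧸ ((𝔞.map (resA A U)) • (⊤ : Submodule Γ(X, U) Γ(M, U))))
      ≃ₗ[Γ(X, U)] Γ(Q 𝔞 M, U) :=
    (Submodule.quotEquivOfEq _ _ hker.symm).trans
      (LinearMap.quotKerEquivOfSurjective _ hsurj)
  rw [← e.support_eq, Module.support_quotient] at hx'
  have h1 := hx'.2
  rw [PrimeSpectrum.mem_zeroLocus] at h1
  rw [apply_asIdeal_eq_comap hU x hxU]
  intro a ha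
  exact h1 (Ideal.mem_map_of_mem _ ha)

/-- every point is in the support of the structure sheaf -/
theorem mem_support_structureModule (x : X) : x ∈ CohB1.support (Coh.structureModule X) := by
  obtain ⟨_, ⟨U, hU, rfl⟩, hxU, -⟩ :=
    X.isBasis_affineOpens.exists_subset_of_mem_open (Set.mem_univ x) isOpen_univ
  haveI : (Coh.structureModule X).IsQuasicoherent := (isCoh_structureModule X).1
  refine (Groth.Agent.Lib.helper28.primeIdealOf_mem_support_iff (Coh.structureModule X) hU x hxU).mp ?_
  rw [Module.mem_support_iff_exists_annihilator]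
  refine ⟨(show Γ(Coh.structureModule X, U) from (1 : Γ(X, U))), ?_⟩
  intro r hr
  rw [Submodule.mem_annihilator_span_singleton] at hr
  have h0 : r = 0 := by
    have : r • (1 : Γ(X, U)) = 0 := hr
    rwa [smul_eq_mul, mul_one] at this
  rw [h0]
  exact zero_mem _

section Main

variable [IsNoetherianRing A] (I : Ideal A) [IsAdicComplete I A]

/-- **EGA III 5.5.1** -/
theorem exists_clopen_proper [IsSeparated (X ↘ Spec (CommRingCat.of A))]
    [LocallyOfFiniteType (X ↘ Spec (CommRingCat.of A))]
    [QuasiCompact (X ↘ Spec (CommRingCat.of A))]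
    (h0 : ClSub.IsProperOver (X ↘ Spec (CommRingCat.of A))
      {x : X | (I : Set A) ⊆ ((X ↘ Spec (CommRingCat.of A)) x : PrimeSpectrum A).asIdeal}) :
    ∃ U : X.Opens, IsClosed (U : Set X) ∧ IsProper (U.ι ≫ (X ↘ Spec (CommRingCat.of A))) ∧
      {x : X | (I : Set A) ⊆ ((X ↘ Spec (CommRingCat.of A)) x : PrimeSpectrum A).asIdeal} ⊆
        (U : Set X) ∧
      ∀ (P : Scheme.{u}) (i : P ⟶ X), IsClosedImmersion i →
        IsProper (i ≫ (X ↘ Spec (CommRingCat.of A))) → Set.range i ⊆ (U : Set X) := by
  haveI : IsNoetherian X := isNoetherian_of_finiteType A X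
  have hO := isCoh_structureModule X
  haveI : (Coh.structureModule X).IsQuasicoherent := hO.1
  have hG := isCohFormal_completion I (Coh.structureModule X) hO
  have hQc : ∀ n : ℕ, Coh.IsCoh ((Formal.completion I (Coh.structureModule X)).obj (op n)) :=
    fun n => hG.1 n
  have hGs : ClSub.IsProperOver (X ↘ Spec (CommRingCat.of A))
      (CohB1.support ((Formal.completion I (Coh.structureModule X)).obj (op 0))) := by
    haveI : ((Formal.completion I (Coh.structureModule X)).obj (op 0)).IsQuasicoherent :=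
      (hQc 0).1
    refine Groth.Agent.S0796.isProperOver_of_subset _ (isClosed_support _ (hQc 0).2) ?_ h0
    intro x hx
    have h1 := subset_of_mem_support_Q (I ^ (0 + 1)) (Coh.structureModule X) hO x hx
    intro a ha
    exact h1 (by rw [zero_add, pow_one]; exact ha)
  obtain ⟨M, hM, hMs, ⟨e⟩⟩ := exists_algebraization A I X _ hG hGs
  haveI : M.IsQuasicoherent := hM.1
  have hTc : IsClosed (CohB1.support M) := isClosed_support M hM.2
  have hT : CohB1.support M = ((annI M hM).support : Set X) := support_eq_annI_support M hM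
  -- the annihilator is contained in all powers of `I`
  have h3 : ∀ (U : X.affineOpens) (n : ℕ),
      (annI M hM).ideal U ≤ (I.map (resA A U.1)) ^ (n + 1) := by
    intro U n a ha
    rw [mem_annI_iff] at ha
    haveI : ((Formal.completion I M).obj (op n)).IsQuasicoherent := isQuasicoherent_Q (I ^ (n + 1)) M
    -- `a` kills `M / I^(n+1) M`
    have h4 : ∀ t : Γ(Q (I ^ (n + 1)) M, U.1), a • t = 0 := by
      intro t
      obtain ⟨s, rfl⟩ := appLin_qπ_surjective (I ^ (n + 1)) M U.2 t
      rw [← LinearMap.map_smul, ha s, map_zero]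
    -- hence `O / I^(n+1) O`
    have h5 : ∀ t : Γ(Q (I ^ (n + 1)) (Coh.structureModule X), U.1), a • t = 0 := by
      intro t
      have hinj := appLin_injective_of_mono (e.inv.app (op n)) U.1
      apply hinj
      have h9 := h4 (appLin (e.inv.app (op n)) U.1 t)
      rw [LinearMap.map_smul]
      exact h9.trans (map_zero _).symm
    have h6 : (show Γ(Coh.structureModule X, U.1) from a) ∈
        LinearMap.ker (appLin (qπ (I ^ (n + 1)) (Coh.structureModule X)) U.1) := by
      rw [LinearMap.mem_ker]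
      have h7 : (show Γ(Coh.structureModule X, U.1) from a) =
          a • (show Γ(Coh.structureModule X, U.1) from (1 : Γ(X, U.1))) := by
        show a = a * 1
        rw [mul_one]
      rw [h7, LinearMap.map_smul]
      exact h5 _
    rw [ker_appLin_qπ (I ^ (n + 1)) (Coh.structureModule X) U.2, Ideal.map_pow] at h6
    have h8 : ((I.map (resA A U.1)) ^ (n + 1)) •
        (⊤ : Submodule Γ(X, U.1) Γ(Coh.structureModule X, U.1)) =
        ((I.map (resA A U.1)) ^ (n + 1) : Ideal Γ(X, U.1)) := by
      show ((I.map (resA A U.1)) ^ (n + 1)) • (⊤ : Ideal Γ(X, U.1)) = _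
      rw [smul_eq_mul, Ideal.mul_top]
    rw [h8] at h6
    exact h6
  -- the special fibre lies in the support
  have hX0 : {x : X | (I : Set A) ⊆ ((X ↘ Spec (CommRingCat.of A)) x : PrimeSpectrum A).asIdeal} ⊆
      CohB1.support M := by
    intro x hx
    have h1 := mem_support_Q_of_mem_zeroLocus (I ^ (0 + 1)) (Coh.structureModule X) hO x
      (mem_support_structureModule x) (fun a ha => hx (by
        rw [zero_add, pow_one] at ha
        exact ha))
    have h2 : x ∈ CohB1.support ((Formal.completion I (Coh.structureModule X)).obj (op 0)) := h1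
    rw [← Groth.Agent.Lib.helper8.StalkLen.support_eq_of_iso (e.app (op 0))] at h2
    exact support_subset_of_epi (qπ (I ^ (0 + 1)) M) hM (isCoh_Q' _ M hM) h2
  -- the scheme-theoretic support is proper
  letI : (annI M hM).subscheme.Over (Spec (CommRingCat.of A)) :=
    ⟨(annI M hM).subschemeι ≫ (X ↘ Spec (CommRingCat.of A))⟩
  haveI hZp : IsProper ((annI M hM).subscheme ↘ Spec (CommRingCat.of A)) :=
    isProper_annIdeal_subschemeι_comp (X ↘ Spec (CommRingCat.of A)) M hM.2 hMs
  -- the support is open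
  have hopen : IsOpen (CohB1.support M) := by
    rw [← isClosed_compl_iff]
    refine closure_subset_iff_isClosed.mp ?_
    intro x hxc
    by_contra hxT
    rw [Set.notMem_compl_iff] at hxT
    -- a point of the special fibre in `closure Tᶜ ∩ T`
    have hne : ((annI M hM).subschemeι ⁻¹' (closure (CohB1.support M)ᶜ)).Nonempty := by
      have hx' : x ∈ Set.range (annI M hM).subschemeι := by
        rw [(annI M hM).range_subschemeι, ← hT]
        exact hxT
      obtain ⟨z, hz⟩ := hx'
      exact ⟨z, by rw [Set.mem_preimage, hz]; exact hxc⟩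
    obtain ⟨z, hz1, hz2⟩ := exists_mem_zeroLocus_of_isClosed I _
      (isClosed_closure.preimage (annI M hM).subschemeι.continuous) hne
    set y : X := (annI M hM).subschemeι z with hy
    have hyT : y ∈ CohB1.support M := by
      rw [hT, ← (annI M hM).range_subschemeι]
      exact ⟨z, rfl⟩
    have hyI : (I : Set A) ⊆ ((X ↘ Spec (CommRingCat.of A)) y : PrimeSpectrum A).asIdeal := hz2
    have hyc : y ∈ closure (CohB1.support M)ᶜ := hz1
    obtain ⟨_, ⟨U, hU, rfl⟩, hyU, -⟩ :=
      X.isBasis_affineOpens.exists_subset_of_mem_open (Set.mem_univ y) isOpen_univ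
    haveI : IsNoetherianRing Γ(X, U) := IsLocallyNoetherian.component_noetherian ⟨U, hU⟩
    obtain ⟨r, hr1, hr2⟩ := exists_kill_of_le_pow (I.map (resA A U)) ((annI M hM).ideal ⟨U, hU⟩)
      (fun n => h3 ⟨U, hU⟩ n)
    have hyr : y ∈ X.basicOpen r := by
      rw [Groth.Agent.Lib.helper28.mem_basicOpen_iff hU y hyU]
      intro hrp
      have h1 : I.map (resA A U) ≤ (hU.primeIdealOf ⟨y, hyU⟩).asIdeal := by
        rw [Ideal.map_le_iff_le_comap, ← apply_asIdeal_eq_comap hU y hyU]
        exact hyI
      have h2 : (1 : Γ(X, U)) ∈ (hU.primeIdealOf ⟨y, hyU⟩).asIdeal := by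
        have := Ideal.sub_mem _ hrp (h1 hr1)
        rwa [sub_sub_cancel] at this
      exact (hU.primeIdealOf ⟨y, hyU⟩).isPrime.ne_top ((Ideal.eq_top_iff_one _).mpr h2)
    have hsub : ((X.basicOpen r : X.Opens) : Set X) ⊆ CohB1.support M := by
      intro w hw
      have hwU : w ∈ U := X.basicOpen_le r hw
      rw [hT]
      refine (Scheme.IdealSheafData.mem_support_iff_of_mem (U := ⟨U, hU⟩) hwU).mpr ?_
      rw [Scheme.mem_zeroLocus_iff]
      intro m hm hwm
      have h1 : w ∈ X.basicOpen (r * m) := by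
        rw [Scheme.basicOpen_mul]
        exact ⟨hw, hwm⟩
      rw [hr2 m hm, Scheme.basicOpen_zero] at h1
      exact h1
    obtain ⟨w, hw1, hw2⟩ := mem_closure_iff.mp hyc _ (X.basicOpen r).isOpen hyr
    exact hw2 (hsub hw1)
  obtain ⟨U₀, hU₀⟩ : ∃ U₀ : X.Opens, (U₀ : Set X) = CohB1.support M := ⟨⟨_, hopen⟩, rfl⟩
  rw [← hU₀] at hTc hX0 hMs
  refine ⟨U₀, hTc, ?_, hX0, ?_⟩
  · -- properness of the open subscheme
    have hr : Set.range U₀.ι = (U₀ : Set X) := Scheme.Opens.range_ι _
    haveI : IsClosedImmersion U₀.ι :=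
      IsClosedImmersion.of_isPreimmersion _ (by rw [hr]; exact hTc)
    exact ((Groth.Agent.S0787.result (X ↘ Spec (CommRingCat.of A)) (U₀ : Set X) hTc).2.mp hMs)
      _ _ inferInstance hr
  · intro P i hi hip
    haveI := hi
    letI : P.Over (Spec (CommRingCat.of A)) := ⟨i ≫ (X ↘ Spec (CommRingCat.of A))⟩
    haveI : IsProper (P ↘ Spec (CommRingCat.of A)) := hip
    by_contra hns
    rw [Set.not_subset] at hns
    obtain ⟨_, ⟨p, rfl⟩, hp⟩ := hns
    have hne : (i ⁻¹' (U₀ : Set X)ᶜ).Nonempty := ⟨p, hp⟩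
    obtain ⟨z, hz1, hz2⟩ := exists_mem_zeroLocus_of_isClosed I _
      (U₀.isOpen.isClosed_compl.preimage i.continuous) hne
    exact hz1 (hX0 hz2)

end Main

section Thick

variable {B : Type u} [CommRing B] {Y : Scheme.{u}} (g : Y ⟶ Spec (CommRingCat.of B)) (J : Ideal B)

instance isClosedImmersion_specQuot (n : ℕ) : IsClosedImmersion (CohB1.specQuot J n) :=
  IsClosedImmersion.spec_of_surjective _ Ideal.Quotient.mk_surjective

instance isClosedImmersion_thickι (n : ℕ) : IsClosedImmersion (CohB1.thickι g J n) :=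
  MorphismProperty.pullback_fst _ _ inferInstance

/-- the points of the special fibre -/
theorem range_thickι_zero :
    Set.range (CohB1.thickι g J 0) =
      {x : Y | (J : Set B) ⊆ ((g x : PrimeSpectrum B)).asIdeal} := by
  ext x
  constructor
  · rintro ⟨z, rfl⟩
    have hc : CohB1.thickι g J 0 ≫ g = CohB1.thickToBase g J 0 ≫ CohB1.specQuot J 0 :=
      pullback.condition
    have h1 : g (CohB1.thickι g J 0 z) = CohB1.specQuot J 0 (CohB1.thickToBase g J 0 z) := by
      rw [← Scheme.Hom.comp_apply, ← Scheme.Hom.comp_apply, hc]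
    show (J : Set B) ⊆ _
    rw [h1]
    intro a ha
    show Ideal.Quotient.mk (J ^ (0 + 1)) a ∈
      (CohB1.thickToBase g J 0 z : PrimeSpectrum (B ⧸ J ^ (0 + 1))).asIdeal
    have h2 : Ideal.Quotient.mk (J ^ (0 + 1)) a = 0 :=
      Ideal.Quotient.eq_zero_iff_mem.mpr (by rw [zero_add, pow_one]; exact ha)
    rw [h2]
    exact zero_mem _
  · intro hx
    have h1 : g x ∈ Set.range (CohB1.specQuot J 0) := by
      have h2 := _root_.range_comap_of_surjective _ (Ideal.Quotient.mk (J ^ (0 + 1)))
        Ideal.Quotient.mk_surjective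
      have h3 : (g x : PrimeSpectrum B) ∈
          PrimeSpectrum.zeroLocus ((RingHom.ker (Ideal.Quotient.mk (J ^ (0 + 1))) : Ideal B) : Set B) := by
        rw [Ideal.mk_ker, zero_add, pow_one]
        exact hx
      rw [← h2] at h3
      obtain ⟨y, hy⟩ := h3
      exact ⟨y, hy⟩
    obtain ⟨y, hy⟩ := h1
    obtain ⟨z, hz1, -⟩ := Scheme.Pullback.exists_preimage_pullback x y hy.symm
    exact ⟨z, hz1⟩

end Thick

end Groth.Agent.Lib.helper8.GEClopen
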