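import Mathlib
import Groth.Agent.Lib.Helper8.GEClopen
import Groth.Agent.Lib.Helper11.ThickTower

/-!
# Ideal sheaf calculus for closed immersions, and the ideal of the thickening `X_n ⟶ X` (helper8)

* `ker_comp_comap`: `(j ≫ ι).ker.comap ι = j.ker` for closed immersions `j`, `ι`.
* `map_comap_eq_sup`: `(𝔟.comap ι).map ι = 𝔟 ⊔ ι.ker`.
* `ker_eq_comap_of_isPullback`: the ideal of the base change of a closed immersion.
* `ker_comp_eq_sup`: for a cartesian square of closed immersions `Z ⟶ Y`, `Z' ⟶ Y'` over `Y ⟶ Y' ⟶ X`,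
  `𝒦_Z = 𝒦_{Z'} ⊔ 𝒦_Y` as ideal sheaves on `X`.
* `ideal_ker_thickι`: the ideal of `X ×_A A/I^(n+1) ⟶ X` over an affine open `U` is `I^(n+1) Γ(X, U)`.
-/

set_option autoImplicit false
set_option backward.isDefEq.respectTransparency false
set_option linter.style.haveILetI false
set_option linter.unusedSectionVars false
universe u

namespace Groth.Agent.Lib.helper8.GEIdeal

open CategoryTheory CategoryTheory.Limits AlgebraicGeometry Opposite TopologicalSpace Formal
open Groth.Agent.Lib.helper8.FF Groth.Agent.Lib.helper8.Rees Groth.Agent.Lib.helper8.FTors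
open Groth.Agent.Lib.helper8.FCompl Groth.Agent.Lib.helper8.FPull
open Groth.Agent.Lib.Lead.GE
open Groth.Agent.Lib.helper8.GEClopen
open Scheme.Modules Scheme.IdealSheafData

section Calc

variable {X Y Y' V V' : Scheme.{u}}

/-- `(j ≫ ι).ker` restricts to `j.ker` along the closed immersion `ι` -/
theorem ker_comp_comap (j : V ⟶ Y) (ι : Y ⟶ X) [IsClosedImmersion j] [IsClosedImmersion ι] :
    (j ≫ ι).ker.comap ι = j.ker := by
  rw [← ker_fst_of_isClosedImmersion (j ≫ ι) ι]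
  have h : IsPullback j (𝟙 V) ι (j ≫ ι) := IsPullback.of_vert_isIso_mono ⟨by simp⟩
  calc (pullback.fst ι (j ≫ ι)).ker
      = (h.isoPullback.hom ≫ pullback.fst ι (j ≫ ι)).ker :=
        (Scheme.Hom.ker_comp_of_isIso _ _).symm
    _ = j.ker := by rw [h.isoPullback_hom_fst]

theorem ker_comap_self (ι : Y ⟶ X) [IsClosedImmersion ι] : ι.ker.comap ι = ⊥ := by
  rw [← le_bot_iff, ← le_map_iff_comap_le, map_bot]

/-- `(𝔟.comap ι).map ι = 𝔟 ⊔ ι.ker` for a closed immersion `ι` -/
theorem map_comap_eq_sup (ι : Y ⟶ X) [IsClosedImmersion ι] (𝔟 : X.IdealSheafData) :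
    (𝔟.comap ι).map ι = 𝔟 ⊔ ι.ker := by
  apply le_antisymm
  · have h1 : ι.ker ≤ (𝔟 ⊔ ι.ker).subschemeι.ker := by
      rw [ker_subschemeι]
      exact le_sup_right
    let a : (𝔟 ⊔ ι.ker).subscheme ⟶ Y := IsClosedImmersion.lift ι (𝔟 ⊔ ι.ker).subschemeι h1
    have ha : a ≫ ι = (𝔟 ⊔ ι.ker).subschemeι := IsClosedImmersion.lift_fac _ _ _
    let b : (𝔟 ⊔ ι.ker).subscheme ⟶ 𝔟.subscheme := inclusion le_sup_left
    have hb : b ≫ 𝔟.subschemeι = (𝔟 ⊔ ι.ker).subschemeι := inclusion_subschemeι _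
    let c : (𝔟 ⊔ ι.ker).subscheme ⟶ pullback ι 𝔟.subschemeι :=
      pullback.lift a b (ha.trans hb.symm)
    have hc : (𝔟 ⊔ ι.ker).subschemeι = c ≫ (pullback.fst ι 𝔟.subschemeι ≫ ι) := by
      rw [← Category.assoc, pullback.lift_fst, ha]
    calc (𝔟.comap ι).map ι = (pullback.fst ι 𝔟.subschemeι ≫ ι).ker := map_ker _ _
      _ ≤ (c ≫ (pullback.fst ι 𝔟.subschemeι ≫ ι)).ker := Scheme.Hom.le_ker_comp _ _
      _ = 𝔟 ⊔ ι.ker := by rw [← hc, ker_subschemeι]
  · refine sup_le (le_map_comap 𝔟 ι) ?_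
    rw [← map_bot]
    exact map_mono ι bot_le

/-- the ideal of the base change of a closed immersion -/
theorem ker_eq_comap_of_isPullback {P Z' : Scheme.{u}} {fst : P ⟶ Z'} {snd : P ⟶ Y} {f : Z' ⟶ Y'}
    {g : Y ⟶ Y'} [IsClosedImmersion f] (h : IsPullback fst snd f g) : snd.ker = f.ker.comap g := by
  rw [← ker_fst_of_isClosedImmersion f g]
  calc snd.ker = (h.flip.isoPullback.hom ≫ pullback.fst g f).ker := by
        rw [h.flip.isoPullback_hom_fst]
    _ = (pullback.fst g f).ker := Scheme.Hom.ker_comp_of_isIso _ _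

/-- the ideals on `X` of a cartesian square of closed immersions -/
theorem ker_comp_eq_sup (τ : Y ⟶ Y') (ι' : Y' ⟶ X) (ι : Y ⟶ X) (hι : τ ≫ ι' = ι)
    [IsClosedImmersion ι] [IsClosedImmersion ι'] (z : V ⟶ Y) (z' : V' ⟶ Y')
    [IsClosedImmersion z] [IsClosedImmersion z'] (t : V ⟶ V') (h : IsPullback t z z' τ) :
    (z ≫ ι).ker = (z' ≫ ι').ker ⊔ ι.ker := by
  have h1 : z.ker = z'.ker.comap τ := ker_eq_comap_of_isPullback h
  have h2 : z'.ker = (z' ≫ ι').ker.comap ι' := (ker_comp_comap z' ι').symm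
  rw [Scheme.Hom.ker_comp z ι, h1, h2, ← comap_comp, hι, map_comap_eq_sup]

end Calc

section Thick

variable {A : Type u} [CommRing A] {X : Scheme.{u}} [X.Over (Spec (CommRingCat.of A))]
  (I : Ideal A)

/-- the ideal of `X ×_A A/I^(n+1) ⟶ X` over an affine open `U` is `I^(n+1) Γ(X, U)` -/
theorem ideal_ker_thickι [IsNoetherian X] (n : ℕ) (U : X.affineOpens) :
    (CohB1.thickι (X ↘ Spec (CommRingCat.of A)) I n).ker.ideal U =
      (I ^ (n + 1)).map (resA A U.1) := by
  set ι := CohB1.thickι (X ↘ Spec (CommRingCat.of A)) I n with hι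
  set p := CohB1.thickToBase (X ↘ Spec (CommRingCat.of A)) I n with hp
  have hO := Groth.Agent.Lib.helper8.Dev.isCoh_structureModule X
  haveI : (Coh.structureModule X).IsQuasicoherent := hO.1
  apply le_antisymm
  · -- via the unit of `ι` on `O_X / I^(n+1) O_X`
    intro a ha
    haveI : (Q (I ^ (n + 1)) (Coh.structureModule X)).IsQuasicoherent := isQuasicoherent_Q _ _
    have hpb : IsPullback ι p (X ↘ Spec (CommRingCat.of A))
        (Spec.map (CommRingCat.ofHom (algebraMap A (A ⧸ I ^ (n + 1))))) :=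
      IsPullback.of_hasPullback _ _
    have hiso := Groth.Agent.Lib.helper11.ThickTower.isIso_unit_of_killedBy p ι hpb
      (I ^ (n + 1)) Ideal.Quotient.mk_surjective
      (by rw [Ideal.Quotient.algebraMap_eq, Ideal.mk_ker])
      (Q (I ^ (n + 1)) (Coh.structureModule X)) (fun a ha => smulMod_Q _ ha)
    have hk := (Groth.Agent.Lib.helper8.ClosedImmUnit.isIso_unit_iff_of_isClosedImmersion ι
      (Q (I ^ (n + 1)) (Coh.structureModule X))).mp hiso U a ha
    have h6 : (show Γ(Coh.structureModule X, U.1) from a) ∈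
        LinearMap.ker (appLin (qπ (I ^ (n + 1)) (Coh.structureModule X)) U.1) := by
      rw [LinearMap.mem_ker]
      have h7 : (show Γ(Coh.structureModule X, U.1) from a) =
          a • (show Γ(Coh.structureModule X, U.1) from (1 : Γ(X, U.1))) := by
        show a = a * 1
        rw [mul_one]
      rw [h7, LinearMap.map_smul]
      exact hk _
    rw [ker_appLin_qπ (I ^ (n + 1)) (Coh.structureModule X) U.2] at h6
    have h8 : ((I ^ (n + 1)).map (resA A U.1)) •
        (⊤ : Submodule Γ(X, U.1) Γ(Coh.structureModule X, U.1)) =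
        ((I ^ (n + 1)).map (resA A U.1) : Ideal Γ(X, U.1)) := by
      show ((I ^ (n + 1)).map (resA A U.1)) • (⊤ : Ideal Γ(X, U.1)) = _
      rw [smul_eq_mul, Ideal.mul_top]
    rw [h8] at h6
    exact h6
  · rw [Ideal.map_le_iff_le_comap]
    intro a ha
    rw [Ideal.mem_comap, Scheme.Hom.ker_apply, RingHom.mem_ker]
    letI : (CohB1.thick (X ↘ Spec (CommRingCat.of A)) I n).Over (Spec (CommRingCat.of A)) :=
      ⟨ι ≫ (X ↘ Spec (CommRingCat.of A))⟩
    have ho : ι ≫ (X ↘ Spec (CommRingCat.of A)) =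
        (CohB1.thick (X ↘ Spec (CommRingCat.of A)) I n) ↘ Spec (CommRingCat.of A) := rfl
    have h1 : resA A (ι ⁻¹ᵁ U.1) a = (ι.app U.1).hom (resA A U.1 a) := by
      show (Coh.resTop _ (op (ι ⁻¹ᵁ U.1))) (Coh.toGlobal
          ((CohB1.thick (X ↘ Spec (CommRingCat.of A)) I n) ↘ Spec (CommRingCat.of A)) a) =
        (ι.app U.1).hom ((Coh.resTop X (op U.1)) (Coh.toGlobal (X ↘ Spec (CommRingCat.of A)) a))
      rw [FPull.toGlobal_eq ι ho a]
      exact FPull.resTop_appTop ι (op U.1) _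
    rw [← h1]
    have h2 : Coh.toGlobal
        ((CohB1.thick (X ↘ Spec (CommRingCat.of A)) I n) ↘ Spec (CommRingCat.of A)) a = 0 := by
      have hc : (CohB1.thick (X ↘ Spec (CommRingCat.of A)) I n) ↘ Spec (CommRingCat.of A) =
          p ≫ Spec.map (CommRingCat.ofHom (Ideal.Quotient.mk (I ^ (n + 1)))) := pullback.condition
      rw [hc, Groth.Agent.Lib.helper11.AdicSys.toGlobal_comp_specMap,
        Ideal.Quotient.eq_zero_iff_mem.mpr ha, map_zero]
    show (Coh.resTop _ (op (ι ⁻¹ᵁ U.1))) (Coh.toGlobal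
      ((CohB1.thick (X ↘ Spec (CommRingCat.of A)) I n) ↘ Spec (CommRingCat.of A)) a) = 0
    rw [h2, map_zero]

end Thick

end Groth.Agent.Lib.helper8.GEIdeal
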