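import Mathlib
import Groth.Agent.Lib.Helper8.FormalInduct

/-!
# Formal functions without completeness: the pro-isomorphism conditions (helper8)

For a sequence of ideals `𝔞 : ℕ → Ideal A`, the canonical maps `H^p(M) / 𝔞_n H^p(M) → H^p(M / 𝔞_n M)`
form a pro-isomorphism iff
* `ProK 𝔞 M p` : `∀ n ∃ m, ker (H^p(M) → H^p(M / 𝔞_m M)) ⊆ 𝔞_n H^p(M)`,
* `ProC 𝔞 M p` : `∀ n ∃ m, im (H^p(M / 𝔞_m M) → H^p(M / 𝔞_n M)) ⊆ im (H^p(M) → H^p(M / 𝔞_n M))`.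
This file: definitions, cofinality, and the principal case.
-/

set_option autoImplicit false
universe u
open CategoryTheory CategoryTheory.Limits AlgebraicGeometry Opposite TopologicalSpace

namespace Groth.Agent.Lib.helper8.FF

open Formal Groth.Agent.Lib.Helper18

variable {A : Type u} [CommRing A] {X : Scheme.{u}} [X.Over (Spec (CommRingCat.of A))]

/-- the kernels of `H^p(M) → H^p(M / 𝔞_m M)` are eventually inside `𝔞_n H^p(M)`. -/
def ProK (𝔞 : ℕ → Ideal A) (M : X.Modules) (p : ℕ) : Prop :=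
  ∀ n, ∃ m, ∀ x : Coh.HH X M p, HH.map (qπ (𝔞 m) M) p x = 0 →
    x ∈ (𝔞 n • ⊤ : Submodule A (Coh.HH X M p))

/-- the images of `H^p(M / 𝔞_m M) → H^p(M / 𝔞_n M)` are eventually inside the image of `H^p(M)`. -/
def ProC (𝔞 : ℕ → Ideal A) (M : X.Modules) (p : ℕ) : Prop :=
  ∀ n, ∃ m, ∃ h : 𝔞 m ≤ 𝔞 n, ∀ y : Coh.HH X (Q (𝔞 m) M) p,
    ∃ x : Coh.HH X M p, HH.map (qπ (𝔞 n) M) p x = HH.map (qTrans h M) p y

lemma ProK.of_cofinal {𝔞 𝔟 : ℕ → Ideal A} (h1 : ∀ n, ∃ m, 𝔞 m ≤ 𝔟 n) (h2 : ∀ n, ∃ m, 𝔟 m ≤ 𝔞 n)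
    {M : X.Modules} {p : ℕ} (h : ProK 𝔞 M p) : ProK 𝔟 M p := by
  intro n
  obtain ⟨n₁, hn₁⟩ := h1 n
  obtain ⟨m₁, hm₁⟩ := h n₁
  obtain ⟨m, hm⟩ := h2 m₁
  refine ⟨m, fun x hx => ?_⟩
  have h3 : HH.map (qπ (𝔞 m₁) M) p x = 0 := by
    rw [← map_qπ_trans hm M p x, hx, map_zero]
  exact Submodule.smul_mono_left hn₁ (hm₁ x h3)

lemma ProC.of_cofinal {𝔞 𝔟 : ℕ → Ideal A} (h1 : ∀ n, ∃ m, 𝔞 m ≤ 𝔟 n) (h2 : ∀ n, ∃ m, 𝔟 m ≤ 𝔞 n)
    {M : X.Modules} {p : ℕ} (h : ProC 𝔞 M p) : ProC 𝔟 M p := by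
  intro n
  obtain ⟨n₁, hn₁⟩ := h1 n
  obtain ⟨m₁, hle, hm₁⟩ := h n₁
  obtain ⟨m, hm⟩ := h2 m₁
  refine ⟨m, hm.trans (hle.trans hn₁), fun y => ?_⟩
  obtain ⟨x, hx⟩ := hm₁ (HH.map (qTrans hm M) p y)
  refine ⟨x, ?_⟩
  rw [← map_qπ_trans hn₁ M p x, hx, map_qTrans_trans, map_qTrans_trans]

section Principal

variable {a : A} {M : X.Modules} (p : ℕ)

/-- per-level version of `exists_toHHmodPow_eq`. -/
theorem exists_map_qπ_eq_trans {c N : ℕ} (hc : Stable a M c)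
    (hN : ∀ (z : Coh.HH X (KK a M c) (p + 1)) (s : ℕ), a ^ s • z = 0 → a ^ N • z = 0)
    {n m : ℕ} (hn : c ≤ n) (hm : n + N ≤ m)
    (y : Coh.HH X (Q ((Ideal.span {a}) ^ m) M) p) :
    ∃ x : Coh.HH X M p, HH.map (qπ ((Ideal.span {a}) ^ n) M) p x =
      HH.map (qTrans (Ideal.pow_le_pow_right (show n ≤ m by omega)) M) p y := by
  have hnm : n ≤ m := by omega
  let q : Coh.HH X (KK a M m) (p + 1) := HH.δ (ses_shortExact ((Ideal.span {a}) ^ m) M) p y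
  have htors : a ^ m • q = 0 := by
    have h1 : a ^ m • y = 0 :=
      smul_eq_zero_of_smulMod_eq_zero _ _ (smulMod_Q M (pow_mem_span_pow a m)) p _
    have h2 := (HH.δOver (ses_shortExact ((Ideal.span {a}) ^ m) M) A p).map_smul (a ^ m) y
    have h3 := (congrArg (HH.δOver (ses_shortExact ((Ideal.span {a}) ^ m) M) A p) h1).trans
      (map_zero _)
    exact h2.symm.trans h3
  have hnat := δ_naturality (ses_shortExact ((Ideal.span {a}) ^ m) M)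
    (ses_shortExact ((Ideal.span {a}) ^ n) M) (sesMap (Ideal.pow_le_pow_right hnm) M) p y
  have hzero : HH.map (jj a M hnm) (p + 1) q = 0 :=
    map_jj_eq_zero p hc hN hnm hn (by omega) q _ htors
  have h4 : HH.δ (ses_shortExact ((Ideal.span {a}) ^ n) M) p
      (HH.map (qTrans (Ideal.pow_le_pow_right hnm) M) p y) = 0 := hnat.trans hzero
  obtain ⟨x, hx⟩ := (HH.exact₃ (ses_shortExact ((Ideal.span {a}) ^ n) M) p _).mp h4
  exact ⟨x, hx⟩

theorem proK_principal [IsNoetherian X] (a : A) (M : X.Modules) (hM : Coh.IsCoh M) :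
    ProK (fun n => (Ideal.span {a}) ^ (n + 1)) M p := by
  obtain ⟨c, hc⟩ := exists_kernel_stable a M hM
  intro n
  refine ⟨c + n, fun x hx => ?_⟩
  have hc' : Stable a M c := hc
  exact mem_smul_top_of_map_qπ_eq_zero p hc' (n + 1) x hx

theorem proC_principal [IsNoetherianRing A] [IsNoetherian X] (a : A) (M : X.Modules)
    (hM : Coh.IsCoh M)
    (hfin : ∀ m, Module.Finite A (Coh.HH X (Sb ((Ideal.span {a}) ^ m) M) (p + 1))) :
    ProC (fun n => (Ideal.span {a}) ^ (n + 1)) M p := by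
  obtain ⟨c, hc⟩ := exists_kernel_stable a M hM
  have hc' : Stable a M c := hc
  haveI : Module.Finite A (Coh.HH X (KK a M c) (p + 1)) := hfin c
  obtain ⟨N, hN⟩ := exists_torsion_bound a (Coh.HH X (KK a M c) (p + 1))
  intro n
  refine ⟨n + c + N, Ideal.pow_le_pow_right (by omega), fun y => ?_⟩
  obtain ⟨x, hx⟩ := exists_map_qπ_eq_trans p hc' hN (n := n + 1 + c) (m := n + c + N + 1)
    (by omega) (by omega) y
  refine ⟨x, ?_⟩
  have hle : (Ideal.span {a}) ^ (n + 1 + c) ≤ (Ideal.span {a}) ^ (n + 1) :=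
    Ideal.pow_le_pow_right (by omega)
  rw [← map_qπ_trans hle M p x, hx, map_qTrans_trans]

end Principal

end Groth.Agent.Lib.helper8.FF
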