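import Mathlib
import Groth.Agent.Lib.Helper8.FormalPro

/-!
# Formal functions without completeness: induction on generators (helper8)

* `ProK.sup`, `ProC.sup` : the induction steps.
* `pro_of_finite` : for every ideal `I` of a Noetherian ring `A`, `X` Noetherian over `A`, and a class `P`
  of modules stable under `N ↦ 𝔞 N`, `N ↦ N / 𝔞 N` whose coherent members have finite cohomology:
  `ProK (I^(n+1)) M p ∧ ProC (I^(n+1)) M p` for `M` coherent in `P`.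
-/

set_option autoImplicit false
universe u
open CategoryTheory CategoryTheory.Limits AlgebraicGeometry Opposite TopologicalSpace

namespace Groth.Agent.Lib.helper8.FF

open Formal Groth.Agent.Lib.Helper18

variable {A : Type u} [CommRing A] {X : Scheme.{u}} [X.Over (Spec (CommRingCat.of A))]

lemma mapOver_eq_map {M N : X.Modules} (f : M ⟶ N) (n : ℕ) (x : Coh.HH X M n) :
    HH.mapOver A f n x = HH.map f n x := rfl

theorem ProK.sup {𝔭 𝔧 : ℕ → Ideal A} (h𝔭 : Antitone 𝔭) (h𝔧 : Antitone 𝔧) {M : X.Modules} {p : ℕ}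
    (K1 : ProK 𝔭 M p) (C1 : ProC 𝔭 M p) (K2 : ∀ n, ProK 𝔧 (Q (𝔭 n) M) p) :
    ProK (fun n => 𝔭 n ⊔ 𝔧 n) M p := by
  intro n
  obtain ⟨n₁, hn₁⟩ := K1 n
  obtain ⟨m₁, h₁, hm₁⟩ := C1 n₁
  obtain ⟨m₂, hm₂⟩ := K2 m₁ n
  refine ⟨max m₁ m₂, fun x hx => ?_⟩
  have hle : 𝔭 (max m₁ m₂) ⊔ 𝔧 (max m₁ m₂) ≤ 𝔭 m₁ ⊔ 𝔧 m₂ :=
    sup_le_sup (h𝔭 (le_max_left _ _)) (h𝔧 (le_max_right _ _))
  -- the image of `x` in `H^p(M / 𝔭_{m₁} M)` lies in `𝔧_n`
  have hx1 : HH.map (qπ (𝔭 m₁) M) p x ∈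
      (𝔧 n • ⊤ : Submodule A (Coh.HH X (Q (𝔭 m₁) M) p)) := by
    apply hm₂
    rw [← HH.map_comp_apply, ← qπ_qqHom, HH.map_comp_apply, ← map_qπ_trans hle M p x]
    have hx' : HH.map (qπ (𝔭 (max m₁ m₂) ⊔ 𝔧 (max m₁ m₂)) M) p x = 0 := hx
    rw [hx', map_zero, map_zero]
  -- lift
  have key : ∀ z ∈ (𝔧 n • ⊤ : Submodule A (Coh.HH X (Q (𝔭 m₁) M) p)),
      ∃ h ∈ (𝔧 n • ⊤ : Submodule A (Coh.HH X M p)),
        HH.mapOver A (qπ (𝔭 n₁) M) p h = HH.mapOver A (qTrans h₁ M) p z := by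
    intro z hz
    refine Submodule.smul_induction_on hz (fun r hr h' _ => ?_) (fun z₁ z₂ ⟨h₁', hh₁, e₁⟩
      ⟨h₂', hh₂, e₂⟩ => ?_)
    · obtain ⟨h₀, e₀⟩ := hm₁ h'
      refine ⟨r • h₀, Submodule.smul_mem_smul hr Submodule.mem_top, ?_⟩
      rw [map_smul, map_smul, mapOver_eq_map, mapOver_eq_map, e₀]
    · exact ⟨h₁' + h₂', Submodule.add_mem _ hh₁ hh₂, by rw [map_add, map_add, e₁, e₂]⟩
  obtain ⟨h, hh, e⟩ := key _ hx1
  rw [mapOver_eq_map, mapOver_eq_map, map_qπ_trans] at e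
  have h3 : x - h ∈ (𝔭 n • ⊤ : Submodule A (Coh.HH X M p)) := by
    apply hn₁
    rw [map_sub, e, sub_self]
  have h4 : x = (x - h) + h := by abel
  rw [h4]
  exact Submodule.add_mem _ (Submodule.smul_mono_left le_sup_left h3)
    (Submodule.smul_mono_left le_sup_right hh)

theorem ProC.sup {𝔭 𝔧 : ℕ → Ideal A} (h𝔭 : Antitone 𝔭) (h𝔧 : Antitone 𝔧) {M : X.Modules} {p : ℕ}
    (C1 : ProC 𝔭 M p) (C2 : ∀ n, ProC 𝔧 (Q (𝔭 n) M) p) :
    ProC (fun n => 𝔭 n ⊔ 𝔧 n) M p := by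
  intro n
  obtain ⟨m₁, h₁, hm₁⟩ := C1 n
  obtain ⟨m₂, h₂, hm₂⟩ := C2 m₁ n
  have hle : 𝔭 (max m₁ m₂) ⊔ 𝔧 (max m₁ m₂) ≤ 𝔭 m₁ ⊔ 𝔧 m₂ :=
    sup_le_sup (h𝔭 (le_max_left _ _)) (h𝔧 (le_max_right _ _))
  have hle' : 𝔭 m₁ ⊔ 𝔧 m₂ ≤ 𝔭 n ⊔ 𝔧 n := sup_le_sup h₁ h₂
  refine ⟨max m₁ m₂, hle.trans hle', fun y => ?_⟩
  set y₁ : Coh.HH X (Q (𝔭 m₁ ⊔ 𝔧 m₂) M) p := HH.map (qTrans hle M) p y with hy₁
  obtain ⟨x', hx'⟩ := hm₂ (HH.map (qqHom (𝔭 m₁) (𝔧 m₂) M) p y₁)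
  obtain ⟨x, hx⟩ := hm₁ x'
  refine ⟨x, ?_⟩
  apply (map_bijective_of_isIso (qqHom (𝔭 n) (𝔧 n) M) p).1
  show HH.map (qqHom (𝔭 n) (𝔧 n) M) p (HH.map (qπ (𝔭 n ⊔ 𝔧 n) M) p x) =
    HH.map (qqHom (𝔭 n) (𝔧 n) M) p (HH.map (qTrans (hle.trans hle') M) p y)
  rw [← HH.map_comp_apply, qπ_qqHom, HH.map_comp_apply, hx, ← HH.map_comp_apply]
  have e1 : qTrans h₁ M ≫ qπ (𝔧 n) (Q (𝔭 n) M) =
      qπ (𝔧 n) (Q (𝔭 m₁) M) ≫ Qmap (𝔧 n) (qTrans h₁ M) := (qπ_Qmap _ _).symm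
  rw [e1, HH.map_comp_apply, hx', ← HH.map_comp_apply, ← HH.map_comp_apply]
  have e2 : qqHom (𝔭 m₁) (𝔧 m₂) M ≫ qTrans h₂ (Q (𝔭 m₁) M) ≫ Qmap (𝔧 n) (qTrans h₁ M) =
      qTrans hle' M ≫ qqHom (𝔭 n) (𝔧 n) M := by
    rw [← Category.assoc, qqHom_trans_right, Category.assoc, qqHom_trans_left, ← Category.assoc,
      qTrans_comp]
  rw [e2, HH.map_comp_apply, hy₁, map_qTrans_trans]

section Main

variable [IsNoetherianRing A] [IsNoetherian X] (P : X.Modules → Prop)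
  (hsub : ∀ (𝔞 : Ideal A) (N : X.Modules), P N → P (Sb 𝔞 N))
  (hquot : ∀ (𝔞 : Ideal A) (N : X.Modules), P N → P (Q 𝔞 N))
  (hfin : ∀ N : X.Modules, P N → Coh.IsCoh N → ∀ q : ℕ, Module.Finite A (Coh.HH X N q)) (p : ℕ)

include hsub hfin in
theorem pro_principal (a : A) (M : X.Modules) (hPM : P M) (hM : Coh.IsCoh M) :
    ProK (fun n => (Ideal.span {a}) ^ (n + 1)) M p ∧
      ProC (fun n => (Ideal.span {a}) ^ (n + 1)) M p :=
  ⟨proK_principal p a M hM, proC_principal p a M hM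
    (fun m => hfin _ (hsub _ M hPM) (isCoh_KK a M hM m) (p + 1))⟩

include hsub hquot hfin

theorem pro_span_finset (s : Finset A) : ∀ M : X.Modules, P M → Coh.IsCoh M →
    ProK (fun n => (Ideal.span (s : Set A)) ^ (n + 1)) M p ∧
      ProC (fun n => (Ideal.span (s : Set A)) ^ (n + 1)) M p := by
  classical
  induction s using Finset.induction_on with
  | empty =>
    intro M hPM hM
    have e : Ideal.span ((∅ : Finset A) : Set A) = Ideal.span {(0 : A)} := by simp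
    rw [e]
    exact pro_principal P hsub hfin p 0 M hPM hM
  | insert a s _ ih =>
    intro M hPM hM
    have e : Ideal.span ((insert a s : Finset A) : Set A) =
        Ideal.span {a} ⊔ Ideal.span (s : Set A) := by
      rw [Finset.coe_insert, Ideal.span_insert]
    rw [e]
    obtain ⟨K1, C1⟩ := pro_principal P hsub hfin p a M hPM hM
    have H2 : ∀ n, ProK (fun m => (Ideal.span (s : Set A)) ^ (m + 1))
        (Q ((Ideal.span {a}) ^ (n + 1)) M) p ∧ ProC (fun m => (Ideal.span (s : Set A)) ^ (m + 1))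
        (Q ((Ideal.span {a}) ^ (n + 1)) M) p :=
      fun n => ih _ (hquot _ M hPM) (isCoh_Q _ M hM)
    have h𝔭 : Antitone (fun n => (Ideal.span {a}) ^ (n + 1)) :=
      fun m n h => Ideal.pow_le_pow_right (Nat.succ_le_succ h)
    have h𝔧 : Antitone (fun n => (Ideal.span (s : Set A)) ^ (n + 1)) :=
      fun m n h => Ideal.pow_le_pow_right (Nat.succ_le_succ h)
    have HK := ProK.sup h𝔭 h𝔧 K1 C1 (fun n => (H2 n).1)
    have HC := ProC.sup h𝔭 h𝔧 C1 (fun n => (H2 n).2)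
    have c1 : ∀ n, ∃ m, (Ideal.span {a}) ^ (m + 1) ⊔ (Ideal.span (s : Set A)) ^ (m + 1) ≤
        (Ideal.span {a} ⊔ Ideal.span (s : Set A)) ^ (n + 1) := fun n =>
      ⟨n, sup_le (Ideal.pow_right_mono le_sup_left _) (Ideal.pow_right_mono le_sup_right _)⟩
    have c2 : ∀ n, ∃ m, (Ideal.span {a} ⊔ Ideal.span (s : Set A)) ^ (m + 1) ≤
        (Ideal.span {a}) ^ (n + 1) ⊔ (Ideal.span (s : Set A)) ^ (n + 1) := fun n => by
      refine ⟨2 * n + 1, ?_⟩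
      have : 2 * n + 1 + 1 = (n + 1) + (n + 1) := by ring
      rw [this]
      exact Ideal.sup_pow_add_le_pow_sup_pow
    exact ⟨HK.of_cofinal c1 c2, HC.of_cofinal c1 c2⟩

/-- the pro-isomorphism conditions for the powers of any ideal. -/
theorem pro_of_finite (I : Ideal A) (M : X.Modules) (hPM : P M) (hM : Coh.IsCoh M) :
    ProK (fun n => I ^ (n + 1)) M p ∧ ProC (fun n => I ^ (n + 1)) M p := by
  obtain ⟨s, rfl⟩ := (isNoetherianRing_iff_ideal_fg A).mp inferInstance I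
  exact pro_span_finset P hsub hquot hfin p s M hPM hM

end Main

end Groth.Agent.Lib.helper8.FF
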