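import Mathlib
import Groth.Agent.Lib.Helper8.FormalProInduct

/-!
# Formal functions: the comparison `AdicCompletion I H^p(X, M) ≃ lim_n H^p(X, M / I^(n+1) M)` (helper8)

* `adicCompletion_core` : the abstract algebra.
* `exists_adicCompletion_equiv` : the comparison isomorphism from the pro-isomorphism conditions.
* `nonempty_adicCompletion_equiv_HHlim`, `bijective_toHHlim_of_finite_class` : with a class `P` of
  modules with finite cohomology.
-/

set_option autoImplicit false
universe u v w
open CategoryTheory CategoryTheory.Limits AlgebraicGeometry Opposite TopologicalSpace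

namespace Groth.Agent.Lib.helper8.FF

section Core

variable {A : Type u} [CommRing A] (I : Ideal A) {H : Type v} [AddCommGroup H] [Module A H]

lemma val_eq_mk_of_le (z : AdicCompletion I H) {k m : ℕ} (hkm : k ≤ m) (h : H)
    (hz : z.val m = Submodule.Quotient.mk h) : z.val k = Submodule.Quotient.mk h := by
  have := z.2 hkm
  rw [← this, hz]
  rfl

theorem adicCompletion_core {T : ℕ → Type w} [∀ n, AddCommGroup (T n)] [∀ n, Module A (T n)]
    (c : ∀ n, H →ₗ[A] T n) (τ : ∀ n, T (n + 1) →+ T n)
    (hτ : ∀ n x, τ n (c (n + 1) x) = c n x)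
    (hc : ∀ n x, x ∈ (I ^ (n + 1) • ⊤ : Submodule A H) → c n x = 0)
    (hK : ∀ n, ∃ m, ∀ x, c m x = 0 → x ∈ (I ^ (n + 1) • ⊤ : Submodule A H))
    (hb : ∀ y : ∀ n, T n, (∀ n, τ n (y (n + 1)) = y n) → ∀ n, ∃ h, c n h = y n)
    (L : AddSubgroup (∀ n, T n)) (hL : ∀ y, y ∈ L ↔ ∀ n, τ n (y (n + 1)) = y n) :
    ∃ ψ : AdicCompletion I H →+ L, Function.Bijective ψ ∧
      ∀ (x : H) (n : ℕ), (ψ (AdicCompletion.of I H x)).1 n = c n x := by
  classical
  -- the induced maps on the quotients
  let cbar : ∀ n, (H ⧸ (I ^ (n + 1) • ⊤ : Submodule A H)) →ₗ[A] T n := fun n =>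
    Submodule.liftQ _ (c n) (fun x hx => LinearMap.mem_ker.mpr (hc n x hx))
  have hcbar : ∀ n (h : H), cbar n (Submodule.Quotient.mk h) = c n h := fun n h => rfl
  -- descending
  have hdesc0 : ∀ k m x, c (m + k) x = 0 → c m x = 0 := by
    intro k
    induction k with
    | zero => intro m x h; exact h
    | succ k ih =>
      intro m x h
      apply ih m x
      have h1 := hτ (m + k) x
      have h2 : c (m + k + 1) x = 0 := h
      rw [← h1, h2, map_zero]
  have hcompat : ∀ z : AdicCompletion I H, ∀ n,
      τ n (cbar (n + 1) (z.val (n + 1 + 1))) = cbar n (z.val (n + 1)) := by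
    intro z n
    obtain ⟨h, hh⟩ := Submodule.Quotient.mk_surjective _ (z.val (n + 1 + 1))
    have h1 := val_eq_mk_of_le I z (Nat.le_succ (n + 1)) h hh.symm
    rw [← hh, h1, hcbar, hcbar, hτ]
  let ψ : AdicCompletion I H →+ L :=
    { toFun := fun z => ⟨fun n => cbar n (z.val (n + 1)), (hL _).mpr (hcompat z)⟩
      map_zero' := by
        apply Subtype.ext
        funext n
        show cbar n ((0 : AdicCompletion I H).val (n + 1)) = 0
        rw [AdicCompletion.val_zero_apply, map_zero]
      map_add' := by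
        intro z z'
        apply Subtype.ext
        funext n
        show cbar n ((z + z').val (n + 1)) = cbar n (z.val (n + 1)) + cbar n (z'.val (n + 1))
        rw [AdicCompletion.val_add_apply, map_add] }
  have hψ : ∀ z n, (ψ z).1 n = cbar n (z.val (n + 1)) := fun z n => rfl
  refine ⟨ψ, ⟨?_, ?_⟩, ?_⟩
  · -- injective
    rw [injective_iff_map_eq_zero]
    intro z hz
    have hz' : ∀ n, cbar n (z.val (n + 1)) = 0 := by
      intro n
      rw [← hψ, hz]
      rfl
    have key : ∀ k, z.val (k + 1) = 0 := by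
      intro k
      obtain ⟨m, hm⟩ := hK k
      obtain ⟨h, hh⟩ := Submodule.Quotient.mk_surjective _ (z.val (max m k + 1))
      have h1 : c (max m k) h = 0 := by
        rw [← hcbar, hh]
        exact hz' _
      have h2 : c m h = 0 := by
        obtain ⟨j, hj⟩ := Nat.exists_eq_add_of_le (le_max_left m k)
        rw [hj] at h1
        exact hdesc0 j m h h1
      have h3 := hm h h2
      have h4 := val_eq_mk_of_le I z (show k + 1 ≤ max m k + 1 by omega) h hh.symm
      rw [h4]
      exact (Submodule.Quotient.mk_eq_zero _).mpr h3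
    apply AdicCompletion.ext
    intro k
    rw [AdicCompletion.val_zero_apply]
    obtain ⟨h, hh⟩ := Submodule.Quotient.mk_surjective _ (z.val (k + 1))
    have h1 := val_eq_mk_of_le I z (Nat.le_succ k) h hh.symm
    rw [h1]
    have h2 : (Submodule.Quotient.mk h : H ⧸ (I ^ (k + 1) • ⊤ : Submodule A H)) = 0 := by
      rw [hh]; exact key k
    have h3 := (Submodule.Quotient.mk_eq_zero _).mp h2
    exact (Submodule.Quotient.mk_eq_zero _).mpr
      (Submodule.smul_mono_left (Ideal.pow_le_pow_right (Nat.le_succ k)) h3)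
  · -- surjective
    rintro ⟨y, hy⟩
    have hy' := (hL y).mp hy
    choose h hh using hb y hy'
    choose m hm using hK
    -- compatibility of `y`
    have hydesc : ∀ k n, ∀ x, c (n + k) x = y (n + k) → c n x = y n := by
      intro k
      induction k with
      | zero => intro n x e; exact e
      | succ k ih =>
        intro n x e
        apply ih n x
        have h1 := hτ (n + k) x
        have h2 : c (n + k + 1) x = y (n + k + 1) := e
        rw [← h1, h2, hy']
    have hyle : ∀ i j, j ≤ i → c j (h i) = y j := by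
      intro i j hji
      obtain ⟨k, rfl⟩ := Nat.exists_eq_add_of_le hji
      exact hydesc k j _ (hh _)
    let kk : ℕ → ℕ := fun n => max (m n) n
    let f : ℕ → H := fun n => h (kk n)
    have hdiff : ∀ n i, kk n ≤ i → h i - h (kk n) ∈ (I ^ (n + 1) • ⊤ : Submodule A H) := by
      intro n i hi
      apply hm n
      have e1 := hyle i (m n) ((le_max_left _ _).trans hi)
      have e2 := hyle (kk n) (m n) (le_max_left _ _)
      rw [map_sub, e1, e2, sub_self]
    have hcauchy : ∀ n, f n ≡ f (n + 1) [SMOD (I ^ n • ⊤ : Submodule A H)] := by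
      intro n
      rw [SModEq.sub_mem]
      have d1 := hdiff n (max (kk n) (kk (n + 1))) (le_max_left _ _)
      have d2 := hdiff (n + 1) (max (kk n) (kk (n + 1))) (le_max_right _ _)
      have hle1 : (I ^ (n + 1) • ⊤ : Submodule A H) ≤ I ^ n • ⊤ :=
        Submodule.smul_mono_left (Ideal.pow_le_pow_right (Nat.le_succ n))
      have hle2 : (I ^ (n + 1 + 1) • ⊤ : Submodule A H) ≤ I ^ n • ⊤ :=
        Submodule.smul_mono_left (Ideal.pow_le_pow_right (by omega))
      have : f n - f (n + 1) = (h (max (kk n) (kk (n + 1))) - h (kk (n + 1))) -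
          (h (max (kk n) (kk (n + 1))) - h (kk n)) := by
        show h (kk n) - h (kk (n + 1)) = _
        abel
      rw [this]
      exact Submodule.sub_mem _ (hle2 d2) (hle1 d1)
    refine ⟨AdicCompletion.mk I H (AdicCompletion.AdicCauchySequence.mk I H f hcauchy), ?_⟩
    apply Subtype.ext
    funext n
    show cbar n (Submodule.Quotient.mk (f (n + 1))) = y n
    rw [hcbar]
    exact hyle _ _ (by
      show n ≤ max (m (n + 1)) (n + 1)
      omega)
  · intro x n
    rfl

end Core

open Formal Groth.Agent.Lib.Helper18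

variable {A : Type u} [CommRing A] {X : Scheme.{u}} [X.Over (Spec (CommRingCat.of A))]

/-- the comparison isomorphism from the pro-isomorphism conditions. -/
theorem exists_adicCompletion_equiv (I : Ideal A) (M : X.Modules) (p : ℕ)
    (hK : ProK (fun n => I ^ (n + 1)) M p) (hC : ProC (fun n => I ^ (n + 1)) M p) :
    ∃ ψ : AdicCompletion I (Coh.HH X M p) →+ HHlim I M p, Function.Bijective ψ ∧
      ∀ x : Coh.HH X M p, ψ (AdicCompletion.of I _ x) = toHHlim I M p x := by
  obtain ⟨ψ, hψ, hψ'⟩ := adicCompletion_core I (H := Coh.HH X M p)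
    (T := fun n => HHmodPow I M p n)
    (fun n => HH.mapOver A (qπ (I ^ (n + 1)) M) p) (fun n => HHmodPowTrans I M p n)
    (fun n x => ((toHHlim I M p x).2 n))
    (fun n x hx => map_qπ_eq_zero_of_mem _ M p x hx)
    hK
    (fun y hy n => by
      obtain ⟨m, h, hm⟩ := hC n
      obtain ⟨x, hx⟩ := hm (y m)
      refine ⟨x, ?_⟩
      have := compat_of_HHlim I M p y hy n m h
      exact hx.trans this)
    (HHlim I M p) (fun y => Iff.rfl)
  exact ⟨ψ, hψ, fun x => Subtype.ext (funext (hψ' x))⟩

section Class

variable [IsNoetherianRing A] [IsNoetherian X] (P : X.Modules → Prop)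
  (hsub : ∀ (𝔞 : Ideal A) (N : X.Modules), P N → P (Sb 𝔞 N))
  (hquot : ∀ (𝔞 : Ideal A) (N : X.Modules), P N → P (Q 𝔞 N))
  (hfin : ∀ N : X.Modules, P N → Coh.IsCoh N → ∀ q : ℕ, Module.Finite A (Coh.HH X N q))

include hsub hquot hfin

/-- **Theorem on formal functions** (no completeness assumption), for a class of modules with finite
cohomology. -/
theorem exists_adicCompletion_equiv_of_class (I : Ideal A) (M : X.Modules) (hPM : P M)
    (hM : Coh.IsCoh M) (p : ℕ) :
    ∃ ψ : AdicCompletion I (Coh.HH X M p) →+ HHlim I M p, Function.Bijective ψ ∧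
      ∀ x : Coh.HH X M p, ψ (AdicCompletion.of I _ x) = toHHlim I M p x := by
  obtain ⟨hK, hC⟩ := pro_of_finite P hsub hquot hfin p I M hPM hM
  exact exists_adicCompletion_equiv I M p hK hC

theorem nonempty_adicCompletion_equiv_HHlim (I : Ideal A) (M : X.Modules) (hPM : P M)
    (hM : Coh.IsCoh M) (p : ℕ) :
    Nonempty (AdicCompletion I (Coh.HH X M p) ≃+ HHlim I M p) := by
  obtain ⟨ψ, hψ, -⟩ := exists_adicCompletion_equiv_of_class P hsub hquot hfin I M hPM hM p
  exact ⟨AddEquiv.ofBijective ψ hψ⟩

/-- complete base: the canonical map is bijective. -/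
theorem bijective_toHHlim_of_class (I : Ideal A) [IsAdicComplete I A] (M : X.Modules) (hPM : P M)
    (hM : Coh.IsCoh M) (p : ℕ) : Function.Bijective (toHHlim I M p) := by
  obtain ⟨ψ, hψ, hψ'⟩ := exists_adicCompletion_equiv_of_class P hsub hquot hfin I M hPM hM p
  haveI : Module.Finite A (Coh.HH X M p) := hfin M hPM hM p
  haveI : IsAdicComplete I (Coh.HH X M p) := isAdicComplete_of_finite' _ _
  have h1 : ⇑(toHHlim I M p) = ψ ∘ (AdicCompletion.of I (Coh.HH X M p)) := by
    funext x
    exact (hψ' x).symm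
  rw [h1]
  exact hψ.comp (AdicCompletion.of_bijective I _)

end Class

end Groth.Agent.Lib.helper8.FF
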