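import Mathlib
import Groth.Prelude.Def_Coh
import Groth.Prelude.Def_Formal
import Groth.Agent.Lib.Helper8.FormalBasic

/-!
# Zariski connectedness, part 1: sections of modules killed by a power of the maximal ideal (helper8)

* `exists_glue`: gluing a section on `U₁` vanishing on `U₁ ⊓ U₂` with `0` on `U₂` (abelian sheaves).
* `mem_basicOpen_toGlobal_iff`: `x ∈ X.basicOpen (toGlobal f a) ↔ a ∉ (f x).asIdeal`.
* `eq_zero_of_killed`: if `a ^ n` kills `M` then `M` has no nonzero sections on opens inside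
  the locus where `a` is invertible.
* `eq_zero_of_disjoint_fibre`: for `A` local, `M` killed by a power of the maximal ideal: sections
  on opens disjoint from the closed fibre are zero.
-/

set_option autoImplicit false
universe u
open CategoryTheory CategoryTheory.Limits AlgebraicGeometry Opposite TopologicalSpace

namespace Groth.Agent.Lib.helper8.ZConn

open Formal Groth.Agent.Lib.Helper18 Groth.Agent.Lib.helper8.FF

theorem exists_glue {X : TopCat.{u}} (F : TopCat.Sheaf AddCommGrpCat.{u} X) (U₁ U₂ : Opens X)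
    (hcov : U₁ ⊔ U₂ = ⊤) (s : F.1.obj (op U₁))
    (hs : F.1.map (homOfLE (inf_le_left : U₁ ⊓ U₂ ≤ U₁)).op s = 0) :
    ∃ e : F.1.obj (op ⊤), F.1.map (homOfLE (le_top : U₁ ≤ ⊤)).op e = s ∧
      F.1.map (homOfLE (le_top : U₂ ≤ ⊤)).op e = 0 := by
  let U : Bool → Opens X := fun b => if b then U₁ else U₂
  let sf : ∀ b : Bool, ToType (F.1.obj (op (U b))) := fun b =>
    match b with
    | true => s
    | false => (0 : F.1.obj (op U₂))
  have hcompat : TopCat.Presheaf.IsCompatible F.1 U sf := by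
    rintro (_ | _) (_ | _)
    · rfl
    · show F.1.map _ (0 : F.1.obj (op U₂)) = F.1.map _ s
      rw [map_zero]
      have : F.1.map (Opens.infLERight U₂ U₁).op s =
          F.1.map (homOfLE (by rw [inf_comm] : U₂ ⊓ U₁ ≤ U₁ ⊓ U₂)).op
            (F.1.map (homOfLE (inf_le_left : U₁ ⊓ U₂ ≤ U₁)).op s) := by
        rw [← ConcreteCategory.comp_apply, ← F.1.map_comp]
        rfl
      exact (this.trans (by rw [hs, map_zero])).symm
    · show F.1.map _ s = F.1.map _ (0 : F.1.obj (op U₂))
      rw [map_zero]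
      exact hs
    · rfl
  obtain ⟨e, he, -⟩ := F.existsUnique_gluing' U ⊤ (fun b => homOfLE le_top) (by
    rw [← hcov]
    exact sup_le (le_iSup U true) (le_iSup U false)) sf hcompat
  exact ⟨e, he true, he false⟩

section Basic

variable {A : Type u} [CommRing A] {X : Scheme.{u}} (f : X ⟶ Spec (CommRingCat.of A))

theorem mem_basicOpen_toGlobal_iff (a : A) (x : X) :
    x ∈ X.basicOpen (Coh.toGlobal f a) ↔ a ∉ (f x).asIdeal := by
  have h1 : X.basicOpen (Coh.toGlobal f a) =
      f ⁻¹ᵁ ((Spec (CommRingCat.of A)).basicOpen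
        ((Scheme.ΓSpecIso (CommRingCat.of A)).inv.hom a)) := by
    rw [Scheme.preimage_basicOpen_top]
    rfl
  rw [h1, basicOpen_eq_of_affine]
  rfl

end Basic

section Unit

variable {X : Scheme.{u}}

theorem isUnit_resTop (r : Coh.Γtop X) (W : X.Opens) (hW : W ≤ X.basicOpen r) :
    IsUnit (Coh.resTop X (op W) r) := by
  have h1 : IsUnit ((X.presheaf.map (homOfLE (X.basicOpen_le r)).op).hom r) :=
    X.toRingedSpace.isUnit_res_basicOpen (U := ⊤) r
  have h2 := h1.map (X.presheaf.map (homOfLE hW).op).hom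
  have h3 : (X.presheaf.map (homOfLE hW).op).hom ((X.presheaf.map (homOfLE (X.basicOpen_le r)).op).hom r)
      = (X.presheaf.map (homOfLE (le_top : W ≤ ⊤)).op).hom r := by
    rw [← CommRingCat.comp_apply, ← X.presheaf.map_comp]
    rfl
  rw [h3] at h2
  exact h2

end Unit

section Killed

variable {A : Type u} [CommRing A] {X : Scheme.{u}} [X.Over (Spec (CommRingCat.of A))]

lemma smulMod_app (M : X.Modules) (a : A) (W : (Opens X)ᵒᵖ) (t : M.val.obj W) :
    ((smulMod A M a).val.app W).hom t =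
      Coh.resTop X W (Coh.toGlobal (X ↘ Spec (CommRingCat.of A)) a) • t := rfl

theorem eq_zero_of_killed (M : X.Modules) (a : A) (n : ℕ) (h : smulMod A M (a ^ n) = 0)
    (W : X.Opens) (hW : W ≤ X.basicOpen (Coh.toGlobal (X ↘ Spec (CommRingCat.of A)) a))
    (t : M.val.obj (op W)) : t = 0 := by
  have hu : IsUnit (Coh.resTop X (op W) (Coh.toGlobal (X ↘ Spec (CommRingCat.of A)) (a ^ n))) := by
    rw [map_pow, map_pow]
    exact (isUnit_resTop _ W hW).pow n
  have h0 : Coh.resTop X (op W) (Coh.toGlobal (X ↘ Spec (CommRingCat.of A)) (a ^ n)) • t = 0 := by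
    rw [← smulMod_app, h]
    rfl
  obtain ⟨u, hu⟩ := hu
  rw [← hu] at h0
  have := congrArg (fun z => (↑u⁻¹ : X.ringCatSheaf.obj.obj (op W)) • z) h0
  simpa [smul_smul] using this

variable [IsLocalRing A]

theorem eq_zero_of_disjoint_fibre (M : X.Modules) (n : ℕ)
    (hM : KilledBy (IsLocalRing.maximalIdeal A ^ n) M) (W : X.Opens)
    (hW : ∀ x ∈ W, (X ↘ Spec (CommRingCat.of A)) x ≠ IsLocalRing.closedPoint A)
    (t : M.val.obj (op W)) : t = 0 := by
  let U : IsLocalRing.maximalIdeal A → X.Opens := fun a =>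
    W ⊓ X.basicOpen (Coh.toGlobal (X ↘ Spec (CommRingCat.of A)) (a : A))
  have hcover : W ≤ iSup U := by
    intro x hx
    have hne := hW x hx
    obtain ⟨a, ha, hax⟩ : ∃ a ∈ IsLocalRing.maximalIdeal A,
        a ∉ ((X ↘ Spec (CommRingCat.of A)) x).asIdeal := by
      by_contra hcon
      push Not at hcon
      apply hne
      apply PrimeSpectrum.ext
      have hle : IsLocalRing.maximalIdeal A ≤ ((X ↘ Spec (CommRingCat.of A)) x).asIdeal :=
        fun a ha => hcon a ha
      exact ((IsLocalRing.maximalIdeal.isMaximal A).eq_of_le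
        ((X ↘ Spec (CommRingCat.of A)) x).isPrime.ne_top hle).symm
    have hxa : x ∈ U ⟨a, ha⟩ :=
      ⟨hx, (mem_basicOpen_toGlobal_iff (X ↘ Spec (CommRingCat.of A)) a x).mpr hax⟩
    exact Opens.mem_iSup.mpr ⟨⟨a, ha⟩, hxa⟩
  refine TopCat.Sheaf.eq_of_locally_eq' (Coh.toAb M) U W (fun a => homOfLE inf_le_left) hcover
    (t : (Coh.toAb M).1.obj (op W)) 0 (fun a => ?_)
  rw [map_zero]
  exact eq_zero_of_killed M (a : A) n (hM _ (Ideal.pow_mem_pow a.2 n)) (U a) inf_le_right _

end Killed

end Groth.Agent.Lib.helper8.ZConn
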