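import Mathlib
import Groth.Agent.Lib.Helper21.RpushQCohAffine

set_option autoImplicit false
universe u
open CategoryTheory CategoryTheory.Limits Opposite TopologicalSpace AlgebraicGeometry

namespace Groth.Agent.Lib.helper8.RpushSecLin

open Groth.Agent.Lib.helper21.RpushSections Groth.Agent.Lib.helper21.RpushQCohAffine
open Groth.Agent.Lib.helper21 Groth.Agent.Lib.helper27

section top

variable {T : TopCat.{u}} {F G : CohTop.Ab T}

lemma HEquivHU_natural (φ : F ⟶ G) (n : ℕ) (x : CohTop.HU F n ⊤) :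
    SerreVan.HEquivHU G n (CohTop.HUmap φ n ⊤ x) = Sheaf.H.map φ n (SerreVan.HEquivHU F n x) := by
  show (Abelian.Ext.mk₀ _).comp (Abelian.Ext.comp x (Abelian.Ext.mk₀ φ) (add_zero n)) (zero_add n) =
    Abelian.Ext.comp ((Abelian.Ext.mk₀ _).comp x (zero_add n)) (Abelian.Ext.mk₀ φ) (add_zero n)
  rw [Abelian.Ext.comp_assoc_of_third_deg_zero]

end top

variable {X S : Scheme.{u}} (f : X ⟶ S) (M : X.Modules) (q : ℕ)
  [HasInjectiveResolutions X.Modules] [QuasiCompact f] [QuasiSeparated f] [IsAffine S]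
  [M.IsQuasicoherent]

/-- **Sections of `R^q f_* M` over an affine base**: a bijection `Γ(S, R^q f_* M) ≃+ H^q(X, M)`,
semilinear with respect to `f^♯ : Γ(S, ⊤) → Γ(X, ⊤)`. -/
theorem exists_sectionsEquiv :
    ∃ e : (Coh.toAb ((Coh.Rpush f q).obj M)).obj.obj (op ⊤) ≃+ Coh.HH X M q,
      ∀ (a : Γ(S, ⊤)) (x : (Coh.toAb ((Coh.Rpush f q).obj M)).obj.obj (op ⊤)),
        e ((Coh.smulAb ((Coh.Rpush f q).obj M) a).hom.app (op ⊤) x) = φ f a • e x := by
  obtain ⟨Θ⟩ := RpushTheta.nonempty_theta f q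
  let e1 := thetaEquiv f M q Θ ⊤
  let e2 : (P f M q).obj (op (⊤ : Opens S)) ≃+
      (sheafify (Opens.grothendieckTopology S) (P f M q)).obj (op (⊤ : Opens S)) :=
    AddEquiv.ofBijective _ (bijective_toSheafify_P_top f M q)
  let e3 : CohTop.HU (Coh.toAb M) q ⊤ ≃+ Coh.HH X M q := SerreVan.HEquivHU (Coh.toAb M) q
  refine ⟨e1.trans (e2.symm.trans e3), fun a x => ?_⟩
  show e3 (e2.symm (e1 _)) = φ f a • e3 (e2.symm (e1 x))
  have h1 : e1 ((Coh.smulAb ((Coh.Rpush f q).obj M) a).hom.app (op ⊤) x) =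
      ((sheafifyMap (Opens.grothendieckTopology S) (m f M q a)).app (op ⊤)).hom (e1 x) :=
    theta_smul_apply f M q Θ a ⊤ x
  rw [h1]
  have h2 : ∀ z, e2.symm (((sheafifyMap (Opens.grothendieckTopology S) (m f M q a)).app
      (op ⊤)).hom z) = ((m f M q a).app (op ⊤)).hom (e2.symm z) := by
    intro z
    apply e2.injective
    rw [AddEquiv.apply_symm_apply]
    have := toSheafify_naturality (Opens.grothendieckTopology S) (m f M q a)
    have h3 := ConcreteCategory.congr_hom (congrArg (fun t => t.app (op (⊤ : Opens S))) this)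
      (e2.symm z)
    refine Eq.trans ?_ h3.symm
    show _ = ((sheafifyMap (Opens.grothendieckTopology S) (m f M q a)).app (op ⊤)).hom
      (e2 (e2.symm z))
    rw [AddEquiv.apply_symm_apply]
  rw [h2]
  exact HEquivHU_natural (Coh.smulAb M (φ f a)) q _

end Groth.Agent.Lib.helper8.RpushSecLin
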