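import Mathlib

set_option autoImplicit false
universe u
open CategoryTheory CategoryTheory.Limits Opposite TopologicalSpace AlgebraicGeometry

namespace Groth.Agent.Lib.helper8.StalkBC

variable {X Y : Scheme.{u}} (f : X ⟶ Y) (y : Y) {V : Y.Opens} (hV : IsAffineOpen V) (hy : y ∈ V)
  {X₁ : Scheme.{u}} (p₁ : X₁ ⟶ Spec (CommRingCat.of (Y.presheaf.stalk y))) (g : X₁ ⟶ X)
  (hsq : IsPullback g p₁ f (Y.fromSpecStalk y))

include hsq hy hV in
theorem range_g_subset : Set.range g ⊆ Set.range (f ⁻¹ᵁ V).ι := by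
  rintro _ ⟨x, rfl⟩
  rw [Scheme.Opens.range_ι]
  show f (g x) ∈ V
  have h1 : f (g x) = Y.fromSpecStalk y (p₁ x) := by
    rw [← Scheme.Hom.comp_apply, ← Scheme.Hom.comp_apply, hsq.w]
  rw [h1, ← hV.fromSpecStalk_eq_fromSpecStalk hy, IsAffineOpen.fromSpecStalk,
    Scheme.Hom.comp_apply]
  have h2 : hV.fromSpec (Spec.map (Y.presheaf.germ V y hy) (p₁ x)) ∈ Set.range hV.fromSpec :=
    Set.mem_range_self _
  rw [hV.range_fromSpec] at h2
  exact h2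

/-- the lift of `g : X₁ ⟶ X` to `f⁻¹V` -/
noncomputable def gU : X₁ ⟶ ↑(f ⁻¹ᵁ V) :=
  IsOpenImmersion.lift (f ⁻¹ᵁ V).ι g (range_g_subset f y hV hy p₁ g hsq)

@[reassoc]
theorem gU_ι : gU f y hV hy p₁ g hsq ≫ (f ⁻¹ᵁ V).ι = g := IsOpenImmersion.lift_fac _ _ _

/-- `f⁻¹V → V ≅ Spec Γ(Y, V)` -/
noncomputable def fU : ↑(f ⁻¹ᵁ V) ⟶ Spec (CommRingCat.of Γ(Y, V)) :=
  (f ∣_ V) ≫ hV.isoSpec.hom

include hsq in
theorem isPullback_gU_restrict :
    IsPullback (gU f y hV hy p₁ g hsq) p₁ (f ∣_ V)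
      (Spec.map (Y.presheaf.germ V y hy) ≫ hV.isoSpec.inv) := by
  have hR := isPullback_morphismRestrict f V
  have hσ : (Spec.map (Y.presheaf.germ V y hy) ≫ hV.isoSpec.inv) ≫ V.ι = Y.fromSpecStalk y := by
    rw [Category.assoc, IsAffineOpen.isoSpec_inv_ι, ← hV.fromSpecStalk_eq_fromSpecStalk hy]
    rfl
  refine IsPullback.of_right ?_ ?_ hR.flip
  · rw [gU_ι, hσ]
    exact hsq
  · apply (cancel_mono V.ι).mp
    rw [Category.assoc, Category.assoc, hσ, hR.w, gU_ι_assoc]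
    exact hsq.w

include hsq in
theorem isPullback_gU :
    IsPullback (gU f y hV hy p₁ g hsq) p₁ (fU f hV)
      (Spec.map (Y.presheaf.germ V y hy)) := by
  refine IsPullback.of_iso (isPullback_gU_restrict f y hV hy p₁ g hsq) (Iso.refl _) (Iso.refl _)
    (Iso.refl _) hV.isoSpec ?_ ?_ ?_ ?_
  · simp
  · simp
  · simp [fU]
  · simp

include hsq in
/-- variant over `Spec Γ(↑V, ⊤)` -/
theorem isPullback_gU' (hy' : y ∈ V.ι ''ᵁ ⊤) :
    haveI : IsAffine ↑V := hV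
    IsPullback (gU f y hV hy p₁ g hsq) p₁ ((f ∣_ V) ≫ (↑V : Scheme.{u}).isoSpec.hom)
      (Spec.map (Y.presheaf.germ (V.ι ''ᵁ ⊤) y hy')) := by
  haveI : IsAffine ↑V := hV
  have e : (Spec.map (Y.presheaf.germ V y hy) ≫ hV.isoSpec.inv) ≫
      (↑V : Scheme.{u}).isoSpec.hom = Spec.map (Y.presheaf.germ (V.ι ''ᵁ ⊤) y hy') := by
    rw [IsAffineOpen.isoSpec_inv]
    simp only [Category.assoc, Iso.inv_hom_id, Category.comp_id]
    rw [← Spec.map_comp]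
    congr 1
    exact Y.presheaf.germ_res (eqToHom V.ι_image_top.symm) y hy
  refine IsPullback.of_iso (isPullback_gU_restrict f y hV hy p₁ g hsq) (Iso.refl _) (Iso.refl _)
    (Iso.refl _) (↑V : Scheme.{u}).isoSpec ?_ ?_ ?_ ?_
  · simp
  · simp
  · simp
  · rw [e]
    simp only [Iso.refl_hom, Category.id_comp]
    rfl

end Groth.Agent.Lib.helper8.StalkBC
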