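import Mathlib
import Groth.Prelude.Def_Coh
import Groth.Prelude.Def_FlatMod2
import Groth.Agent.Lib.Helper8.FlatCohBC4
import Groth.Agent.Lib.Helper8.RpushSecLin
import Groth.Agent.Lib.Helper8.StalkBC1
import Groth.Agent.Lib.Helper21.ModOpenBC2
import Groth.Agent.Lib.Helper16.CohStalk
import Groth.Agent.Lib.Helper16.QCohPullback2
import Groth.Agent.Lib.Helper18.HHSum

set_option autoImplicit false
universe u
open CategoryTheory CategoryTheory.Limits Opposite TopologicalSpace AlgebraicGeometry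

namespace Groth.Agent.Lib.helper8.StalkBC

open Groth.Agent.Lib.helper8.PullbackUnit Groth.Agent.Lib.helper16.CohStalk

section StalkBC

variable {Y : Scheme.{u}} (G : Y.Modules) [G.IsQuasicoherent] {W : Y.Opens} (hW : IsAffineOpen W)
  (y : Y) (hy : y ∈ W)

include hW in
/-- the stalk of a quasi-coherent module at a point of an affine open `W` is the base change of the
sections over `W` along `Γ(Y, W) → O_{Y,y}` -/
theorem isBC_germ :
    IsBC (Y.presheaf.germ W y hy).hom (G.presheaf.germ W y hy).hom := by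
  letI := TopCat.Presheaf.algebra_section_stalk Y.presheaf (⟨y, hy⟩ : W)
  letI := modStalk G y hy
  haveI := isScalarTower_stalk G y hy
  haveI : IsLocalization.AtPrime (Y.presheaf.stalk y) (hW.primeIdealOf ⟨y, hy⟩).asIdeal :=
    hW.isLocalization_stalk ⟨y, hy⟩
  haveI := isLocalizedModule_stalk G hW y hy
  have h1 : IsBaseChange (Y.presheaf.stalk y) (germLin G y hy) :=
    IsLocalizedModule.isBaseChange (hW.primeIdealOf ⟨y, hy⟩).asIdeal.primeCompl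
      (Y.presheaf.stalk y) (germLin G y hy)
  exact IsBC.of_isBaseChange (germLin G y hy) h1

end StalkBC

section Sections

open Groth.Agent.Lib.helper21

variable {X Y : Scheme.{u}} (f : X ⟶ Y) [QuasiCompact f] [QuasiSeparated f]
  [HasInjectiveResolutions X.Modules] (F : X.Modules) [F.IsQuasicoherent] (p : ℕ)
  {V : Y.Opens} (hV : IsAffineOpen V)

include hV in
theorem exists_sections_equiv :
    ∃ ε : Γ((Coh.Rpush f p).obj F, V.ι ''ᵁ ⊤) ≃+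
        Coh.HH ↑(f ⁻¹ᵁ V) (F.restrict (f ⁻¹ᵁ V).ι) p,
      ∀ (r : Γ(Y, V.ι ''ᵁ ⊤)) (x : Γ((Coh.Rpush f p).obj F, V.ι ''ᵁ ⊤)),
        ε (r • x) = (RpushSections.φ (f ∣_ V) r) • ε x := by
  haveI : IsAffine ↑V := hV
  haveI : QuasiCompact (f ∣_ V) :=
    MorphismProperty.of_isPullback (isPullback_morphismRestrict f V).flip inferInstance
  haveI : QuasiSeparated (f ∣_ V) :=
    MorphismProperty.of_isPullback (isPullback_morphismRestrict f V).flip inferInstance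
  obtain ⟨iso1⟩ := ModOpenBC.nonempty_restrict_rpush_iso f V F p
  obtain ⟨e, he⟩ := RpushSecLin.exists_sectionsEquiv (f ∣_ V) (F.restrict (f ⁻¹ᵁ V).ι) p
  let s : Γ((Coh.Rpush f p).obj F, V.ι ''ᵁ ⊤) ≃+
      Γ((Coh.Rpush (f ∣_ V) p).obj (F.restrict (f ⁻¹ᵁ V).ι), ⊤) :=
    (asIso (iso1.hom.app ⊤)).addCommGroupIsoToAddEquiv
  refine ⟨s.trans e, fun r x => ?_⟩
  show e (s (r • x)) = _ • e (s x)
  have h1 : s (r • x) = (Coh.smulAb ((Coh.Rpush (f ∣_ V) p).obj (F.restrict (f ⁻¹ᵁ V).ι)) r).hom.app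
      (op ⊤) (s x) := by
    rw [Coh.smulAb_app]
    have h2 : Coh.resTop (↑V : Scheme.{u}) (op (⊤ : (↑V : Scheme.{u}).Opens)) r = r := by
      show ((↑V : Scheme.{u}).ringCatSheaf.obj.map (𝟙 (op (⊤ : (↑V : Scheme.{u}).Opens)))).hom r = r
      rw [CategoryTheory.Functor.map_id]
      rfl
    rw [h2]
    have h3 := Scheme.Modules.Hom.app_smul iso1.hom (U := ⊤) r x
    refine Eq.trans ?_ h3
    show (iso1.hom.app ⊤).hom (r • x) = (iso1.hom.app ⊤).hom _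
    congr 1
    have h4 := Scheme.Modules.smul_restrictAppIso_hom_apply V.ι ((Coh.Rpush f p).obj F) ⊤ r x
    have h5 : (ConcreteCategory.hom (Scheme.Hom.appIso V.ι ⊤).inv) r = r := by
      rw [Scheme.Opens.ι_appIso]
      rfl
    rw [h5] at h4
    exact h4.symm
  rw [h1]
  exact he r (s x)

end Sections

section Main

open Groth.Agent.Lib.helper21 Groth.Agent.Lib.Helper18 Groth.Agent.Lib.helper8.FlatCohBC

variable {X Y : Scheme.{u}} (f : X ⟶ Y) [QuasiCompact f] [QuasiSeparated f]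
  [HasInjectiveResolutions X.Modules] (F : X.Modules) [F.IsQuasicoherent] (p : ℕ)
  (hG : ((Coh.Rpush f p).obj F).IsQuasicoherent)
  (y : Y) {X₁ : Scheme.{u}} [X₁.Over (Spec (CommRingCat.of (Y.presheaf.stalk y)))] (g : X₁ ⟶ X)
  (hsq : IsPullback g (X₁ ↘ Spec (CommRingCat.of (Y.presheaf.stalk y))) f (Y.fromSpecStalk y))

include hG hsq in
/-- **Stalk formula**: `(R^p f_* F)_y ≃ H^p(X ×_Y Spec O_{Y,y}, g^* F)`, `O_{Y,y}`-linearly. -/
theorem exists_stalk_equiv :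
    ∃ e : ((Coh.Rpush f p).obj F).presheaf.stalk y ≃+
        Coh.HH X₁ ((Scheme.Modules.pullback g).obj F) p,
      ∀ (b : Y.presheaf.stalk y) (x : ((Coh.Rpush f p).obj F).presheaf.stalk y),
        e (b • x) = b • e x := by
  obtain ⟨V, hV, hy⟩ : ∃ V : Y.Opens, IsAffineOpen V ∧ y ∈ V := by
    obtain ⟨_, ⟨V, hV : IsAffineOpen V, rfl⟩, hy, -⟩ :=
      Y.isBasis_affineOpens.exists_subset_of_mem_open (Set.mem_univ y) isOpen_univ
    exact ⟨V, hV, hy⟩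
  have hV' : IsAffineOpen (V.ι ''ᵁ ⊤) := by rw [V.ι_image_top]; exact hV
  have hy' : y ∈ V.ι ''ᵁ ⊤ := by rw [V.ι_image_top]; exact hy
  letI : Algebra Γ(Y, V.ι ''ᵁ ⊤) (Y.presheaf.stalk y) :=
    (Y.presheaf.germ (V.ι ''ᵁ ⊤) y hy').hom.toAlgebra
  haveI : IsLocalization.AtPrime (Y.presheaf.stalk y) (hV'.primeIdealOf ⟨y, hy'⟩).asIdeal :=
    hV'.isLocalization_stalk ⟨y, hy'⟩
  haveI : Module.Flat Γ(Y, V.ι ''ᵁ ⊤) (Y.presheaf.stalk y) :=
    IsLocalization.flat _ (hV'.primeIdealOf ⟨y, hy'⟩).asIdeal.primeCompl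
  haveI : IsAffine ↑V := hV
  letI ovU : (↑(f ⁻¹ᵁ V) : Scheme.{u}).Over (Spec (CommRingCat.of Γ(Y, V.ι ''ᵁ ⊤))) :=
    ⟨(f ∣_ V) ≫ (↑V : Scheme.{u}).isoSpec.hom⟩
  have hpb : IsPullback (gU f y hV hy (X₁ ↘ Spec (CommRingCat.of (Y.presheaf.stalk y))) g hsq)
      (X₁ ↘ Spec (CommRingCat.of (Y.presheaf.stalk y)))
      ((↑(f ⁻¹ᵁ V) : Scheme.{u}) ↘ Spec (CommRingCat.of Γ(Y, V.ι ''ᵁ ⊤)))
      (Spec.map (CommRingCat.ofHom (algebraMap Γ(Y, V.ι ''ᵁ ⊤) (Y.presheaf.stalk y)))) :=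
    isPullback_gU' f y hV hy (X₁ ↘ Spec (CommRingCat.of (Y.presheaf.stalk y))) g hsq hy'
  haveI : CompactSpace ↥(↑(f ⁻¹ᵁ V) : Scheme.{u}) :=
    isCompact_iff_compactSpace.mp
      (QuasiCompact.isCompact_preimage (f := f) _ V.isOpen hV.isCompact)
  haveI : QuasiSeparatedSpace ↥(↑(f ⁻¹ᵁ V) : Scheme.{u}) :=
    (isQuasiSeparated_iff_quasiSeparatedSpace _ (f ⁻¹ᵁ V).isOpen).mp
      (f.isQuasiSeparated_preimage hV.isQuasiSeparated)
  obtain ⟨k₂, hk₂⟩ := exists_isBC Γ(Y, V.ι ''ᵁ ⊤) (Y.presheaf.stalk y) ↑(f ⁻¹ᵁ V) X₁ _ hpb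
    (F.restrict (f ⁻¹ᵁ V).ι) p
  have hk₁ := isBC_germ ((Coh.Rpush f p).obj F) hV' y hy'
  obtain ⟨ε, hε⟩ := exists_sections_equiv f F p hV
  have hφ : ∀ r : Γ(Y, V.ι ''ᵁ ⊤), RpushSections.φ (f ∣_ V) r =
      Coh.toGlobal ((↑(f ⁻¹ᵁ V) : Scheme.{u}) ↘ Spec (CommRingCat.of Γ(Y, V.ι ''ᵁ ⊤))) r := by
    intro r
    have h1 : (Scheme.ΓSpecIso (CommRingCat.of Γ(Y, V.ι ''ᵁ ⊤))).inv ≫
        ((f ∣_ V) ≫ (↑V : Scheme.{u}).isoSpec.hom).appTop = (f ∣_ V).appTop := by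
      rw [Scheme.Hom.comp_appTop, Scheme.isoSpec_hom, Scheme.toSpecΓ_appTop]
      exact Iso.inv_hom_id_assoc _ _
    exact (congr($(h1).hom r)).symm
  let εL : Γ((Coh.Rpush f p).obj F, V.ι ''ᵁ ⊤) ≃ₗ[Γ(Y, V.ι ''ᵁ ⊤)]
      Coh.HH ↑(f ⁻¹ᵁ V) (F.restrict (f ⁻¹ᵁ V).ι) p :=
    { ε with
      map_smul' := fun r x => by
        show ε (r • x) = r • ε x
        rw [hε, hφ]
        rfl }
  have hk₂' : IsBC (algebraMap Γ(Y, V.ι ''ᵁ ⊤) (Y.presheaf.stalk y))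
      (k₂.comp ε.toAddMonoidHom) :=
    hk₂.of_equiv εL (LinearEquiv.refl _ _) _ (fun n => rfl)
  obtain ⟨w, hw, -⟩ := hk₁.existsUnique_lift _ (k₂.comp ε.toAddMonoidHom) hk₂'.map_smul
  have hbij := hk₁.bijective_of_comp hk₂' w hw
  let iso : (Scheme.Modules.pullback
        (gU f y hV hy (X₁ ↘ Spec (CommRingCat.of (Y.presheaf.stalk y))) g hsq)).obj
        (F.restrict (f ⁻¹ᵁ V).ι) ≅ (Scheme.Modules.pullback g).obj F :=
    (Scheme.Modules.pullback _).mapIso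
        ((Scheme.Modules.restrictFunctorIsoPullback (f ⁻¹ᵁ V).ι).app F) ≪≫
      (Scheme.Modules.pullbackComp _ (f ⁻¹ᵁ V).ι).app F ≪≫
      (Scheme.Modules.pullbackCongr
        (gU_ι f y hV hy (X₁ ↘ Spec (CommRingCat.of (Y.presheaf.stalk y))) g hsq)).app F
  let e3 := HH.isoEquivOver (Y.presheaf.stalk y) iso p
  refine ⟨((LinearEquiv.ofBijective w hbij).trans e3).toAddEquiv, fun b x => ?_⟩
  exact ((LinearEquiv.ofBijective w hbij).trans e3).map_smul b x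

end Main

end Groth.Agent.Lib.helper8.StalkBC
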