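import Mathlib
import Groth.Agent.Lib.Helper27.CechSpec
import Groth.Agent.Lib.Helper7.QCohExtend

/-!
# Čech acyclicity on quasi-compact quasi-separated schemes for a "partition of unity" covering
(helper8)

* `exactAt_transfer`: transfer of exactness of Čech complexes along termwise isomorphisms compatible
  with the face maps (two different categories / families / presheaves).
* `μ`, `isLoc`: for a quasi-coherent module `M` on a qcqs scheme `Y`, the action of `Γ(Y, ⊤)` on
  `M.presheaf` is localizing with respect to `Y.basicOpen` (helper27's `CechAffine.IsLoc`).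
* `exactAt_of_span_eq_top`: Čech acyclicity for `Y.basicOpen (f i)` when the `f i` generate the unit
  ideal of `Γ(Y, ⊤)`.
-/

set_option autoImplicit false
set_option linter.unusedVariables false
set_option linter.unusedSectionVars false

universe u

open CategoryTheory Limits Opposite TopologicalSpace AlgebraicGeometry

namespace Groth.Agent.Lib.helper8.CechQcqs

open Groth.Agent.Lib.helper27 Groth.Agent.Lib.helper7

section transfer

theorem exactAt_iff_forall (K : CochainComplex AddCommGrpCat.{u} ℕ) (n : ℕ) :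
    K.ExactAt (n + 1) ↔
      ∀ x : K.X (n + 1), K.d (n + 1) (n + 2) x = 0 → ∃ y, K.d n (n + 1) y = x := by
  rw [HomologicalComplex.exactAt_iff' K n (n + 1) (n + 2) (by simp) (by simp),
    ShortComplex.ab_exact_iff]
  rfl

variable {D₁ D₂ : Type u} [SmallCategory D₁] [SmallCategory D₂] [HasFiniteProducts D₁]
  [HasFiniteProducts D₂] {ι : Type u} (U₁ : ι → D₁) (U₂ : ι → D₂)
  (Q₁ : D₁ᵒᵖ ⥤ AddCommGrpCat.{u}) (Q₂ : D₂ᵒᵖ ⥤ AddCommGrpCat.{u})

/-- Transfer of Čech exactness along termwise isomorphisms compatible with the faces. -/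
theorem exactAt_transfer
    (e : ∀ (n : ℕ) (a : Fin (n + 1) → ι), Cech.Z U₁ Q₁ n a ≅ Cech.Z U₂ Q₂ n a)
    (he : ∀ (n : ℕ) (b : Fin (n + 2) → ι) (i : Fin (n + 2)),
      Q₁.map (Cech.face U₁ b i).op ≫ (e (n + 1) b).hom =
        (e n (b ∘ Fin.succAbove i)).hom ≫ Q₂.map (Cech.face U₂ b i).op)
    (p : ℕ) (h₂ : ((cechComplexFunctor U₂).obj Q₂).ExactAt (p + 1)) :
    ((cechComplexFunctor U₁).obj Q₁).ExactAt (p + 1) := by
  let E : ∀ n, (∏ᶜ Cech.Z U₁ Q₁ n : AddCommGrpCat.{u}) ⟶ ∏ᶜ Cech.Z U₂ Q₂ n :=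
    fun n => Limits.Pi.map (fun a => (e n a).hom)
  have hE : ∀ n, IsIso (E n) := fun n => by dsimp only [E]; infer_instance
  have hδ : ∀ n (i : Fin (n + 2)),
      Cech.δ' U₁ Q₁ n i ≫ E (n + 1) = E n ≫ Cech.δ' U₂ Q₂ n i := by
    intro n i
    apply Limits.Pi.hom_ext
    intro b
    simp only [E, Cech.δ', Category.assoc, Limits.Pi.map_π, Limits.Pi.lift_π,
      Limits.Pi.lift_π_assoc, Limits.Pi.map_π_assoc]
    rw [he]
  have hd : ∀ n, Cech.d' U₁ Q₁ n ≫ E (n + 1) = E n ≫ Cech.d' U₂ Q₂ n := by
    intro n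
    rw [Cech.d'_eq, Cech.d'_eq, Preadditive.sum_comp, Preadditive.comp_sum]
    refine Finset.sum_congr rfl (fun i _ => ?_)
    rw [Preadditive.zsmul_comp, Preadditive.comp_zsmul, hδ]
  rw [exactAt_iff_forall] at h₂ ⊢
  intro x hx
  have h1 : Cech.d' U₂ Q₂ (p + 1) (E (p + 1) x) = 0 := by
    have := ConcreteCategory.congr_hom (hd (p + 1)) x
    rw [ConcreteCategory.comp_apply, ConcreteCategory.comp_apply] at this
    rw [← this]
    have hx' : Cech.d' U₁ Q₁ (p + 1) x = 0 := hx
    rw [hx', map_zero]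
  obtain ⟨y', hy'⟩ := h₂ (E (p + 1) x) h1
  haveI := hE p
  haveI := hE (p + 1)
  refine ⟨inv (E p) y', ?_⟩
  have hinj : Function.Injective (E (p + 1)) := by
    intro z z' hz
    have h1 := ConcreteCategory.congr_hom (IsIso.hom_inv_id (E (p + 1))) z
    have h2 := ConcreteCategory.congr_hom (IsIso.hom_inv_id (E (p + 1))) z'
    rw [ConcreteCategory.comp_apply] at h1 h2
    rw [hz] at h1
    exact (h1.symm.trans h2)
  apply hinj
  have h3 := ConcreteCategory.congr_hom (hd p) (inv (E p) y')
  rw [ConcreteCategory.comp_apply, ConcreteCategory.comp_apply] at h3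
  have h4 : E p (inv (E p) y') = y' := by
    have := ConcreteCategory.congr_hom (IsIso.inv_hom_id (E p)) y'
    rw [ConcreteCategory.comp_apply] at this
    exact this
  show E (p + 1) (Cech.d' U₁ Q₁ p (inv (E p) y')) = E (p + 1) x
  rw [h3, h4]
  exact hy'

end transfer

section qcqs

variable {Y : Scheme.{u}} (M : Y.Modules)

lemma res_map (r : Γ(Y, ⊤)) {U V : (Opens Y)ᵒᵖ} (i : U ⟶ V) :
    Y.presheaf.map i (res r U.unop) = res r V.unop := by
  unfold res
  rw [← ConcreteCategory.comp_apply, ← Functor.map_comp]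
  rfl

/-- multiplication by a global function on the abelian presheaf underlying a module -/
noncomputable def μ₀ (r : Γ(Y, ⊤)) : M.presheaf ⟶ M.presheaf where
  app U := AddCommGrpCat.ofHom (DistribSMul.toAddMonoidHom Γ(M, U.unop) (res r U.unop))
  naturality U V i := by
    obtain ⟨U⟩ := U
    obtain ⟨V⟩ := V
    ext (x : Γ(M, U))
    show res r V • (M.presheaf.map i x : Γ(M, V)) = M.presheaf.map i (res r U • x)
    have := Scheme.Modules.map_smul M i.unop (res r U) x
    rw [← res_map r i]
    exact this.symm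

lemma μ₀_app_apply (r : Γ(Y, ⊤)) (U : Y.Opens) (x : Γ(M, U)) :
    (μ₀ M r).app (op U) x = res r U • x := rfl

/-- the action of `Γ(Y, ⊤)` on the abelian presheaf underlying a module on `Y` -/
noncomputable def μ : Γ(Y, ⊤) →+* End M.presheaf where
  toFun := μ₀ M
  map_one' := by
    apply NatTrans.ext
    funext U
    apply AddCommGrpCat.hom_ext
    apply AddMonoidHom.ext
    intro (x : Γ(M, U.unop))
    show res 1 U.unop • x = x
    unfold res
    rw [map_one, one_smul]
  map_mul' a b := by
    apply NatTrans.ext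
    funext U
    apply AddCommGrpCat.hom_ext
    apply AddMonoidHom.ext
    intro (x : Γ(M, U.unop))
    show res (a * b) U.unop • x = res a U.unop • res b U.unop • x
    unfold res
    rw [map_mul, mul_smul]
  map_zero' := by
    apply NatTrans.ext
    funext U
    apply AddCommGrpCat.hom_ext
    apply AddMonoidHom.ext
    intro (x : Γ(M, U.unop))
    show res 0 U.unop • x = 0
    unfold res
    rw [map_zero, zero_smul]
  map_add' a b := by
    apply NatTrans.ext
    funext U
    apply AddCommGrpCat.hom_ext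
    apply AddMonoidHom.ext
    intro (x : Γ(M, U.unop))
    show res (a + b) U.unop • x = res a U.unop • x + res b U.unop • x
    unfold res
    rw [map_add, add_smul]

lemma sm_eq (r : Γ(Y, ⊤)) (V : Y.Opens) (x : Γ(M, V)) :
    CechAffine.sm M.presheaf (μ M) r V x = res r V • x := rfl

lemma res_pow (r : Γ(Y, ⊤)) (k : ℕ) (V : Y.Opens) : res (r ^ k) V = (res r V) ^ k := by
  unfold res
  rw [map_pow]

lemma res_mul (a b : Γ(Y, ⊤)) (V : Y.Opens) : res (a * b) V = res a V * res b V := by
  unfold res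
  rw [map_mul]

lemma isUnit_res_of_le (a : Γ(Y, ⊤)) {V : Y.Opens} (hV : V ≤ Y.basicOpen a) :
    IsUnit (res a V) := by
  have h1 : IsUnit (Y.presheaf.map (homOfLE (Y.basicOpen_le a)).op a) :=
    RingedSpace.isUnit_res_basicOpen _ a
  have h2 : res a V = Y.presheaf.map (homOfLE hV).op
      (Y.presheaf.map (homOfLE (Y.basicOpen_le a)).op a) := by
    unfold res
    rw [← ConcreteCategory.comp_apply, ← Functor.map_comp]
    rfl
  rw [h2]
  exact h1.map _

lemma le_basicOpen_pow (g : Γ(Y, ⊤)) (k : ℕ) : Y.basicOpen g ≤ Y.basicOpen (g ^ k) := by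
  induction k with
  | zero => rw [pow_zero, Scheme.basicOpen_of_isUnit _ isUnit_one]; exact le_top
  | succ k ih => rw [pow_succ, Scheme.basicOpen_mul]; exact le_inf ih le_rfl

theorem isLoc [CompactSpace Y] [QuasiSeparatedSpace Y] [M.IsQuasicoherent] :
    CechAffine.IsLoc M.presheaf (μ M) (fun r : Γ(Y, ⊤) => Y.basicOpen r) where
  D_one := Scheme.basicOpen_of_isUnit _ isUnit_one
  D_mul a b := Scheme.basicOpen_mul _ a b
  bij a V hV := (isUnit_res_of_le a hV).smul_bijective
  ext g h V V' hV hV' le s := by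
    subst hV hV'
    obtain ⟨k, s', hs'⟩ := exists_pow_smul_eq_map_of_qcqs M (g * h) s
    have hb := (isUnit_res_of_le (g ^ k) (le_basicOpen_pow g k)).smul_bijective
      (β := Γ(M, Y.basicOpen g))
    obtain ⟨t, ht⟩ := hb.2 (M.presheaf.map (homOfLE (le_top : Y.basicOpen g ≤ ⊤)).op s')
    have ht' : res (g ^ k) (Y.basicOpen g) • t =
        M.presheaf.map (homOfLE (le_top : Y.basicOpen g ≤ ⊤)).op s' := ht
    refine ⟨k, t, ?_⟩
    rw [sm_eq]
    have hreg := (isUnit_res_of_le (g ^ k)
      (le.trans (le_basicOpen_pow g k))).smul_bijective (β := Γ(M, Y.basicOpen (g * h)))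
    apply hreg.1
    show res (g ^ k) (Y.basicOpen (g * h)) • M.presheaf.map (homOfLE le).op t =
      res (g ^ k) (Y.basicOpen (g * h)) • res (h ^ k) (Y.basicOpen (g * h)) • s
    have e1 : res (g ^ k) (Y.basicOpen (g * h)) • M.presheaf.map (homOfLE le).op t =
        M.presheaf.map (homOfLE le).op (res (g ^ k) (Y.basicOpen g) • t) := by
      rw [Scheme.Modules.map_smul, res_res]
    rw [e1, ht', map_map, hs', ← mul_smul, ← res_mul, ← mul_pow, res_pow]
  ker g h V V' hV hV' le t ht := by
    subst hV hV'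
    have hc : IsCompact (Y.basicOpen g).1 := isCompact_basicOpen Y isCompact_univ g
    have e : Y.basicOpen g ⊓ Y.basicOpen h = Y.basicOpen (g * h) := (Scheme.basicOpen_mul _ g h).symm
    have H : M.presheaf.map (homOfLE (inf_le_left : Y.basicOpen g ⊓ Y.basicOpen h ≤
        Y.basicOpen g)).op t = 0 := by
      rw [← map_map M le e.le, ht, map_zero]
    obtain ⟨n, hn⟩ := exists_res_pow_smul_eq_zero M hc h t H
    refine ⟨n, ?_⟩
    rw [sm_eq, res_pow]
    exact hn

/-- **Čech acyclicity on a qcqs scheme** for basic opens of functions generating the unit ideal,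
for a quasi-coherent module. -/
theorem exactAt_of_span_eq_top [CompactSpace Y] [QuasiSeparatedSpace Y] [M.IsQuasicoherent]
    {ι : Type u} [Finite ι] (f : ι → Γ(Y, ⊤)) (hf : Ideal.span (Set.range f) = ⊤) (p : ℕ) :
    ((cechComplexFunctor (fun i => Y.basicOpen (f i))).obj M.presheaf).ExactAt (p + 1) :=
  CechAffine.exactAt (fun r : Γ(Y, ⊤) => Y.basicOpen r) f (isLoc M) 1
    (fun i => by
      show Y.basicOpen (f i) ≤ Y.basicOpen 1
      rw [Scheme.basicOpen_of_isUnit _ isUnit_one]
      exact le_top)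
    (CechSpec.exists_pow_mem_span_of_span_eq_top f hf) p

end qcqs

end Groth.Agent.Lib.helper8.CechQcqs
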