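import Mathlib
import Groth.Prelude.Def_Coh
import Groth.Prelude.Def_Formal
import Groth.Prelude.Def_ClSub2
import Groth.Agent.Lib.Helper8.ZConn1

/-!
# Zariski connectedness, part 2: the test map `O_X / 𝔪 O_X ⟶ (Spec κ(x) → X)_* O` (helper8)
-/

set_option autoImplicit false
universe u
open CategoryTheory CategoryTheory.Limits AlgebraicGeometry Opposite TopologicalSpace

namespace Groth.Agent.Lib.helper8.ZConn

open Formal Groth.Agent.Lib.Helper18 Groth.Agent.Lib.helper8.FF

section Test

variable {A : Type u} [CommRing A] {X : Scheme.{u}} [X.Over (Spec (CommRingCat.of A))]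

/-- the section `1` of `O_X` over `U`. -/
noncomputable def one (U : X.Opens) : (Coh.structureModule X).val.obj (op U) := (1 : Γ(X, U))

theorem app_resTop_eq_zero (x : X) (r : Coh.Γtop X) (hr : x ∉ X.basicOpen r) (U : X.Opens) :
    ((X.fromSpecResidueField x).app U).hom
      ((X.presheaf.map (homOfLE (le_top : U ≤ ⊤)).op).hom r) = 0 := by
  rw [← basicOpen_eq_bot_iff, ← Scheme.preimage_basicOpen, Scheme.basicOpen_res]
  ext z
  simp only [Scheme.Hom.coe_preimage, Opens.coe_inf, Set.mem_preimage, Set.mem_inter_iff, SetLike.mem_coe, Opens.coe_bot, Set.mem_empty_iff_false, iff_false, not_and]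
  intro _
  rw [Scheme.fromSpecResidueField_apply]
  exact hr

variable [IsLocalRing A]

theorem smulMod_comp_unitToPush (x : X)
    (hx : (X ↘ Spec (CommRingCat.of A)) x = IsLocalRing.closedPoint A) (a : A)
    (ha : a ∈ IsLocalRing.maximalIdeal A) :
    smulMod A (Coh.structureModule X) a ≫ ClSub.unitToPush (X.fromSpecResidueField x) = 0 := by
  have hr : x ∉ X.basicOpen (Coh.toGlobal (X ↘ Spec (CommRingCat.of A)) a) := by
    rw [mem_basicOpen_toGlobal_iff, hx]
    exact fun h => h ha
  apply SheafOfModules.hom_ext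
  apply PresheafOfModules.hom_ext
  intro U
  apply ModuleCat.hom_ext
  apply LinearMap.ext
  intro t
  show ((X.fromSpecResidueField x).app U.unop).hom
    ((X.presheaf.map (homOfLE (le_top : U.unop ≤ ⊤)).op).hom
      (Coh.toGlobal (X ↘ Spec (CommRingCat.of A)) a) * (id t : Γ(X, U.unop))) = 0
  rw [map_mul, app_resTop_eq_zero x _ hr, zero_mul]

/-- the test map `O_X / 𝔞 O_X ⟶ (Spec κ(x) → X)_* O`, for `𝔞 ≤ 𝔪` and `x` in the closed fibre. -/
noncomputable def testMap (𝔞 : Ideal A) (h𝔞 : 𝔞 ≤ IsLocalRing.maximalIdeal A) (x : X)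
    (hx : (X ↘ Spec (CommRingCat.of A)) x = IsLocalRing.closedPoint A) :
    Q 𝔞 (Coh.structureModule X) ⟶
      (Scheme.Modules.pushforward (X.fromSpecResidueField x)).obj
        (Coh.structureModule (Spec (X.residueField x))) :=
  cokernel.desc _ (ClSub.unitToPush (X.fromSpecResidueField x))
    (smulFamily_comp_eq_zero _ (fun a ha => smulMod_comp_unitToPush x hx a (h𝔞 ha)))

theorem qπ_one_ne_zero (𝔞 : Ideal A) (h𝔞 : 𝔞 ≤ IsLocalRing.maximalIdeal A) (x : X)
    (hx : (X ↘ Spec (CommRingCat.of A)) x = IsLocalRing.closedPoint A) (U : X.Opens)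
    (hxU : x ∈ U) :
    ((qπ 𝔞 (Coh.structureModule X)).val.app (op U)).hom (one U) ≠ 0 := by
  intro h0
  have h1 := congrArg (fun z => ((testMap 𝔞 h𝔞 x hx).val.app (op U)).hom z) h0
  simp only [map_zero] at h1
  have h2 : ((testMap 𝔞 h𝔞 x hx).val.app (op U)).hom
      (((qπ 𝔞 (Coh.structureModule X)).val.app (op U)).hom (one U)) =
      ((ClSub.unitToPush (X.fromSpecResidueField x)).val.app (op U)).hom (one U) := by
    have := cokernel.π_desc (smulFamily 𝔞 (Coh.structureModule X))
      (ClSub.unitToPush (X.fromSpecResidueField x))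
      (smulFamily_comp_eq_zero _ (fun a ha => smulMod_comp_unitToPush x hx a (h𝔞 ha)))
    exact congrArg (fun φ => (φ.val.app (op U)).hom (one U)) this
  rw [h2] at h1
  have h3 : @Eq (Γ(Spec (X.residueField x), (X.fromSpecResidueField x) ⁻¹ᵁ U))
      (((ClSub.unitToPush (X.fromSpecResidueField x)).val.app (op U)).hom (one U)) 1 :=
    map_one ((X.fromSpecResidueField x).app U).hom
  haveI : Nonempty ↥((X.fromSpecResidueField x) ⁻¹ᵁ U) :=
    ⟨⟨IsLocalRing.closedPoint _, by
      show (X.fromSpecResidueField x) _ ∈ U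
      rw [Scheme.fromSpecResidueField_apply]
      exact hxU⟩⟩
  exact one_ne_zero (α := Γ(Spec (X.residueField x), (X.fromSpecResidueField x) ⁻¹ᵁ U))
    (h3.symm.trans h1)

end Test

end Groth.Agent.Lib.helper8.ZConn
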