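import Mathlib
import Groth.Prelude.Def_Coh
import Groth.Prelude.Def_Formal
import Groth.Agent.S0002
import Groth.Agent.Lib.Helper8.ZConn2
import Groth.Agent.Lib.Helper8.FormalProInduct
import Groth.Agent.Lib.Helper18.HHZero
import Groth.Agent.Lib.Helper11.AmpleInv

/-!
# Zariski connectedness, part 3: the local statement (helper8)

`A` Noetherian local, `X` proper over `Spec A` with `A → Γ(X, O_X)` surjective: the closed fibre
cannot be split into two disjoint nonempty closed pieces.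
-/

set_option autoImplicit false
universe u
open CategoryTheory CategoryTheory.Limits AlgebraicGeometry Opposite TopologicalSpace

namespace Groth.Agent.Lib.helper8.ZConn

open Formal Groth.Agent.Lib.Helper18 Groth.Agent.Lib.helper8.FF

section Nat

variable {X : Scheme.{u}}

lemma app_res {M N : X.Modules} (φ : M ⟶ N) {U V : X.Opens} (h : V ≤ U) (t : M.val.obj (op U)) :
    (φ.val.app (op V)).hom (M.val.presheaf.map (homOfLE h).op t) =
      N.val.presheaf.map (homOfLE h).op ((φ.val.app (op U)).hom t) :=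
  PresheafOfModules.naturality_apply φ.val (homOfLE h).op t

lemma res_one {U V : X.Opens} (h : V ≤ U) :
    (Coh.structureModule X).val.presheaf.map (homOfLE h).op (one U) = one V :=
  map_one (X.presheaf.map (homOfLE h).op).hom

end Nat

section Main

variable {A : Type u} [CommRing A] [IsNoetherianRing A] [IsLocalRing A] {X : Scheme.{u}}
  [X.Over (Spec (CommRingCat.of A))] [IsProper (X ↘ Spec (CommRingCat.of A))]

local notation "𝔪" => IsLocalRing.maximalIdeal A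
local notation "𝒪" => Coh.structureModule X
local notation "φA" => Coh.toGlobal (X ↘ Spec (CommRingCat.of A))

omit [IsNoetherianRing A] [IsLocalRing A] [IsProper (X ↘ Spec (CommRingCat.of A))] in
lemma smulMod_one_top (a : A) :
    ((smulMod A 𝒪 a).val.app (op ⊤)).hom (one ⊤) = (φA a : Γ(X, ⊤)) := by
  rw [smulMod_app, HH.resTop_top]
  exact mul_one (φA a : Γ(X, ⊤))

theorem not_disconnected
    (hsurj : Function.Surjective φA)
    (T₁ T₂ : Set X) (hT₁ : IsClosed T₁) (hT₂ : IsClosed T₂) (hdisj : Disjoint T₁ T₂)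
    (hcov : (X ↘ Spec (CommRingCat.of A)) ⁻¹' {IsLocalRing.closedPoint A} ⊆ T₁ ∪ T₂)
    (x₁ x₂ : X) (hx₁ : x₁ ∈ T₁) (hx₂ : x₂ ∈ T₂)
    (hf₁ : (X ↘ Spec (CommRingCat.of A)) x₁ = IsLocalRing.closedPoint A)
    (hf₂ : (X ↘ Spec (CommRingCat.of A)) x₂ = IsLocalRing.closedPoint A) : False := by
  haveI : IsLocallyNoetherian X :=
    LocallyOfFiniteType.isLocallyNoetherian (X ↘ Spec (CommRingCat.of A))
  haveI : CompactSpace X :=
    QuasiCompact.compactSpace_of_compactSpace (X ↘ Spec (CommRingCat.of A))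
  haveI : IsNoetherian X := {}
  -- the two opens
  let U₁ : X.Opens := ⟨T₂ᶜ, hT₂.isOpen_compl⟩
  let U₂ : X.Opens := ⟨T₁ᶜ, hT₁.isOpen_compl⟩
  have hU : U₁ ⊔ U₂ = ⊤ := by
    ext x
    simp only [Opens.coe_sup, Opens.coe_top, Set.mem_univ, iff_true, U₁, U₂, Opens.coe_mk,
      Set.mem_union, Set.mem_compl_iff]
    by_contra hcon
    push Not at hcon
    exact Set.disjoint_left.mp hdisj hcon.2 hcon.1
  have hx₁U : x₁ ∈ U₁ := fun h => Set.disjoint_left.mp hdisj hx₁ h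
  have hx₂U : x₂ ∈ U₂ := fun h => Set.disjoint_left.mp hdisj h hx₂
  have hW : ∀ x ∈ U₁ ⊓ U₂, (X ↘ Spec (CommRingCat.of A)) x ≠ IsLocalRing.closedPoint A := by
    intro x hx hfx
    rcases hcov (show x ∈ (X ↘ Spec (CommRingCat.of A)) ⁻¹' {IsLocalRing.closedPoint A} from hfx)
      with h | h
    · exact hx.2 h
    · exact hx.1 h
  -- formal functions
  obtain ⟨-, hC⟩ := pro_of_finite (A := A) (X := X) (fun _ => True)
    (fun _ _ _ => trivial) (fun _ _ _ => trivial)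
    (fun N _ hN q => Groth.Agent.S0002.result A X N hN q) 0 𝔪 𝒪 trivial
    (Groth.Agent.Lib.helper11.AmpleInv.isCoh_structureModule X)
  obtain ⟨k, hle, hk⟩ := hC 0
  have h𝔪0 : 𝔪 ^ (0 + 1) ≤ 𝔪 := by simp
  -- the glued section
  obtain ⟨e, he₁, he₂⟩ := exists_glue (Coh.toAb (Q (𝔪 ^ (k + 1)) 𝒪)) U₁ U₂ hU
    (((qπ (𝔪 ^ (k + 1)) 𝒪).val.app (op U₁)).hom (one U₁))
    (eq_zero_of_disjoint_fibre (Q (𝔪 ^ (k + 1)) 𝒪) (k + 1) (fun a ha => smulMod_Q 𝒪 ha)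
      (U₁ ⊓ U₂) hW _)
  obtain ⟨x, hx⟩ := hk ((HH.equiv₀ (Q (𝔪 ^ (k + 1)) 𝒪)).symm e)
  obtain ⟨a, ha⟩ := hsurj (HH.equiv₀ 𝒪 x)
  -- the basic identity
  have hE : ((smulMod A (Q (𝔪 ^ (0 + 1)) 𝒪) a).val.app (op ⊤)).hom
      (((qπ (𝔪 ^ (0 + 1)) 𝒪).val.app (op ⊤)).hom (one ⊤)) =
      ((qTrans hle 𝒪).val.app (op ⊤)).hom e := by
    have h1 := congrArg (HH.equiv₀ (Q (𝔪 ^ (0 + 1)) 𝒪)) hx
    rw [HH.equiv₀_naturality, HH.equiv₀_naturality, LinearEquiv.apply_symm_apply] at h1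
    rw [← h1, ← ha, ← smulMod_one_top a]
    exact congrArg (fun ψ => (ψ.val.app (op ⊤)).hom (one ⊤))
      (smulMod_naturality (qπ (𝔪 ^ (0 + 1)) 𝒪) a).symm
  -- restrictions of `e₀`
  have hr₁ : (Q (𝔪 ^ (0 + 1)) 𝒪).val.presheaf.map (homOfLE (le_top : U₁ ≤ ⊤)).op
      (((qTrans hle 𝒪).val.app (op ⊤)).hom e) =
      ((qπ (𝔪 ^ (0 + 1)) 𝒪).val.app (op U₁)).hom (one U₁) := by
    refine (app_res (qTrans hle 𝒪) (le_top : U₁ ≤ ⊤) e).symm.trans ?_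
    refine (congrArg ((qTrans hle 𝒪).val.app (op U₁)).hom he₁).trans ?_
    exact congrArg (fun ψ => (ψ.val.app (op U₁)).hom (one U₁)) (qπ_qTrans hle 𝒪)
  have hr₂ : (Q (𝔪 ^ (0 + 1)) 𝒪).val.presheaf.map (homOfLE (le_top : U₂ ≤ ⊤)).op
      (((qTrans hle 𝒪).val.app (op ⊤)).hom e) = 0 := by
    refine (app_res (qTrans hle 𝒪) (le_top : U₂ ≤ ⊤) e).symm.trans ?_
    refine (congrArg ((qTrans hle 𝒪).val.app (op U₂)).hom he₂).trans ?_
    exact map_zero _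
  by_cases ham : a ∈ 𝔪
  · -- `a ∈ 𝔪`: `e₀ = 0`
    have h0 : smulMod A (Q (𝔪 ^ (0 + 1)) 𝒪) a = 0 := smulMod_Q 𝒪 (by simpa using ham)
    rw [h0] at hE
    have hE' : ((qTrans hle 𝒪).val.app (op ⊤)).hom e = 0 := hE.symm
    rw [hE'] at hr₁
    exact qπ_one_ne_zero (𝔪 ^ (0 + 1)) h𝔪0 x₁ hf₁ U₁ hx₁U (hr₁.symm.trans (map_zero _))
  · -- `a` is a unit
    obtain ⟨b, hb⟩ := isUnit_iff_exists_inv'.mp ((IsLocalRing.notMem_maximalIdeal).mp ham)
    have h1 : ((smulMod A (Q (𝔪 ^ (0 + 1)) 𝒪) b).val.app (op ⊤)).hom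
        (((qTrans hle 𝒪).val.app (op ⊤)).hom e) =
        ((qπ (𝔪 ^ (0 + 1)) 𝒪).val.app (op ⊤)).hom (one ⊤) := by
      rw [← hE]
      have h2 : smulMod A (Q (𝔪 ^ (0 + 1)) 𝒪) a ≫ smulMod A (Q (𝔪 ^ (0 + 1)) 𝒪) b = 𝟙 _ := by
        rw [← smulMod_mul, hb, smulMod_one]
      exact congrArg (fun ψ => (ψ.val.app (op ⊤)).hom
        (((qπ (𝔪 ^ (0 + 1)) 𝒪).val.app (op ⊤)).hom (one ⊤))) h2
    have h3 := congrArg ((Q (𝔪 ^ (0 + 1)) 𝒪).val.presheaf.map (homOfLE (le_top : U₂ ≤ ⊤)).op) h1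
    have h4 := (app_res (smulMod A (Q (𝔪 ^ (0 + 1)) 𝒪) b) (le_top : U₂ ≤ ⊤)
      (((qTrans hle 𝒪).val.app (op ⊤)).hom e)).trans h3
    have h5 := (app_res (qπ (𝔪 ^ (0 + 1)) 𝒪) (le_top : U₂ ≤ ⊤) (one ⊤))
    rw [res_one] at h5
    have h6 : ((smulMod A (Q (𝔪 ^ (0 + 1)) 𝒪) b).val.app (op U₂)).hom
        ((Q (𝔪 ^ (0 + 1)) 𝒪).val.presheaf.map (homOfLE (le_top : U₂ ≤ ⊤)).op
          (((qTrans hle 𝒪).val.app (op ⊤)).hom e)) = 0 :=
      (congrArg ((smulMod A (Q (𝔪 ^ (0 + 1)) 𝒪) b).val.app (op U₂)).hom hr₂).trans (map_zero _)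
    exact qπ_one_ne_zero (𝔪 ^ (0 + 1)) h𝔪0 x₂ hf₂ U₂ hx₂U (h5.trans (h4.symm.trans h6))

end Main

end Groth.Agent.Lib.helper8.ZConn
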