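import Mathlib
import Groth.Prelude.Def_Coh
import Groth.Agent.Lib.Helper8.ZConn3

/-!
# Zariski connectedness, part 4: the closed fibre as a scheme (helper8)

`A` Noetherian local, `X` proper over `Spec A` with `A → Γ(X, O_X)` surjective, `ρ : A → K` a
surjection onto a field: `X ×_A Spec K` is preconnected.
-/

set_option autoImplicit false
universe u
open CategoryTheory CategoryTheory.Limits AlgebraicGeometry Opposite TopologicalSpace

namespace Groth.Agent.Lib.helper8.ZConn

section Local

variable {A : Type u} [CommRing A] [IsNoetherianRing A] [IsLocalRing A] {X : Scheme.{u}}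
  [X.Over (Spec (CommRingCat.of A))] [IsProper (X ↘ Spec (CommRingCat.of A))]

omit [IsNoetherianRing A] in
theorem specMap_apply_eq_closedPoint {K : Type u} [Field K] (ρ : A →+* K)
    (hρ : Function.Surjective ρ) (z : Spec (CommRingCat.of K)) :
    (Spec.map (CommRingCat.ofHom ρ)) z = IsLocalRing.closedPoint A := by
  haveI : IsLocalHom ρ := hρ.isLocalHom
  have hz : z = IsLocalRing.closedPoint K := Subsingleton.elim _ _
  rw [hz]
  exact IsLocalRing.comap_closedPoint ρ

theorem preconnectedSpace_pullback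
    (hsurj : Function.Surjective (Coh.toGlobal (X ↘ Spec (CommRingCat.of A))))
    {K : Type u} [Field K] (ρ : A →+* K) (hρ : Function.Surjective ρ) :
    PreconnectedSpace ↥(pullback (X ↘ Spec (CommRingCat.of A)) (Spec.map (CommRingCat.ofHom ρ))) := by
  haveI : IsClosedImmersion (Spec.map (CommRingCat.ofHom ρ)) :=
    IsClosedImmersion.spec_of_surjective _ hρ
  let h := pullback.fst (X ↘ Spec (CommRingCat.of A)) (Spec.map (CommRingCat.ofHom ρ))
  have hcl : Topology.IsClosedEmbedding h := h.isClosedEmbedding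
  have hfh : ∀ p, (X ↘ Spec (CommRingCat.of A)) (h p) = IsLocalRing.closedPoint A := by
    intro p
    have : (X ↘ Spec (CommRingCat.of A)) (h p) =
        (Spec.map (CommRingCat.ofHom ρ))
          (pullback.snd (X ↘ Spec (CommRingCat.of A)) (Spec.map (CommRingCat.ofHom ρ)) p) := by
      rw [← Scheme.Hom.comp_apply, ← Scheme.Hom.comp_apply, pullback.condition]
    rw [this]
    exact specMap_apply_eq_closedPoint ρ hρ _
  have hrange : (X ↘ Spec (CommRingCat.of A)) ⁻¹' {IsLocalRing.closedPoint A} ⊆ Set.range h := by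
    intro x hx
    rw [Scheme.Pullback.range_fst]
    refine ⟨IsLocalRing.closedPoint K, ?_⟩
    rw [specMap_apply_eq_closedPoint ρ hρ]
    exact hx.symm
  constructor
  rw [isPreconnected_closed_iff]
  rintro t t' ht ht' hcov ⟨p, -, hp⟩ ⟨p', -, hp'⟩
  by_contra hcon
  have hdisj : Disjoint t t' := by
    rw [Set.disjoint_iff_inter_eq_empty]
    rw [Set.not_nonempty_iff_eq_empty, Set.univ_inter] at hcon
    exact hcon
  refine not_disconnected hsurj (h '' t) (h '' t') (hcl.isClosedMap _ ht) (hcl.isClosedMap _ ht')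
    ((Set.disjoint_image_iff hcl.injective).mpr hdisj) ?_ (h p) (h p') ⟨p, hp, rfl⟩ ⟨p', hp', rfl⟩
    (hfh p) (hfh p')
  intro x hx
  obtain ⟨q, rfl⟩ := hrange hx
  rcases hcov (Set.mem_univ q) with hq | hq
  · exact Or.inl ⟨q, hq, rfl⟩
  · exact Or.inr ⟨q, hq, rfl⟩

end Local

end Groth.Agent.Lib.helper8.ZConn
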