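import Mathlib
import Groth.Prelude.Def_Coh
import Groth.Agent.Lib.Helper8.ZConn4
import Groth.Agent.S2363

/-!
# Zariski connectedness theorem (helper8)

`f : X ⟶ Y` proper, `Y` locally Noetherian, `O_Y → f_* O_X` an isomorphism: then `f` is
geometrically connected: for every field `K` and `σ : Spec K ⟶ Y`, `X ×_Y Spec K` is connected.
-/

set_option autoImplicit false
universe u
open CategoryTheory CategoryTheory.Limits AlgebraicGeometry Opposite TopologicalSpace

namespace Groth.Agent.Lib.helper8.ZConn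

section Global

variable {X Y : Scheme.{u}}

instance flat_fromSpecStalk (y : Y) : Flat (Y.fromSpecStalk y) := by
  obtain ⟨V, hV, hy⟩ : ∃ V : Y.Opens, IsAffineOpen V ∧ y ∈ V := by
    obtain ⟨_, ⟨V, hV : IsAffineOpen V, rfl⟩, hy, -⟩ :=
      Y.isBasis_affineOpens.exists_subset_of_mem_open (Set.mem_univ y) isOpen_univ
    exact ⟨V, hV, hy⟩
  rw [← hV.fromSpecStalk_eq_fromSpecStalk hy, IsAffineOpen.fromSpecStalk]
  haveI : Flat (Spec.map (Y.presheaf.germ V y hy)) := by
    rw [Flat.SpecMap_iff]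
    letI := TopCat.Presheaf.algebra_section_stalk Y.presheaf (⟨y, hy⟩ : V)
    haveI : IsLocalization.AtPrime (Y.presheaf.stalk y) (hV.primeIdealOf ⟨y, hy⟩).asIdeal :=
      hV.isLocalization_stalk ⟨y, hy⟩
    exact IsLocalization.flat _ (hV.primeIdealOf ⟨y, hy⟩).asIdeal.primeCompl
  infer_instance

theorem fromSpecStalk_mem (y : Y) (V : Y.Opens) (hy : y ∈ V) (t : Spec (Y.presheaf.stalk y)) :
    Y.fromSpecStalk y t ∈ V := by
  have h1 : Y.fromSpecStalk y t ∈ Set.range (Y.fromSpecStalk y) := ⟨t, rfl⟩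
  rw [Scheme.range_fromSpecStalk] at h1
  exact h1.mem_open V.isOpen hy

theorem surjective_of_isIso_app (f : X ⟶ Y) [IsProper f] (hf : ∀ U : Y.Opens, IsIso (f.app U)) :
    Function.Surjective f := by
  intro y
  by_contra hy
  have hcl : IsClosed (Set.range f) := f.isClosedMap.isClosed_range
  let V : Y.Opens := ⟨(Set.range f)ᶜ, hcl.isOpen_compl⟩
  have hyV : y ∈ V := hy
  have hempty : f ⁻¹ᵁ V = ⊥ := by
    ext x
    simp [V]
  haveI : Nonempty V := ⟨⟨y, hyV⟩⟩
  haveI := hf V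
  have h1 : Subsingleton Γ(X, f ⁻¹ᵁ V) := by
    rw [hempty]
    infer_instance
  have h2 : Function.Injective (f.app V).hom :=
    ((ConcreteCategory.isIso_iff_bijective (f.app V)).mp inferInstance).1
  haveI : Subsingleton Γ(Y, V) := h2.subsingleton
  exact not_subsingleton Γ(Y, V) inferInstance

theorem isIso_appTop_of_flat (f : X ⟶ Y) [QuasiCompact f] [QuasiSeparated f] {T P : Scheme.{u}}
    [IsAffine T] (τ : T ⟶ Y) [Flat τ] (g : P ⟶ X) (p : P ⟶ T) (H : IsPullback g p f τ)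
    (V : Y.Opens) (hV : IsAffineOpen V) (hτ : ∀ t, τ t ∈ V) (hfV : IsIso (f.app V)) :
    IsIso p.appTop := by
  have hUST : (⊤ : T.Opens) ≤ τ ⁻¹ᵁ V := fun t _ => hτ t
  have hUSX : f ⁻¹ᵁ V ≤ f ⁻¹ᵁ V := le_rfl
  have hUYtop : g ⁻¹ᵁ (f ⁻¹ᵁ V) ⊓ p ⁻¹ᵁ ⊤ = (⊤ : P.Opens) := by
    ext z
    simp only [Opens.coe_inf, Scheme.Hom.coe_preimage, Opens.coe_top, Set.preimage_univ, Set.inter_univ,
      Set.mem_preimage, SetLike.mem_coe, Set.mem_univ, iff_true]
    have : f (g z) = τ (p z) := by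
      rw [← Scheme.Hom.comp_apply, ← Scheme.Hom.comp_apply, H.w]
    rw [this]
    exact hτ _
  have h1 := isIso_pushoutSection_of_isQuasiSeparated_of_flat_right H hUST hUSX rfl hV
    (isAffineOpen_top T) (QuasiCompact.isCompact_preimage (f := f) _ V.isOpen hV.isCompact)
    (f.isQuasiSeparated_preimage hV.isQuasiSeparated)
  have hpo := (isIso_pushoutSection_iff H hUST hUSX rfl).mp h1
  haveI : IsIso (f.appLE V (f ⁻¹ᵁ V) hUSX) := by
    rw [← Scheme.Hom.app_eq_appLE]
    exact hfV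
  have h2 := hpo.isIso_inr_of_isIso
  rw [Scheme.Hom.appLE] at h2
  haveI : IsIso (P.presheaf.map (homOfLE (show g ⁻¹ᵁ (f ⁻¹ᵁ V) ⊓ p ⁻¹ᵁ ⊤ ≤ p ⁻¹ᵁ ⊤ by
      simp)).op) := by
    have : IsIso (homOfLE (show g ⁻¹ᵁ (f ⁻¹ᵁ V) ⊓ p ⁻¹ᵁ ⊤ ≤ p ⁻¹ᵁ ⊤ by simp)) :=
      ⟨⟨homOfLE (by rw [hUYtop]; exact le_top), rfl, rfl⟩⟩
    infer_instance
  haveI := h2
  exact IsIso.of_isIso_comp_right (p.app ⊤) (P.presheaf.map (homOfLE
    (show g ⁻¹ᵁ (f ⁻¹ᵁ V) ⊓ p ⁻¹ᵁ ⊤ ≤ p ⁻¹ᵁ ⊤ by simp)).op)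

/-- **Zariski's connectedness theorem**, geometric form. -/
theorem connectedSpace_pullback (f : X ⟶ Y) [IsProper f] [IsLocallyNoetherian Y]
    (hf : ∀ U : Y.Opens, IsIso (f.app U)) (K : Type u) [Field K]
    (σ : Spec (CommRingCat.of K) ⟶ Y) : ConnectedSpace ↥(pullback f σ) := by
  obtain ⟨y, φ, hσ⟩ : ∃ (y : Y) (φ : Y.residueField y ⟶ CommRingCat.of K),
      σ = Spec.map φ ≫ Y.fromSpecResidueField y :=
    ⟨_, ((Scheme.SpecToEquivOfField K Y) σ).2, ((Scheme.SpecToEquivOfField K Y).left_inv σ).symm⟩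
  letI : Algebra (IsLocalRing.ResidueField (Y.presheaf.stalk y)) K := φ.hom.toAlgebra
  obtain ⟨B, _, _, hBN, hBL, hloc, hflat, e, he⟩ :=
    Groth.Agent.S2363.result (A := Y.presheaf.stalk y) K
  let ρ : B →+* K := e.toRingHom.comp (Ideal.Quotient.mk _)
  have hρ : Function.Surjective ρ := e.surjective.comp Ideal.Quotient.mk_surjective
  have hcompat : ∀ a : Y.presheaf.stalk y,
      ρ (algebraMap (Y.presheaf.stalk y) B a) = φ.hom (IsLocalRing.residue _ a) := he
  let τ : Spec (CommRingCat.of B) ⟶ Y :=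
    Spec.map (CommRingCat.ofHom (algebraMap (Y.presheaf.stalk y) B)) ≫ Y.fromSpecStalk y
  haveI : Flat (Spec.map (CommRingCat.ofHom (algebraMap (Y.presheaf.stalk y) B))) := by
    rw [Flat.SpecMap_iff]
    exact RingHom.flat_algebraMap_iff.mpr hflat
  haveI : Flat τ := inferInstanceAs (Flat (_ ≫ _))
  obtain ⟨V, hV, hy⟩ : ∃ V : Y.Opens, IsAffineOpen V ∧ y ∈ V := by
    obtain ⟨_, ⟨V, hV : IsAffineOpen V, rfl⟩, hy, -⟩ :=
      Y.isBasis_affineOpens.exists_subset_of_mem_open (Set.mem_univ y) isOpen_univ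
    exact ⟨V, hV, hy⟩
  have hτ : ∀ t, τ t ∈ V := fun t => fromSpecStalk_mem y V hy _
  letI : (pullback f τ).Over (Spec (CommRingCat.of B)) := ⟨pullback.snd f τ⟩
  haveI : IsProper ((pullback f τ) ↘ Spec (CommRingCat.of B)) :=
    inferInstanceAs (IsProper (pullback.snd f τ))
  have hiso : IsIso (pullback.snd f τ).appTop :=
    isIso_appTop_of_flat f τ _ _ (IsPullback.of_hasPullback f τ) V hV hτ (hf V)
  have hsurj : Function.Surjective
      (Coh.toGlobal ((pullback f τ) ↘ Spec (CommRingCat.of B))) := by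
    have h1 : Function.Bijective (pullback.snd f τ).appTop.hom :=
      (ConcreteCategory.isIso_iff_bijective _).mp hiso
    have h2 : Function.Bijective (Scheme.ΓSpecIso (CommRingCat.of B)).inv.hom :=
      (ConcreteCategory.isIso_iff_bijective _).mp inferInstance
    exact h1.2.comp h2.2
  haveI := hBN
  haveI := hBL
  haveI hpre : PreconnectedSpace
      ↥(pullback (pullback.snd f τ) (Spec.map (CommRingCat.ofHom ρ))) :=
    preconnectedSpace_pullback (A := B) (X := pullback f τ) hsurj ρ hρ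
  have hcomp : Spec.map (CommRingCat.ofHom ρ) ≫ τ = σ := by
    rw [hσ, Scheme.fromSpecResidueField, ← Category.assoc, ← Category.assoc, ← Spec.map_comp,
      ← Spec.map_comp]
    congr 2
    ext a
    exact hcompat a
  let iso := pullbackLeftPullbackSndIso f τ (Spec.map (CommRingCat.ofHom ρ))
  have hpre' : PreconnectedSpace ↥(pullback f (Spec.map (CommRingCat.ofHom ρ) ≫ τ)) :=
    (Scheme.homeoOfIso iso).surjective.denseRange.preconnectedSpace
      (Scheme.homeoOfIso iso).continuous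
  rw [hcomp] at hpre'
  obtain ⟨x, hx⟩ := surjective_of_isIso_app f hf (σ (IsLocalRing.closedPoint K))
  obtain ⟨z, -⟩ := Scheme.Pullback.exists_preimage_pullback (f := f) (g := σ) x
    (IsLocalRing.closedPoint K) hx
  exact { toPreconnectedSpace := hpre', toNonempty := ⟨z⟩ }

/-- **Zariski's connectedness theorem**: `f` is geometrically connected. -/
theorem geometricallyConnected (f : X ⟶ Y) [IsProper f] [IsLocallyNoetherian Y]
    (hf : ∀ U : Y.Opens, IsIso (f.app U)) : GeometricallyConnected f := by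
  constructor
  intro K _ σ Z fst snd h
  haveI := connectedSpace_pullback f hf K σ
  exact (Scheme.homeoOfIso h.isoPullback).symm.surjective.connectedSpace
    (Scheme.homeoOfIso h.isoPullback).symm.continuous

end Global

end Groth.Agent.Lib.helper8.ZConn
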