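import Mathlib
import Groth.Prelude.Def_Coh
import Groth.Agent.Lib.Helper8.ZConn5
import Groth.Agent.Lib.Lead.SteinUC
import Groth.Agent.Lib.Helper18.HHZero

/-!
# Stein factorization over a locally Noetherian base (helper8)

`f : X ⟶ Y` proper, `Y` locally Noetherian:
* `finite_app_of_isProper`: `Γ(Y, U) → Γ(X, f⁻¹U)` is finite for affine `U`;
* `isFinite_fromNormalization`: `f.fromNormalization` is finite;
* `isProper_toNormalization`, `geometricallyConnected_toNormalization`.
-/

set_option autoImplicit false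
universe u
open CategoryTheory CategoryTheory.Limits AlgebraicGeometry Opposite TopologicalSpace

namespace Groth.Agent.Lib.helper8.ZConn

open Groth.Agent.Lib.Helper18

section Finite

variable {X Y : Scheme.{u}}

theorem finite_appTop_of_isProper {T : Scheme.{u}} [IsAffine T] [IsNoetherianRing Γ(T, ⊤)]
    (g : X ⟶ T) [IsProper g] : g.appTop.hom.Finite := by
  letI : X.Over (Spec (CommRingCat.of Γ(T, ⊤))) := ⟨g ≫ T.isoSpec.hom⟩
  haveI : IsProper (X ↘ Spec (CommRingCat.of Γ(T, ⊤))) :=
    inferInstanceAs (IsProper (g ≫ T.isoSpec.hom))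
  have hφ : ∀ r : Γ(T, ⊤), Coh.toGlobal (X ↘ Spec (CommRingCat.of Γ(T, ⊤))) r = g.appTop.hom r := by
    intro r
    have h1 : (Scheme.ΓSpecIso (CommRingCat.of Γ(T, ⊤))).inv ≫
        (g ≫ T.isoSpec.hom).appTop = g.appTop := by
      rw [Scheme.Hom.comp_appTop, Scheme.isoSpec_hom, Scheme.toSpecΓ_appTop]
      exact Iso.inv_hom_id_assoc _ _
    exact congr($(h1).hom r)
  have hfin : Module.Finite Γ(T, ⊤) (Coh.HH X (Coh.structureModule X) 0) :=
    Groth.Agent.S0002.result Γ(T, ⊤) X (Coh.structureModule X)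
      (Groth.Agent.Lib.helper11.AmpleInv.isCoh_structureModule X) 0
  letI := HH.sectionsModuleOver Γ(T, ⊤) (Coh.structureModule X)
  haveI hfin2 : Module.Finite Γ(T, ⊤) ((Coh.structureModule X).val.obj (op ⊤)) :=
    Module.Finite.equiv (HH.equiv₀Over Γ(T, ⊤) (Coh.structureModule X))
  letI := g.appTop.hom.toAlgebra
  show Module.Finite Γ(T, ⊤) Γ(X, ⊤)
  let l : (Coh.structureModule X).val.obj (op ⊤) →ₗ[Γ(T, ⊤)] Γ(X, ⊤) :=
    { toFun := fun t => t
      map_add' := fun _ _ => rfl
      map_smul' := fun r t => by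
        show (id (Coh.toGlobal (X ↘ Spec (CommRingCat.of Γ(T, ⊤))) r) : Γ(X, ⊤)) *
            (id t : Γ(X, ⊤)) = g.appTop.hom r * (id t : Γ(X, ⊤))
        rw [hφ]
        rfl }
  exact Module.Finite.of_surjective l (fun t => ⟨t, rfl⟩)

theorem finite_app_of_isProper (f : X ⟶ Y) [IsProper f] [IsLocallyNoetherian Y] (U : Y.Opens)
    (hU : IsAffineOpen U) : (f.app U).hom.Finite := by
  haveI : IsAffine U.toScheme := hU
  haveI : IsProper (f ∣_ U) :=
    MorphismProperty.of_isPullback (isPullback_morphismRestrict f U).flip inferInstance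
  haveI : IsNoetherianRing Γ(Y, U) := IsLocallyNoetherian.component_noetherian ⟨U, hU⟩
  haveI : IsNoetherianRing Γ(U.toScheme, ⊤) :=
    isNoetherianRing_of_ringEquiv Γ(Y, U) U.topIso.symm.commRingCatIsoToRingEquiv
  have h1 : (f ∣_ U).appTop.hom.Finite := finite_appTop_of_isProper (f ∣_ U)
  have h2 : f.app U = U.topIso.inv ≫ (f ∣_ U).appTop ≫ (f ⁻¹ᵁ U).topIso.hom := by
    rw [Groth.Agent.Lib.Lead.SteinUC.restrict_appTop_eq]
    simp only [Category.assoc, Iso.inv_hom_id, Category.comp_id, Iso.inv_hom_id_assoc]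
  rw [h2]
  simp only [CommRingCat.hom_comp]
  refine RingHom.Finite.comp (RingHom.Finite.comp ?_ h1) ?_
  · exact RingHom.Finite.of_surjective _
      ((f ⁻¹ᵁ U).topIso.commRingCatIsoToRingEquiv).surjective
  · exact RingHom.Finite.of_surjective _ (U.topIso.symm.commRingCatIsoToRingEquiv).surjective

/-- (as in helper13's `Nag.isFinite_fromNormalization_of_forall_finite`) -/
theorem isFinite_fromNormalization (f : X ⟶ Y) [IsProper f] [IsLocallyNoetherian Y] :
    IsFinite f.fromNormalization := by
  haveI : IsAffineHom f.fromNormalization := inferInstance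
  refine { finite_app := fun U hU => ?_ }
  letI alg : Algebra Γ(Y, U) Γ(X, f ⁻¹ᵁ U) := (f.app U).hom.toAlgebra
  haveI : IsNoetherianRing Γ(Y, U) := IsLocallyNoetherian.component_noetherian ⟨U, hU⟩
  haveI h2 : Module.Finite Γ(Y, U) Γ(X, f ⁻¹ᵁ U) := finite_app_of_isProper f U hU
  haveI h3 : Module.Finite Γ(Y, U) (integralClosure Γ(Y, U) Γ(X, f ⁻¹ᵁ U)) :=
    Module.Finite.of_injective (integralClosure Γ(Y, U) Γ(X, f ⁻¹ᵁ U)).val.toLinearMap
      Subtype.val_injective
  rw [Scheme.Hom.fromNormalization_app f hU]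
  have h4 : (algebraMap Γ(Y, U) (integralClosure Γ(Y, U) Γ(X, f ⁻¹ᵁ U))).Finite :=
    RingHom.finite_algebraMap.mpr h3
  exact RingHom.Finite.comp (RingHom.Finite.of_surjective _
    (ConcreteCategory.bijective_of_isIso (f.normalizationObjIso hU).inv).2) h4

theorem isLocallyNoetherian_normalization (f : X ⟶ Y) [IsProper f] [IsLocallyNoetherian Y] :
    IsLocallyNoetherian f.normalization := by
  haveI := isFinite_fromNormalization f
  exact LocallyOfFiniteType.isLocallyNoetherian f.fromNormalization

theorem isProper_toNormalization (f : X ⟶ Y) [IsProper f] : IsProper f.toNormalization := by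
  haveI : IsProper (f.toNormalization ≫ f.fromNormalization) := by
    rw [f.toNormalization_fromNormalization]
    infer_instance
  exact IsProper.of_comp f.toNormalization f.fromNormalization

theorem geometricallyConnected_toNormalization (f : X ⟶ Y) [IsProper f]
    [IsLocallyNoetherian Y] : GeometricallyConnected f.toNormalization := by
  haveI := isProper_toNormalization f
  haveI := isLocallyNoetherian_normalization f
  exact geometricallyConnected f.toNormalization
    (Groth.Agent.Lib.Lead.SteinUC.isIso_toNormalization_app f)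

end Finite

end Groth.Agent.Lib.helper8.ZConn
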