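import Mathlib

/-!
# Finite length of localized modules at minimal primes of the support (helper8)

* `isMaximal_of_mem_support_of_isFiniteLength`, `isFiniteLength_of_support_isMaximal`,
  `isFiniteLength_iff_support_isMaximal`: a finite module over a noetherian ring has finite length
  iff its support consists of maximal ideals.
* `mem_support_iff_comap_mem_support`: support of a localized module over the localized ring.
* `nontrivial_and_isFiniteLength_iff`: `M_p` is a nonzero module of finite length over `A_p` iff `p`
  is minimal in `Supp M` (`A` noetherian, `M` finite).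
-/

set_option autoImplicit false

namespace Groth.Agent.Lib.helper8.StalkLen

section Alg0

variable {R : Type*} [CommRing R]

/-- finite length ⇒ every prime in the support is maximal -/
theorem isMaximal_of_mem_support_of_isFiniteLength {N : Type*} [AddCommGroup N] [Module R N]
    (h : IsFiniteLength R N)
    (Q : PrimeSpectrum R) (hQ : Q ∈ Module.support R N) : Q.asIdeal.IsMaximal := by
  induction h with
  | of_subsingleton =>
    rw [Module.support_eq_empty] at hQ
    exact absurd hQ (Set.notMem_empty _)
  | @of_simple_quotient M _ _ S hS _ ih =>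
    have hex := Module.support_of_exact (R := R) (f := S.subtype) (g := S.mkQ)
      (LinearMap.exact_subtype_mkQ S) S.injective_subtype S.mkQ_surjective
    rw [hex] at hQ
    rcases hQ with hQ | hQ
    · exact ih hQ
    · obtain ⟨I, hI, ⟨e⟩⟩ := isSimpleModule_iff_quot_maximal.mp hS
      rw [e.support_eq, Module.support_eq_zeroLocus, Ideal.annihilator_quotient] at hQ
      have hle : I ≤ Q.asIdeal := hQ
      rw [← hI.eq_of_le Q.2.ne_top hle]
      exact hI

/-- a finite module over a noetherian ring whose support consists of maximal ideals has finite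
length -/
theorem isFiniteLength_of_support_isMaximal [IsNoetherianRing R] {N : Type*} [AddCommGroup N]
    [Module R N] [Module.Finite R N]
    (h : ∀ Q ∈ Module.support R N, Q.asIdeal.IsMaximal) : IsFiniteLength R N := by
  letI : Module (R ⧸ Module.annihilator R N) N := Module.quotientAnnihilator
  haveI : IsScalarTower R (R ⧸ Module.annihilator R N) N :=
    ⟨fun a b n => by
      obtain ⟨b, rfl⟩ := Ideal.Quotient.mk_surjective b
      change (Ideal.Quotient.mk _ (a * b)) • n = a • (Ideal.Quotient.mk _ b • n)
      change (a * b) • n = a • (b • n)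
      rw [mul_smul]⟩
  haveI : Ring.KrullDimLE 0 (R ⧸ Module.annihilator R N) := by
    refine Ring.krullDimLE_zero_iff.mpr fun J hJ => ?_
    have hq : (Ideal.comap (Ideal.Quotient.mk (Module.annihilator R N)) J).IsPrime :=
      Ideal.comap_isPrime _ _
    have hmem : (⟨_, hq⟩ : PrimeSpectrum R) ∈ Module.support R N := by
      rw [Module.support_eq_zeroLocus]
      intro a ha
      change Ideal.Quotient.mk _ a ∈ J
      rw [Ideal.Quotient.eq_zero_iff_mem.mpr ha]
      exact J.zero_mem
    have hmax := h _ hmem
    have := Ideal.map_comap_of_surjective (Ideal.Quotient.mk (Module.annihilator R N))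
      Ideal.Quotient.mk_surjective J
    rw [← this]
    haveI := hmax
    refine Ideal.IsMaximal.map_of_surjective_of_ker_le Ideal.Quotient.mk_surjective ?_
    intro a ha
    change Ideal.Quotient.mk _ a ∈ J
    rw [RingHom.mem_ker.mp ha]
    exact J.zero_mem
  haveI : IsArtinianRing (R ⧸ Module.annihilator R N) :=
    isArtinianRing_iff_krullDimLE_zero.mpr inferInstance
  haveI : Module.Finite (R ⧸ Module.annihilator R N) N :=
    Module.Finite.of_restrictScalars_finite R _ N
  haveI : IsArtinian (R ⧸ Module.annihilator R N) N := inferInstance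
  haveI : IsArtinian R N :=
    isArtinian_of_surjective_algebraMap (R := R ⧸ Module.annihilator R N) (S := R)
      Ideal.Quotient.mk_surjective
  rw [isFiniteLength_iff_isNoetherian_isArtinian]
  exact ⟨inferInstance, inferInstance⟩

theorem isFiniteLength_iff_support_isMaximal [IsNoetherianRing R] {N : Type*} [AddCommGroup N]
    [Module R N] [Module.Finite R N] :
    IsFiniteLength R N ↔ ∀ Q ∈ Module.support R N, Q.asIdeal.IsMaximal :=
  ⟨fun h Q hQ => isMaximal_of_mem_support_of_isFiniteLength h Q hQ,
    isFiniteLength_of_support_isMaximal⟩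

end Alg0

section Alg1

variable {A : Type*} [CommRing A] (p : Ideal A) [p.IsPrime]
  {R : Type*} [CommRing R] [Algebra A R] [IsLocalization.AtPrime R p]
  {M : Type*} [AddCommGroup M] [Module A M]
  {N : Type*} [AddCommGroup N] [Module A N] [Module R N] [IsScalarTower A R N]
  (g : M →ₗ[A] N) [IsLocalizedModule p.primeCompl g]

include p g in
/-- the support of `M_p` over `A_p` consists of the primes lying over the support of `M` -/
theorem mem_support_iff_comap_mem_support (Q : PrimeSpectrum R) :
    Q ∈ Module.support R N ↔ PrimeSpectrum.comap (algebraMap A R) Q ∈ Module.support A M := by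
  constructor
  · intro hQ
    have h1 : PrimeSpectrum.comap (algebraMap A R) Q ∈ Module.support A N :=
      Module.support_subset_preimage_comap (R := A) (A := R) (M := N) hQ
    rw [Module.mem_support_iff'] at h1 ⊢
    obtain ⟨n, hn⟩ := h1
    obtain ⟨⟨m, s⟩, hms⟩ := IsLocalizedModule.surj p.primeCompl g n
    refine ⟨m, fun r hr hrm => hn r hr ?_⟩
    have h2 : s • (r • n) = 0 := by
      rw [smul_comm, hms, ← map_smul, hrm, map_zero]
    exact IsLocalizedModule.smul_injective g s (h2.trans (smul_zero _).symm)
  · intro hq
    rw [Module.mem_support_iff'] at hq ⊢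
    obtain ⟨m, hm⟩ := hq
    refine ⟨g m, fun ρ hρ h0 => ?_⟩
    obtain ⟨a, s, rfl⟩ := IsLocalization.exists_mk'_eq p.primeCompl ρ
    have ha : a ∉ (PrimeSpectrum.comap (algebraMap A R) Q).asIdeal := by
      intro ha
      apply hρ
      rw [IsLocalization.mk'_mem_iff]
      exact ha
    have h1 : g (a • m) = 0 := by
      rw [map_smul, ← algebraMap_smul R a (g m), ← IsLocalization.mk'_spec R a s, mul_smul, smul_comm,
        h0, smul_zero]
    obtain ⟨t, ht⟩ := (IsLocalizedModule.eq_zero_iff p.primeCompl g).mp h1
    have hle : (PrimeSpectrum.comap (algebraMap A R) Q).asIdeal ≤ p := by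
      haveI := IsLocalization.AtPrime.isLocalRing R p
      have h2 : Q.asIdeal ≤ IsLocalRing.maximalIdeal R := IsLocalRing.le_maximalIdeal Q.2.ne_top
      have h3 := Ideal.comap_mono (f := algebraMap A R) h2
      rw [show Ideal.comap (algebraMap A R) (IsLocalRing.maximalIdeal R) = p from
        IsLocalization.AtPrime.under_maximalIdeal R p] at h3
      exact h3
    refine hm ((t : A) * a) ?_ ?_
    · intro hta
      rcases (PrimeSpectrum.comap (algebraMap A R) Q).2.mem_or_mem hta with h | h
      · exact t.2 (hle h)
      · exact ha h
    · rw [mul_smul]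
      exact ht

include g in
/-- **`M_p` is a nonzero module of finite length over `A_p` iff `p` is minimal in `Supp M`.** -/
theorem nontrivial_and_isFiniteLength_iff [IsNoetherianRing A] [Module.Finite A M] :
    (Nontrivial N ∧ IsFiniteLength R N) ↔
      ((⟨p, inferInstance⟩ : PrimeSpectrum A) ∈ Module.support A M ∧
        ∀ q ∈ Module.support A M, q ≤ (⟨p, inferInstance⟩ : PrimeSpectrum A) →
          q = (⟨p, inferInstance⟩ : PrimeSpectrum A)) := by
  haveI : IsLocalRing R := IsLocalization.AtPrime.isLocalRing R p
  haveI : IsNoetherianRing R := IsLocalization.isNoetherianRing p.primeCompl R inferInstance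
  haveI : Module.Finite R N := Module.Finite.of_isLocalizedModule p.primeCompl g
  have hcl : PrimeSpectrum.comap (algebraMap A R) (IsLocalRing.closedPoint R) =
      (⟨p, inferInstance⟩ : PrimeSpectrum A) := by
    apply PrimeSpectrum.ext
    exact IsLocalization.AtPrime.under_maximalIdeal R p
  constructor
  · rintro ⟨hnt, hfl⟩
    have h1 : IsLocalRing.closedPoint R ∈ Module.support R N :=
      IsLocalRing.closedPoint_mem_support R N
    refine ⟨?_, fun q hq hle => ?_⟩
    · rw [← hcl]
      exact (mem_support_iff_comap_mem_support p g _).mp h1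
    · have hd : Disjoint (p.primeCompl : Set A) q.asIdeal := by
        rw [Set.disjoint_left]
        intro a ha haq
        exact ha (hle haq)
      have hQp : (Ideal.map (algebraMap A R) q.asIdeal).IsPrime :=
        IsLocalization.isPrime_of_isPrime_disjoint p.primeCompl R q.asIdeal q.2 hd
      have hQc : PrimeSpectrum.comap (algebraMap A R) ⟨_, hQp⟩ = q := by
        apply PrimeSpectrum.ext
        exact IsLocalization.under_map_of_isPrime_disjoint p.primeCompl R q.2 hd
      have hQs : (⟨_, hQp⟩ : PrimeSpectrum R) ∈ Module.support R N := by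
        rw [mem_support_iff_comap_mem_support p g, hQc]
        exact hq
      have hmax := isMaximal_of_mem_support_of_isFiniteLength hfl _ hQs
      have heq : Ideal.map (algebraMap A R) q.asIdeal = IsLocalRing.maximalIdeal R :=
        IsLocalRing.eq_maximalIdeal hmax
      rw [← hQc, ← hcl]
      congr 1
      apply PrimeSpectrum.ext
      exact heq
  · rintro ⟨hp, hmin⟩
    have h1 : IsLocalRing.closedPoint R ∈ Module.support R N := by
      rw [mem_support_iff_comap_mem_support p g, hcl]
      exact hp
    refine ⟨Module.nonempty_support_iff.mp ⟨_, h1⟩, ?_⟩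
    refine isFiniteLength_of_support_isMaximal fun Q hQ => ?_
    have h2 := (mem_support_iff_comap_mem_support p g Q).mp hQ
    have hle : PrimeSpectrum.comap (algebraMap A R) Q ≤ (⟨p, inferInstance⟩ : PrimeSpectrum A) := by
      rw [← hcl]
      have h3 : Q.asIdeal ≤ IsLocalRing.maximalIdeal R := IsLocalRing.le_maximalIdeal Q.2.ne_top
      exact Ideal.comap_mono (f := algebraMap A R) h3
    have h4 := hmin _ h2 hle
    have h5 : Q.asIdeal = IsLocalRing.maximalIdeal R := by
      rw [← IsLocalization.map_under p.primeCompl R Q.asIdeal,
        ← IsLocalization.map_under p.primeCompl R (IsLocalRing.maximalIdeal R)]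
      congr 1
      have h6 := congrArg PrimeSpectrum.asIdeal (h4.trans hcl.symm)
      exact h6
    rw [h5]
    exact IsLocalRing.maximalIdeal.isMaximal R

end Alg1

end Groth.Agent.Lib.helper8.StalkLen
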