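import Groth.Prelude.Def_EGA43
import Mathlib.AlgebraicGeometry.PullbackCarrier
import Mathlib.AlgebraicGeometry.Morphisms.UniversallyClosed

/-!
Helper lemmas about `EGA43.IsOpenAt` / `EGA43.IsUnivOpenAt` (helper8).
-/

set_option autoImplicit false
universe u

open CategoryTheory CategoryTheory.Limits AlgebraicGeometry

namespace Groth.Agent.Lib.helper8

section Top

variable {α β γ : Type*} [TopologicalSpace α] [TopologicalSpace β] [TopologicalSpace γ]

theorem isOpenAt_comp (f : α → β) (g : β → γ) (x : α) (hf : EGA43.IsOpenAt f x)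
    (hg : EGA43.IsOpenAt g (f x)) : EGA43.IsOpenAt (g ∘ f) x := by
  intro U hU
  rw [Set.image_comp]
  exact hg _ (hf U hU)

theorem isOpenAt_of_isOpenMap (f : α → β) (hf : IsOpenMap f) (x : α) : EGA43.IsOpenAt f x :=
  fun _ hU => hf.image_mem_nhds hU

theorem isOpenAt_of_comp (f : α → β) (g : β → γ) (x : α) (hf : ContinuousAt f x)
    (h : EGA43.IsOpenAt (g ∘ f) x) : EGA43.IsOpenAt g (f x) := by
  intro U hU
  have h1 := h (f ⁻¹' U) (hf hU)
  refine Filter.mem_of_superset h1 ?_
  rintro _ ⟨z, hz, rfl⟩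
  exact ⟨f z, hz, rfl⟩

end Top

variable {X Y : Scheme.{u}}

/-- `IsUnivOpenAt` tested on an arbitrary pullback square. -/
theorem isOpenAt_snd_of_isPullback {f : X ⟶ Y} {x : X} (h : EGA43.IsUnivOpenAt f x)
    {P Y' : Scheme.{u}} {fst : P ⟶ X} {snd : P ⟶ Y'} {g : Y' ⟶ Y} (sq : IsPullback fst snd f g)
    (p : P) (hp : fst.base p = x) : EGA43.IsOpenAt snd.base p := by
  have h1 : sq.isoPullback.hom ≫ pullback.fst f g = fst := sq.isoPullback_hom_fst
  have h2 : sq.isoPullback.hom ≫ pullback.snd f g = snd := sq.isoPullback_hom_snd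
  have hsnd : (fun q => snd.base q) = (fun q => (pullback.snd f g).base q) ∘
      (fun q => sq.isoPullback.hom.base q) := by
    funext q
    exact congrArg (fun φ : P ⟶ Y' => φ.base q) h2.symm
  change EGA43.IsOpenAt (fun q => snd.base q) p
  rw [hsnd]
  apply isOpenAt_comp
  · exact isOpenAt_of_isOpenMap _ sq.isoPullback.hom.isOpenEmbedding.isOpenMap _
  · apply h
    have : (pullback.fst f g).base (sq.isoPullback.hom.base p) =
        (sq.isoPullback.hom ≫ pullback.fst f g).base p := rfl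
    rw [this, h1, hp]

/-- `IsUnivOpenAt` is stable under base change. -/
theorem isUnivOpenAt_of_isPullback {f : X ⟶ Y} {x : X} (h : EGA43.IsUnivOpenAt f x)
    {P Y' : Scheme.{u}} {fst : P ⟶ X} {snd : P ⟶ Y'} {g : Y' ⟶ Y} (sq : IsPullback fst snd f g)
    (p : P) (hp : fst.base p = x) : EGA43.IsUnivOpenAt snd p := by
  intro Y'' g₂ p' hp'
  have sq2 := (IsPullback.of_hasPullback snd g₂).paste_horiz sq
  apply isOpenAt_snd_of_isPullback h sq2 p'
  have : (pullback.fst snd g₂ ≫ fst).base p' = fst.base ((pullback.fst snd g₂).base p') := rfl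
  rw [this, hp', hp]

/-- openness at a point descends along a closed surjective map (EGA IV 14.?.?). -/
theorem isOpenAt_of_baseChange_closed_surjective {Y₁ : Scheme.{u}} (v : Y₁ ⟶ Y)
    (hv : IsClosedMap v.base) (hsurj : Function.Surjective v.base) (f : X ⟶ Y) (x : X)
    (h : ∀ x₁ : ↥(pullback f v), (pullback.fst f v).base x₁ = x →
      EGA43.IsOpenAt (pullback.snd f v).base x₁) :
    EGA43.IsOpenAt f.base x := by
  intro U hU
  have hcomm : ∀ z : ↥(pullback f v), v.base ((pullback.snd f v).base z) =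
      f.base ((pullback.fst f v).base z) := by
    intro z
    have := congrArg (fun φ => φ.base z) (pullback.condition (f := f) (g := v))
    exact this.symm
  let N : Set Y₁ := (fun z => (pullback.snd f v).base z) '' ((fun z => (pullback.fst f v).base z) ⁻¹' U)
  have hN1 : N ⊆ (fun y => v.base y) ⁻¹' ((fun z => f.base z) '' U) := by
    rintro _ ⟨z, hz, rfl⟩
    exact ⟨(pullback.fst f v).base z, hz, (hcomm z).symm⟩
  have hN2 : ∀ y₁ : Y₁, v.base y₁ = f.base x → N ∈ nhds y₁ := by
    intro y₁ hy₁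
    obtain ⟨x₁, hx₁, hx₁'⟩ := Scheme.Pullback.exists_preimage_pullback (f := f) (g := v) x y₁ hy₁.symm
    have hcont : (fun z => (pullback.fst f v).base z) ⁻¹' U ∈ nhds x₁ := by
      apply (pullback.fst f v).continuous.continuousAt
      have : (pullback.fst f v).base x₁ = x := hx₁
      rw [this]; exact hU
    have h3 := h x₁ hx₁ _ hcont
    have h4 : (pullback.snd f v).base x₁ = y₁ := hx₁'
    rw [h4] at h3
    exact h3
  let W : Set Y₁ := interior N
  have hW : IsOpen W := isOpen_interior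
  have hWsub : ∀ y₁ : Y₁, v.base y₁ = f.base x → y₁ ∈ W := fun y₁ hy₁ =>
    mem_interior_iff_mem_nhds.mpr (hN2 y₁ hy₁)
  have hC : IsClosed ((fun y => v.base y) '' Wᶜ) := hv _ hW.isClosed_compl
  have hfx : f.base x ∈ ((fun y => v.base y) '' Wᶜ)ᶜ := by
    rintro ⟨y₁, hy₁, hy₁'⟩
    exact hy₁ (hWsub y₁ hy₁')
  refine Filter.mem_of_superset (hC.isOpen_compl.mem_nhds hfx) ?_
  intro y hy
  obtain ⟨y₁, rfl⟩ := hsurj y
  have hy₁W : y₁ ∈ W := by
    by_contra hnot
    exact hy ⟨y₁, hnot, rfl⟩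
  exact hN1 (interior_subset hy₁W)

end Groth.Agent.Lib.helper8
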