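import Mathlib
import Groth.Agent.Lib.Helper8.DevExt

set_option autoImplicit false
universe u
open CategoryTheory CategoryTheory.Limits AlgebraicGeometry TopologicalSpace Opposite

namespace Groth.Agent.Lib.helper8.Dev

open Groth.Agent.Lib.helper8.PullbackUnit Scheme.Modules

variable {X : Scheme.{u}}

section Center

/-- **the centre of `Coh(X)`**: a family of endomorphisms of the coherent modules commuting with all
morphisms is multiplication by the global function `ψ_{O_X}(1)`. -/
theorem center_coh [IsNoetherian X] (ψ : ∀ M : X.Modules, Coh.IsCoh M → (M ⟶ M))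
    (hnat : ∀ (A B : X.Modules) (hA : Coh.IsCoh A) (hB : Coh.IsCoh B) (f : A ⟶ B),
      f ≫ ψ B hB = ψ A hA ≫ f)
    (M : X.Modules) (hM : Coh.IsCoh M) (U : X.Opens) (m : Γ(M, U)) :
    ((ψ M hM).app U).hom m =
      (X.presheaf.map (homOfLE (le_top : U ≤ ⊤)).op
        (((ψ (Coh.structureModule X) (isCoh_structureModule X)).app ⊤).hom (1 : Γ(X, ⊤))) :
          Γ(X, U)) • m := by
  let O : X.Modules := Coh.structureModule X
  have hO : Coh.IsCoh O := isCoh_structureModule X
  let r : Γ(X, ⊤) := ((ψ O hO).app ⊤).hom (1 : Γ(X, ⊤))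
  let rr : ∀ W : X.Opens, Γ(X, W) := fun W => X.presheaf.map (homOfLE (le_top : W ≤ ⊤)).op r
  -- step 1: the structure sheaf
  have h1 : ∀ (W : X.Opens) (s : Γ(X, W)), ((ψ O hO).app W).hom s = s * rr W := by
    intro W s
    have e1 : ((ψ O hO).app W).hom (1 : Γ(X, W)) = rr W := by
      have := Groth.Agent.Lib.helper16.QCohEpi.app_map (ψ O hO) (le_top : W ≤ ⊤) (1 : Γ(X, ⊤))
      have e2 : O.presheaf.map (homOfLE (le_top : W ≤ ⊤)).op (1 : Γ(X, ⊤)) = (1 : Γ(X, W)) :=
        map_one (X.presheaf.map (homOfLE (le_top : W ≤ ⊤)).op).hom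
      rw [e2] at this
      exact this
    have e3 : ((ψ O hO).app W).hom (s • (show Γ(O, W) from (1 : Γ(X, W)))) =
        s • ((ψ O hO).app W).hom (1 : Γ(X, W)) := Hom.app_smul (ψ O hO) s _
    have e4 : (s • (show Γ(O, W) from (1 : Γ(X, W))) : Γ(O, W)) = s := by
      rw [structureModule_smul]
      exact mul_one s
    rw [e4, e1, structureModule_smul] at e3
    exact e3
  -- step 2: ideals
  have h2 : ∀ (J : X.Modules) (ιJ : J ⟶ O) [Mono ιJ] [J.IsQuasicoherent] (hJ : Coh.IsCoh J)
      (W : X.Opens) (x : Γ(J, W)), ((ψ J hJ).app W).hom x = rr W • x := by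
    intro J ιJ _ _ hJ W x
    apply Groth.Agent.S2542.injective_app_of_mono ιJ W
    have e1 : (ιJ.app W).hom (((ψ J hJ).app W).hom x) =
        ((ψ O hO).app W).hom ((ιJ.app W).hom x) := by
      have := hnat J O hJ hO ιJ
      have e2 : ((ψ J hJ ≫ ιJ).app W).hom x = ((ιJ ≫ ψ O hO).app W).hom x := by rw [this]
      exact e2
    have e3 : (ιJ.app W).hom (rr W • x) = rr W • (ιJ.app W).hom x := Hom.app_smul ιJ _ x
    rw [e1, h1, e3, structureModule_smul, mul_comm]
  -- step 3: sections over affine opens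
  have h3 : ∀ (V : X.Opens) (hV : IsAffineOpen V) (m : Γ(M, V)),
      ((ψ M hM).app V).hom m = rr V • m := by
    intro V hV m
    obtain ⟨J, ιJ, β, hιJ, hJq, one, -, hβone⟩ := exists_ideal_hom_of_section M hM V hV m
    haveI := hιJ
    haveI := hJq
    have hJ : Coh.IsCoh J := Groth.Agent.S0046.result X O J ιJ hO hJq
    have e1 : ((ψ M hM).app V).hom ((β.app V).hom one) =
        (β.app V).hom (((ψ J hJ).app V).hom one) := by
      have := hnat J M hJ hM β
      have e2 : ((β ≫ ψ M hM).app V).hom one = ((ψ J hJ ≫ β).app V).hom one := by rw [this]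
      exact e2
    have e3 : (β.app V).hom (rr V • one) = rr V • (β.app V).hom one := Hom.app_smul β _ one
    rw [← hβone, e1, h2 J ιJ hJ V one, e3]
  -- step 4: arbitrary opens
  refine TopCat.Presheaf.IsSheaf.section_ext M.isSheaf (U := op U) (fun x hx => ?_)
  obtain ⟨_, ⟨V, hV : IsAffineOpen V, rfl⟩, hxV, hVU⟩ :=
    X.isBasis_affineOpens.exists_subset_of_mem_open hx U.2
  refine ⟨V, hVU, hxV, ?_⟩
  have e1 := Groth.Agent.Lib.helper16.QCohEpi.app_map (ψ M hM) hVU m
  have e2 : M.presheaf.map (homOfLE hVU).op (rr U • m) =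
      X.presheaf.map (homOfLE hVU).op (rr U) • M.presheaf.map (homOfLE hVU).op m :=
    Scheme.Modules.map_smul M (homOfLE hVU) (rr U) m
  have e3 : X.presheaf.map (homOfLE hVU).op (rr U) = rr V := by
    show X.presheaf.map (homOfLE hVU).op (X.presheaf.map (homOfLE (le_top : U ≤ ⊤)).op r) = _
    rw [← ConcreteCategory.comp_apply, ← Functor.map_comp]
    rfl
  exact e1.symm.trans ((h3 V hV _).trans ((e2.trans (by rw [e3]; rfl)).symm))

end Center

end Groth.Agent.Lib.helper8.Dev
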