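import Mathlib
import Groth.Agent.Lib.Helper8.DevCenter

set_option autoImplicit false
universe u
open CategoryTheory CategoryTheory.Limits AlgebraicGeometry TopologicalSpace Opposite

namespace Groth.Agent.Lib.helper8.Dev

open Groth.Agent.Lib.helper8.PullbackUnit Scheme.Modules Groth.Agent.Lib.helper8.SchemeSupport

variable {X : Scheme.{u}}

section OC

/-- the structure sheaf of the reduced closed subscheme on the closed subset `C`, as an `O_X`-module -/
noncomputable def OC (C : Closeds X) : X.Modules :=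
  (pushforward (Scheme.IdealSheafData.vanishingIdeal C).subschemeι).obj (Coh.structureModule _)

theorem isCoh_OC (C : Closeds X) : Coh.IsCoh (OC C) := isCoh_push_structureModule _

theorem killedByIdeal_OC (C : Closeds X) :
    ClSub.KilledByIdeal (Scheme.IdealSheafData.vanishingIdeal C) (OC C) := by
  have h := killedByIdeal_ker_push (Scheme.IdealSheafData.vanishingIdeal C).subschemeι
    (Coh.structureModule _)
  rw [Scheme.IdealSheafData.ker_subschemeι] at h
  exact h

/-- the section `1` of `O_C` -/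
noncomputable def oneC (C : Closeds X) (U : X.Opens) : Γ(OC C, U) :=
  (1 : Γ((Scheme.IdealSheafData.vanishingIdeal C).subscheme,
    (Scheme.IdealSheafData.vanishingIdeal C).subschemeι ⁻¹ᵁ U))

theorem smul_oneC (C : Closeds X) (U : X.Opens) (a : Γ(X, U)) :
    @Eq Γ((Scheme.IdealSheafData.vanishingIdeal C).subscheme,
      (Scheme.IdealSheafData.vanishingIdeal C).subschemeι ⁻¹ᵁ U) (a • oneC C U)
      (((Scheme.IdealSheafData.vanishingIdeal C).subschemeι.app U).hom a) :=
  mul_one (M := Γ((Scheme.IdealSheafData.vanishingIdeal C).subscheme,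
    (Scheme.IdealSheafData.vanishingIdeal C).subschemeι ⁻¹ᵁ U))
    (((Scheme.IdealSheafData.vanishingIdeal C).subschemeι.app U).hom a)

/-- sections of `O_C` over an affine open are the quotient of the functions by the vanishing
ideal -/
theorem OC_one_smul_eq_zero_iff (C : Closeds X) (U : X.affineOpens) (a : Γ(X, U.1)) :
    a • oneC C U.1 = 0 ↔ a ∈ (Scheme.IdealSheafData.vanishingIdeal C).ideal U := by
  rw [← Scheme.IdealSheafData.ker_subschemeι_app, RingHom.mem_ker]
  constructor
  · intro h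
    exact (smul_oneC C U.1 a).symm.trans h
  · intro h
    exact (smul_oneC C U.1 a).trans h

theorem OC_exists_smul_one (C : Closeds X) (U : X.affineOpens) (m : Γ(OC C, U.1)) :
    ∃ c : Γ(X, U.1), m = c • oneC C U.1 := by
  obtain ⟨c, hc⟩ := (Scheme.IdealSheafData.vanishingIdeal C).subschemeι_app_surjective U m
  exact ⟨c, hc.symm.trans (smul_oneC C U.1 c).symm⟩

theorem support_OC [IsNoetherian X] (C : Closeds X) : CohB1.support (OC C) = (C : Set X) := by
  let 𝔞 : X.IdealSheafData := Scheme.IdealSheafData.vanishingIdeal C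
  let i := 𝔞.subschemeι
  have hrange : Set.range i = (C : Set X) := by
    rw [Scheme.IdealSheafData.range_subschemeι, Scheme.IdealSheafData.coe_support_vanishingIdeal]
  have hF : Coh.IsCoh (OC C) := isCoh_OC C
  haveI : (OC C).IsQuasicoherent := hF.1
  refine subset_antisymm ?_ ?_
  · rw [← hrange]
    exact support_subset_range_of_iso _ i _ (Iso.refl _)
  · rw [← hrange]
    rintro _ ⟨z, rfl⟩
    obtain ⟨_, ⟨U, hU : IsAffineOpen U, rfl⟩, hy, -⟩ :=
      X.isBasis_affineOpens.exists_subset_of_mem_open (Set.mem_univ (i z)) isOpen_univ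
    refine mem_support_of_section (OC C) ⟨U, hU⟩ _ hy (1 : Γ(𝔞.subscheme, i ⁻¹ᵁ U))
      (fun a ha => ?_)
    have h1 : (i.app U).hom a = 0 := by
      have h2 : (i.app U).hom a * (1 : Γ(𝔞.subscheme, i ⁻¹ᵁ U)) = 0 := ha
      rw [mul_one] at h2
      exact h2
    by_contra hna
    have h3 : i z ∈ X.basicOpen a :=
      (Groth.Agent.Lib.helper28.mem_basicOpen_iff hU _ hy a).mpr hna
    have h4 : z ∈ i ⁻¹ᵁ X.basicOpen a := h3
    rw [Scheme.preimage_basicOpen, h1, Scheme.basicOpen_zero] at h4
    exact h4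

end OC

section CoreOC

variable {Z : Scheme.{u}} (i : Z ⟶ X) [IsClosedImmersion i]

/-- for a reduced closed subscheme the vanishing ideal of its image is the ideal of the subscheme -/
theorem vanishingIdeal_range_le_ker [IsReduced Z] (C : Closeds X) (hC : (C : Set X) = Set.range i) :
    Scheme.IdealSheafData.vanishingIdeal C ≤ i.ker := by
  have h1 : C = i.ker.support := by
    apply SetLike.coe_injective
    rw [hC, Scheme.Hom.support_ker, i.isClosedEmbedding.isClosed_range.closure_eq]
  rw [h1, Scheme.IdealSheafData.vanishingIdeal_support]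
  intro U a ha
  have h2 : a ∈ (i.ker.ideal U).radical := ha
  rw [Scheme.Hom.ker_apply] at h2 ⊢
  obtain ⟨n, hn⟩ := h2
  rw [RingHom.mem_ker] at hn ⊢
  rw [map_pow] at hn
  exact IsReduced.eq_zero _ ⟨n, hn⟩

variable {i} {P : X.Modules → Prop}

/-- **the classical generic point argument**: if `P` holds for the structure sheaf of the image of
the integral closed subscheme `Z`, it holds for `i_* I` for all nonzero quasi-coherent ideals `I` of
`O_Z` -/
theorem P_push_ideal_of_OC [IsNoetherian X] [IsIntegral Z] (hyp : Hyp i P) (C : Closeds X)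
    (hC : (C : Set X) = Set.range i) (hPC : P (OC C))
    (I : Z.Modules) (ι : I ⟶ Coh.structureModule Z) [Mono ι] [I.IsQuasicoherent]
    (hI0 : ¬ IsZero I) : P ((pushforward i).obj I) := by
  obtain ⟨U, x₀, hx₀⟩ := exists_section_ne_zero i I hI0
  have hιx₀ : (ι.app (i ⁻¹ᵁ U.1)).hom x₀ ≠ 0 := by
    intro h0'
    apply hx₀
    apply Groth.Agent.S2542.injective_app_of_mono ι (i ⁻¹ᵁ U.1)
    rw [h0', map_zero]
  have hnt : Nontrivial Γ(Z, i ⁻¹ᵁ U.1) := ⟨⟨_, 0, hιx₀⟩⟩
  have hle : i.ker ≤ Scheme.IdealSheafData.vanishingIdeal C := by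
    have h := ker_le_vanishingIdeal_range i
    have hCeq : C = ⟨Set.range i, i.isClosedEmbedding.isClosed_range⟩ :=
      SetLike.coe_injective hC
    rw [hCeq]
    exact h
  have hge : Scheme.IdealSheafData.vanishingIdeal C ≤ i.ker := vanishingIdeal_range_le_ker i C hC
  have hkill : ClSub.KilledByIdeal i.ker (OC C) := killedByIdeal_of_le hle _ (killedByIdeal_OC C)
  have h1notin : (1 : Γ(X, U.1)) ∉ i.ker.ideal U := by
    rw [Scheme.Hom.ker_apply, RingHom.mem_ker, map_one]
    exact one_ne_zero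
  refine core hyp (OC C) (isCoh_OC C) ⟨1, by rw [pow_one]; exact hkill⟩ hPC U ?_ ?_ I ι x₀ hιx₀
  · exact ⟨1, h1notin, fun x hx => by
      rw [eq_zero_of_mem_smul_of_killed i.ker (OC C) hkill U x hx]
      exact smul_zero (M := Γ(X, U.1)) (A := Γ(OC C, U.1)) 1⟩
  · refine ⟨oneC C U.1, fun a ha => ?_, 1, h1notin, fun m => ?_⟩
    · have h0 := eq_zero_of_mem_smul_of_killed i.ker (OC C) hkill U _ ha
      exact hge U ((OC_one_smul_eq_zero_iff C U a).mp h0)
    · obtain ⟨c, hc⟩ := OC_exists_smul_one C U m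
      exact ⟨c, by rw [one_smul]; exact hc⟩

/-- **master dévissage theorem, classical form**: two-of-three, and `P` holds for the structure
sheaves of the integral closed subschemes with image in `T` -/
theorem devissage_master_OC [IsNoetherian X] (P : X.Modules → Prop)
    (hP : ∀ M N : X.Modules, Nonempty (M ≅ N) → P M → P N) (T : Set X)
    (h0 : ∀ N : X.Modules, IsZero N → P N)
    (h₁ : ∀ S : ShortComplex X.Modules, S.ShortExact → Coh.IsCoh S.X₁ → Coh.IsCoh S.X₂ →
      Coh.IsCoh S.X₃ → CohB1.support S.X₂ ⊆ T →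
      (P S.X₁ → P S.X₂ → P S.X₃) ∧ (P S.X₁ → P S.X₃ → P S.X₂) ∧ (P S.X₂ → P S.X₃ → P S.X₁))
    (hgen : ∀ (Z : Scheme.{u}) (i : Z ⟶ X) [IsClosedImmersion i] [IsIntegral Z],
      Set.range i ⊆ T → ∃ C : Closeds X, (C : Set X) = Set.range i ∧ P (OC C))
    (M : X.Modules) (hM : Coh.IsCoh M) (hsupp : CohB1.support M ⊆ T) : P M := by
  refine devissage_master_aux P hP T h0
    (fun S hS h1 h2 h3 hT => (h₁ S hS h1 h2 h3 hT).2.1) ?_ M hM hsupp
  intro Z i _ _ hT hsmall I ι hι hIq hI0
  haveI := hι
  haveI : I.IsQuasicoherent := hIq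
  obtain ⟨C, hC, hPC⟩ := hgen Z i hT
  have hyp : Hyp i P :=
    { iso := hP
      tot := fun S hS h1 h2 h3 ⟨n, hn⟩ =>
        h₁ S hS h1 h2 h3 ((support_subset_range_of_killed i S.X₂ h2 n hn).trans hT)
      small := hsmall }
  exact P_push_ideal_of_OC hyp C hC hPC I ι hI0

end CoreOC

end Groth.Agent.Lib.helper8.Dev
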