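import Groth.Agent.Lib.Helper8.PushSupp

/-!
# Length of the stalk of `i_* O_Z` for a closed immersion `i` (helper8)

* `length_stalk_push_structure i z`: `length_{O_{X,i z}} (i_* O_Z)_{i z} = length_{O_{Z,z}} O_{Z,z}`.
* `length_stalk_push_structure_of_notMem`: the stalk vanishes off the range of `i`.
-/

set_option autoImplicit false
set_option linter.style.haveILetI false
universe u
open CategoryTheory CategoryTheory.Limits AlgebraicGeometry TopologicalSpace Opposite

namespace Groth.Agent.Lib.helper8.StalkLen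

open Scheme.Modules Groth.Agent.Lib.helper8.Dev Groth.Agent.Lib.helper16.QCohAss
  Groth.Agent.Lib.helper16.CohStalk

variable {X Z : Scheme.{u}} (i : Z ⟶ X) [IsClosedImmersion i]

theorem length_stalk_push_structure_of_notMem (x : X) (hx : x ∉ Set.range i) :
    Module.length (X.presheaf.stalk x)
      (((pushforward i).obj (Coh.structureModule Z)).presheaf.stalk x) = 0 := by
  rw [Module.length_eq_zero_iff]
  by_contra h
  exact hx (Groth.Agent.Lib.helper8.SchemeSupport.support_subset_range_of_iso _ i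
    (Coh.structureModule Z) (Iso.refl _) h)

theorem length_stalk_push_structure (z : Z) :
    Module.length (X.presheaf.stalk (i z))
      (((pushforward i).obj (Coh.structureModule Z)).presheaf.stalk (i z)) =
    Module.length (Z.presheaf.stalk z) (Z.presheaf.stalk z) := by
  obtain ⟨_, ⟨U, hU : IsAffineOpen U, rfl⟩, hxU, -⟩ :=
    X.isBasis_affineOpens.exists_subset_of_mem_open (Set.mem_univ (i z)) isOpen_univ
  have hV : IsAffineOpen (i ⁻¹ᵁ U) := hU.preimage i
  have hzV : z ∈ i ⁻¹ᵁ U := hxU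
  let H : X.Modules := (pushforward i).obj (Coh.structureModule Z)
  haveI : H.IsQuasicoherent := Groth.Agent.Lib.helper16.QCohAffinePush.isQuasicoherent_push i _
  let φ : Γ(X, U) →+* Γ(Z, i ⁻¹ᵁ U) := (i.app U).hom
  have hφ : Function.Surjective φ := i.app_surjective U hU
  let gz : Γ(Z, i ⁻¹ᵁ U) →+* Z.presheaf.stalk z := (Z.presheaf.germ (i ⁻¹ᵁ U) z hzV).hom
  let p : Ideal Γ(X, U) := (hU.primeIdealOf ⟨i z, hxU⟩).asIdeal
  let q : Ideal Γ(Z, i ⁻¹ᵁ U) := (hV.primeIdealOf ⟨z, hzV⟩).asIdeal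
  have hpq : ∀ a : Γ(X, U), a ∈ p ↔ φ a ∈ q := by
    intro a
    rw [← not_iff_not]
    rw [← Groth.Agent.Lib.helper28.mem_basicOpen_iff hU (i z) hxU a,
      ← Groth.Agent.Lib.helper28.mem_basicOpen_iff hV z hzV (φ a)]
    have h1 : i ⁻¹ᵁ X.basicOpen a = Z.basicOpen (φ a) := Scheme.preimage_basicOpen i a
    rw [← h1]
    rfl
  -- instances at `x = i z`
  letI := TopCat.Presheaf.algebra_section_stalk X.presheaf (⟨i z, hxU⟩ : U)
  letI := modStalk H (i z) hxU
  haveI := isScalarTower_stalk H (i z) hxU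
  haveI : IsLocalization.AtPrime (X.presheaf.stalk (i z)) p := hU.isLocalization_stalk ⟨i z, hxU⟩
  haveI := isLocalizedModule_stalk H hU (i z) hxU
  -- instances at `z`
  letI algBN := TopCat.Presheaf.algebra_section_stalk Z.presheaf (⟨z, hzV⟩ : (i ⁻¹ᵁ U : Z.Opens))
  haveI hlocN : IsLocalization.AtPrime (Z.presheaf.stalk z) q := hV.isLocalization_stalk ⟨z, hzV⟩
  letI algN : Algebra (X.presheaf.stalk (i z)) (Z.presheaf.stalk z) :=
    (i.stalkMap z).hom.toAlgebra
  letI modN : Module Γ(X, U) (Z.presheaf.stalk z) := Module.compHom _ (gz.comp φ)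
  have hgs : ∀ a : Γ(X, U), (i.stalkMap z).hom ((X.presheaf.germ U (i z) hxU).hom a) = gz (φ a) :=
    fun a => Scheme.Hom.germ_stalkMap_apply i U z hxU a
  haveI : IsScalarTower Γ(X, U) (X.presheaf.stalk (i z)) (Z.presheaf.stalk z) :=
    ⟨fun a r n => by
      change (i.stalkMap z).hom ((X.presheaf.germ U (i z) hxU).hom a * r) * n =
        gz (φ a) * ((i.stalkMap z).hom r * n)
      rw [map_mul, hgs, mul_assoc]⟩
  let ψ : Γ(H, U) →ₗ[Γ(X, U)] Z.presheaf.stalk z :=
    { toFun := fun b => gz b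
      map_add' := fun b₁ b₂ => map_add gz b₁ b₂
      map_smul' := fun a b => by
        change gz (φ a * (show Γ(Z, i ⁻¹ᵁ U) from b)) = gz (φ a) * gz b
        rw [map_mul] }
  haveI : IsLocalizedModule p.primeCompl ψ := by
    refine ⟨?_, ?_, ?_⟩
    · rintro ⟨a, ha⟩
      rw [Module.End.isUnit_iff]
      have hu : IsUnit (gz (φ a)) :=
        IsLocalization.map_units (Z.presheaf.stalk z)
          (⟨φ a, fun h => ha ((hpq a).mpr h)⟩ : q.primeCompl)
      exact IsUnit.isUnit_iff_mulLeft_bijective.mp hu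
    · intro n
      obtain ⟨⟨b, s⟩, hs⟩ := IsLocalization.surj q.primeCompl n
      obtain ⟨a, ha⟩ := hφ s.1
      refine ⟨(b, ⟨a, fun h => s.2 (ha ▸ (hpq a).mp h)⟩), ?_⟩
      change gz (φ a) * n = gz b
      rw [ha, mul_comm]
      exact hs
    · intro b₁ b₂ h
      obtain ⟨s, hs⟩ := (IsLocalization.eq_iff_exists q.primeCompl (Z.presheaf.stalk z)).mp h
      obtain ⟨a, ha⟩ := hφ s.1
      refine ⟨⟨a, fun h => s.2 (ha ▸ (hpq a).mp h)⟩, ?_⟩
      change φ a * (show Γ(Z, i ⁻¹ᵁ U) from b₁) = φ a * (show Γ(Z, i ⁻¹ᵁ U) from b₂)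
      rw [ha]
      exact hs
  let e0 := IsLocalizedModule.linearEquiv p.primeCompl (germLin H (i z) hxU) ψ
  let e := LinearEquiv.extendScalarsOfIsLocalization p.primeCompl (X.presheaf.stalk (i z)) e0
  rw [e.length_eq]
  exact Module.length_eq_of_surjective (i.stalkMap_surjective z)

end Groth.Agent.Lib.helper8.StalkLen
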