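import Mathlib
import Groth.Agent.Lib.Helper8.FlatCohBC1
import Groth.Agent.Lib.Helper11.GCAlg1

/-!
# Base change of the cohomology of a complex of flat modules with flat cohomology (helper8)

* `isBC_left_of_exact`, `isBC_right`: transfer of `IsBC` to kernels (when the kernel sequence stays
  left exact after `R' ⊗ -`) and to cokernels.
* `flat_of_extension`: an extension of flat modules is flat.
* `Seq.flat_quotient_range`: for a complex `X` of flat `A`-modules with flat cohomology which is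
  universally exact in high degrees, all `X (n+1) / im (d n)` are flat; hence (`Seq.lTensor_ker`)
  the kernels of the differentials commute with `T ⊗ -` for every module `T`.
-/

set_option autoImplicit false
universe u
open CategoryTheory TensorProduct

namespace Groth.Agent.Lib.helper8.FlatHomBC

open Groth.Agent.Lib.helper8.PullbackUnit Groth.Agent.Lib.helper8.FlatBC
open Groth.Agent.Lib.helper23.TA Groth.Agent.Lib.helper11.GCAlg

section Transfer

variable {R R' : Type u} [CommRing R] [CommRing R'] [Algebra R R']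
variable {N₁ N₂ N₃ P₁ P₂ P₃ : Type u}
  [AddCommGroup N₁] [AddCommGroup N₂] [AddCommGroup N₃]
  [Module R N₁] [Module R N₂] [Module R N₃]
  [AddCommGroup P₁] [AddCommGroup P₂] [AddCommGroup P₃]
  [Module R' P₁] [Module R' P₂] [Module R' P₃]
  (f₁ : N₁ →ₗ[R] N₂) (f₂ : N₂ →ₗ[R] N₃)
  (g₁ : P₁ →ₗ[R'] P₂) (g₂ : P₂ →ₗ[R'] P₃)
  (k₁ : N₁ →+ P₁) (k₂ : N₂ →+ P₂) (k₃ : N₃ →+ P₃)

/-- base change for the first term of a left exact sequence which stays left exact after `R' ⊗ -` -/
theorem isBC_left_of_exact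
    (hc₁ : ∀ n, g₁ (k₁ n) = k₂ (f₁ n)) (hc₂ : ∀ n, g₂ (k₂ n) = k₃ (f₂ n))
    (hfi : Function.Injective (f₁.lTensor R'))
    (hfe : Function.Exact (f₁.lTensor R') (f₂.lTensor R'))
    (hg₀ : Function.Injective g₁) (hg₁ : Function.Exact g₁ g₂)
    (hk₁ : ∀ (r : R) (n : N₁), k₁ (r • n) = algebraMap R R' r • k₁ n)
    (h₂ : IsBC (algebraMap R R') k₂) (h₃ : IsBC (algebraMap R R') k₃) :
    IsBC (algebraMap R R') k₁ := by
  rw [isBC_iff_bijective_tlift k₁ hk₁]
  have b₂ := (isBC_iff_bijective_tlift k₂ h₂.map_smul).mp h₂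
  have b₃ := (isBC_iff_bijective_tlift k₃ h₃.map_smul).mp h₃
  refine AddMonoidHom.bijective_of_bijective_of_injective_of_left_exact
    (f₁.lTensor R').toAddMonoidHom (f₂.lTensor R').toAddMonoidHom
    g₁.toAddMonoidHom g₂.toAddMonoidHom
    (tlift k₁ hk₁).toAddMonoidHom (tlift k₂ h₂.map_smul).toAddMonoidHom
    (tlift k₃ h₃.map_smul).toAddMonoidHom ?_ ?_ hfe hg₁ b₂ b₃.1 hfi hg₀
  · ext x
    exact tlift_comm k₁ hk₁ k₂ h₂.map_smul f₁ g₁ hc₁ x
  · ext x
    exact tlift_comm k₂ h₂.map_smul k₃ h₃.map_smul f₂ g₂ hc₂ x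

/-- base change for the cokernel -/
theorem isBC_right
    (hc₁ : ∀ n, g₁ (k₁ n) = k₂ (f₁ n)) (hc₂ : ∀ n, g₂ (k₂ n) = k₃ (f₂ n))
    (hf : Function.Exact f₁ f₂) (hfs : Function.Surjective f₂)
    (hg : Function.Exact g₁ g₂) (hgs : Function.Surjective g₂)
    (hk₃ : ∀ (r : R) (n : N₃), k₃ (r • n) = algebraMap R R' r • k₃ n)
    (h₁ : IsBC (algebraMap R R') k₁) (h₂ : IsBC (algebraMap R R') k₂) :
    IsBC (algebraMap R R') k₃ := by
  rw [isBC_iff_bijective_tlift k₃ hk₃]
  have b₁ := (isBC_iff_bijective_tlift k₁ h₁.map_smul).mp h₁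
  have b₂ := (isBC_iff_bijective_tlift k₂ h₂.map_smul).mp h₂
  refine AddMonoidHom.bijective_of_surjective_of_bijective_of_right_exact
    (f₁.lTensor R').toAddMonoidHom (f₂.lTensor R').toAddMonoidHom
    g₁.toAddMonoidHom g₂.toAddMonoidHom
    (tlift k₁ h₁.map_smul).toAddMonoidHom (tlift k₂ h₂.map_smul).toAddMonoidHom
    (tlift k₃ hk₃).toAddMonoidHom ?_ ?_ (lTensor_exact R' hf hfs) hg b₁.2 b₂
    (LinearMap.lTensor_surjective R' hfs) hgs
  · ext x
    exact tlift_comm k₁ h₁.map_smul k₂ h₂.map_smul f₁ g₁ hc₁ x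
  · ext x
    exact tlift_comm k₂ h₂.map_smul k₃ hk₃ f₂ g₂ hc₂ x

end Transfer

section Ext

variable {A : Type u} [CommRing A]

/-- an extension of flat modules is flat -/
theorem flat_of_extension {H Q Bd : Type u} [AddCommGroup H] [Module A H] [AddCommGroup Q]
    [Module A Q] [AddCommGroup Bd] [Module A Bd] [Module.Flat A H] [Module.Flat A Bd]
    (j : H →ₗ[A] Q) (q : Q →ₗ[A] Bd) (hj : Function.Injective j) (hq : Function.Surjective q)
    (hex : Function.Exact j q) : Module.Flat A Q := by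
  rw [Module.Flat.iff_rTensor_preserves_injective_linearMap]
  intro N N' _ _ _ _ i hi
  rw [injective_iff_map_eq_zero]
  intro x hx
  have h1 : (i.rTensor Bd) ((q.lTensor N) x) = 0 := by
    rw [← LinearMap.comp_apply, LinearMap.rTensor_comp_lTensor, ← LinearMap.lTensor_comp_rTensor,
      LinearMap.comp_apply, hx, map_zero]
  have h2 : (q.lTensor N) x = 0 :=
    (injective_iff_map_eq_zero _).1
      (Module.Flat.rTensor_preserves_injective_linearMap (M := Bd) i hi) _ h1
  obtain ⟨h, rfl⟩ := (lTensor_exact N hex hq x).1 h2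
  have h3 : (j.lTensor N') ((i.rTensor H) h) = 0 := by
    rw [← LinearMap.comp_apply, LinearMap.lTensor_comp_rTensor, ← LinearMap.rTensor_comp_lTensor,
      LinearMap.comp_apply, hx]
  have h4 : (i.rTensor H) h = 0 :=
    (injective_iff_map_eq_zero _).1
      (LinearMap.lTensor_injective_of_exact_of_flat q hq j hj hex N') _ h3
  have h5 : h = 0 :=
    (injective_iff_map_eq_zero _).1
      (Module.Flat.rTensor_preserves_injective_linearMap (M := H) i hi) _ h4
  rw [h5, map_zero]

end Ext

section Seq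

variable {A : Type u} [CommRing A] (X : ℤ → Type u) [∀ i, AddCommGroup (X i)] [∀ i, Module A (X i)]
  (d : ∀ i, X i →ₗ[A] X (i + 1)) (hd : ∀ i, d (i + 1) ∘ₗ d i = 0)

/-- `X i → ker (d (i+1))` -/
def toKer' (i : ℤ) : X i →ₗ[A] LinearMap.ker (d (i + 1)) :=
  (d i).codRestrict _ (fun x => by
    rw [LinearMap.mem_ker, ← LinearMap.comp_apply, hd]
    rfl)

/-- the cohomology in degree `i + 1` -/
abbrev Hc (i : ℤ) : Type u := LinearMap.ker (d (i + 1)) ⧸ LinearMap.range (toKer' X d hd i)

/-- descending step -/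
theorem flat_quotient_step (i : ℤ) [Module.Flat A (X (i + 1 + 1))]
    (hQ : Module.Flat A (X (i + 1 + 1) ⧸ LinearMap.range (d (i + 1))))
    (hH : Module.Flat A (Hc X d hd i)) :
    Module.Flat A (X (i + 1) ⧸ LinearMap.range (d i)) := by
  let Bd : Submodule A (X (i + 1 + 1)) := LinearMap.range (d (i + 1))
  haveI : Module.Flat A Bd :=
    flat_of_exact Bd.subtype Bd.mkQ (Submodule.subtype_injective _) (Submodule.mkQ_surjective _)
      (LinearMap.exact_subtype_mkQ _)
  let q : (X (i + 1) ⧸ LinearMap.range (d i)) →ₗ[A] Bd :=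
    (LinearMap.range (d i)).liftQ (d (i + 1)).rangeRestrict (by
      rintro _ ⟨x, rfl⟩
      rw [LinearMap.mem_ker]
      apply Subtype.ext
      have := LinearMap.congr_fun (hd i) x
      simpa using this)
  let j : Hc X d hd i →ₗ[A] (X (i + 1) ⧸ LinearMap.range (d i)) :=
    (LinearMap.range (toKer' X d hd i)).liftQ
      ((LinearMap.range (d i)).mkQ ∘ₗ (LinearMap.ker (d (i + 1))).subtype) (by
      rintro _ ⟨x, rfl⟩
      rw [LinearMap.mem_ker, LinearMap.comp_apply, Submodule.mkQ_apply,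
        Submodule.Quotient.mk_eq_zero]
      exact ⟨x, rfl⟩)
  have hj : Function.Injective j := by
    rw [← LinearMap.ker_eq_bot, Submodule.ker_liftQ, eq_bot_iff]
    rintro _ ⟨z, hz, rfl⟩
    have hz' : (LinearMap.range (d i)).mkQ ((LinearMap.ker (d (i + 1))).subtype z) = 0 := hz
    rw [Submodule.mkQ_apply, Submodule.Quotient.mk_eq_zero] at hz'
    obtain ⟨x, hx⟩ := hz'
    rw [Submodule.mem_bot, Submodule.mkQ_apply, Submodule.Quotient.mk_eq_zero]
    exact ⟨x, Subtype.ext hx⟩
  have hq : Function.Surjective q := by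
    rintro ⟨y, x, rfl⟩
    exact ⟨Submodule.Quotient.mk x, rfl⟩
  have hex : Function.Exact j q := by
    intro w
    constructor
    · intro hw
      obtain ⟨x, rfl⟩ := Submodule.Quotient.mk_surjective _ w
      have hx : d (i + 1) x = 0 := congrArg Subtype.val hw
      exact ⟨Submodule.Quotient.mk ⟨x, hx⟩, rfl⟩
    · rintro ⟨h, rfl⟩
      obtain ⟨z, rfl⟩ := Submodule.Quotient.mk_surjective _ h
      apply Subtype.ext
      exact z.2
  haveI := hH
  exact flat_of_extension j q hj hq hex

/-- For a complex of flat modules with flat cohomology which is universally exact in high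
degrees, all `X / im` are flat. -/
theorem flat_quotient_range_all
    (hflat : ∀ i, Module.Flat A (X i))
    (hH : ∀ i, Module.Flat A (Hc X d hd i))
    (N₀ : ℤ)
    (huniv : ∀ (N : Type u) [AddCommGroup N] [Module A N] (i : ℤ), N₀ ≤ i →
      Function.Exact ((d i).lTensor N) ((d (i + 1)).lTensor N)) (j : ℤ) :
    Module.Flat A (X (j + 1 + 1) ⧸ LinearMap.range (d (j + 1))) := by
  suffices H : ∀ (n : ℕ) (j : ℤ), N₀ ≤ j + n →
      Module.Flat A (X (j + 1 + 1) ⧸ LinearMap.range (d (j + 1))) from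
    H (N₀ - j).toNat j (by have := Int.self_le_toNat (N₀ - j); omega)
  intro n
  induction n with
  | zero =>
    intro j hj
    have := hflat (j + 1 + 1)
    exact flat_quotient_range (d j) (d (j + 1)) (hd j) (fun N _ _ => huniv N j (by simpa using hj))
  | succ n ih =>
    intro j hj
    have := hflat (j + 1 + 1 + 1)
    exact flat_quotient_step X d hd (j + 1) (ih (j + 1) (by push_cast at hj; omega)) (hH (j + 1))

/-- The kernel of `d (j+1)` commutes with `T ⊗ -`. -/
theorem lTensor_ker
    (hflat : ∀ i, Module.Flat A (X i))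
    (hH : ∀ i, Module.Flat A (Hc X d hd i))
    (N₀ : ℤ)
    (huniv : ∀ (N : Type u) [AddCommGroup N] [Module A N] (i : ℤ), N₀ ≤ i →
      Function.Exact ((d i).lTensor N) ((d (i + 1)).lTensor N)) (j : ℤ)
    {Z : Type u} [AddCommGroup Z] [Module A Z] (iZ : Z →ₗ[A] X (j + 1))
    (hinj : Function.Injective iZ) (hex : Function.Exact iZ (d (j + 1)))
    (T : Type u) [AddCommGroup T] [Module A T] :
    Function.Injective (iZ.lTensor T) ∧ Function.Exact (iZ.lTensor T) ((d (j + 1)).lTensor T) := by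
  have hQ := flat_quotient_range_all X d hd hflat hH N₀ huniv j
  have := hflat (j + 1 + 1)
  let Bd : Submodule A (X (j + 1 + 1)) := LinearMap.range (d (j + 1))
  haveI : Module.Flat A Bd :=
    flat_of_exact Bd.subtype Bd.mkQ (Submodule.subtype_injective _) (Submodule.mkQ_surjective _)
      (LinearMap.exact_subtype_mkQ _)
  refine ⟨?_, lTensor_exact_of_flat_quotient iZ (d (j + 1)) hex hQ T⟩
  have hex' : Function.Exact iZ (d (j + 1)).rangeRestrict := by
    intro x
    rw [← hex x]
    constructor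
    · intro h
      exact congrArg Subtype.val h
    · intro h
      exact Subtype.ext h
  exact LinearMap.lTensor_injective_of_exact_of_flat (d (j + 1)).rangeRestrict
    (LinearMap.surjective_rangeRestrict _) iZ hinj hex' T

end Seq

end Groth.Agent.Lib.helper8.FlatHomBC
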