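import Mathlib
import Groth.Agent.Lib.Helper8.FlatHomBC
import Groth.Agent.Lib.Helper21.ModCxHom

set_option autoImplicit false
universe u
open CategoryTheory TensorProduct HomologicalComplex

namespace Groth.Agent.Lib.helper8.FlatHomBC

open Groth.Agent.Lib.helper8.PullbackUnit Groth.Agent.Lib.helper8.FlatBC
open Groth.Agent.Lib.helper21.ModCx

section Cx

theorem cyclesMap_add' {K L : CochainComplex AddCommGrpCat.{u} ℤ} (φ ψ : K ⟶ L) (n : ℤ) :
    cyclesMap (φ + ψ) n = cyclesMap φ n + cyclesMap ψ n := by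
  rw [← cancel_mono (L.iCycles n), cyclesMap_i, Preadditive.add_comp, cyclesMap_i, cyclesMap_i,
    add_f_apply, Preadditive.comp_add]

variable {A : Type u} [CommRing A] (K : CochainComplex AddCommGrpCat.{u} ℤ) (ρ : A →+* End K)

/-- the action on cycles -/
noncomputable def actZ (n : ℤ) : A →+* AddMonoid.End (K.cycles n) where
  toFun a := (cyclesMap (ρ a) n).hom
  map_one' := by
    rw [map_one]
    show (cyclesMap (𝟙 K) n).hom = _
    rw [cyclesMap_id]
    rfl
  map_mul' a b := by
    rw [map_mul, End.mul_def, cyclesMap_comp]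
    rfl
  map_zero' := by
    rw [map_zero, cyclesMap_zero]
    rfl
  map_add' a b := by
    rw [map_add, cyclesMap_add']
    rfl

/-- the action on homology -/
noncomputable def actH (n : ℤ) : A →+* AddMonoid.End (K.homology n) where
  toFun a := (homologyMap (ρ a) n).hom
  map_one' := by
    rw [map_one]
    show (homologyMap (𝟙 K) n).hom = _
    rw [homologyMap_id]
    rfl
  map_mul' a b := by
    rw [map_mul, End.mul_def, homologyMap_comp]
    rfl
  map_zero' := by
    rw [map_zero, homologyMap_zero]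
    rfl
  map_add' a b := by
    rw [map_add, homologyMap_add]
    rfl

/-- module structure on cycles -/
@[reducible] noncomputable def modZ (n : ℤ) : Module A (K.cycles n) :=
  Module.compHom (K.cycles n) (actZ K ρ n)

/-- module structure on homology -/
@[reducible] noncomputable def modH (n : ℤ) : Module A (K.homology n) :=
  Module.compHom (K.homology n) (actH K ρ n)

/-- the inclusion of cycles -/
noncomputable def iZ (n : ℤ) :
    letI := modZ K ρ n
    letI := modX K ρ n
    K.cycles n →ₗ[A] K.X n :=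
  letI := modZ K ρ n
  letI := modX K ρ n
  { toFun := (K.iCycles n).hom
    map_add' := map_add _
    map_smul' := fun a z => ConcreteCategory.congr_hom (cyclesMap_i (ρ a) n) z }

theorem toCycles_nat {K L : CochainComplex AddCommGrpCat.{u} ℤ} (φ : K ⟶ L) (i j : ℤ) :
    φ.f i ≫ L.toCycles i j = K.toCycles i j ≫ cyclesMap φ j := by
  rw [← cancel_mono (L.iCycles j), Category.assoc, Category.assoc, toCycles_i, cyclesMap_i,
    toCycles_i_assoc, φ.comm i j]

/-- the map to cycles -/
noncomputable def tZ (i j : ℤ) :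
    letI := modX K ρ i
    letI := modZ K ρ j
    K.X i →ₗ[A] K.cycles j :=
  letI := modX K ρ i
  letI := modZ K ρ j
  { toFun := (K.toCycles i j).hom
    map_add' := map_add _
    map_smul' := fun a x => ConcreteCategory.congr_hom (toCycles_nat (ρ a) i j) x }

/-- the projection to homology -/
noncomputable def πH (n : ℤ) :
    letI := modZ K ρ n
    letI := modH K ρ n
    K.cycles n →ₗ[A] K.homology n :=
  letI := modZ K ρ n
  letI := modH K ρ n
  { toFun := (K.homologyπ n).hom
    map_add' := map_add _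
    map_smul' := fun a z => (ConcreteCategory.congr_hom (homologyπ_naturality (ρ a) n) z).symm }

theorem iCycles_injective (n : ℤ) : Function.Injective (K.iCycles n).hom :=
  (AddCommGrpCat.mono_iff_injective _).mp inferInstance

theorem homologyπ_surjective (n : ℤ) : Function.Surjective (K.homologyπ n).hom :=
  (AddCommGrpCat.epi_iff_surjective _).mp inferInstance

theorem exact_iCycles_d (n : ℤ) :
    Function.Exact (K.iCycles n).hom (K.d n (n + 1)).hom := by
  have h := ShortComplex.exact_of_f_is_kernel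
    (ShortComplex.mk (K.iCycles n) (K.d n (n + 1)) (K.iCycles_d n (n + 1)))
    (K.cyclesIsKernel n (n + 1) (by simp))
  exact (ShortComplex.ab_exact_iff_function_exact _).mp h

theorem exact_toCycles_homologyπ (i : ℤ) :
    Function.Exact (K.toCycles i (i + 1)).hom (K.homologyπ (i + 1)).hom := by
  have h := ShortComplex.exact_of_g_is_cokernel
    (ShortComplex.mk (K.toCycles i (i + 1)) (K.homologyπ (i + 1))
      (K.toCycles_comp_homologyπ i (i + 1)))
    (K.homologyIsCokernel i (i + 1) (by simp))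
  exact (ShortComplex.ab_exact_iff_function_exact _).mp h

end Cx

section Seq2

variable {A : Type u} [CommRing A] (X : ℤ → Type u) [∀ i, AddCommGroup (X i)] [∀ i, Module A (X i)]
  (d : ∀ i, X i →ₗ[A] X (i + 1)) (hd : ∀ i, d (i + 1) ∘ₗ d i = 0)

/-- the explicit cohomology module is isomorphic to any abstract one -/
theorem flat_Hc_of_abstract (i : ℤ) {Z H : Type u} [AddCommGroup Z] [Module A Z]
    [AddCommGroup H] [Module A H]
    (iZ : Z →ₗ[A] X (i + 1)) (tZ : X i →ₗ[A] Z) (πH : Z →ₗ[A] H)
    (hinj : Function.Injective iZ) (hex : Function.Exact iZ (d (i + 1)))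
    (hit : ∀ x, iZ (tZ x) = d i x)
    (hex2 : Function.Exact tZ πH) (hsurj : Function.Surjective πH) [Module.Flat A H] :
    Module.Flat A (Hc X d hd i) := by
  let φ₁ : Z →ₗ[A] LinearMap.ker (d (i + 1)) :=
    iZ.codRestrict _ (fun z => (hex (iZ z)).mpr ⟨z, rfl⟩)
  have hφ₁ : Function.Bijective φ₁ := by
    constructor
    · intro a b hab
      exact hinj (congrArg Subtype.val hab)
    · rintro ⟨x, hx⟩
      obtain ⟨z, rfl⟩ := (hex x).mp hx
      exact ⟨z, rfl⟩
  let e₁ : Z ≃ₗ[A] LinearMap.ker (d (i + 1)) := LinearEquiv.ofBijective φ₁ hφ₁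
  let g : LinearMap.ker (d (i + 1)) →ₗ[A] H := πH ∘ₗ e₁.symm.toLinearMap
  have hg : Function.Surjective g := hsurj.comp e₁.symm.surjective
  have hker : LinearMap.ker g = LinearMap.range (toKer' X d hd i) := by
    ext z
    rw [LinearMap.mem_ker, LinearMap.mem_range]
    constructor
    · intro hz
      obtain ⟨x, hx⟩ := (hex2 (e₁.symm z)).mp hz
      refine ⟨x, ?_⟩
      apply Subtype.ext
      have h1 : ((e₁ (e₁.symm z)) : X (i + 1)) = iZ (e₁.symm z) := rfl
      rw [LinearEquiv.apply_symm_apply] at h1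
      rw [h1, ← hx, hit]
      rfl
    · rintro ⟨x, rfl⟩
      have h2 : e₁ (tZ x) = toKer' X d hd i x := Subtype.ext (hit x)
      show πH (e₁.symm (toKer' X d hd i x)) = 0
      rw [← h2, LinearEquiv.symm_apply_apply]
      exact (hex2 (tZ x)).mpr ⟨x, rfl⟩
  let e : Hc X d hd i ≃ₗ[A] H :=
    (Submodule.quotEquivOfEq _ _ hker.symm) ≪≫ₗ g.quotKerEquivOfSurjective hg
  exact Module.Flat.of_linearEquiv e

end Seq2

section Main

variable {A B : Type u} [CommRing A] [CommRing B] [Algebra A B]
  (K K' : CochainComplex AddCommGrpCat.{u} ℤ) (ρ : A →+* End K) (ρ' : B →+* End K') (κ : K ⟶ K')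
  (hκ : ∀ a, ρ a ≫ κ = κ ≫ ρ' (algebraMap A B a))

include hκ in
theorem cyclesMap_smul (n : ℤ) (a : A) (z : K.cycles n) :
    (cyclesMap κ n).hom ((cyclesMap (ρ a) n).hom z) =
      (cyclesMap (ρ' (algebraMap A B a)) n).hom ((cyclesMap κ n).hom z) := by
  have h := congrArg (fun t => cyclesMap t n) (hκ a)
  simp only [cyclesMap_comp] at h
  exact ConcreteCategory.congr_hom h z

include hκ in
theorem homologyMap_smul (n : ℤ) (a : A) (z : K.homology n) :
    (homologyMap κ n).hom ((homologyMap (ρ a) n).hom z) =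
      (homologyMap (ρ' (algebraMap A B a)) n).hom ((homologyMap κ n).hom z) := by
  have h := congrArg (fun t => homologyMap t n) (hκ a)
  simp only [homologyMap_comp] at h
  exact ConcreteCategory.congr_hom h z

include hκ in
/-- **Base change for the cohomology of a complex of flat modules with flat cohomology.** -/
theorem isBC_homologyMap
    (hBC : ∀ n : ℤ, @IsBC A B _ _ (algebraMap A B) (K.X n) (K'.X n) _ (modX K ρ n) _
      (modX K' ρ' n) (κ.f n).hom)
    (hflat : ∀ n : ℤ, @Module.Flat A (K.X n) _ _ (modX K ρ n))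
    (hH : ∀ n : ℤ, @Module.Flat A (K.homology n) _ _ (modH K ρ n))
    (N₀ : ℤ)
    (huniv : ∀ (T : Type u) [AddCommGroup T] [Module A T] (i : ℤ), N₀ ≤ i →
      Function.Exact (((modCx K ρ).d i (i + 1)).hom.lTensor T)
        (((modCx K ρ).d (i + 1) (i + 1 + 1)).hom.lTensor T)) (p : ℤ) :
    @IsBC A B _ _ (algebraMap A B) (K.homology p) (K'.homology p) _ (modH K ρ p) _
      (modH K' ρ' p) (homologyMap κ p).hom := by
  obtain ⟨j, rfl⟩ : ∃ j, p = j + 1 := ⟨p - 1, by ring⟩
  letI iX : ∀ i, Module A (K.X i) := fun i => modX K ρ i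
  letI iX' : ∀ i, Module B (K'.X i) := fun i => modX K' ρ' i
  letI iZ₀ : ∀ i, Module A (K.cycles i) := fun i => modZ K ρ i
  letI iZ₀' : ∀ i, Module B (K'.cycles i) := fun i => modZ K' ρ' i
  letI iH₀ : ∀ i, Module A (K.homology i) := fun i => modH K ρ i
  letI iH₀' : ∀ i, Module B (K'.homology i) := fun i => modH K' ρ' i
  let X : ℤ → Type u := fun i => K.X i
  let d : ∀ i, X i →ₗ[A] X (i + 1) := fun i => dLin K ρ i (i + 1)
  have hd : ∀ i, d (i + 1) ∘ₗ d i = 0 := by
    intro i
    ext x
    exact ConcreteCategory.congr_hom (K.d_comp_d i (i + 1) (i + 1 + 1)) x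
  have hflat' : ∀ i, Module.Flat A (X i) := hflat
  have hH' : ∀ i, Module.Flat A (Hc X d hd i) := by
    intro i
    haveI : Module.Flat A (K.homology (i + 1)) := hH (i + 1)
    exact flat_Hc_of_abstract X d hd i (iZ K ρ (i + 1)) (tZ K ρ i (i + 1)) (πH K ρ (i + 1))
      (iCycles_injective K (i + 1)) (exact_iCycles_d K (i + 1))
      (fun x => ConcreteCategory.congr_hom (K.toCycles_i i (i + 1)) x)
      (exact_toCycles_homologyπ K i) (homologyπ_surjective K (i + 1))
  have huniv' : ∀ (T : Type u) [AddCommGroup T] [Module A T] (i : ℤ), N₀ ≤ i →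
      Function.Exact ((d i).lTensor T) ((d (i + 1)).lTensor T) := huniv
  -- cycles
  obtain ⟨hfi, hfe⟩ := lTensor_ker X d hd hflat' hH' N₀ huniv' j (iZ K ρ (j + 1))
    (iCycles_injective K (j + 1)) (exact_iCycles_d K (j + 1)) B
  have hZ : IsBC (algebraMap A B) (cyclesMap κ (j + 1)).hom :=
    isBC_left_of_exact (iZ K ρ (j + 1)) (d (j + 1)) (iZ K' ρ' (j + 1))
      (dLin K' ρ' (j + 1) (j + 1 + 1))
      (cyclesMap κ (j + 1)).hom (κ.f (j + 1)).hom (κ.f (j + 1 + 1)).hom
      (fun z => ConcreteCategory.congr_hom (cyclesMap_i κ (j + 1)) z)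
      (fun x => ConcreteCategory.congr_hom (κ.comm (j + 1) (j + 1 + 1)) x)
      hfi hfe (iCycles_injective K' (j + 1)) (exact_iCycles_d K' (j + 1))
      (fun a z => cyclesMap_smul K K' ρ ρ' κ hκ (j + 1) a z) (hBC (j + 1)) (hBC (j + 1 + 1))
  -- homology
  exact isBC_right (tZ K ρ j (j + 1)) (πH K ρ (j + 1)) (tZ K' ρ' j (j + 1)) (πH K' ρ' (j + 1))
    (κ.f j).hom (cyclesMap κ (j + 1)).hom (homologyMap κ (j + 1)).hom
    (fun x => ConcreteCategory.congr_hom (toCycles_nat κ j (j + 1)) x)
    (fun z => (ConcreteCategory.congr_hom (homologyπ_naturality κ (j + 1)) z).symm)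
    (exact_toCycles_homologyπ K j) (homologyπ_surjective K (j + 1))
    (exact_toCycles_homologyπ K' j) (homologyπ_surjective K' (j + 1))
    (fun a z => homologyMap_smul K K' ρ ρ' κ hκ (j + 1) a z) (hBC j) hZ

end Main

end Groth.Agent.Lib.helper8.FlatHomBC
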