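import Mathlib
import Groth.Prelude.Def_CohPull
import Groth.Agent.Lib.Helper27.ExtPull
import Groth.Agent.Lib.Helper18.ResLEDelta

set_option autoImplicit false
universe u
open CategoryTheory AlgebraicGeometry Opposite TopologicalSpace Abelian
open Groth.Agent.Lib.helper27

namespace Groth.Agent.Lib.helper8.PullModComp

section Top
variable {X Y Z : TopCat.{u}}

/-- the map on cohomology induced by `θ : M ⟶ f_* N` -/
noncomputable def HmAb (f : X ⟶ Y) {M : CohTop.Ab Y} {N : CohTop.Ab X}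
    (θ : M ⟶ (CohTop.push f).obj N) (p : ℕ) : Sheaf.H M p →+ Sheaf.H N p :=
  ExtPull.hmap (CohPull.invPushAdj f) (CohPull.oneTo f) θ p

/-- `(f ≫ g)_* = g_* f_*` -/
noncomputable def pushCompNat (f : X ⟶ Y) (g : Y ⟶ Z) :
    CohTop.push (f ≫ g) ⟶ CohTop.push f ⋙ CohTop.push g where
  app P := 𝟙 _

/-- the conjugate `f⁻¹ g⁻¹ ⟶ (f ≫ g)⁻¹` -/
noncomputable def invCompNat (f : X ⟶ Y) (g : Y ⟶ Z) :
    CohPull.inv g ⋙ CohPull.inv f ⟶ CohPull.inv (f ≫ g) :=
  (conjugateEquiv (CohPull.invPushAdj (f ≫ g))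
    ((CohPull.invPushAdj g).comp (CohPull.invPushAdj f))).symm (pushCompNat f g)

theorem adjZ_homEquiv_eq {W : TopCat.{u}} {G : CohTop.Ab W}
    (φ : CohTop.const W (ULift.{u} ℤ) ⟶ G) :
    (CohPull.adjZ W).homEquiv _ _ φ = CohPull.oneSec W ≫ φ.hom.app (op ⊤) := by
  have : (CohPull.adjZ W).homEquiv _ _ φ = CohPull.oneSec W ≫
      ((sheafSections (Opens.grothendieckTopology ↑W) AddCommGrpCat).obj (op ⊤)).map φ := by
    rw [CohPull.oneSec, ← Adjunction.homEquiv_naturality_right, Category.id_comp]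
  exact this

theorem adjZ_homEquiv_oneTo (f : X ⟶ Y) :
    (CohPull.adjZ X).homEquiv _ _ (CohPull.oneTo f) =
      CohPull.oneSec Y ≫
        ((CohPull.invPushAdj f).unit.app (CohTop.const Y (ULift.{u} ℤ))).hom.app (op ⊤) := by
  unfold CohPull.oneTo
  exact Equiv.apply_symm_apply _ _

theorem oneTo_comp (f : X ⟶ Y) (g : Y ⟶ Z) :
    (CohPull.oneTo f ≫ (CohPull.inv f).map (CohPull.oneTo g)) ≫
      (invCompNat f g).app (CohTop.const Z (ULift.{u} ℤ)) = CohPull.oneTo (f ≫ g) := by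
  apply ((CohPull.adjZ X).homEquiv _ _).injective
  rw [adjZ_homEquiv_oneTo, adjZ_homEquiv_eq]
  have h1 := adjZ_homEquiv_oneTo f
  rw [adjZ_homEquiv_eq] at h1
  have h2 := adjZ_homEquiv_oneTo g
  rw [adjZ_homEquiv_eq] at h2
  have h1e : ∀ z, (CohPull.oneTo f).hom.app (op ⊤) ((CohPull.oneSec X).hom z) =
      ((CohPull.invPushAdj f).unit.app (CohTop.const Y (ULift.{u} ℤ))).hom.app (op ⊤)
        ((CohPull.oneSec Y).hom z) := fun z => ConcreteCategory.congr_hom h1 z
  have h2e : ∀ z, (CohPull.oneTo g).hom.app (op ⊤) ((CohPull.oneSec Y).hom z) =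
      ((CohPull.invPushAdj g).unit.app (CohTop.const Z (ULift.{u} ℤ))).hom.app (op ⊤)
        ((CohPull.oneSec Z).hom z) := fun z => ConcreteCategory.congr_hom h2 z
  have h3e : ∀ w : (CohTop.const Y (ULift.{u} ℤ)).obj.obj (op ⊤),
      ((CohPull.inv f).map (CohPull.oneTo g)).hom.app (op ⊤)
        (((CohPull.invPushAdj f).unit.app (CohTop.const Y (ULift.{u} ℤ))).hom.app (op ⊤) w) =
      ((CohPull.invPushAdj f).unit.app ((CohPull.inv g).obj (CohTop.const Z (ULift.{u} ℤ)))).hom.app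
        (op ⊤) ((CohPull.oneTo g).hom.app (op ⊤) w) := by
    intro w
    have := congr_arg (fun t => (t.hom.app (op ⊤)) w)
      ((CohPull.invPushAdj f).unit.naturality (CohPull.oneTo g))
    simp only [Functor.id_map, Functor.comp_map, ObjectProperty.FullSubcategory.comp_hom,
      NatTrans.comp_app, ConcreteCategory.comp_apply] at this
    exact this.symm
  have h4e : ∀ w : (CohTop.const Z (ULift.{u} ℤ)).obj.obj (op ⊤),
      ((invCompNat f g).app (CohTop.const Z (ULift.{u} ℤ))).hom.app (op ⊤)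
        (((CohPull.invPushAdj f).unit.app
          ((CohPull.inv g).obj (CohTop.const Z (ULift.{u} ℤ)))).hom.app (op ⊤)
          (((CohPull.invPushAdj g).unit.app (CohTop.const Z (ULift.{u} ℤ))).hom.app (op ⊤) w)) =
      ((CohPull.invPushAdj (f ≫ g)).unit.app (CohTop.const Z (ULift.{u} ℤ))).hom.app (op ⊤) w := by
    intro w
    have := congr_arg (fun t => (t.hom.app (op ⊤)) w)
      (unit_conjugateEquiv_symm (CohPull.invPushAdj (f ≫ g))
        ((CohPull.invPushAdj g).comp (CohPull.invPushAdj f)) (pushCompNat f g)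
        (CohTop.const Z (ULift.{u} ℤ)))
    simp only [Adjunction.comp_unit_app, ObjectProperty.FullSubcategory.comp_hom,
      NatTrans.comp_app, ConcreteCategory.comp_apply, pushCompNat] at this
    exact this.symm
  ext z
  exact (congrArg _ ((congrArg _ (h1e z)).trans ((h3e _).trans (congrArg _ (h2e z))))).trans
    (h4e _)

/-- **composition** -/
theorem HmAb_comp (f : X ⟶ Y) (g : Y ⟶ Z) {M : CohTop.Ab Z} {N : CohTop.Ab Y} {P : CohTop.Ab X}
    (θ : M ⟶ (CohTop.push g).obj N) (θ' : N ⟶ (CohTop.push f).obj P) (p : ℕ) (x : Sheaf.H M p) :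
    HmAb f θ' p (HmAb g θ p x) =
      HmAb (f ≫ g) (M := M) (N := P) (θ ≫ (CohTop.push g).map θ') p x := by
  unfold HmAb
  rw [ExtPull.hmap_comp]
  have h := ExtPull.hmap_change (CohPull.invPushAdj (f ≫ g))
    ((CohPull.invPushAdj g).comp (CohPull.invPushAdj f)) (pushCompNat f g)
    (CohPull.oneTo f ≫ (CohPull.inv f).map (CohPull.oneTo g)) (G' := P)
    (θ ≫ (CohTop.push g).map θ') p x
  have e : (θ ≫ (CohTop.push g).map θ') ≫ (pushCompNat f g).app P =
      θ ≫ (CohTop.push g).map θ' := Category.comp_id _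
  have e2 := oneTo_comp f g
  refine (congrArg (fun t => ExtPull.hmap ((CohPull.invPushAdj g).comp (CohPull.invPushAdj f))
    (CohPull.oneTo f ≫ (CohPull.inv f).map (CohPull.oneTo g)) (G' := P) t p x) e).symm.trans
    (h.trans ?_)
  exact congrArg (fun t => ExtPull.hmap (CohPull.invPushAdj (f ≫ g)) t (G' := P)
    (θ ≫ (CohTop.push g).map θ') p x) e2

theorem HmAb_apply (f : X ⟶ Y) {M : CohTop.Ab Y} {N : CohTop.Ab X}
    (θ : M ⟶ (CohTop.push f).obj N) (p : ℕ) (x : Sheaf.H M p) :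
    HmAb f θ p x = (Ext.mk₀ (CohPull.oneTo f)).comp
      (((x.comp (Ext.mk₀ θ) (add_zero p)).mapExactFunctor (CohPull.inv f)).comp
        (Ext.mk₀ ((CohPull.invPushAdj f).counit.app N)) (add_zero p)) (zero_add p) := rfl

theorem HmAb_postcomp (f : X ⟶ Y) {M : CohTop.Ab Y} {N N' : CohTop.Ab X}
    (θ : M ⟶ (CohTop.push f).obj N) (φ : N ⟶ N') (p : ℕ) (x : Sheaf.H M p) :
    Sheaf.H.map φ p (HmAb f θ p x) = HmAb f (θ ≫ (CohTop.push f).map φ) p x := by
  rw [Sheaf.H.map_apply, HmAb_apply, HmAb_apply]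
  have hc := (CohPull.invPushAdj f).counit.naturality φ
  simp only [Functor.comp_map, Functor.id_map] at hc
  set y := x.comp (Ext.mk₀ θ) (add_zero p) with hy
  have ha : x.comp (Ext.mk₀ (θ ≫ (CohTop.push f).map φ)) (add_zero p) =
      y.comp (Ext.mk₀ ((CohTop.push f).map φ)) (add_zero p) := by
    rw [hy, Ext.comp_assoc_of_third_deg_zero, Ext.mk₀_comp_mk₀]
  have hb : ((y.comp (Ext.mk₀ ((CohTop.push f).map φ)) (add_zero p)).mapExactFunctor
      (CohPull.inv f)).comp (Ext.mk₀ ((CohPull.invPushAdj f).counit.app N')) (add_zero p) =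
      ((y.mapExactFunctor (CohPull.inv f)).comp
        (Ext.mk₀ ((CohPull.invPushAdj f).counit.app N)) (add_zero p)).comp (Ext.mk₀ φ)
        (add_zero p) := by
    rw [Ext.mapExactFunctor_comp, Ext.mapExactFunctor_mk₀, Ext.comp_assoc_of_third_deg_zero,
      Ext.mk₀_comp_mk₀, hc, Ext.comp_assoc_of_third_deg_zero, Ext.mk₀_comp_mk₀]
  rw [ha, hb, Ext.comp_assoc_of_third_deg_zero]

theorem HmAb_precomp (f : X ⟶ Y) {M M' : CohTop.Ab Y} {N : CohTop.Ab X}
    (ψ : M' ⟶ M) (θ : M ⟶ (CohTop.push f).obj N) (p : ℕ) (x : Sheaf.H M' p) :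
    HmAb f θ p (Sheaf.H.map ψ p x) = HmAb f (ψ ≫ θ) p x := by
  rw [Sheaf.H.map_apply, HmAb_apply, HmAb_apply, Ext.comp_assoc_of_third_deg_zero,
    Ext.mk₀_comp_mk₀]

theorem pullAb_eq (f : X ⟶ Y) (M : CohTop.Ab Y) (p : ℕ) (x : Sheaf.H M p) :
    CohPull.pullAb f M p x = HmAb f ((CohPull.invPushAdj f).unit.app M) p x := by
  rw [HmAb_apply, Ext.mapExactFunctor_comp, Ext.mapExactFunctor_mk₀,
    Ext.comp_assoc_of_third_deg_zero, Ext.mk₀_comp_mk₀]
  have e : (x.mapExactFunctor (CohPull.inv f)).comp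
      (Ext.mk₀ ((CohPull.inv f).map ((CohPull.invPushAdj f).unit.app M) ≫
        (CohPull.invPushAdj f).counit.app ((CohPull.inv f).obj M))) (add_zero p) =
      x.mapExactFunctor (CohPull.inv f) := by
    rw [(CohPull.invPushAdj f).left_triangle_components M]
    exact Ext.comp_mk₀_id _
  exact (congrArg (fun t => (Ext.mk₀ (CohPull.oneTo f)).comp t (zero_add p)) e).symm

/-- `H(α) ∘ pullAb = HmAb` of the transpose -/
theorem map_pullAb_eq (f : X ⟶ Y) {M : CohTop.Ab Y} {N : CohTop.Ab X}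
    (α : (CohPull.inv f).obj M ⟶ N) (p : ℕ) (x : Sheaf.H M p) :
    Sheaf.H.map α p (CohPull.pullAb f M p x) =
      HmAb f ((CohPull.invPushAdj f).homEquiv _ _ α) p x := by
  rw [pullAb_eq, HmAb_postcomp, Adjunction.homEquiv_unit]

end Top

section Sch
variable {X Y Z : Scheme.{u}}
open Scheme.Modules

/-- the map on cohomology induced by `θ : M ⟶ g_* N` (a "`g`-morphism" from `M` to `N`) -/
noncomputable def Hm (g : X ⟶ Y) {M : Y.Modules} {N : X.Modules}
    (θ : M ⟶ (pushforward g).obj N) (p : ℕ) : Coh.HH Y M p →+ Coh.HH X N p :=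
  HmAb g.base (M := Coh.toAb M) (N := Coh.toAb N)
    ((SheafOfModules.toSheaf Y.ringCatSheaf).map θ) p

theorem pullMod_eq (g : X ⟶ Y) (M : Y.Modules) (p : ℕ) (x : Coh.HH Y M p) :
    CohPull.pullMod g M p x = Hm g ((pullbackPushforwardAdjunction g).unit.app M) p x := by
  unfold CohPull.pullMod Hm
  rw [AddMonoidHom.comp_apply, map_pullAb_eq]
  unfold CohPull.theta
  rw [Equiv.apply_symm_apply]

theorem Hm_postcomp (g : X ⟶ Y) {M : Y.Modules} {N N' : X.Modules}
    (θ : M ⟶ (pushforward g).obj N) (φ : N ⟶ N') (p : ℕ) (x : Coh.HH Y M p) :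
    CohPull.mapH φ p (Hm g θ p x) = Hm g (θ ≫ (pushforward g).map φ) p x := by
  unfold Hm
  rw [HmAb_postcomp]
  exact congrArg (fun t => HmAb g.base (M := Coh.toAb M) (N := Coh.toAb N') t p x)
    ((SheafOfModules.toSheaf Y.ringCatSheaf).map_comp θ ((pushforward g).map φ)).symm

theorem Hm_precomp (g : X ⟶ Y) {M M' : Y.Modules} {N : X.Modules}
    (ψ : M' ⟶ M) (θ : M ⟶ (pushforward g).obj N) (p : ℕ) (x : Coh.HH Y M' p) :
    Hm g θ p (CohPull.mapH ψ p x) = Hm g (ψ ≫ θ) p x := by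
  unfold Hm
  rw [HmAb_precomp]
  exact congrArg (fun t => HmAb g.base (M := Coh.toAb M') (N := Coh.toAb N) t p x)
    ((SheafOfModules.toSheaf Y.ringCatSheaf).map_comp ψ θ).symm

theorem Hm_comp (f : X ⟶ Y) (g : Y ⟶ Z) {M : Z.Modules} {N : Y.Modules} {P : X.Modules}
    (θ : M ⟶ (pushforward g).obj N) (θ' : N ⟶ (pushforward f).obj P) (p : ℕ)
    (x : Coh.HH Z M p) :
    Hm f θ' p (Hm g θ p x) =
      Hm (f ≫ g) (θ ≫ (pushforward g).map θ' ≫ (pushforwardComp f g).hom.app P) p x := by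
  unfold Hm
  rw [HmAb_comp]
  rfl

theorem Hm_eq_mapH_pullMod (g : X ⟶ Y) {M : Y.Modules} {N : X.Modules}
    (θ : M ⟶ (pushforward g).obj N) (p : ℕ) (x : Coh.HH Y M p) :
    Hm g θ p x = CohPull.mapH (((pullbackPushforwardAdjunction g).homEquiv _ _).symm θ) p
      (CohPull.pullMod g M p x) := by
  rw [pullMod_eq, Hm_postcomp]
  congr 2
  have := (pullbackPushforwardAdjunction g).homEquiv_unit (X := M) (Y := N)
    (f := ((pullbackPushforwardAdjunction g).homEquiv M N).symm θ)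
  rw [← this, Equiv.apply_symm_apply]

theorem pushEdge_eq (f : X ⟶ Y) (G : X.Modules) (p : ℕ)
    (x : Coh.HH Y ((pushforward f).obj G) p) :
    CohPull.pushEdge f G p x = Hm f (𝟙 _) p x := by
  unfold CohPull.pushEdge
  rw [AddMonoidHom.comp_apply, pullMod_eq, Hm_postcomp]
  congr 2
  exact (pullbackPushforwardAdjunction f).right_triangle_components G

/-- **composition of pullbacks** -/
theorem pullMod_comp (f : X ⟶ Y) (g : Y ⟶ Z) (M : Z.Modules) (p : ℕ) (x : Coh.HH Z M p) :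
    CohPull.pullMod f ((pullback g).obj M) p (CohPull.pullMod g M p x) =
      CohPull.mapH ((pullbackComp f g).inv.app M) p (CohPull.pullMod (f ≫ g) M p x) := by
  rw [pullMod_eq, pullMod_eq, Hm_comp, pullMod_eq, Hm_postcomp]
  congr 2
  have := Groth.Agent.Lib.Helper18.ResLE.unit_pullbackComp f g M
  simpa using this

/-- naturality of `pullMod` in the module -/
theorem pullMod_natural (g : X ⟶ Y) {M M' : Y.Modules} (ψ : M' ⟶ M) (p : ℕ)
    (x : Coh.HH Y M' p) :
    CohPull.pullMod g M p (CohPull.mapH ψ p x) =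
      CohPull.mapH ((pullback g).map ψ) p (CohPull.pullMod g M' p x) := by
  rw [pullMod_eq, pullMod_eq, Hm_precomp, Hm_postcomp]
  congr 2
  exact (pullbackPushforwardAdjunction g).unit.naturality ψ

/-- congruence -/
theorem pullMod_congr {g g' : X ⟶ Y} (e : g = g') (M : Y.Modules) (p : ℕ) (x : Coh.HH Y M p) :
    CohPull.pullMod g' M p x =
      CohPull.mapH ((pullbackCongr e).hom.app M) p (CohPull.pullMod g M p x) := by
  subst e
  have : (pullbackCongr (rfl : g = g)).hom.app M = 𝟙 _ := by simp [pullbackCongr]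
  rw [this]
  exact (Sheaf.H.map_id_apply _).symm

end Sch

end Groth.Agent.Lib.helper8.PullModComp
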