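import Mathlib
import Groth.Agent.Lib.Helper8.FlatHomBC2
import Groth.Agent.Lib.Helper8.PullModComp
import Groth.Agent.Lib.Helper21.GCMain
import Groth.Agent.Lib.Helper11.GCAlg3
import Groth.Agent.Lib.Helper18.HHEdge

/-!
# Cohomology and base change for a flat quasi-coherent module with flat cohomology (helper8)

`fX : X ⟶ Spec A` separated quasi-compact, `M` quasi-coherent and flat over `A`, all `H^p(X, M)`
flat over `A`.  Then for every `A`-algebra `B` and pullback square `X' = X ×_A B`, the pullback map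
`H^p(X, M) → H^p(X', g'^* M)` is a base change along `A → B` (`isBC_pullMod`).
-/

set_option autoImplicit false
universe u

open CategoryTheory CategoryTheory.Limits Opposite TopologicalSpace AlgebraicGeometry

namespace Groth.Agent.Lib.helper8.FlatHomBC

open Groth.Agent.Lib.helper8.PullbackUnit Groth.Agent.Lib.helper8.FlatCohBC
open Groth.Agent.Lib.helper27 Groth.Agent.Lib.Helper18 Groth.Agent.Lib.helper21.ModCx
open Groth.Agent.Lib.Helper20 Groth.Agent.Lib.Helper20.CechNatTop
open Groth.Agent.Lib.helper21.GCCech Groth.Agent.Lib.helper8.PullModComp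

section Core

variable {A B : Type u} [CommRing A] [CommRing B] [Algebra A B]
variable {X X' : Scheme.{u}} (fX : X ⟶ Spec (CommRingCat.of A)) (fX' : X' ⟶ Spec (CommRingCat.of B))
  (g' : X' ⟶ X)
  (h : IsPullback g' fX' fX (Spec.map (CommRingCat.ofHom (algebraMap A B))))
  (M : X.Modules)

theorem pushEquivAdd_eq_pushEdge {X S : Scheme.{u}} (f : X ⟶ S) [IsAffineHom f] (M : X.Modules)
    [M.IsQuasicoherent] (p : ℕ) (x : Coh.HH S ((Coh.push f).obj M) p) :
    HH.pushEquivAdd f M p x = CohPull.pushEdge f M p x := by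
  rw [HH.pushEdge_apply, HH.oneTo_eq]
  rfl

variable {ι : Type u} [Finite ι] (U : ι → X.Opens) [M.IsQuasicoherent]
variable (hU : ∀ (n : ℕ) (a : Fin (n + 1) → ι), IsAffineOpen (∏ᶜ (U ∘ a) : X.Opens))
  (hcov : iSup U = ⊤)

/-- the Čech comparison map computes the pullback on cohomology -/
theorem EN_homologyMap (p : ℕ) (z : ((KM M U).extend eN).homology (p : ℤ)) :
    EN fX fX' g' h M U hU hcov p
      ((HomologicalComplex.homologyMap (HomologicalComplex.extendMap (κC g' M U) eN) (p : ℤ)).hom z) =
      CohPull.pullMod g' M p (EM M U hU hcov p z) := by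
  haveI := isAffineHom_g' fX fX' g' h
  haveI := qcoh_pull fX fX' g' h M
  haveI := qcoh_push fX fX' g' h M
  show HH.pushEquivAdd g' ((Scheme.Modules.pullback g').obj M) p
    ((cechIso (X := X.toTopCat) U hcov p
      (Coh.toAb ((Coh.push g').obj ((Scheme.Modules.pullback g').obj M))) (isAcyc U hU _)).hom.hom
    (extHomEquiv eN (KN g' M U) (j := p) (j' := (p : ℤ)) rfl
      ((HomologicalComplex.homologyMap
        (HomologicalComplex.extendMap (κC g' M U) eN) (p : ℤ)).hom z))) = _
  rw [extHomEquiv_natural]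
  have h1 := ConcreteCategory.congr_hom
    (cechIso_natural (X := X.toTopCat) U hcov p _ _ (isAcyc U hU M) (isAcyc U hU _)
      (ηM g' M)) (extHomEquiv eN (KM M U) (j := p) (j' := (p : ℤ)) rfl z)
  refine (congrArg (HH.pushEquivAdd g' ((Scheme.Modules.pullback g').obj M) p) h1).trans ?_
  rw [pushEquivAdd_eq_pushEdge, pushEdge_eq, pullMod_eq]
  have h2 := Hm_precomp g' ((Scheme.Modules.pullbackPushforwardAdjunction g').unit.app M)
    (𝟙 _) p (EM M U hU hcov p z)
  rw [Category.comp_id] at h2
  exact h2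

end Core

section Main

variable {A B : Type u} [CommRing A] [CommRing B] [Algebra A B]
variable {X X' : Scheme.{u}} (fX : X ⟶ Spec (CommRingCat.of A)) (fX' : X' ⟶ Spec (CommRingCat.of B))
  (g' : X' ⟶ X)
  (h : IsPullback g' fX' fX (Spec.map (CommRingCat.ofHom (algebraMap A B))))
  (M : X.Modules) [M.IsQuasicoherent]

/-- universal vanishing of the homology of the base changed Čech module complex in high degrees -/
theorem isZero_bcCx_cechMod [IsSeparated fX] {ι : Type u} [Finite ι] (U : ι → X.Opens)
    (hUa : ∀ i, IsAffineOpen (U i))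
    (hU : ∀ (n : ℕ) (a : Fin (n + 1) → ι), IsAffineOpen (∏ᶜ (U ∘ a) : X.Opens))
    (hcov : iSup U = ⊤) (B' : Type u) [CommRing B'] [Algebra A B'] (i : ℤ)
    (hi : (Nat.card ι : ℤ) ≤ i) :
    IsZero ((CohIII.bcCx (algebraMap A B') (cechMod fX M U)).homology i) := by
  obtain ⟨p, rfl⟩ : ∃ n : ℕ, (n : ℤ) = i := ⟨i.toNat, by omega⟩
  have hp : Nat.card ι ≤ p := by exact_mod_cast hi
  let sB := Spec.map (CommRingCat.ofHom (algebraMap A B'))
  let X'' := pullback fX sB
  let g'' : X'' ⟶ X := pullback.fst fX sB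
  let fX'' : X'' ⟶ Spec (CommRingCat.of B') := pullback.snd fX sB
  have h' : IsPullback g'' fX'' fX sB := IsPullback.of_hasPullback fX sB
  haveI : IsSeparated fX'' := MorphismProperty.of_isPullback (P := @IsSeparated) h' inferInstance
  haveI : IsAffineHom g'' := isAffineHom_g' fX fX'' g'' h'
  haveI := qcoh_pull fX fX'' g'' h' M
  have hd' := affine_inf_of_isSeparated fX''
  have hsub : Subsingleton (Coh.HH X'' ((Scheme.Modules.pullback g'').obj M) p) :=
    subsingleton_HH_of_cover _ hd' (fun i => g'' ⁻¹ᵁ U i) (fun i => (hUa i).preimage g'')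
      (by
        rw [← Scheme.Hom.preimage_iSup, hcov]
        rfl) p hp
  letI := modHH fX'' ((Scheme.Modules.pullback g'').obj M) p
  have e := cechModBCHomology fX fX'' g'' h' M U hU hcov p
  haveI : Subsingleton ((CohIII.bcCx (algebraMap A B') (cechMod fX M U)).homology (p : ℤ)) :=
    e.toEquiv.subsingleton
  exact ModuleCat.isZero_of_subsingleton _

include h in
/-- **Cohomology and base change**: for `M` quasi-coherent and flat over `A` with all `H^p(X, M)`
flat over `A`, the pullback `H^p(X, M) → H^p(X', g'^*M)` is a base change along `A → B`. -/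
theorem isBC_pullMod [IsSeparated fX] [QuasiCompact fX] (hfl : FlatMod.IsFlatOver fX M)
    (hH : ∀ p : ℕ, @Module.Flat A (Coh.HH X M p) _ _ (modHH fX M p)) (p : ℕ) :
    @IsBC A B _ _ (algebraMap A B) (Coh.HH X M p)
      (Coh.HH X' ((Scheme.Modules.pullback g').obj M) p) _
      (modHH fX M p) _ (modHH fX' ((Scheme.Modules.pullback g').obj M) p)
      (CohPull.pullMod g' M p) := by
  haveI : CompactSpace X := QuasiCompact.compactSpace_of_compactSpace fX
  have hd := affine_inf_of_isSeparated fX
  obtain ⟨ι, hfin, U, hUa, hcov⟩ := exists_finite_affine_cover X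
  have hU : ∀ (n : ℕ) (a : Fin (n + 1) → ι), IsAffineOpen (∏ᶜ (U ∘ a) : X.Opens) :=
    fun n a => Groth.Agent.Lib.Lead.CechLoc.isAffineOpen_prod U (isAffineOpen_biInf hd U hUa) n a
  have hκ := extρ_comm eN (algebraMap A B) _ _ _ _ _ (hκC fX fX' g' h M U)
  have hBC := isBC_extend eN (algebraMap A B) _ _ _ _ _ (hBC_cech fX fX' g' h M U hU)
  have hflat : ∀ n : ℤ, @Module.Flat A (((KM M U).extend eN).X n) _ _
      (modX ((KM M U).extend eN) (extρ eN (KM M U) (ρM fX M U)) n) :=
    fun n => flat_cechMod fX M U hfl hU n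
  have hHK : ∀ n : ℤ, @Module.Flat A (((KM M U).extend eN).homology n) _ _
      (modH ((KM M U).extend eN) (extρ eN (KM M U) (ρM fX M U)) n) := by
    intro n
    by_cases hn : n < 0
    · have h1 : IsZero (((KM M U).extend eN).X n) := by
        apply HomologicalComplex.isZero_extend_X
        intro m hm
        have : (m : ℤ) = n := hm
        omega
      have h2 : IsZero (((KM M U).extend eN).homology n) :=
        ShortComplex.isZero_homology_of_isZero_X₂ _ h1
      haveI : Subsingleton (((KM M U).extend eN).homology n) :=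
        AddCommGrpCat.subsingleton_of_isZero h2
      letI := modH ((KM M U).extend eN) (extρ eN (KM M U) (ρM fX M U)) n
      infer_instance
    · obtain ⟨q, rfl⟩ : ∃ q : ℕ, (q : ℤ) = n := ⟨n.toNat, by omega⟩
      letI := modH ((KM M U).extend eN) (extρ eN (KM M U) (ρM fX M U)) (q : ℤ)
      letI := modHH fX M q
      haveI := hH q
      let e : ((KM M U).extend eN).homology (q : ℤ) ≃ₗ[A] Coh.HH X M q :=
        { EM M U hU hcov q with map_smul' := fun a x => EM_smul fX M U hU hcov q a x }
      exact Module.Flat.of_linearEquiv e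
  have huniv : ∀ (T : Type u) [AddCommGroup T] [Module A T] (i : ℤ), (Nat.card ι : ℤ) ≤ i →
      Function.Exact
        (((modCx ((KM M U).extend eN) (extρ eN (KM M U) (ρM fX M U))).d i (i + 1)).hom.lTensor T)
        (((modCx ((KM M U).extend eN) (extρ eN (KM M U) (ρM fX M U))).d (i + 1)
          (i + 1 + 1)).hom.lTensor T) := by
    intro T _ _ i hi
    refine Groth.Agent.Lib.helper11.GCAlg.lTensor_exact_of_bc (N := T)
      (modCx ((KM M U).extend eN) (extρ eN (KM M U) (ρM fX M U))) i ?_
    intro B' _ _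
    exact isZero_bcCx_cechMod fX M U hUa hU hcov B' (i + 1) (by omega)
  have main := isBC_homologyMap ((KM M U).extend eN) ((KN g' M U).extend eN)
    (extρ eN (KM M U) (ρM fX M U)) (extρ eN (KN g' M U) (ρN fX' g' M U))
    (HomologicalComplex.extendMap (κC g' M U) eN) hκ hBC hflat hHK (Nat.card ι) huniv (p : ℤ)
  letI := modH ((KM M U).extend eN) (extρ eN (KM M U) (ρM fX M U)) (p : ℤ)
  letI := modH ((KN g' M U).extend eN) (extρ eN (KN g' M U) (ρN fX' g' M U)) (p : ℤ)
  letI := modHH fX M p
  letI := modHH fX' ((Scheme.Modules.pullback g').obj M) p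
  let e₁ : ((KM M U).extend eN).homology (p : ℤ) ≃ₗ[A] Coh.HH X M p :=
    { EM M U hU hcov p with map_smul' := fun a x => EM_smul fX M U hU hcov p a x }
  let e₂ : ((KN g' M U).extend eN).homology (p : ℤ) ≃ₗ[B]
      Coh.HH X' ((Scheme.Modules.pullback g').obj M) p :=
    { EN fX fX' g' h M U hU hcov p with
      map_smul' := fun b x => EN_smul fX fX' g' h M U hU hcov p b x }
  refine main.of_equiv e₁.symm e₂.symm (CohPull.pullMod g' M p) (fun n => ?_)
  apply e₂.injective
  rw [LinearEquiv.apply_symm_apply]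
  have h3 := EN_homologyMap fX fX' g' h M U hU hcov p (e₁.symm n)
  have h4 : EM M U hU hcov p (e₁.symm n) = n := e₁.apply_symm_apply n
  rw [h4] at h3
  exact h3.symm

end Main

end Groth.Agent.Lib.helper8.FlatHomBC
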