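import Mathlib
import Groth.Agent.S16959
import Groth.Agent.Lib.Helper18.HHLoc1

/-!
# The comparison maps `ε_V : H^p(f⁻¹V, F) → Γ(V, R^p f_* F)` of `CohCmp.SectCmp` (helper8)

For `E : CohCmp.SectCmp f Δ`:
* `eps_res`: `ε` commutes with restriction to a smaller open of the base (`CohPull.resLE`);
* `eps_bijective_of_acyclic`: `ε_V` is bijective as soon as all `R^j f_* F` are acyclic on `V`
  (generalises helper18's `S16959.eps_top_bijective` from `⊤` to an arbitrary open `V`);
* `eps_bijective_of_isAffineOpen`: `ε_V` is bijective for `f` qcqs, `F` quasi-coherent, `V` affine.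
* `θ f V : Γ(Y, V) →+* Γ(f⁻¹V, ⊤)` and `eps_smul`: `ε_V (θ r • x) = r • ε_V x` (linearity of `ε_V`).
-/

set_option autoImplicit false
universe u
open CohCmp

namespace Groth.Agent.Lib.helper8.EpsAffine

open AlgebraicGeometry CategoryTheory CategoryTheory.Limits Scheme.Modules Opposite TopologicalSpace
open Groth.Agent.Lib.Helper18

section res

variable {X Y : Scheme.{u}} (f : X ⟶ Y) [HasInjectiveResolutions X.Modules]
  {Δ : RDer.DerivedLES (pushforward f)} (E : CohCmp.SectCmp f Δ)

/-- **`ε` commutes with restriction to a smaller open of the base** -/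
theorem eps_res (p : ℕ) :
    ∀ (F : X.Modules) {V W : Y.Opens} (hWV : W ≤ V) (x : Coh.HHon X F (f ⁻¹ᵁ V) p),
      (((Coh.Rpush f p).obj F).presheaf.map (homOfLE hWV).op).hom (E.ε V F p x) =
        E.ε W F p (CohPull.resLE F (f.preimage_mono hWV) p x) := by
  induction p with
  | zero =>
    intro F V W hWV x
    obtain ⟨s, rfl⟩ := (CohPull.sectH0 F (f ⁻¹ᵁ V)).surjective x
    rw [E.zero, ResLE.resLE_sectH0, E.zero]
    exact (ResLE.app_naturality ((pushforward f).toRightDerivedZero.app F) (homOfLE hWV) s).symm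
  | succ p ih =>
    intro F V W hWV x
    let R : InjectiveResolution F := injectiveResolution F
    let I : X.Modules := R.cocomplex.X 0
    let ι : F ⟶ I := R.ι.f 0
    haveI : Mono ι := inferInstanceAs (Mono (R.ι.f 0))
    haveI : Injective I := R.injective 0
    let S : ShortComplex X.Modules := ShortComplex.mk ι (cokernel.π ι) (cokernel.condition ι)
    have hS : S.ShortExact :=
      { exact := ShortComplex.exact_cokernel ι, mono_f := inferInstanceAs (Mono ι),
        epi_g := inferInstanceAs (Epi (cokernel.π ι)) }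
    have hA := Groth.Agent.S16954.toAbOn_shortExact (f ⁻¹ᵁ V) hS
    have hA' := Groth.Agent.S16954.toAbOn_shortExact (f ⁻¹ᵁ W) hS
    have hex := (ShortComplex.ab_exact_iff_function_exact _).1
      (Abelian.Ext.covariant_sequence_exact₁'.{u}
        (CohTop.const ((f ⁻¹ᵁ V : X.Opens) : Scheme.{u}) (ULift.{u} ℤ)) hA p (p + 1) rfl)
    obtain ⟨x', hx'⟩ := (hex x).1 (Groth.Agent.S16955.HHon_injective_eq_zero I (f ⁻¹ᵁ V) p _)
    have hx'' : extδ hA p x' = x := hx'
    rw [← hx'', E.delta V S hS hA p x', ResLE.resLE_extδ (f.preimage_mono hWV) S hA hA' p x',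
      E.delta W S hS hA' p, ← ih S.X₃ hWV x']
    exact (ResLE.app_naturality (Δ.δ S hS p (p + 1) rfl) (homOfLE hWV) _).symm

end res

section general

variable {S : Scheme.{u}} (V : S.Opens)

theorem subsingleton_HHon_of_iso {M N : S.Modules} (e : M ≅ N) (n : ℕ)
    (h : Subsingleton (Coh.HHon S M V n)) : Subsingleton (Coh.HHon S N V n) :=
  Groth.Agent.S16959.subsingleton_HH_of_iso ((restrictFunctor V.ι).mapIso e) n h

theorem subsingleton_HHon_of_isZero {M : S.Modules} (hM : IsZero M) (n : ℕ) :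
    Subsingleton (Coh.HHon S M V n) :=
  Groth.Agent.S16959.subsingleton_HH_of_isZero ((restrictFunctor V.ι).map_isZero hM) n

theorem HHon_subsingleton_X₂ {T : ShortComplex S.Modules} (hT : T.ShortExact) (n : ℕ)
    (h₁ : Subsingleton (Coh.HHon S T.X₁ V n)) (h₃ : Subsingleton (Coh.HHon S T.X₃ V n)) :
    Subsingleton (Coh.HHon S T.X₂ V n) :=
  HH.subsingleton_X₂ (HHLoc.restrict_shortExact V hT) n h₁ h₃

theorem HHon_subsingleton_X₃ {T : ShortComplex S.Modules} (hT : T.ShortExact) (n : ℕ)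
    (h₂ : Subsingleton (Coh.HHon S T.X₂ V n)) (h₁ : Subsingleton (Coh.HHon S T.X₁ V (n + 1))) :
    Subsingleton (Coh.HHon S T.X₃ V n) :=
  HH.subsingleton_X₃ (HHLoc.restrict_shortExact V hT) n h₂ h₁

/-- `H¹(V, T.X₁) = 0` makes `Γ(V, T.X₂) → Γ(V, T.X₃)` surjective. -/
theorem surjective_app_of_H1 {T : ShortComplex S.Modules} (hT : T.ShortExact)
    (hH : Subsingleton (Coh.HHon S T.X₁ V 1)) : Function.Surjective (T.g.app V).hom := by
  intro σ
  have h0 := Groth.Agent.S16959.surjective_app_top_of_H1 (HHLoc.restrict_shortExact V hT) hH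
  obtain ⟨y, hy⟩ := h0 ((T.X₃.presheaf.map (eqToHom V.ι_image_top).op).hom σ)
  refine ⟨(T.X₂.presheaf.map (eqToHom V.ι_image_top.symm).op).hom y, ?_⟩
  have e1 := ResLE.app_naturality T.g (eqToHom V.ι_image_top.symm) y
  refine e1.trans ?_
  have e2 : (T.g.app (V.ι ''ᵁ ⊤)).hom y =
      (T.X₃.presheaf.map (eqToHom V.ι_image_top).op).hom σ := hy
  rw [e2, ← ConcreteCategory.comp_apply, ← Functor.map_comp]
  have e3 : (eqToHom V.ι_image_top).op ≫ (eqToHom V.ι_image_top.symm).op = 𝟙 _ :=
    Subsingleton.elim _ _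
  rw [e3, CategoryTheory.Functor.map_id]
  rfl

section four
variable {A B C D : S.Modules} (a : A ⟶ B) (b : B ⟶ C) (d : C ⟶ D) [Mono a] [Epi d]
  (wab : a ≫ b = 0) (wbd : b ≫ d = 0) (hab : (ShortComplex.mk a b wab).Exact)
  (hbd : (ShortComplex.mk b d wbd).Exact)

open Groth.Agent.S16959 in
include hab hbd in
theorem four_surjective (hA2 : Subsingleton (Coh.HHon S A V 2))
    (hB1 : Subsingleton (Coh.HHon S B V 1)) : Function.Surjective (d.app V).hom := by
  have hK1 : Subsingleton (Coh.HHon S (kernel d) V 1) :=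
    HHon_subsingleton_X₃ V (T1_shortExact a b d wab wbd hab hbd) 1 hB1 hA2
  exact surjective_app_of_H1 V (T2_shortExact d) hK1

open Groth.Agent.S16959 in
include hab hbd in
theorem four_exact (hA1 : Subsingleton (Coh.HHon S A V 1)) (c : Γ(C, V))
    (hc : (d.app V).hom c = 0) : ∃ β : Γ(B, V), (b.app V).hom β = c := by
  obtain ⟨κ, hκ⟩ := Groth.Agent.Lib.helper7.KerSections.exists_kernel_section d V c hc
  obtain ⟨β, hβ⟩ := surjective_app_of_H1 V (T1_shortExact a b d wab wbd hab hbd) hA1 κ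
  refine ⟨β, ?_⟩
  have e1 : kernel.lift d b wbd ≫ kernel.ι d = b := kernel.lift_ι _ _ _
  have e2 := congrArg (fun ψ => (Scheme.Modules.Hom.app ψ V).hom β) e1
  simp only [Scheme.Modules.Hom.comp_app, AddCommGrpCat.hom_comp, AddMonoidHom.coe_comp,
    Function.comp_apply] at e2
  rw [← e2]
  erw [hβ]
  exact hκ

open Groth.Agent.S16959 in
include hab hbd in
theorem four_vanish (hA : ∀ p : ℕ, Subsingleton (Coh.HHon S A V (p + 1)))
    (hB : ∀ p : ℕ, Subsingleton (Coh.HHon S B V (p + 1)))
    (hD : ∀ p : ℕ, Subsingleton (Coh.HHon S D V (p + 1))) (p : ℕ) :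
    Subsingleton (Coh.HHon S C V (p + 1)) := by
  have hK : Subsingleton (Coh.HHon S (kernel d) V (p + 1)) :=
    HHon_subsingleton_X₃ V (T1_shortExact a b d wab wbd hab hbd) (p + 1) (hB p) (hA (p + 1))
  exact HHon_subsingleton_X₂ V (T2_shortExact d) (p + 1) hK (hD p)

end four

end general

section main
variable {X S : Scheme.{u}} (f : X ⟶ S) [HasInjectiveResolutions X.Modules] (V : S.Opens)

/-- the hypothesis: all higher direct images are acyclic on `V` -/
def Hyp (F : X.Modules) : Prop :=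
  ∀ j p : ℕ, Subsingleton (Coh.HHon S ((Coh.Rpush f j).obj F) V (p + 1))

open Groth.Agent.S16959 in
theorem hyp_injective (I : X.Modules) [Injective I] : Hyp f V I := by
  intro j p
  rcases j with _ | j
  · haveI : TopCat.Sheaf.IsFlasque (X := (V : Scheme.{u}).carrier)
        (Coh.toAb (((pushforward f).obj I).restrict V.ι)) :=
      { epi := fun {U W} i => by
          rw [AddCommGrpCat.epi_iff_surjective]
          exact Groth.Agent.Lib.helper21.InjFlasque.surjective_map I
            (f.preimage_mono (V.ι.image_mono (leOfHom i.unop))) }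
    have h1 : Subsingleton (Coh.HHon S ((pushforward f).obj I) V (p + 1)) :=
      Groth.Agent.S0453.result (Coh.toAb (((pushforward f).obj I).restrict V.ι)) p
    exact subsingleton_HHon_of_iso V (asIso ((pushforward f).toRightDerivedZero.app I)) (p + 1) h1
  · exact subsingleton_HHon_of_isZero V
      (Functor.isZero_rightDerived_obj_injective_succ _ _ _) (p + 1)

variable {f}
variable {Δ : RDer.DerivedLES (pushforward f)}

open Groth.Agent.S16959 in
theorem hyp_X₃ (Δ : RDer.DerivedLES (pushforward f)) {T : ShortComplex X.Modules}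
    (hT : T.ShortExact) (hI : Injective T.X₂) (hF : Hyp f V T.X₁) : Hyp f V T.X₃ := by
  intro j p
  rcases j with _ | j
  · haveI : Mono T.f := hT.mono_f
    haveI := mono_R0 (f := f) T.f
    haveI := epi_δ_zero Δ hT hI
    exact four_vanish V ((Coh.Rpush f 0).map T.f) ((Coh.Rpush f 0).map T.g) (Δ.δ T hT 0 1 rfl)
      (by rw [← Functor.map_comp, T.zero, Functor.map_zero]) (Δ.comp_δ T hT 0 1 rfl)
      (Δ.exact₂ T hT 0) (Δ.exact₃ T hT 0 1 rfl) (hF 0) (hyp_injective f V T.X₂ 0) (hF 1) p
  · haveI := isIso_δ Δ hT hI j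
    exact subsingleton_HHon_of_iso V (asIso (Δ.δ T hT (j + 1) (j + 1 + 1) rfl)).symm (p + 1)
      (hF (j + 1 + 1) p)

open Groth.Agent.S16959 in
/-- **`ε_V` is bijective when all `R^j f_* F` are acyclic on `V`** -/
theorem eps_bijective_of_acyclic (E : CohCmp.SectCmp f Δ) (q : ℕ) :
    ∀ (F : X.Modules), Hyp f V F → Function.Bijective (E.ε V F q) := by
  induction q with
  | zero =>
    intro F _
    have h : ∀ s, E.ε V F 0 (CohPull.sectH0 F (f ⁻¹ᵁ V) s) =
        (((pushforward f).toRightDerivedZero.app F).app V).hom s := E.zero V F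
    constructor
    · intro x y hxy
      obtain ⟨s, rfl⟩ := (CohPull.sectH0 F (f ⁻¹ᵁ V)).surjective x
      obtain ⟨t, rfl⟩ := (CohPull.sectH0 F (f ⁻¹ᵁ V)).surjective y
      rw [h, h] at hxy
      rw [hinj F V hxy]
    · intro t
      obtain ⟨s, hs⟩ := hsurj F V t
      exact ⟨CohPull.sectH0 F (f ⁻¹ᵁ V) s, (h s).trans hs⟩
  | succ q ih =>
    intro F hF
    let R : InjectiveResolution F := injectiveResolution F
    let I : X.Modules := R.cocomplex.X 0
    let ι : F ⟶ I := R.ι.f 0
    haveI : Mono ι := inferInstanceAs (Mono (R.ι.f 0))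
    haveI hIinj : Injective I := R.injective 0
    let T : ShortComplex X.Modules := ShortComplex.mk ι (cokernel.π ι) (cokernel.condition ι)
    have hT : T.ShortExact :=
      { exact := ShortComplex.exact_cokernel ι, mono_f := inferInstanceAs (Mono ι),
        epi_g := inferInstanceAs (Epi (cokernel.π ι)) }
    have hQ : Hyp f V T.X₃ := hyp_X₃ V Δ hT hIinj hF
    have hA := Groth.Agent.S16954.toAbOn_shortExact (f ⁻¹ᵁ V) hT
    have hex := (ShortComplex.ab_exact_iff_function_exact _).1
      (Abelian.Ext.covariant_sequence_exact₁'.{u}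
        (CohTop.const ((f ⁻¹ᵁ V : X.Opens) : Scheme.{u}) (ULift.{u} ℤ)) hA q (q + 1) rfl)
    have hδsurj : ∀ x : Coh.HHon X F (f ⁻¹ᵁ V) (q + 1), ∃ x', extδ hA q x' = x := fun x =>
      (hex x).1 (Groth.Agent.S16955.HHon_injective_eq_zero I (f ⁻¹ᵁ V) q _)
    have hdelta := E.delta V T hT hA q
    rcases q with _ | q
    · have hε0Q := ih T.X₃ hQ
      have hε0I := ih T.X₂ (hyp_injective f V I)
      haveI : Mono T.f := hT.mono_f
      haveI := mono_R0 (f := f) T.f
      haveI := epi_δ_zero Δ hT hIinj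
      have w1 : (Coh.Rpush f 0).map T.f ≫ (Coh.Rpush f 0).map T.g = 0 := by
        rw [← Functor.map_comp, T.zero, Functor.map_zero]
      constructor
      · rw [injective_iff_map_eq_zero]
        intro x hx
        obtain ⟨x', rfl⟩ := hδsurj x
        rw [hdelta] at hx
        obtain ⟨β, hβ⟩ := four_exact V ((Coh.Rpush f 0).map T.f) ((Coh.Rpush f 0).map T.g)
          (Δ.δ T hT 0 1 rfl) w1 (Δ.comp_δ T hT 0 1 rfl) (Δ.exact₂ T hT 0)
          (Δ.exact₃ T hT 0 1 rfl) (hF 0 0) (E.ε V T.X₃ 0 x') hx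
        obtain ⟨xI, rfl⟩ := hε0I.2 β
        have hnat := E.natural V T.g 0 xI
        have hx'eq : x' = CohPull.mapH ((restrictFunctor (f ⁻¹ᵁ V).ι).map T.g) 0 xI :=
          hε0Q.1 (hβ.symm.trans hnat.symm)
        rw [hx'eq]
        exact ((ShortComplex.ab_exact_iff_function_exact _).1
          (Abelian.Ext.covariant_sequence_exact₃'.{u}
            (CohTop.const ((f ⁻¹ᵁ V : X.Opens) : Scheme.{u}) (ULift.{u} ℤ)) hA 0 1
              rfl)).apply_apply_eq_zero _
      · intro t
        obtain ⟨c, hc⟩ := four_surjective V ((Coh.Rpush f 0).map T.f) ((Coh.Rpush f 0).map T.g)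
          (Δ.δ T hT 0 1 rfl) w1 (Δ.comp_δ T hT 0 1 rfl) (Δ.exact₂ T hT 0)
          (Δ.exact₃ T hT 0 1 rfl) (hF 0 1) (hyp_injective f V I 0 0) t
        obtain ⟨x', hx'⟩ := hε0Q.2 c
        exact ⟨extδ hA 0 x', by rw [hdelta, hx', hc]⟩
    · have hεQ := ih T.X₃ hQ
      haveI := isIso_δ Δ hT hIinj q
      have hδbij := bijective_app_of_isIso (Δ.δ T hT (q + 1) (q + 1 + 1) rfl) V
      constructor
      · rw [injective_iff_map_eq_zero]
        intro x hx
        obtain ⟨x', rfl⟩ := hδsurj x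
        rw [hdelta] at hx
        have h1 : E.ε V T.X₃ (q + 1) x' = 0 := hδbij.1 (hx.trans (map_zero _).symm)
        have h2 : x' = 0 := hεQ.1 (h1.trans (map_zero _).symm)
        rw [h2]
        exact map_zero _
      · intro t
        obtain ⟨c, hc⟩ := hδbij.2 t
        obtain ⟨x', hx'⟩ := hεQ.2 c
        exact ⟨extδ hA (q + 1) x', by rw [hdelta, hx', hc]⟩

end main

section affine

variable {X S : Scheme.{u}} (f : X ⟶ S) [QuasiCompact f] [QuasiSeparated f]
  [HasInjectiveResolutions X.Modules]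
  {Δ : RDer.DerivedLES (pushforward f)} (E : CohCmp.SectCmp f Δ)

/-- **`ε_V` is bijective over an affine open `V` of the base** (`f` qcqs, `F` quasi-coherent). -/
theorem eps_bijective_of_isAffineOpen (F : X.Modules) [Coh.IsQCoh F] {V : S.Opens}
    (hV : IsAffineOpen V) (q : ℕ) : Function.Bijective (E.ε V F q) := by
  apply eps_bijective_of_acyclic V E q F
  intro j p
  haveI : Coh.IsQCoh ((Coh.Rpush f j).obj F) := Groth.Agent.S0030.result f F j
  haveI : IsAffine (V : Scheme.{u}) := hV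
  haveI : Coh.IsQCoh (((Coh.Rpush f j).obj F).restrict V.ι) :=
    Scheme.Modules.isQuasicoherent_restrictFunctor V.ι _
  exact Groth.Agent.S0007.result (V : Scheme.{u}) (((Coh.Rpush f j).obj F).restrict V.ι) (p + 1)
    (Nat.succ_pos p)

end affine

section smul

variable {X : Scheme.{u}}

/-- functions on an open `U` as global functions of the open subscheme `U` -/
noncomputable def toΓtop (U : X.Opens) : Γ(X, U) →+* Coh.Γtop (U : Scheme.{u}) :=
  U.topIso.inv.hom

theorem sectH0_eq (F : X.Modules) (U : X.Opens) (t : Γ(F, U)) :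
    CohPull.sectH0 F U t =
      (HH.equiv₀ (F.restrict U.ι)).symm ((F.presheaf.map (eqToHom U.ι_image_top).op).hom t) := rfl

theorem restrict_smul_top (F : X.Modules) (U : X.Opens) (a : Γ(X, U)) (t : Γ(F, U)) :
    (show ((F.restrict U.ι).val.obj (op ⊤) : Type u) from
      (F.presheaf.map (eqToHom U.ι_image_top).op).hom (a • t)) =
      toΓtop U a • (show ((F.restrict U.ι).val.obj (op ⊤) : Type u) from
        (F.presheaf.map (eqToHom U.ι_image_top).op).hom t) := by
  have h1 := Scheme.Modules.map_smul F (eqToHom U.ι_image_top) a t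
  refine h1.trans ?_
  have h2 : (U.ι.appIso ⊤).inv.hom (toΓtop U a) =
      (X.presheaf.map (eqToHom U.ι_image_top).op).hom a := by
    rw [Scheme.Opens.ι_appIso]
    rfl
  rw [← h2]
  rfl

theorem sectH0_smul (F : X.Modules) (U : X.Opens) (a : Γ(X, U)) (t : Γ(F, U)) :
    CohPull.sectH0 F U (a • t) = toΓtop U a • CohPull.sectH0 F U t := by
  rw [sectH0_eq, sectH0_eq]
  refine (congrArg (HH.equiv₀ (F.restrict U.ι)).symm (restrict_smul_top F U a t)).trans ?_
  exact (HH.equiv₀ (F.restrict U.ι)).symm.map_smul _ _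

theorem extδ_smul {U : X.Opens} (S : ShortComplex X.Modules) (hS : S.ShortExact)
    (hA : (S.map (toAbOn X U)).ShortExact) (p : ℕ) (a : Coh.Γtop (U : Scheme.{u}))
    (x : Coh.HHon X S.X₃ U p) :
    (show Coh.HHon X S.X₁ U (p + 1) from extδ hA p (a • x)) =
      a • (show Coh.HHon X S.X₁ U (p + 1) from extδ hA p x) :=
  (HH.δ (HHLoc.restrict_shortExact U hS) p).map_smul a x

end smul

section epsSmul

variable {X Y : Scheme.{u}} (f : X ⟶ Y) [HasInjectiveResolutions X.Modules]
  {Δ : RDer.DerivedLES (pushforward f)} (E : CohCmp.SectCmp f Δ)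

/-- functions on `V ⊆ Y` as global functions on the open subscheme `f⁻¹V` -/
noncomputable def θ (V : Y.Opens) : Γ(Y, V) →+* Coh.Γtop ((f ⁻¹ᵁ V : X.Opens) : Scheme.{u}) :=
  (toΓtop (f ⁻¹ᵁ V)).comp (f.app V).hom

/-- **`ε_V` is `Γ(Y, V)`-linear** -/
theorem eps_smul (p : ℕ) :
    ∀ (F : X.Modules) (V : Y.Opens) (r : Γ(Y, V)) (x : Coh.HHon X F (f ⁻¹ᵁ V) p),
      E.ε V F p (θ f V r • x) = r • E.ε V F p x := by
  induction p with
  | zero =>
    intro F V r x
    obtain ⟨t, rfl⟩ := (CohPull.sectH0 F (f ⁻¹ᵁ V)).surjective x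
    have h1 : θ f V r • CohPull.sectH0 F (f ⁻¹ᵁ V) t =
        CohPull.sectH0 F (f ⁻¹ᵁ V) ((f.app V).hom r • t) := (sectH0_smul F _ _ t).symm
    rw [h1, E.zero, E.zero]
    exact Hom.app_smul ((pushforward f).toRightDerivedZero.app F) r t
  | succ p ih =>
    intro F V r x
    let R : InjectiveResolution F := injectiveResolution F
    let I : X.Modules := R.cocomplex.X 0
    let ι : F ⟶ I := R.ι.f 0
    haveI : Mono ι := inferInstanceAs (Mono (R.ι.f 0))
    haveI : Injective I := R.injective 0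
    let S : ShortComplex X.Modules := ShortComplex.mk ι (cokernel.π ι) (cokernel.condition ι)
    have hS : S.ShortExact :=
      { exact := ShortComplex.exact_cokernel ι, mono_f := inferInstanceAs (Mono ι),
        epi_g := inferInstanceAs (Epi (cokernel.π ι)) }
    have hA := Groth.Agent.S16954.toAbOn_shortExact (f ⁻¹ᵁ V) hS
    have hex := (ShortComplex.ab_exact_iff_function_exact _).1
      (Abelian.Ext.covariant_sequence_exact₁'.{u}
        (CohTop.const ((f ⁻¹ᵁ V : X.Opens) : Scheme.{u}) (ULift.{u} ℤ)) hA p (p + 1) rfl)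
    obtain ⟨x', hx'⟩ := (hex x).1 (Groth.Agent.S16955.HHon_injective_eq_zero I (f ⁻¹ᵁ V) p _)
    have hx'' : extδ hA p x' = x := hx'
    rw [← hx'', ← extδ_smul S hS hA p, E.delta V S hS hA p, E.delta V S hS hA p, ih S.X₃ V r x']
    exact Hom.app_smul (Δ.δ S hS p (p + 1) rfl) r _

end epsSmul

end Groth.Agent.Lib.helper8.EpsAffine
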