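import Mathlib
import Groth.Agent.Lib.Helper8.PullbackUnit2

/-!
# More on `IsBC` (helper8): transitivity and the converse of `IsBC.cancel`
-/

set_option autoImplicit false
universe u
open CategoryTheory TensorProduct

namespace Groth.Agent.Lib.helper8.PullbackUnit

section Comp

variable {R R' R'' : Type u} [CommRing R] [CommRing R'] [CommRing R'']
  {φ₁ : R →+* R'} {φ₂ : R' →+* R''} {N P Q : Type u}
  [AddCommGroup N] [Module R N] [AddCommGroup P] [Module R' P] [AddCommGroup Q] [Module R'' Q]
  {k₁ : N →+ P} {k₂ : P →+ Q}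

/-- transitivity of base change -/
theorem IsBC.comp (h₁ : IsBC φ₁ k₁) (h₂ : IsBC φ₂ k₂) : IsBC (φ₂.comp φ₁) (k₂.comp k₁) := by
  constructor
  · intro r n
    show k₂ (k₁ (r • n)) = φ₂ (φ₁ r) • k₂ (k₁ n)
    rw [h₁.map_smul, h₂.map_smul]
  · intro T _ _ h hh
    letI : Module R' T := Module.compHom T φ₂
    obtain ⟨h', hh', hu'⟩ := h₁.existsUnique_lift T h (fun r n => hh r n)
    obtain ⟨h'', hh'', hu''⟩ := h₂.existsUnique_lift T h'.toAddMonoidHom
      (fun r p => h'.map_smul r p)
    refine ⟨h'', fun n => ?_, fun l hl => ?_⟩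
    · show h'' (k₂ (k₁ n)) = h n
      rw [hh'']
      exact hh' n
    · apply hu''
      intro p
      let l' : P →ₗ[R'] T :=
        { toFun := fun p => l (k₂ p)
          map_add' := fun x y => by rw [map_add, map_add]
          map_smul' := fun r x => by
            show l (k₂ (r • x)) = φ₂ r • l (k₂ x)
            rw [h₂.map_smul, l.map_smul] }
      have : l' = h' := hu' l' (fun n => hl n)
      exact congr($this p)

end Comp

section Uncancel

/-- converse of `IsBC.cancel`: base change along `R → R'` of a `ψ`-semilinear map is a base change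
along `B₀ → B₀'` when the square is a pushout. -/
theorem IsBC.uncancel {R R' B₀ B₀' : Type u} [CommRing R] [CommRing R'] [CommRing B₀]
    [CommRing B₀']
    {φ : R →+* R'} {α : R →+* B₀} {β : R' →+* B₀'} {ψ : B₀ →+* B₀'}
    (hpo : IsPushout (CommRingCat.ofHom φ) (CommRingCat.ofHom α) (CommRingCat.ofHom β)
      (CommRingCat.ofHom ψ))
    {N P : Type u} [AddCommGroup N] [Module B₀ N] [mN : Module R N] [AddCommGroup P]
    [Module B₀' P] [mP : Module R' P]
    (hN : ∀ (r : R) (n : N), r • n = α r • n) (hP : ∀ (r : R') (p : P), r • p = β r • p)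
    {k : N →+ P} (hsemi : ∀ (b : B₀) (n : N), k (b • n) = ψ b • k n)
    (hk : IsBC φ k) : IsBC ψ k := by
  have h1 : mN = Module.compHom N α := Module.ext' _ _ (fun r n => hN r n)
  have h2 : mP = Module.compHom P β := Module.ext' _ _ (fun r p => hP r p)
  subst h1 h2
  letI : Algebra R R' := φ.toAlgebra
  letI : Algebra R B₀ := α.toAlgebra
  letI : Algebra R' B₀' := β.toAlgebra
  letI : Algebra B₀ B₀' := ψ.toAlgebra
  letI : Algebra R B₀' := (β.comp φ).toAlgebra
  haveI : IsScalarTower R R' B₀' := IsScalarTower.of_algebraMap_eq' rfl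
  have hw : ψ.comp α = β.comp φ := by
    have := hpo.w
    exact congr($(this).hom).symm
  haveI : IsScalarTower R B₀ B₀' := IsScalarTower.of_algebraMap_eq' hw.symm
  haveI : Algebra.IsPushout R R' B₀ B₀' := CommRingCat.isPushout_iff_isPushout.mp hpo
  letI : Module R N := Module.compHom N α
  haveI : IsScalarTower R B₀ N := ⟨fun r b n => by
    show (α r * b) • n = α r • (b • n)
    rw [mul_smul]⟩
  letI : Module R' P := Module.compHom P β
  haveI : IsScalarTower R' B₀' P := ⟨fun r b n => by
    show (β r * b) • n = β r • (b • n)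
    rw [mul_smul]⟩
  letI : Module B₀ P := Module.compHom P ψ
  haveI : IsScalarTower B₀ B₀' P := ⟨fun r b n => by
    show (ψ r * b) • n = ψ r • (b • n)
    rw [mul_smul]⟩
  letI : Module R P := Module.compHom P (β.comp φ)
  haveI : IsScalarTower R R' P := ⟨fun r b n => by
    show β (φ r * b) • n = β (φ r) • (β b • n)
    rw [map_mul, mul_smul]⟩
  let kl : N →ₗ[B₀] P :=
    { toFun := k, map_add' := k.map_add, map_smul' := fun b n => hsemi b n }
  let kR : N →ₗ[R] P :=
    { toFun := k
      map_add' := k.map_add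
      map_smul' := fun r n => by
        show k (α r • n) = (β (φ r)) • k n
        rw [hsemi]
        congr 1
        exact congr($hw r) }
  have hkR : IsBaseChange R' kR := IsBC.isBaseChange kR hk
  -- the canonical map `B₀' ⊗[B₀] N → P`
  let w : B₀' ⊗[B₀] N →ₗ[B₀'] P := (TensorProduct.isBaseChange B₀ N B₀').lift kl
  have hw1 : ∀ n : N, w (1 ⊗ₜ n) = k n := fun n =>
    (TensorProduct.isBaseChange B₀ N B₀').lift_eq kl n
  have hw2 : ∀ (b' : B₀') (n : N), w (b' ⊗ₜ n) = b' • k n := by
    intro b' n
    have : b' ⊗ₜ[B₀] n = b' • ((1 : B₀') ⊗ₜ[B₀] n) := by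
      rw [TensorProduct.smul_tmul', smul_eq_mul, mul_one]
    rw [this, LinearMap.map_smul, hw1]
  have hcomp : ∀ t : R' ⊗[R] N,
      w ((Algebra.IsPushout.cancelBaseChange R R' B₀ B₀' N).symm t) = hkR.equiv t := by
    intro t
    induction t using TensorProduct.induction_on with
    | zero => simp
    | tmul r' n =>
      rw [Algebra.IsPushout.cancelBaseChange_symm_tmul, hw2, hkR.equiv_tmul]
      rfl
    | add x y hx hy => rw [map_add, map_add, map_add, hx, hy]
  have hbij : Function.Bijective w := by
    have h3 : ⇑w = ⇑hkR.equiv ∘ ⇑(Algebra.IsPushout.cancelBaseChange R R' B₀ B₀' N) := by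
      funext x
      have := hcomp ((Algebra.IsPushout.cancelBaseChange R R' B₀ B₀' N) x)
      rw [LinearEquiv.symm_apply_apply] at this
      exact this
    rw [h3]
    exact hkR.equiv.bijective.comp (Algebra.IsPushout.cancelBaseChange R R' B₀ B₀' N).bijective
  have hkl : IsBaseChange B₀' kl :=
    IsBaseChange.of_equiv (LinearEquiv.ofBijective w hbij) (fun n => hw1 n)
  exact IsBC.of_isBaseChange kl hkl

end Uncancel

end Groth.Agent.Lib.helper8.PullbackUnit
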