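import Mathlib
import Groth.Agent.Lib.Helper8.PullModComp
import Groth.Agent.Lib.Helper18.HHLin

set_option autoImplicit false
universe u
open CategoryTheory AlgebraicGeometry Opposite TopologicalSpace Abelian
open Groth.Agent.Lib.helper27 Groth.Agent.Lib.Helper18

namespace Groth.Agent.Lib.helper8.PullModComp

section Sch
variable {X Y : Scheme.{u}}
open Scheme.Modules

theorem mapH_comp {M N P : X.Modules} (φ : M ⟶ N) (ψ : N ⟶ P) (p : ℕ) (x : Coh.HH X M p) :
    CohPull.mapH ψ p (CohPull.mapH φ p x) = CohPull.mapH (φ ≫ ψ) p x := by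
  have e := (SheafOfModules.toSheaf X.ringCatSheaf).map_comp φ ψ
  unfold CohPull.mapH
  rw [← Sheaf.H.map_comp_apply]
  exact congrArg (fun t => Sheaf.H.map t p x) e.symm

/-- the linear equivalence on cohomology induced by an isomorphism of modules -/
noncomputable def mapEquiv {M N : X.Modules} (φ : M ≅ N) (p : ℕ) :
    Coh.HH X M p ≃ₗ[Coh.Γtop X] Coh.HH X N p :=
  ((HH.functor X p).mapIso φ).toLinearEquiv

theorem mapEquiv_apply {M N : X.Modules} (φ : M ≅ N) (p : ℕ) (x : Coh.HH X M p) :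
    mapEquiv φ p x = CohPull.mapH φ.hom p x := rfl

theorem resLE_eq_comp (g : X ⟶ Y) (U : Y.Opens) {U₁ U₂ : X.Opens} (h₁ : U₁ ≤ g ⁻¹ᵁ U)
    (h₂ : U₂ ≤ U₁) :
    g.resLE U U₂ (h₂.trans h₁) = ResLE.jj h₂ ≫ g.resLE U U₁ h₁ := by
  unfold ResLE.jj
  rw [Scheme.Hom.resLE_comp_resLE]
  rw [← cancel_mono U.ι]
  simp

/-- `ResLE.β` as an isomorphism -/
noncomputable def βIso {U U' : X.Opens} (h : U' ≤ U) (F : X.Modules) :
    (pullback (ResLE.jj h)).obj (F.restrict U.ι) ≅ F.restrict U'.ι :=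
  CohPull.pullOnIso (𝟙 X) U U' (by rwa [Scheme.Hom.id_preimage]) F ≪≫
    (restrictFunctor U'.ι).mapIso ((pullbackId X).app F)

theorem βIso_hom {U U' : X.Opens} (h : U' ≤ U) (F : X.Modules) :
    (βIso h F).hom = ResLE.β h F := by
  simp only [βIso, ResLE.β, Iso.trans_hom, Functor.mapIso_hom, Iso.app_hom]

theorem resLE_eq'' {U U' : X.Opens} (h : U' ≤ U) (F : X.Modules) (p : ℕ)
    (x : Coh.HHon X F U p) :
    CohPull.resLE F h p x =
      mapEquiv (βIso h F) p (CohPull.pullMod (ResLE.jj h) (F.restrict U.ι) p x) := by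
  rw [mapEquiv_apply, βIso_hom]
  exact ResLE.resLE_eq' h F p x

end Sch

section Sch2
variable {X Y Z : Scheme.{u}}
open Scheme.Modules

theorem pullMod_comp' (f : X ⟶ Y) (g : Y ⟶ Z) (M : Z.Modules) (p : ℕ) (x : Coh.HH Z M p) :
    CohPull.pullMod f ((pullback g).obj M) p (CohPull.pullMod g M p x) =
      mapEquiv ((pullbackComp f g).app M).symm p (CohPull.pullMod (f ≫ g) M p x) :=
  pullMod_comp f g M p x

theorem pullMod_naturalIso (g : X ⟶ Y) {M M' : Y.Modules} (ψ : M' ≅ M) (p : ℕ)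
    (x : Coh.HH Y M' p) :
    CohPull.pullMod g M p (mapEquiv ψ p x) =
      mapEquiv ((pullback g).mapIso ψ) p (CohPull.pullMod g M' p x) :=
  pullMod_natural g ψ.hom p x

theorem pullMod_congr' {g g' : X ⟶ Y} (e : g = g') (M : Y.Modules) (p : ℕ) (x : Coh.HH Y M p) :
    CohPull.pullMod g' M p x =
      mapEquiv ((pullbackCongr e).app M) p (CohPull.pullMod g M p x) :=
  pullMod_congr e M p x

end Sch2

section Sch3
variable {X Y : Scheme.{u}}
open Scheme.Modules

/-- **restriction of a pulled back class is the pullback along the smaller restricted morphism**,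
up to a linear equivalence -/
theorem resLE_pullOn (g : X ⟶ Y) (U : Y.Opens) {U₁ U₂ : X.Opens} (h₁ : U₁ ≤ g ⁻¹ᵁ U)
    (h₂ : U₂ ≤ U₁) (F : Y.Modules) (p : ℕ) :
    ∃ e : Coh.HH ↑U₂ ((pullback (g.resLE U U₂ (h₂.trans h₁))).obj (F.restrict U.ι)) p
        ≃ₗ[Coh.Γtop ↑U₂] Coh.HHon X ((pullback g).obj F) U₂ p,
      ∀ x : Coh.HHon Y F U p,
        CohPull.resLE ((pullback g).obj F) h₂ p (CohPull.pullOn g U U₁ h₁ F p x) =
          e (CohPull.pullMod (g.resLE U U₂ (h₂.trans h₁)) (F.restrict U.ι) p x) := by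
  refine ⟨(mapEquiv ((pullbackCongr (resLE_eq_comp g U h₁ h₂)).app (F.restrict U.ι)) p).trans
    ((mapEquiv ((pullbackComp (ResLE.jj h₂) (g.resLE U U₁ h₁)).app (F.restrict U.ι)).symm p).trans
      ((mapEquiv ((pullback (ResLE.jj h₂)).mapIso (CohPull.pullOnIso g U U₁ h₁ F)) p).trans
        (mapEquiv (βIso h₂ ((pullback g).obj F)) p))), fun x => ?_⟩
  have e1 : CohPull.pullOn g U U₁ h₁ F p x = mapEquiv (CohPull.pullOnIso g U U₁ h₁ F) p
      (CohPull.pullMod (g.resLE U U₁ h₁) (F.restrict U.ι) p x) := rfl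
  rw [resLE_eq'', e1, pullMod_naturalIso, pullMod_comp',
    pullMod_congr' (resLE_eq_comp g U h₁ h₂) (F.restrict U.ι) p x]
  rfl

end Sch3

end Groth.Agent.Lib.helper8.PullModComp
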