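import Mathlib
import Groth.Agent.Lib.Helper8.EpsAffine
import Groth.Agent.Lib.Helper8.FlatHomBC3
import Groth.Agent.Lib.Helper8.PullModComp2
import Groth.Agent.Lib.Helper8.IsBCMore
import Groth.Agent.Lib.Helper17.FlatOver6
import Groth.Agent.Lib.Helper17.FlatOver7
import Groth.Agent.Lib.Helper17.FlatOver4

set_option autoImplicit false
universe u
open CategoryTheory CategoryTheory.Limits Opposite TopologicalSpace AlgebraicGeometry

namespace Groth.Agent.Lib.helper8.GenBCChart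

open Groth.Agent.Lib.helper8.PullbackUnit Groth.Agent.Lib.helper8.EpsAffine
open Scheme.Modules

section fU

variable {X S : Scheme.{u}} (a : X ⟶ S) {W : S.Opens} (hW : IsAffineOpen W) {U : X.Opens}
  (hUW : U ≤ a ⁻¹ᵁ W)

/-- the structure morphism of `U ≤ a⁻¹W` over `Spec Γ(S, W)` -/
noncomputable def fU : (↑U : Scheme.{u}) ⟶ Spec (CommRingCat.of Γ(S, W)) :=
  a.resLE W U hUW ≫ hW.isoSpec.hom

theorem fU_fromSpec : fU a hW hUW ≫ hW.fromSpec = U.ι ≫ a := by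
  unfold fU
  rw [Category.assoc, hW.isoSpec_hom_fromSpec, Scheme.Hom.resLE_comp_ι]

theorem toGlobal_fU (r : Γ(S, W)) :
    Coh.toGlobal (A := Γ(S, W)) (fU a hW hUW) r = toΓtop U ((a.appLE W U hUW).hom r) := by
  show ((fU a hW hUW).appTop).hom ((Scheme.ΓSpecIso (CommRingCat.of Γ(S, W))).inv.hom r) = _
  unfold fU
  rw [Scheme.Hom.comp_appTop, hW.isoSpec_hom_appTop]
  have h1 : (a.resLE W U hUW).appTop = W.topIso.hom ≫ a.appLE W U hUW ≫ U.topIso.inv :=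
    Scheme.Hom.resLE_app_top a hUW
  rw [h1]
  simp only [CommRingCat.hom_comp, RingHom.comp_apply, toΓtop]
  congr 2
  have e1 := ConcreteCategory.congr_hom (Scheme.ΓSpecIso Γ(S, W)).inv_hom_id r
  have e2 := ConcreteCategory.congr_hom W.topIso.inv_hom_id
    ((Scheme.ΓSpecIso Γ(S, W)).hom.hom ((Scheme.ΓSpecIso Γ(S, W)).inv.hom r))
  simp only [CommRingCat.hom_comp, RingHom.comp_apply, CommRingCat.hom_id, RingHom.id_apply] at e1 e2
  exact e2.trans e1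

theorem isPullback_fU : IsPullback (𝟙 (↑U : Scheme.{u})) (fU a hW hUW) (U.ι ≫ a) hW.fromSpec := by
  have top : IsPullback (𝟙 (↑U : Scheme.{u})) (fU a hW hUW) (fU a hW hUW) (𝟙 _) :=
    IsPullback.of_horiz_isIso ⟨by simp⟩
  have bot : IsPullback (𝟙 (Spec (CommRingCat.of Γ(S, W)))) (𝟙 _) hW.fromSpec hW.fromSpec :=
    IsKernelPair.id_of_mono hW.fromSpec
  have h := top.paste_vert bot
  rw [Category.comp_id, fU_fromSpec] at h
  exact h

theorem isFlatOver_fU (F : X.Modules) [F.IsQuasicoherent] (hF : FlatMod.IsFlatOver a F) :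
    FlatMod.IsFlatOver (fU a hW hUW) (F.restrict U.ι) := by
  have h1 : FlatMod.IsFlatOver (U.ι ≫ a) ((Scheme.Modules.pullback U.ι).obj F) :=
    Groth.Agent.Lib.helper17.FlatOver4.isFlatOver_pullback_of_flat U.ι a F hF
  have h1' : FlatMod.IsFlatOver (U.ι ≫ a) (F.restrict U.ι) :=
    (Groth.Agent.Lib.helper17.FlatOver7.isFlatOver_iff_of_iso (U.ι ≫ a)
      ((restrictFunctorIsoPullback U.ι).app F)).mpr h1
  haveI : (F.restrict U.ι).IsQuasicoherent := Scheme.Modules.isQuasicoherent_restrictFunctor U.ι F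
  have h3 : FlatMod.IsFlatOver (fU a hW hUW)
      ((Scheme.Modules.pullback (𝟙 (↑U : Scheme.{u}))).obj (F.restrict U.ι)) := fun x =>
    (Groth.Agent.Lib.helper17.FlatOver6.isFlatOverAt_baseChange_both (isPullback_fU a hW hUW)
      (F.restrict U.ι) x).1 (h1' _)
  exact (Groth.Agent.Lib.helper17.FlatOver7.isFlatOver_iff_of_iso (fU a hW hUW)
    ((pullbackId (↑U : Scheme.{u})).app (F.restrict U.ι))).mp h3

end fU

section chart

variable {X S X' S' : Scheme.{u}} {a : X ⟶ S} {g : S' ⟶ S} {gX : X' ⟶ X} {a' : X' ⟶ S'}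
  (H : IsPullback gX a' a g)
  {W : S.Opens} (hW : IsAffineOpen W) {W' : S'.Opens} (hW' : IsAffineOpen W')
  (hW'W : W' ≤ g ⁻¹ᵁ W) {U : X.Opens} (hUW : U ≤ a ⁻¹ᵁ W) {U' : X'.Opens}
  (hU' : U' = gX ⁻¹ᵁ U ⊓ a' ⁻¹ᵁ W')

theorem isoSpec_naturality :
    g.resLE W W' hW'W ≫ hW.isoSpec.hom = hW'.isoSpec.hom ≫ Spec.map (g.appLE W W' hW'W) := by
  have : IsAffine (↑W : Scheme.{u}) := hW
  have : IsAffine (↑W' : Scheme.{u}) := hW'
  simp [IsAffineOpen.isoSpec_hom]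

include H in
theorem isPullback_chart :
    IsPullback (gX.resLE U U' (by rw [hU']; exact inf_le_left))
      (fU a' hW' (show U' ≤ a' ⁻¹ᵁ W' by rw [hU']; exact inf_le_right))
      (fU a hW hUW) (Spec.map (g.appLE W W' hW'W)) := by
  have base := Scheme.Hom.isPullback_resLE H hW'W hUW hU'
  refine IsPullback.of_iso base (Iso.refl _) (Iso.refl _) hW'.isoSpec hW.isoSpec ?_ ?_ ?_ ?_
  · simp
  · simp [fU]
  · simp [fU]
  · exact isoSpec_naturality hW hW' hW'W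

end chart

section misc

variable {X Y : Scheme.{u}}

theorem ρv_smul (g : Y ⟶ X) {U : X.Opens} {V : Y.Opens} (e : V ≤ g ⁻¹ᵁ U) {A : X.Modules}
    {B : Y.Modules} (v : A ⟶ (pushforward g).obj B) (r : Γ(X, U)) (a : Γ(A, U)) :
    ρv g e v (r • a) = (g.appLE U V e).hom r • ρv g e v a := by
  rw [ρv_apply, ρv_apply, Hom.app_smul v r a]
  exact Scheme.Modules.map_smul B (homOfLE e) ((g.app U).hom r) ((v.app U).hom a)

/-- the fibre product of affine opens is an affine open -/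
theorem isAffineOpen_inf_preimage {X Y S T : Scheme.{u}} {f : T ⟶ S} {g : Y ⟶ X} {iX : X ⟶ S}
    {iY : Y ⟶ T} (H : IsPullback g iY iX f) {US : S.Opens} {UT : T.Opens} {UX : X.Opens}
    (hUST : UT ≤ f ⁻¹ᵁ US) (hUSX : UX ≤ iX ⁻¹ᵁ US) (hUS : IsAffineOpen US)
    (hUT : IsAffineOpen UT) (hUX : IsAffineOpen UX) :
    IsAffineOpen (g ⁻¹ᵁ UX ⊓ iY ⁻¹ᵁ UT) := by
  have : IsAffine _ := hUS
  have : IsAffine _ := hUT
  have : IsAffine _ := hUX
  exact .of_isIso (Scheme.Hom.isPullback_resLE H hUST hUSX rfl).isoPullback.hom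

theorem toGlobal_fU_comp {X Y S : Scheme.{u}} (f : X ⟶ Y) (b : Y ⟶ S) {W : S.Opens}
    (hW : IsAffineOpen W) {V : Y.Opens} (hVW : V ≤ b ⁻¹ᵁ W)
    (hUW : f ⁻¹ᵁ V ≤ (f ≫ b) ⁻¹ᵁ W) (r : Γ(S, W)) :
    Coh.toGlobal (A := Γ(S, W)) (fU (f ≫ b) hW hUW) r = θ f V ((b.appLE W V hVW).hom r) := by
  rw [toGlobal_fU]
  unfold θ
  rw [RingHom.comp_apply]
  congr 1
  have h1 : (f ≫ b).appLE W (f ⁻¹ᵁ V) hUW = b.appLE W V hVW ≫ f.appLE V (f ⁻¹ᵁ V) le_rfl :=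
    (Scheme.Hom.appLE_comp_appLE _ _ _ _ _ _ _).symm
  rw [h1, Scheme.Hom.appLE_eq_app]
  rfl

theorem fU_comp_eq {X Y S : Scheme.{u}} (f : X ⟶ Y) (b : Y ⟶ S) {W : S.Opens}
    (hW : IsAffineOpen W) {V : Y.Opens} (hVW : V ≤ b ⁻¹ᵁ W)
    (hUW : f ⁻¹ᵁ V ≤ (f ≫ b) ⁻¹ᵁ W) :
    fU (f ≫ b) hW hUW = (f ∣_ V) ≫ (b.resLE W V hVW ≫ hW.isoSpec.hom) := by
  unfold fU
  rw [← Category.assoc]
  congr 1
  rw [← Scheme.Hom.resLE_eq_morphismRestrict, Scheme.Hom.resLE_comp_resLE]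

theorem isSeparated_fU {X Y S : Scheme.{u}} (f : X ⟶ Y) [IsSeparated f] (b : Y ⟶ S) {W : S.Opens}
    (hW : IsAffineOpen W) {V : Y.Opens} (hV : IsAffineOpen V) (hVW : V ≤ b ⁻¹ᵁ W)
    (hUW : f ⁻¹ᵁ V ≤ (f ≫ b) ⁻¹ᵁ W) : IsSeparated (fU (f ≫ b) hW hUW) := by
  rw [fU_comp_eq f b hW hVW hUW]
  haveI : IsAffine (↑V : Scheme.{u}) := hV
  haveI : IsSeparated (f ∣_ V) := inferInstance
  infer_instance

theorem quasiCompact_fU {X Y S : Scheme.{u}} (f : X ⟶ Y) [QuasiCompact f] (b : Y ⟶ S)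
    {W : S.Opens} (hW : IsAffineOpen W) {V : Y.Opens} (hV : IsAffineOpen V) (hVW : V ≤ b ⁻¹ᵁ W)
    (hUW : f ⁻¹ᵁ V ≤ (f ≫ b) ⁻¹ᵁ W) : QuasiCompact (fU (f ≫ b) hW hUW) := by
  rw [fU_comp_eq f b hW hVW hUW]
  haveI : IsAffine (↑V : Scheme.{u}) := hV
  haveI : QuasiCompact (f ∣_ V) := inferInstance
  infer_instance

end misc

end Groth.Agent.Lib.helper8.GenBCChart
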