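import Mathlib
import Groth.Agent.Lib.Helper8.GenBCChart
import Groth.Agent.Lib.Helper1.ResBC
import Groth.Agent.Lib.Helper16.QCohPullback

/-!
# The base change map of higher direct images on a chart (helper8)
-/

set_option autoImplicit false
universe u
open CategoryTheory CategoryTheory.Limits Opposite TopologicalSpace AlgebraicGeometry

namespace Groth.Agent.Lib.helper8.GenBCChart

open Groth.Agent.Lib.helper8.PullbackUnit Groth.Agent.Lib.helper8.EpsAffine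
open Groth.Agent.Lib.helper8.FlatHomBC Groth.Agent.Lib.helper8.PullModComp
open Groth.Agent.Lib.helper21.GCCech
open Scheme.Modules CohCmp

section epsEquiv

variable {X Y S : Scheme.{u}} (f : X ⟶ Y) [QuasiCompact f] [QuasiSeparated f] (b : Y ⟶ S)
  [HasInjectiveResolutions X.Modules]
  {Δ : RDer.DerivedLES (pushforward f)} (E : CohCmp.SectCmp f Δ)
  (F : X.Modules) [Coh.IsQCoh F]
  {W : S.Opens} (hW : IsAffineOpen W) {V : Y.Opens} (hV : IsAffineOpen V) (hVW : V ≤ b ⁻¹ᵁ W)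
  (hUW : f ⁻¹ᵁ V ≤ (f ≫ b) ⁻¹ᵁ W) (p : ℕ)

/-- `ε_V` as a `Γ(S, W)`-linear equivalence -/
noncomputable def epsEquiv :
    letI := modHH (fU (f ≫ b) hW hUW) (F.restrict (f ⁻¹ᵁ V).ι) p
    letI := Groth.Agent.Lib.helper17.FlatOver1.modSecBase b ((Coh.Rpush f p).obj F) hVW
    Coh.HHon X F (f ⁻¹ᵁ V) p ≃ₗ[Γ(S, W)] Γ((Coh.Rpush f p).obj F, V) :=
  letI := modHH (fU (f ≫ b) hW hUW) (F.restrict (f ⁻¹ᵁ V).ι) p
  letI := Groth.Agent.Lib.helper17.FlatOver1.modSecBase b ((Coh.Rpush f p).obj F) hVW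
  { AddEquiv.ofBijective (E.ε V F p) (eps_bijective_of_isAffineOpen f E F hV p) with
    map_smul' := fun r x => by
      show E.ε V F p (Coh.toGlobal (A := Γ(S, W)) (fU (f ≫ b) hW hUW) r • x) =
        (b.appLE W V hVW).hom r • E.ε V F p x
      rw [toGlobal_fU_comp f b hW hVW hUW, eps_smul] }

theorem epsEquiv_apply (x : Coh.HHon X F (f ⁻¹ᵁ V) p) :
    epsEquiv f b E F hW hV hVW hUW p x = E.ε V F p x := rfl

end epsEquiv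

section Main

variable {X Y S X' Y' S' : Scheme.{u}} (b : Y ⟶ S) (f : X ⟶ Y)
    [IsSeparated f] [QuasiCompact f]
    (g : S' ⟶ S) (gY : Y' ⟶ Y) (b' : Y' ⟶ S') (hY : IsPullback gY b' b g)
    (gX : X' ⟶ X) (f' : X' ⟶ Y') (hX : IsPullback gX f' f gY)
    [HasInjectiveResolutions X.Modules] [HasInjectiveResolutions X'.Modules]
    (F : X.Modules) [Coh.IsQCoh F] (hF : FlatMod.IsFlatOver (f ≫ b) F)
    (hR : ∀ n : ℕ, FlatMod.IsFlatOver b ((Coh.Rpush f n).obj F))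
    {Δ : RDer.DerivedLES (pushforward f)} {Δ' : RDer.DerivedLES (pushforward f')}
    (E : CohCmp.SectCmp f Δ) (E' : CohCmp.SectCmp f' Δ')
    (B : CohCmp.GenBC f gY f' gX hX.w E E') (n : ℕ)
    {W : S.Opens} (hW : IsAffineOpen W) {V : Y.Opens} (hV : IsAffineOpen V) (hVW : V ≤ b ⁻¹ᵁ W)
    {W' : S'.Opens} (hW' : IsAffineOpen W') (hW'W : W' ≤ g ⁻¹ᵁ W)

include hY hF hR hW hV hVW hW' hW'W in
/-- **the base change map on a chart is a base change of modules** -/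
theorem isBC_chart :
    IsBC (gY.appLE V (gY ⁻¹ᵁ V ⊓ b' ⁻¹ᵁ W') inf_le_left).hom
      (ρv gY (inf_le_left : gY ⁻¹ᵁ V ⊓ b' ⁻¹ᵁ W' ≤ gY ⁻¹ᵁ V) (B.φ n F)) := by
  haveI : IsSeparated f' := MorphismProperty.of_isPullback (P := @IsSeparated) hX inferInstance
  haveI : QuasiCompact f' := MorphismProperty.of_isPullback (P := @QuasiCompact) hX inferInstance
  haveI : Coh.IsQCoh ((Scheme.Modules.pullback gX).obj F) :=
    Groth.Agent.Lib.helper16.QCohPullback.isQuasicoherent_pullback gX F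
  -- opens
  have hP : IsAffineOpen (gY ⁻¹ᵁ V ⊓ b' ⁻¹ᵁ W') :=
    isAffineOpen_inf_preimage hY hW'W hVW hW hW' hV
  have hPW' : gY ⁻¹ᵁ V ⊓ b' ⁻¹ᵁ W' ≤ b' ⁻¹ᵁ W' := inf_le_right
  have hUW : f ⁻¹ᵁ V ≤ (f ≫ b) ⁻¹ᵁ W := by
    rw [Scheme.Hom.comp_preimage]
    exact f.preimage_mono hVW
  have hU'W' : f' ⁻¹ᵁ (gY ⁻¹ᵁ V ⊓ b' ⁻¹ᵁ W') ≤ (f' ≫ b') ⁻¹ᵁ W' := by
    rw [Scheme.Hom.comp_preimage]
    exact f'.preimage_mono hPW'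
  have hU'eq : f' ⁻¹ᵁ (gY ⁻¹ᵁ V ⊓ b' ⁻¹ᵁ W') = gX ⁻¹ᵁ (f ⁻¹ᵁ V) ⊓ (f' ≫ b') ⁻¹ᵁ W' := by
    rw [Scheme.Hom.preimage_inf, ← Scheme.Hom.comp_preimage, ← Scheme.Hom.comp_preimage,
      ← Scheme.Hom.comp_preimage, hX.w]
  have h₁ : f' ⁻¹ᵁ (gY ⁻¹ᵁ V) ≤ gX ⁻¹ᵁ (f ⁻¹ᵁ V) := sqLE f gY f' gX hX.w V
  have h₂ : f' ⁻¹ᵁ (gY ⁻¹ᵁ V ⊓ b' ⁻¹ᵁ W') ≤ f' ⁻¹ᵁ (gY ⁻¹ᵁ V) := f'.preimage_mono inf_le_left
  -- the chart
  letI : Algebra Γ(S, W) Γ(S', W') := (g.appLE W W' hW'W).hom.toAlgebra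
  have H : IsPullback gX (f' ≫ b') (f ≫ b) g := hX.paste_vert hY
  have hpb : IsPullback (gX.resLE (f ⁻¹ᵁ V) (f' ⁻¹ᵁ (gY ⁻¹ᵁ V ⊓ b' ⁻¹ᵁ W')) (h₂.trans h₁))
      (fU (f' ≫ b') hW' hU'W') (fU (f ≫ b) hW hUW)
      (Spec.map (CommRingCat.ofHom (algebraMap Γ(S, W) Γ(S', W')))) :=
    isPullback_chart H hW hW' hW'W hUW hU'eq
  haveI : IsSeparated (fU (f ≫ b) hW hUW) := isSeparated_fU f b hW hV hVW hUW
  haveI : QuasiCompact (fU (f ≫ b) hW hUW) := quasiCompact_fU f b hW hV hVW hUW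
  haveI : (F.restrict (f ⁻¹ᵁ V).ι).IsQuasicoherent :=
    Scheme.Modules.isQuasicoherent_restrictFunctor (f ⁻¹ᵁ V).ι F
  have hfl := isFlatOver_fU (f ≫ b) hW hUW F hF
  have hHflat : ∀ p : ℕ, @Module.Flat Γ(S, W) (Coh.HH (↑(f ⁻¹ᵁ V) : Scheme.{u})
      (F.restrict (f ⁻¹ᵁ V).ι) p) _ _
      (modHH (fU (f ≫ b) hW hUW) (F.restrict (f ⁻¹ᵁ V).ι) p) := by
    intro p
    haveI : Coh.IsQCoh ((Coh.Rpush f p).obj F) := Groth.Agent.S0030.result f F p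
    have hG := Groth.Agent.Lib.helper17.FlatOver1.flat_sections_of_isFlatOverAt b
      ((Coh.Rpush f p).obj F) hVW hV hW (fun x _ => hR p x)
    letI := modHH (fU (f ≫ b) hW hUW) (F.restrict (f ⁻¹ᵁ V).ι) p
    letI := Groth.Agent.Lib.helper17.FlatOver1.modSecBase b ((Coh.Rpush f p).obj F) hVW
    exact Module.Flat.of_linearEquiv (epsEquiv f b E F hW hV hVW hUW p)
  have core := isBC_pullMod (fU (f ≫ b) hW hUW) (fU (f' ≫ b') hW' hU'W')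
    (gX.resLE (f ⁻¹ᵁ V) (f' ⁻¹ᵁ (gY ⁻¹ᵁ V ⊓ b' ⁻¹ᵁ W')) (h₂.trans h₁)) hpb
    (F.restrict (f ⁻¹ᵁ V).ι) hfl hHflat n
  -- the map `T = resLE ∘ pullOn`
  obtain ⟨e, he⟩ := resLE_pullOn gX (f ⁻¹ᵁ V) h₁ h₂ F n
  let T : Coh.HHon X F (f ⁻¹ᵁ V) n →+
      Coh.HHon X' ((Scheme.Modules.pullback gX).obj F) (f' ⁻¹ᵁ (gY ⁻¹ᵁ V ⊓ b' ⁻¹ᵁ W')) n :=
    (CohPull.resLE ((Scheme.Modules.pullback gX).obj F) h₂ n).comp
      (CohPull.pullOn gX (f ⁻¹ᵁ V) (f' ⁻¹ᵁ (gY ⁻¹ᵁ V)) h₁ F n)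
  have hT : @IsBC Γ(S, W) Γ(S', W') _ _ (algebraMap Γ(S, W) Γ(S', W')) _ _ _
      (modHH (fU (f ≫ b) hW hUW) (F.restrict (f ⁻¹ᵁ V).ι) n) _
      (modHH (fU (f' ≫ b') hW' hU'W')
        (((Scheme.Modules.pullback gX).obj F).restrict (f' ⁻¹ᵁ (gY ⁻¹ᵁ V ⊓ b' ⁻¹ᵁ W')).ι) n) T := by
    letI := modHH (fU (f ≫ b) hW hUW) (F.restrict (f ⁻¹ᵁ V).ι) n
    letI mB1 := modHH (fU (f' ≫ b') hW' hU'W')
      ((Scheme.Modules.pullback (gX.resLE (f ⁻¹ᵁ V) (f' ⁻¹ᵁ (gY ⁻¹ᵁ V ⊓ b' ⁻¹ᵁ W'))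
        (h₂.trans h₁))).obj (F.restrict (f ⁻¹ᵁ V).ι)) n
    letI mB2 := modHH (fU (f' ≫ b') hW' hU'W')
      (((Scheme.Modules.pullback gX).obj F).restrict (f' ⁻¹ᵁ (gY ⁻¹ᵁ V ⊓ b' ⁻¹ᵁ W')).ι) n
    let eB : Coh.HHon X' ((Scheme.Modules.pullback gX).obj F)
        (f' ⁻¹ᵁ (gY ⁻¹ᵁ V ⊓ b' ⁻¹ᵁ W')) n ≃ₗ[Γ(S', W')]
        Coh.HH (↑(f' ⁻¹ᵁ (gY ⁻¹ᵁ V ⊓ b' ⁻¹ᵁ W')) : Scheme.{u})
          ((Scheme.Modules.pullback (gX.resLE (f ⁻¹ᵁ V) (f' ⁻¹ᵁ (gY ⁻¹ᵁ V ⊓ b' ⁻¹ᵁ W'))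
            (h₂.trans h₁))).obj (F.restrict (f ⁻¹ᵁ V).ι)) n :=
      { e.symm.toAddEquiv with
        map_smul' := fun s y =>
          e.symm.map_smul (Coh.toGlobal (A := Γ(S', W')) (fU (f' ≫ b') hW' hU'W') s) y }
    refine core.of_equiv (LinearEquiv.refl _ _) eB T (fun x => ?_)
    show e.symm (T x) = _
    rw [LinearEquiv.symm_apply_eq]
    exact (AddMonoidHom.comp_apply _ _ x).trans (he x)
  -- transfer along `ε`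
  have hρ : @IsBC Γ(S, W) Γ(S', W') _ _ (algebraMap Γ(S, W) Γ(S', W'))
      Γ((Coh.Rpush f n).obj F, V)
      Γ((Coh.Rpush f' n).obj ((Scheme.Modules.pullback gX).obj F), gY ⁻¹ᵁ V ⊓ b' ⁻¹ᵁ W') _
      (Groth.Agent.Lib.helper17.FlatOver1.modSecBase b ((Coh.Rpush f n).obj F) hVW) _
      (Groth.Agent.Lib.helper17.FlatOver1.modSecBase b'
        ((Coh.Rpush f' n).obj ((Scheme.Modules.pullback gX).obj F)) hPW')
      (ρv gY (inf_le_left : gY ⁻¹ᵁ V ⊓ b' ⁻¹ᵁ W' ≤ gY ⁻¹ᵁ V) (B.φ n F)) := by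
    letI := modHH (fU (f ≫ b) hW hUW) (F.restrict (f ⁻¹ᵁ V).ι) n
    letI := modHH (fU (f' ≫ b') hW' hU'W')
      (((Scheme.Modules.pullback gX).obj F).restrict (f' ⁻¹ᵁ (gY ⁻¹ᵁ V ⊓ b' ⁻¹ᵁ W')).ι) n
    letI := Groth.Agent.Lib.helper17.FlatOver1.modSecBase b ((Coh.Rpush f n).obj F) hVW
    letI := Groth.Agent.Lib.helper17.FlatOver1.modSecBase b'
      ((Coh.Rpush f' n).obj ((Scheme.Modules.pullback gX).obj F)) hPW'
    refine hT.of_equiv (epsEquiv f b E F hW hV hVW hUW n).symm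
      (epsEquiv f' b' E' ((Scheme.Modules.pullback gX).obj F) hW' hP hPW' hU'W' n).symm _
      (fun a => ?_)
    rw [LinearEquiv.symm_apply_eq]
    obtain ⟨x, rfl⟩ := (epsEquiv f b E F hW hV hVW hUW n).surjective a
    rw [LinearEquiv.symm_apply_apply, epsEquiv_apply, epsEquiv_apply, ρv_apply, B.compat V F n x,
      eps_res f' E' n ((Scheme.Modules.pullback gX).obj F) inf_le_left]
    exact congrArg _ (AddMonoidHom.comp_apply _ _ x).symm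
  -- from `Γ(S, W) → Γ(S', W')` to `Γ(Y, V) → Γ(Y', P)`
  have hpo : IsPushout (CommRingCat.ofHom (algebraMap Γ(S, W) Γ(S', W')))
      (CommRingCat.ofHom (b.appLE W V hVW).hom)
      (CommRingCat.ofHom (b'.appLE W' (gY ⁻¹ᵁ V ⊓ b' ⁻¹ᵁ W') hPW').hom)
      (CommRingCat.ofHom (gY.appLE V (gY ⁻¹ᵁ V ⊓ b' ⁻¹ᵁ W') inf_le_left).hom) := by
    have := (isIso_pushoutSection_iff hY hW'W hVW rfl).mp
      (isIso_pushoutSection_of_isAffineOpen hY hW'W hVW rfl hW hW' hV)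
    exact this.flip
  letI := Groth.Agent.Lib.helper17.FlatOver1.modSecBase b ((Coh.Rpush f n).obj F) hVW
  letI := Groth.Agent.Lib.helper17.FlatOver1.modSecBase b'
    ((Coh.Rpush f' n).obj ((Scheme.Modules.pullback gX).obj F)) hPW'
  exact IsBC.uncancel hpo (fun r n => rfl) (fun r p => rfl)
    (fun r a => ρv_smul gY _ (B.φ n F) r a) hρ

end Main

end Groth.Agent.Lib.helper8.GenBCChart
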