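import Mathlib
import Groth.Agent.Lib.Helper8.PullModComp2
import Groth.Agent.Lib.Helper18.ResLEDelta

/-!
# Composition of `CohPull.pullOn` (helper8)

For `g : X ⟶ Y`, opens `U ⊆ Y`, `U' ⊆ g⁻¹U` and an `O_Y`-module `F`:
* `θOn g U U' h F : F|_U ⟶ (g|)_* ((g^*F)|_{U'})`, the transpose of `CohPull.pullOnIso`;
  `pullOn_eq_Hm`: `pullOn g U U' h F p = Hm (g|) (θOn …) p`;
* `Ξ_eq`, `θOn_app`, `θOn_app'`: on sections `θOn` is the unit of `g^* ⊣ g_*` followed by restriction;
* `Hm_congr`;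
* `pullOn_comp`: `pullOn (f ≫ g) = H^p((pullbackComp f g).hom|) ∘ pullOn f ∘ pullOn g`.
-/

set_option autoImplicit false
universe u
open CategoryTheory AlgebraicGeometry Opposite TopologicalSpace
open AlgebraicGeometry.Scheme.Modules
open Groth.Agent.Lib.Helper18.ResLE Groth.Agent.Lib.helper8.PullModComp

namespace Groth.Agent.Lib.helper8.PullOnComp

variable {X Y Z : Scheme.{u}}

section thetaOn

variable (g : X ⟶ Y) (U : Y.Opens) (U' : X.Opens) (h : U' ≤ g ⁻¹ᵁ U) (F : Y.Modules)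

/-- the transpose of `CohPull.pullOnIso` -/
noncomputable def θOn :
    F.restrict U.ι ⟶
      (pushforward (g.resLE U U' h)).obj (((Scheme.Modules.pullback g).obj F).restrict U'.ι) :=
  uP (g.resLE U U' h) (F.restrict U.ι) ≫
    (pushforward (g.resLE U U' h)).map (CohPull.pullOnIso g U U' h F).hom

theorem pullOn_eq_Hm (p : ℕ) (x : Coh.HHon Y F U p) :
    CohPull.pullOn g U U' h F p x = Hm (g.resLE U U' h) (θOn g U U' h F) p x := by
  unfold CohPull.pullOn θOn
  rw [AddMonoidHom.comp_apply, pullMod_eq, Hm_postcomp]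

/-- the equality of morphisms of schemes used in `pullOnIso` -/
theorem ee : g.resLE U U' h ≫ U.ι = U'.ι ≫ g := Scheme.Hom.resLE_comp_ι g h

noncomputable def r4 :
    (Scheme.Modules.pullback U'.ι).obj ((Scheme.Modules.pullback g).obj F) ⟶
      ((Scheme.Modules.pullback g).obj F).restrict U'.ι :=
  (restrictFunctorIsoPullback U'.ι).inv.app ((Scheme.Modules.pullback g).obj F)

noncomputable def r3 :
    (Scheme.Modules.pullback (U'.ι ≫ g)).obj F ⟶
      ((Scheme.Modules.pullback g).obj F).restrict U'.ι :=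
  (Scheme.Modules.pullbackComp U'.ι g).inv.app F ≫ r4 g U' F

noncomputable def r2 :
    (Scheme.Modules.pullback (g.resLE U U' h ≫ U.ι)).obj F ⟶
      ((Scheme.Modules.pullback g).obj F).restrict U'.ι :=
  (Scheme.Modules.pullbackCongr (ee g U U' h)).hom.app F ≫ r3 g U' F

noncomputable def r1 :
    (Scheme.Modules.pullback (g.resLE U U' h)).obj ((Scheme.Modules.pullback U.ι).obj F) ⟶
      ((Scheme.Modules.pullback g).obj F).restrict U'.ι :=
  (Scheme.Modules.pullbackComp (g.resLE U U' h) U.ι).hom.app F ≫ r2 g U U' h F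

theorem pullOnIso_hom_eq :
    (CohPull.pullOnIso g U U' h F).hom =
      (Scheme.Modules.pullback (g.resLE U U' h)).map
        ((restrictFunctorIsoPullback U.ι).hom.app F) ≫ r1 g U U' h F := by
  unfold r1 r2 r3 r4 CohPull.pullOnIso
  simp only [Iso.trans_hom, Functor.mapIso_hom, Iso.app_hom, Iso.symm_hom, Iso.app_inv,
    ]

theorem step1 :
    θOn g U U' h F =
      (restrictFunctorIsoPullback U.ι).hom.app F ≫
        uP (g.resLE U U' h) ((Scheme.Modules.pullback U.ι).obj F) ≫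
        (pushforward (g.resLE U U' h)).map (r1 g U U' h F) := by
  unfold θOn
  rw [pullOnIso_hom_eq, Functor.map_comp, ← Category.assoc, ← uP_naturality, Category.assoc]

theorem step2 :
    uR U.ι F ≫ (pushforward U.ι).map (θOn g U U' h F) =
      (uP U.ι F ≫ (pushforward U.ι).map
          (uP (g.resLE U U' h) ((Scheme.Modules.pullback U.ι).obj F))) ≫
        (pushforward U.ι).map ((pushforward (g.resLE U U' h)).map (r1 g U U' h F)) := by
  rw [step1, Functor.map_comp, Functor.map_comp, ← Category.assoc (uR U.ι F),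
    unit_restrictFunctorIsoPullback, Category.assoc]

theorem step3 :
    ((uP U.ι F ≫ (pushforward U.ι).map
          (uP (g.resLE U U' h) ((Scheme.Modules.pullback U.ι).obj F))) ≫
        (pushforward U.ι).map ((pushforward (g.resLE U U' h)).map (r1 g U U' h F))) ≫
      (pushforwardComp (g.resLE U U' h) U.ι).hom.app
        (((Scheme.Modules.pullback g).obj F).restrict U'.ι) =
    uP (g.resLE U U' h ≫ U.ι) F ≫ (pushforward (g.resLE U U' h ≫ U.ι)).map (r2 g U U' h F) := by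
  have nat := (pushforwardComp (g.resLE U U' h) U.ι).hom.naturality (r1 g U U' h F)
  simp only [Functor.comp_map] at nat
  rw [Category.assoc, nat, ← Category.assoc, unit_pullbackComp, Category.assoc,
    ← Functor.map_comp, r1, Iso.inv_hom_id_app_assoc]

theorem step4 :
    uP (g.resLE U U' h ≫ U.ι) F ≫ (pushforward (g.resLE U U' h ≫ U.ι)).map (r2 g U U' h F) =
      (uP (U'.ι ≫ g) F ≫ (pushforward (U'.ι ≫ g)).map (r3 g U' F)) ≫
        (pushforwardCongr (ee g U U' h)).inv.app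
          (((Scheme.Modules.pullback g).obj F).restrict U'.ι) := by
  have nat := (pushforwardCongr (ee g U U' h)).inv.naturality (r3 g U' F)
  rw [r2, Functor.map_comp, ← Category.assoc, unit_pullbackCongr, Category.assoc, ← nat,
    Category.assoc]

theorem step5 :
    uP (U'.ι ≫ g) F ≫ (pushforward (U'.ι ≫ g)).map (r3 g U' F) =
      (uP g F ≫ (pushforward g).map (uP U'.ι ((Scheme.Modules.pullback g).obj F)) ≫
        (pushforward g).map ((pushforward U'.ι).map (r4 g U' F))) ≫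
        (pushforwardComp U'.ι g).hom.app (((Scheme.Modules.pullback g).obj F).restrict U'.ι) := by
  have nat := (pushforwardComp U'.ι g).hom.naturality (r4 g U' F)
  simp only [Functor.comp_map] at nat
  rw [r3, Functor.map_comp, ← Category.assoc, ← unit_pullbackComp, Category.assoc,
    Category.assoc, Category.assoc, Category.assoc, nat]

theorem step6 :
    uP U'.ι ((Scheme.Modules.pullback g).obj F) ≫ (pushforward U'.ι).map (r4 g U' F) =
      uR U'.ι ((Scheme.Modules.pullback g).obj F) := by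
  change (pullbackPushforwardAdjunction U'.ι).unit.app _ ≫ _ = _
  rw [← unit_restrictFunctorIsoPullback, Category.assoc, r4, ← Functor.map_comp,
    Iso.hom_inv_id_app, CategoryTheory.Functor.map_id]
  exact Category.comp_id _

/-- **the transpose of `pullOnIso` is the unit of `g^* ⊣ g_*` followed by restriction**
(as an identity of morphisms of `O_Y`-modules) -/
theorem Ξ_eq :
    (uR U.ι F ≫ (pushforward U.ι).map (θOn g U U' h F)) ≫
        (pushforwardComp (g.resLE U U' h) U.ι).hom.app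
          (((Scheme.Modules.pullback g).obj F).restrict U'.ι) =
      ((uP g F ≫ (pushforward g).map (uR U'.ι ((Scheme.Modules.pullback g).obj F))) ≫
        (pushforwardComp U'.ι g).hom.app (((Scheme.Modules.pullback g).obj F).restrict U'.ι)) ≫
        (pushforwardCongr (ee g U U' h)).inv.app
          (((Scheme.Modules.pullback g).obj F).restrict U'.ι) := by
  rw [step2, step3, step4, step5, ← Functor.map_comp, step6]

/-- `θOn` on sections over `U.ι ⁻¹ᵁ V`: the unit of `g^* ⊣ g_*` over `V` followed by restriction -/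
theorem θOn_app (V : Y.Opens) (t : Γ(F, V))
    (hle : U'.ι ''ᵁ ((g.resLE U U' h) ⁻¹ᵁ (U.ι ⁻¹ᵁ V)) ≤ g ⁻¹ᵁ V) :
    ((θOn g U U' h F).app (U.ι ⁻¹ᵁ V)).hom
        ((F.presheaf.map (homOfLE (U.ι.image_preimage_le V)).op).hom t) =
      (((Scheme.Modules.pullback g).obj F).presheaf.map (homOfLE hle).op).hom
        (((uP g F).app V).hom t) := by
  have e := congrArg (fun φ => (Scheme.Modules.Hom.app φ V).hom t) (Ξ_eq g U U' h F)
  simp only [Scheme.Modules.Hom.comp_app, pushforwardComp_hom_app_app,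
    pushforwardCongr_inv_app_app, restrictAdjunction_unit_app_app, pushforward_map_app,
    AddCommGrpCat.hom_comp, AddMonoidHom.coe_comp, Function.comp_apply] at e
  have hV : (g.resLE U U' h ≫ U.ι) ⁻¹ᵁ V = (U'.ι ≫ g) ⁻¹ᵁ V :=
    congrArg (fun k => k ⁻¹ᵁ V) (ee g U U' h)
  have e' : ((θOn g U U' h F).app (U.ι ⁻¹ᵁ V)).hom
      ((F.presheaf.map (homOfLE (U.ι.image_preimage_le V)).op).hom t) =
      ((((Scheme.Modules.pullback g).obj F).restrict U'.ι).presheaf.map (eqToHom hV).op).hom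
        ((((Scheme.Modules.pullback g).obj F).presheaf.map
          (homOfLE (U'.ι.image_preimage_le (g ⁻¹ᵁ V))).op).hom (((uP g F).app V).hom t)) := e
  rw [e']
  exact map_map_eq ((Scheme.Modules.pullback g).obj F) _
    ((U'.ι.opensFunctor.map (eqToHom hV)).op) _ _

/-- `θOn` on sections over an arbitrary open `O` of `U` -/
theorem θOn_app' (O : (U : Scheme.{u}).Opens) (t : Γ(F, U.ι ''ᵁ O))
    (hle : U'.ι ''ᵁ ((g.resLE U U' h) ⁻¹ᵁ O) ≤ g ⁻¹ᵁ (U.ι ''ᵁ O)) :
    ((θOn g U U' h F).app O).hom t =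
      (((Scheme.Modules.pullback g).obj F).presheaf.map (homOfLE hle).op).hom
        (((uP g F).app (U.ι ''ᵁ O)).hom t) := by
  have hW : O ≤ U.ι ⁻¹ᵁ (U.ι ''ᵁ O) := by
    rw [Scheme.Hom.preimage_image_eq]
  have hW' : U.ι ⁻¹ᵁ (U.ι ''ᵁ O) ≤ O := by
    rw [Scheme.Hom.preimage_image_eq]
  let k : U.ι ⁻¹ᵁ (U.ι ''ᵁ O) ⟶ O := homOfLE hW'
  let k' : O ⟶ U.ι ⁻¹ᵁ (U.ι ''ᵁ O) := homOfLE hW
  apply map_injective_of_le
    ((pushforward (g.resLE U U' h)).obj (((Scheme.Modules.pullback g).obj F).restrict U'.ι)) k k'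
  have hle2 : U'.ι ''ᵁ ((g.resLE U U' h) ⁻¹ᵁ (U.ι ⁻¹ᵁ (U.ι ''ᵁ O))) ≤ g ⁻¹ᵁ (U.ι ''ᵁ O) :=
    (Scheme.Hom.image_mono _ ((g.resLE U U' h).preimage_mono hW')).trans hle
  have e1 := app_naturality (θOn g U U' h F) k t
  have e2 := θOn_app g U U' h F (U.ι ''ᵁ O) t hle2
  have e3 : ((F.restrict U.ι).presheaf.map k.op).hom t =
      (F.presheaf.map (homOfLE (U.ι.image_preimage_le (U.ι ''ᵁ O))).op).hom t := rfl
  refine e1.symm.trans ?_
  rw [e3, e2]
  exact (map_map_eq ((Scheme.Modules.pullback g).obj F) (homOfLE hle).op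
    ((U'.ι.opensFunctor.map ((Opens.map (g.resLE U U' h).base).map k)).op) _ _).symm

end thetaOn

section congr

theorem Hm_congr {k k' : X ⟶ Y} (e : k = k') {M : Y.Modules} {N : X.Modules}
    (θ : M ⟶ (pushforward k).obj N) (p : ℕ) (x : Coh.HH Y M p) :
    Hm k θ p x = Hm k' (θ ≫ (pushforwardCongr e).hom.app N) p x := by
  subst e
  have : θ ≫ (pushforwardCongr (rfl : k = k)).hom.app N = θ := by
    apply Scheme.Modules.hom_ext
    intro V
    simp
  rw [this]

theorem restrictFunctor_map_app {A B : Scheme.{u}} (i : A ⟶ B) [IsOpenImmersion i]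
    {M N : B.Modules} (φ : M ⟶ N) (O : A.Opens) :
    ((restrictFunctor i).map φ).app O = φ.app (i ''ᵁ O) := rfl

/-- sections form of `unit_pullbackComp` -/
theorem uP_comp_app (f : X ⟶ Y) (g : Y ⟶ Z) (M : Z.Modules) (W : Z.Opens) (t : Γ(M, W)) :
    (((pullbackComp f g).hom.app M).app ((f ≫ g) ⁻¹ᵁ W)).hom
        (((uP f ((Scheme.Modules.pullback g).obj M)).app (g ⁻¹ᵁ W)).hom
          (((uP g M).app W).hom t)) =
      ((uP (f ≫ g) M).app W).hom t := by
  have e := congrArg (fun φ => (Scheme.Modules.Hom.app φ W).hom t) (unit_pullbackComp f g M)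
  simp only [Scheme.Modules.Hom.comp_app, pushforwardComp_hom_app_app, pushforward_map_app,
    AddCommGrpCat.hom_comp, AddMonoidHom.coe_comp, Function.comp_apply] at e
  have e2 := congrArg (fun φ => (Scheme.Modules.Hom.app φ ((f ≫ g) ⁻¹ᵁ W)).hom
    (((uP (f ≫ g) M).app W).hom t)) ((pullbackComp f g).inv_hom_id_app M)
  simp only [Scheme.Modules.Hom.comp_app, AddCommGrpCat.hom_comp, AddMonoidHom.coe_comp,
    Function.comp_apply] at e2
  refine Eq.trans ?_ e2
  exact congrArg _ e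

end congr

section comp

variable (f : X ⟶ Y) (g : Y ⟶ Z) (U : Z.Opens) (U' : Y.Opens) (U'' : X.Opens)
  (h : U' ≤ g ⁻¹ᵁ U) (h' : U'' ≤ f ⁻¹ᵁ U') (h'' : U'' ≤ (f ≫ g) ⁻¹ᵁ U) (F : Z.Modules)

theorem resLE_comp_eq :
    f.resLE U' U'' h' ≫ g.resLE U U' h = (f ≫ g).resLE U U'' h'' := by
  rw [Scheme.Hom.resLE_comp_resLE]

theorem hle_gen {A B : Scheme.{u}} (g : A ⟶ B) (U : B.Opens) (U' : A.Opens) (h : U' ≤ g ⁻¹ᵁ U)
    (O : (U : Scheme.{u}).Opens) :
    U'.ι ''ᵁ ((g.resLE U U' h) ⁻¹ᵁ O) ≤ g ⁻¹ᵁ (U.ι ''ᵁ O) := by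
  rintro _ ⟨y, hy, rfl⟩
  refine ⟨(g.resLE U U' h) y, hy, ?_⟩
  have := congrArg (fun k : (U' : Scheme.{u}) ⟶ B => k y) (Scheme.Hom.resLE_comp_ι g h)
  simp at this
  simp [this]

theorem θOn_comp :
    (θOn g U U' h F ≫
        (pushforward (g.resLE U U' h)).map (θOn f U' U'' h' ((Scheme.Modules.pullback g).obj F)) ≫
        (pushforwardComp (f.resLE U' U'' h') (g.resLE U U' h)).hom.app _ ≫
        (pushforward (f.resLE U' U'' h' ≫ g.resLE U U' h)).map
          ((restrictFunctor U''.ι).map ((pullbackComp f g).hom.app F))) ≫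
      (pushforwardCongr (resLE_comp_eq f g U U' U'' h h' h'')).hom.app _ =
    θOn (f ≫ g) U U'' h'' F := by
  apply Scheme.Modules.hom_ext
  intro O
  ext t
  simp only [Scheme.Modules.Hom.comp_app, pushforwardComp_hom_app_app, pushforward_map_app,
    pushforwardCongr_hom_app_app, restrictFunctor_map_app,
    AddCommGrpCat.hom_comp, AddMonoidHom.coe_comp, Function.comp_apply]
  have hg : U'.ι ''ᵁ ((g.resLE U U' h) ⁻¹ᵁ O) ≤ g ⁻¹ᵁ (U.ι ''ᵁ O) := hle_gen g U U' h O
  have hf : U''.ι ''ᵁ ((f.resLE U' U'' h') ⁻¹ᵁ ((g.resLE U U' h) ⁻¹ᵁ O)) ≤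
      f ⁻¹ᵁ (U'.ι ''ᵁ ((g.resLE U U' h) ⁻¹ᵁ O)) := hle_gen f U' U'' h' _
  have hfg : U''.ι ''ᵁ (((f ≫ g).resLE U U'' h'') ⁻¹ᵁ O) ≤ (f ≫ g) ⁻¹ᵁ (U.ι ''ᵁ O) :=
    hle_gen (f ≫ g) U U'' h'' O
  have hcomb : U''.ι ''ᵁ ((f.resLE U' U'' h') ⁻¹ᵁ ((g.resLE U U' h) ⁻¹ᵁ O)) ≤
      f ⁻¹ᵁ (g ⁻¹ᵁ (U.ι ''ᵁ O)) := hf.trans (f.preimage_mono hg)
  have e1 := θOn_app' g U U' h F O t hg
  have e2 := θOn_app' f U' U'' h' ((Scheme.Modules.pullback g).obj F) _
    ((((Scheme.Modules.pullback g).obj F).presheaf.map (homOfLE hg).op).hom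
      (((uP g F).app (U.ι ''ᵁ O)).hom t)) hf
  have e3 := θOn_app' (f ≫ g) U U'' h'' F O t hfg
  have e4 := app_naturality (uP f ((Scheme.Modules.pullback g).obj F)) (homOfLE hg)
    (((uP g F).app (U.ι ''ᵁ O)).hom t)
  have e5 : ∀ s : Γ((Scheme.Modules.pullback f).obj ((Scheme.Modules.pullback g).obj F),
        f ⁻¹ᵁ (g ⁻¹ᵁ (U.ι ''ᵁ O))),
      (((Scheme.Modules.pullback f).obj ((Scheme.Modules.pullback g).obj F)).presheaf.map
          (homOfLE hf).op).hom
        ((((pushforward f).obj ((Scheme.Modules.pullback f).obj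
          ((Scheme.Modules.pullback g).obj F))).presheaf.map (homOfLE hg).op).hom s) =
      (((Scheme.Modules.pullback f).obj ((Scheme.Modules.pullback g).obj F)).presheaf.map
          (homOfLE hcomb).op).hom s := fun s =>
    map_map_eq ((Scheme.Modules.pullback f).obj ((Scheme.Modules.pullback g).obj F))
      ((Opens.map f.base).map (homOfLE hg)).op (homOfLE hf).op _ s
  have e6 := app_naturality ((pullbackComp f g).hom.app F) (homOfLE hcomb)
    (((uP f ((Scheme.Modules.pullback g).obj F)).app (g ⁻¹ᵁ (U.ι ''ᵁ O))).hom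
      (((uP g F).app (U.ι ''ᵁ O)).hom t))
  have e7 := uP_comp_app f g F (U.ι ''ᵁ O) t
  have step : ((θOn f U' U'' h' ((Scheme.Modules.pullback g).obj F)).app
        ((g.resLE U U' h) ⁻¹ᵁ O)).hom (((θOn g U U' h F).app O).hom t) =
      (((Scheme.Modules.pullback f).obj ((Scheme.Modules.pullback g).obj F)).presheaf.map
          (homOfLE hcomb).op).hom
        (((uP f ((Scheme.Modules.pullback g).obj F)).app (g ⁻¹ᵁ (U.ι ''ᵁ O))).hom
          (((uP g F).app (U.ι ''ᵁ O)).hom t)) :=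
    (congrArg _ e1).trans (e2.trans ((congrArg _ e4).trans (e5 _)))
  have hO : ((f ≫ g).resLE U U'' h'') ⁻¹ᵁ O = (f.resLE U' U'' h' ≫ g.resLE U U' h) ⁻¹ᵁ O :=
    congrArg (fun k => k ⁻¹ᵁ O) (resLE_comp_eq f g U U' U'' h h' h'').symm
  refine Eq.trans ?_ e3.symm
  refine (congrArg (fun z =>
    ((((Scheme.Modules.pullback (f ≫ g)).obj F).restrict U''.ι).presheaf.map
      (eqToHom hO).op).hom
      ((((pullbackComp f g).hom.app F).app
        (U''.ι ''ᵁ ((f.resLE U' U'' h' ≫ g.resLE U U' h) ⁻¹ᵁ O))).hom z)) step).trans ?_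
  refine (congrArg (fun z =>
    ((((Scheme.Modules.pullback (f ≫ g)).obj F).restrict U''.ι).presheaf.map
      (eqToHom hO).op).hom z) (e6.trans
        (congrArg _ e7))).trans ?_
  exact map_map_eq ((Scheme.Modules.pullback (f ≫ g)).obj F) _
    ((U''.ι.opensFunctor.map (eqToHom hO)).op) _ _

/-- **composition of `pullOn`** -/
theorem pullOn_comp (p : ℕ) (x : Coh.HHon Z F U p) :
    CohPull.mapH ((restrictFunctor U''.ι).map ((pullbackComp f g).hom.app F)) p
        (CohPull.pullOn f U' U'' h' ((Scheme.Modules.pullback g).obj F) p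
          (CohPull.pullOn g U U' h F p x)) =
      CohPull.pullOn (f ≫ g) U U'' h'' F p x := by
  rw [pullOn_eq_Hm, pullOn_eq_Hm, pullOn_eq_Hm, Hm_comp, Hm_postcomp,
    Hm_congr (resLE_comp_eq f g U U' U'' h h' h''), ← θOn_comp f g U U' U'' h h' h'' F]
  simp only [Category.assoc]

end comp

end Groth.Agent.Lib.helper8.PullOnComp
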