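import Mathlib

/-!
# Projective modules over local rings are free (Kaplansky), part 1: local lemma (helper8)
-/

set_option autoImplicit false
set_option linter.unusedSectionVars false
universe u

namespace Groth.Agent.Lib.helper8.KapLocal

open Module Matrix

variable {R : Type u} [CommRing R] {F : Type u} [AddCommGroup F] [Module R F] {ι : Type u}

/-- Change of basis `b i ↦ b i + d i • b j` (with `d j = 0`) erases the `j`-th coordinate of `y`
when that coordinate equals `∑ d i * y_i`. -/
theorem exists_basis_erase (b : Basis ι R F) (y : F) (j : ι) (d : ι → R) (hdj : d j = 0)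
    (hsum : (b.repr y) j = Finsupp.linearCombination R d (b.repr y)) :
    ∃ b' : Basis ι R F, b'.repr y = (b.repr y).erase j := by
  classical
  let ℓ : F →ₗ[R] R := Finsupp.linearCombination R d ∘ₗ b.repr.toLinearMap
  have hℓj : ℓ (b j) = 0 := by
    simp only [ℓ, LinearMap.comp_apply, LinearEquiv.coe_coe, Basis.repr_self,
      Finsupp.linearCombination_single, one_smul, hdj]
  let T : F →ₗ[R] F := LinearMap.id + ℓ.smulRight (b j)
  let T' : F →ₗ[R] F := LinearMap.id - ℓ.smulRight (b j)
  have hT : ∀ z, T z = z + ℓ z • b j := fun z => rfl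
  have hT' : ∀ z, T' z = z - ℓ z • b j := fun z => rfl
  let e : F ≃ₗ[R] F := LinearEquiv.ofLinearMap T T'
    (by
      ext z
      simp only [LinearMap.comp_apply, LinearMap.id_apply, hT, hT', map_sub, map_smul, hℓj,
        smul_eq_mul, mul_zero, sub_zero]
      abel)
    (by
      ext z
      simp only [LinearMap.comp_apply, LinearMap.id_apply, hT, hT', map_add, map_smul, hℓj,
        smul_eq_mul, mul_zero, add_zero]
      abel)
  refine ⟨b.map e, ?_⟩
  have h1 : (b.map e).repr y = b.repr (T' y) := by
    rw [Basis.map_repr]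
    rfl
  rw [h1, hT', map_sub, map_smul, Basis.repr_self]
  have hℓy : ℓ y = (b.repr y) j := by rw [hsum]; rfl
  rw [hℓy]
  ext i
  by_cases hij : i = j
  · subst hij
    simp
  · simp [Finsupp.erase_ne hij, hij]

/-- A basis in which `y` has minimal support: no coordinate is a combination of the others. -/
theorem exists_basis_min (b : Basis ι R F) (y : F) :
    ∃ b' : Basis ι R F, ∀ j ∈ (b'.repr y).support, ∀ d : ι → R, d j = 0 →
      (b'.repr y) j ≠ Finsupp.linearCombination R d (b'.repr y) := by
  classical
  have hex : ∃ n, ∃ b' : Basis ι R F, (b'.repr y).support.card = n := ⟨_, b, rfl⟩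
  obtain ⟨b', hb'⟩ := Nat.find_spec hex
  refine ⟨b', fun j hj d hdj hsum => ?_⟩
  obtain ⟨b'', hb''⟩ := exists_basis_erase b' y j d hdj hsum
  have hcard : (b''.repr y).support.card < Nat.find hex := by
    rw [hb'', Finsupp.support_erase, Finset.card_erase_of_mem hj, ← hb']
    exact Nat.sub_lt (Finset.card_pos.mpr ⟨j, hj⟩) one_pos
  exact Nat.find_min hex hcard ⟨b'', rfl⟩


/-- Core local lemma: an element fixed by an idempotent endomorphism `π` of a free module over a
local ring lies in the image of a split injection `(κ → R) → F` (κ finite) landing in the fixed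
points of `π`. -/
theorem exists_retract [IsLocalRing R] (b : Basis ι R F) (π : F →ₗ[R] F)
    (hπ : ∀ z, π (π z) = π z) (y : F) (hy : π y = y) :
    ∃ (κ : Type u) (_ : Fintype κ) (f : (κ → R) →ₗ[R] F) (g : F →ₗ[R] (κ → R)),
      (∀ v, π (f v) = f v) ∧ (∀ v, g (f v) = v) ∧ y ∈ LinearMap.range f := by
  classical
  obtain ⟨b', hmin⟩ := exists_basis_min b y
  set a := b'.repr y with ha
  let S := a.support
  let c : ι → ι → R := fun i j => (b'.repr (π (b' i))) j
  -- the key equation
  have hkey : ∀ j, a j = ∑ i ∈ S, a i * c i j := by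
    intro j
    have h1 : y = ∑ i ∈ S, a i • b' i := by
      conv_lhs => rw [← b'.linearCombination_repr y]
      rw [Finsupp.linearCombination_apply, Finsupp.sum]
    have h2 : π y = ∑ i ∈ S, a i • π (b' i) := by
      conv_lhs => rw [h1]
      rw [map_sum]
      simp_rw [map_smul]
    rw [hy] at h2
    have h3 := congrArg (fun z => (b'.repr z) j) h2
    simp only [map_sum, map_smul, Finsupp.coe_finsetSum, Finsupp.coe_smul, Finset.sum_apply,
      Pi.smul_apply, smul_eq_mul] at h3
    exact h3
  -- entries of `1 - C` are non-units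
  have hnonunit : ∀ i₀ ∈ S, ∀ j, ¬ IsUnit ((if i₀ = j then 1 else 0) - c i₀ j) := by
    intro i₀ hi₀ j hu
    obtain ⟨w, hw⟩ := hu
    let d : ι → R := fun i => if i = i₀ then 0 else -(↑w⁻¹ * ((if i = j then 1 else 0) - c i j))
    refine hmin i₀ hi₀ d (by simp [d]) ?_
    rw [Finsupp.linearCombination_apply, Finsupp.sum]
    have hsum0 : ∑ i ∈ S, a i * ((if i = j then 1 else 0) - c i j) = 0 := by
      simp_rw [mul_sub, Finset.sum_sub_distrib, mul_ite, mul_one, mul_zero]
      rw [Finset.sum_ite_eq' S j, ← hkey j]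
      by_cases hj : j ∈ S
      · simp [hj]
      · have : a j = 0 := Finsupp.notMem_support_iff.mp hj
        simp [hj, this]
    rw [← Finset.add_sum_erase S _ hi₀] at hsum0
    have hrest : ∑ i ∈ S, a i • d i = -(↑w⁻¹ * ∑ i ∈ S.erase i₀, a i * ((if i = j then 1 else 0) - c i j)) := by
      rw [← Finset.add_sum_erase S _ hi₀]
      simp only [d, if_true, smul_eq_mul, mul_zero, zero_add]
      rw [Finset.mul_sum, ← Finset.sum_neg_distrib]
      refine Finset.sum_congr rfl fun i hi => ?_
      rw [if_neg (Finset.ne_of_mem_erase hi)]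
      ring
    rw [hrest]
    have h4 : ∑ i ∈ S.erase i₀, a i * ((if i = j then 1 else 0) - c i j) =
        -(a i₀ * ((if i₀ = j then 1 else 0) - c i₀ j)) := by
      rw [eq_neg_iff_add_eq_zero, add_comm]; exact hsum0
    rw [h4, ← hw]
    have : (↑w⁻¹ : R) * (a i₀ * ↑w) = a i₀ := by
      rw [mul_comm (a i₀), ← mul_assoc, Units.inv_mul, one_mul]
    rw [mul_neg, neg_neg, this]
  -- the matrix C is invertible
  let C : Matrix S S R := fun i j => c i j
  have hCres : (IsLocalRing.residue R).mapMatrix C = 1 := by
    ext i j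
    simp only [RingHom.mapMatrix_apply, Matrix.map_apply, C]
    have h := hnonunit i i.2 j
    have h' : (if (i : ι) = j then 1 else 0) - c i j ∈ IsLocalRing.maximalIdeal R := h
    rw [← Ideal.Quotient.eq_zero_iff_mem] at h'
    have h'' : IsLocalRing.residue R ((if (i : ι) = j then 1 else 0) - c i j) = 0 := h'
    rw [map_sub, sub_eq_zero] at h''
    rw [← h'', Matrix.one_apply]
    by_cases hij : i = j
    · subst hij; simp
    · have : (i : ι) ≠ j := fun h => hij (Subtype.ext h)
      simp [hij, this]
  have hdet : IsUnit C.det := by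
    by_contra hnu
    have h0 : IsLocalRing.residue R C.det = 0 := by
      have : C.det ∈ IsLocalRing.maximalIdeal R := hnu
      exact Ideal.Quotient.eq_zero_iff_mem.mpr this
    rw [RingHom.map_det, hCres, Matrix.det_one] at h0
    exact one_ne_zero h0
  -- the maps
  let f : (S → R) →ₗ[R] F := Fintype.linearCombination R (fun i : S => π (b' i))
  let g₀ : F →ₗ[R] (S → R) := LinearMap.pi fun j : S => Finsupp.lapply (j : ι) ∘ₗ b'.repr.toLinearMap
  have hg₀f : ∀ v, g₀ (f v) = v ᵥ* C := by
    intro v
    ext j
    simp only [g₀, f, LinearMap.pi_apply, LinearMap.comp_apply, LinearEquiv.coe_coe,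
      Finsupp.lapply_apply, Fintype.linearCombination_apply, map_sum, map_smul,
      smul_eq_mul, Matrix.vecMul, dotProduct]
    rfl
  refine ⟨S, inferInstance, f, C⁻¹.vecMulLinear ∘ₗ g₀, ?_, ?_, ?_⟩
  · intro v
    simp only [f, Fintype.linearCombination_apply, map_sum, map_smul, hπ]
  · intro v
    rw [LinearMap.comp_apply, hg₀f, Matrix.vecMulLinear_apply, Matrix.vecMul_vecMul,
      Matrix.mul_nonsing_inv _ hdet, Matrix.vecMul_one]
  · refine ⟨fun i : S => a i, ?_⟩
    simp only [f, Fintype.linearCombination_apply]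
    have h1 : y = ∑ i ∈ S, a i • b' i := by
      conv_lhs => rw [← b'.linearCombination_repr y]
      rw [Finsupp.linearCombination_apply, Finsupp.sum]
    conv_rhs => rw [← hy, h1]
    rw [map_sum]
    simp_rw [map_smul]
    exact (Finset.sum_coe_sort S fun i => a i • π (b' i))


/-- Every element of a projective module over a local ring lies in a free direct summand. -/
theorem exists_free_summand [IsLocalRing R] (P : Type u) [AddCommGroup P] [Module R P]
    [Module.Projective R P] (x : P) :
    ∃ (κ : Type u) (_ : Fintype κ) (f : (κ → R) →ₗ[R] P) (g : P →ₗ[R] (κ → R)),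
      (∀ v, g (f v) = v) ∧ x ∈ LinearMap.range f := by
  obtain ⟨s, hs⟩ := (Module.projective_def' (R := R) (P := P)).mp inferInstance
  have hps : ∀ z, Finsupp.linearCombination R id (s z) = z := fun z => LinearMap.congr_fun hs z
  let π : (P →₀ R) →ₗ[R] (P →₀ R) := s ∘ₗ Finsupp.linearCombination R id
  obtain ⟨κ, hκ, f, g, h1, h2, v₀, hv₀⟩ := exists_retract (Finsupp.basisSingleOne (R := R)) π
    (fun z => by simp only [π, LinearMap.comp_apply, hps]) (s x)
    (by simp only [π, LinearMap.comp_apply, hps])
  refine ⟨κ, hκ, Finsupp.linearCombination R id ∘ₗ f, g ∘ₗ s, ?_, ?_⟩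
  · intro v
    have := h1 v
    simp only [π, LinearMap.comp_apply] at this ⊢
    rw [this, h2]
  · refine ⟨v₀, ?_⟩
    rw [LinearMap.comp_apply, hv₀, hps]

/-- One step of the Kaplansky induction. -/
theorem exists_step [IsLocalRing R] {P : Type u} [AddCommGroup P] [Module R P]
    [Module.Projective R P] (G P' : Submodule R P) (h : IsCompl G P') (x : P) :
    ∃ F P'' : Submodule R P, F ≤ P' ∧ P'' ≤ P' ∧ Disjoint F P'' ∧ F ⊔ P'' = P' ∧
      Module.Free R F ∧ x ∈ G ⊔ F := by
  haveI : Module.Projective R P' :=
    Module.Projective.of_split P'.subtype (P'.projectionOnto G h.symm)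
      (LinearMap.ext fun z => Submodule.projectionOnto_apply_left h.symm z)
  obtain ⟨κ, hκ, f, g, hgf, v₀, hv₀⟩ := exists_free_summand (R := R) P' (P'.projectionOnto G h.symm x)
  have hfinj : Function.Injective f := Function.LeftInverse.injective hgf
  refine ⟨(LinearMap.range f).map P'.subtype, (LinearMap.ker g).map P'.subtype,
    Submodule.map_subtype_le _ _, Submodule.map_subtype_le _ _, ?_, ?_, ?_, ?_⟩
  · rw [Submodule.disjoint_def]
    rintro _ ⟨z, ⟨v, rfl⟩, rfl⟩ ⟨w, hw, hw'⟩
    have hzw : w = f v := P'.injective_subtype hw'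
    rw [hzw, SetLike.mem_coe, LinearMap.mem_ker, hgf] at hw
    rw [hw, map_zero, map_zero]
  · rw [← Submodule.map_sup]
    have : LinearMap.range f ⊔ LinearMap.ker g = ⊤ := by
      rw [eq_top_iff]
      intro z _
      have hz : z = f (g z) + (z - f (g z)) := by abel
      rw [hz]
      exact add_mem (Submodule.mem_sup_left ⟨g z, rfl⟩)
        (Submodule.mem_sup_right (by rw [LinearMap.mem_ker, map_sub, hgf, sub_self]))
    rw [this, Submodule.map_top, Submodule.range_subtype]
  · exact Module.Free.of_equiv
      ((LinearEquiv.ofInjective f hfinj).trans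
        (Submodule.equivMapOfInjective P'.subtype P'.injective_subtype (LinearMap.range f)))
  · have hx : x = G.projection P' h x + P'.projection G h.symm x :=
      (Submodule.projection_add_projection_eq_self h x).symm
    rw [hx]
    refine add_mem (Submodule.mem_sup_left (Submodule.projection_apply_mem h x))
      (Submodule.mem_sup_right ?_)
    refine ⟨P'.projectionOnto G h.symm x, ⟨v₀, hv₀⟩, ?_⟩
    rfl


section Iteration

variable [IsLocalRing R] {P : Type u} [AddCommGroup P] [Module R P] [Module.Projective R P]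

/-- State of the induction: a decomposition `P = G ⊕ P'`. -/
structure St (R : Type u) [CommRing R] (P : Type u) [AddCommGroup P] [Module R P] where
  G : Submodule R P
  P' : Submodule R P
  h : IsCompl G P'

noncomputable def nextF (s : St R P) (x : P) : Submodule R P :=
  Classical.choose (exists_step s.G s.P' s.h x)

noncomputable def nextP (s : St R P) (x : P) : Submodule R P :=
  Classical.choose (Classical.choose_spec (exists_step s.G s.P' s.h x))

theorem next_spec (s : St R P) (x : P) :
    nextF s x ≤ s.P' ∧ nextP s x ≤ s.P' ∧ Disjoint (nextF s x) (nextP s x) ∧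
      nextF s x ⊔ nextP s x = s.P' ∧ Module.Free R (nextF s x) ∧ x ∈ s.G ⊔ nextF s x :=
  Classical.choose_spec (Classical.choose_spec (exists_step s.G s.P' s.h x))

noncomputable def next (s : St R P) (x : P) : St R P where
  G := s.G ⊔ nextF s x
  P' := nextP s x
  h := by
    have hs := next_spec s x
    exact hs.2.2.1.isCompl_sup_left_of_isCompl_sup_right (by rw [hs.2.2.2.1]; exact s.h)

variable (R) in
noncomputable def st (x : ℕ → P) : ℕ → St R P
  | 0 => ⟨⊥, ⊤, isCompl_bot_top⟩
  | n + 1 => next (st x n) (x n)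

variable (R) in
noncomputable def Fs (x : ℕ → P) (n : ℕ) : Submodule R P := nextF (st R x n) (x n)

theorem st_succ_G (x : ℕ → P) (n : ℕ) : (st R x (n + 1)).G = (st R x n).G ⊔ Fs R x n := rfl

theorem st_succ_P' (x : ℕ → P) (n : ℕ) : (st R x (n + 1)).P' = nextP (st R x n) (x n) := rfl

theorem G_mono (x : ℕ → P) : Monotone fun n => (st R x n).G :=
  monotone_nat_of_le_succ fun n => by rw [st_succ_G]; exact le_sup_left

theorem P'_anti (x : ℕ → P) : Antitone fun n => (st R x n).P' :=
  antitone_nat_of_succ_le fun n => by rw [st_succ_P']; exact (next_spec (st R x n) (x n)).2.1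

theorem Fs_le_P' (x : ℕ → P) (n : ℕ) : Fs R x n ≤ (st R x n).P' :=
  (next_spec (st R x n) (x n)).1

theorem Fs_le_G (x : ℕ → P) (n : ℕ) : Fs R x n ≤ (st R x (n + 1)).G := by
  rw [st_succ_G]; exact le_sup_right

theorem free_Fs (x : ℕ → P) (n : ℕ) : Module.Free R (Fs R x n) :=
  (next_spec (st R x n) (x n)).2.2.2.2.1

theorem mem_G_succ (x : ℕ → P) (n : ℕ) : x n ∈ (st R x (n + 1)).G := by
  rw [st_succ_G]; exact (next_spec (st R x n) (x n)).2.2.2.2.2

theorem iSupIndep_Fs (x : ℕ → P) : iSupIndep (Fs R x) := by
  intro n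
  have hle : (⨆ (k : ℕ) (_ : k ≠ n), Fs R x k) ≤ (st R x n).G ⊔ (st R x (n + 1)).P' := by
    refine iSup₂_le fun k hk => ?_
    rcases lt_or_gt_of_ne hk with hlt | hgt
    · exact le_sup_of_le_left ((Fs_le_G x k).trans (G_mono x (Nat.succ_le_of_lt hlt)))
    · exact le_sup_of_le_right ((Fs_le_P' x k).trans (P'_anti x (Nat.succ_le_of_lt hgt)))
  refine Disjoint.mono_right hle ?_
  have h1 : Disjoint (Fs R x n) (st R x n).G :=
    ((st R x n).h.disjoint.mono_right (Fs_le_P' x n)).symm
  have h2 : Disjoint (Fs R x n ⊔ (st R x n).G) (st R x (n + 1)).P' := by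
    have := (st R x (n + 1)).h.disjoint
    rwa [st_succ_G, sup_comm] at this
  exact h1.disjoint_sup_right_of_disjoint_sup_left h2

theorem G_le_iSup (x : ℕ → P) (n : ℕ) : (st R x n).G ≤ ⨆ k, Fs R x k := by
  induction n with
  | zero => exact bot_le
  | succ n ih =>
    rw [st_succ_G]
    exact sup_le ih (le_iSup (Fs R x) n)

/-- A countably generated projective module over a local ring is free. -/
theorem free_of_span_range_eq_top (x : ℕ → P) (hx : Submodule.span R (Set.range x) = ⊤) :
    Module.Free R P := by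
  classical
  have htop : ⨆ k, Fs R x k = ⊤ := by
    rw [eq_top_iff, ← hx, Submodule.span_le]
    rintro _ ⟨n, rfl⟩
    exact G_le_iSup x (n + 1) (mem_G_succ x n)
  have hint : DirectSum.IsInternal (Fs R x) :=
    DirectSum.isInternal_submodule_of_iSupIndep_of_iSup_eq_top (iSupIndep_Fs x) htop
  haveI : ∀ n, Module.Free R (Fs R x n) := free_Fs x
  exact Module.Free.of_equiv (LinearEquiv.ofBijective (DirectSum.coeLinearMap (Fs R x)) hint)

end Iteration

end Groth.Agent.Lib.helper8.KapLocal
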