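import Mathlib
import Groth.Prelude.Def_Found

/-!
# Kaplansky's theorem on direct summands of direct sums of countably generated modules (helper8)
-/

set_option autoImplicit false
set_option linter.unusedSectionVars false
universe u

namespace Groth.Agent.Lib.helper8.Kap

open Submodule

variable {R : Type u} [CommRing R] {M : Type u} [AddCommGroup M] [Module R M]

/-- A submodule is countably generated. -/
def CG (L : Submodule R M) : Prop := ∃ s : Set M, s.Countable ∧ span R s = L

theorem CG.map {M' : Type u} [AddCommGroup M'] [Module R M'] (f : M →ₗ[R] M')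
    {L : Submodule R M} (h : CG L) : CG (L.map f) := by
  obtain ⟨s, hs, rfl⟩ := h
  exact ⟨f '' s, hs.image f, by rw [map_span]⟩

theorem CG.biSup {ι : Type*} (C : Set ι) (hC : C.Countable) (N : ι → Submodule R M)
    (h : ∀ i ∈ C, CG (N i)) : CG (⨆ i ∈ C, N i) := by
  choose! s hs1 hs2 using h
  refine ⟨⋃ i ∈ C, s i, hC.biUnion hs1, ?_⟩
  rw [span_iUnion₂]
  exact iSup_congr fun i => iSup_congr fun hi => hs2 i hi

theorem cg_of_isCountablyGenerated (L : Submodule R M) (h : CAlg.IsCountablyGenerated R L) :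
    CG L := by
  obtain ⟨s, hs, hspan⟩ := h
  refine ⟨L.subtype '' s, hs.image _, ?_⟩
  rw [← map_span, hspan, Submodule.map_top, range_subtype]

theorem isCountablyGenerated_of_cg (L : Submodule R M) (h : CG L) :
    CAlg.IsCountablyGenerated R L := by
  obtain ⟨s, hs, hspan⟩ := h
  refine ⟨L.subtype ⁻¹' s, hs.preimage_of_injOn (L.injective_subtype.injOn), ?_⟩
  apply Submodule.map_injective_of_injective L.injective_subtype
  rw [map_span, Submodule.map_top, range_subtype, Set.image_preimage_eq_inter_range]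
  have : s ∩ Set.range L.subtype = s := by
    apply Set.inter_eq_left.mpr
    intro x hx
    have : x ∈ L := by rw [← hspan]; exact subset_span hx
    exact ⟨⟨x, this⟩, rfl⟩
  rw [this, hspan]

theorem isCountablyGenerated_of_linearEquiv {M' : Type u} [AddCommGroup M'] [Module R M']
    (e : M ≃ₗ[R] M') (h : CAlg.IsCountablyGenerated R M) : CAlg.IsCountablyGenerated R M' := by
  obtain ⟨s, hs, hspan⟩ := h
  refine ⟨e.toLinearMap '' s, hs.image _, ?_⟩
  rw [← map_span, hspan, Submodule.map_top, LinearEquiv.range]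


theorem sSupIndep_insert {α : Type*} [CompleteLattice α] [IsModularLattice α] {s : Set α} {a : α}
    (hs : sSupIndep s) (ha : Disjoint a (sSup s)) : sSupIndep (insert a s) := by
  have hcase : Disjoint a (sSup (insert a s \ {a})) := by
    refine ha.mono_right (sSup_le_sSup ?_)
    rintro x ⟨hx1, hx2⟩
    rcases hx1 with rfl | h
    · exact absurd rfl hx2
    · exact h
  intro b hb
  by_cases hba : b = a
  · subst hba
    exact hcase
  · have hb' : b ∈ s := by
      rcases hb with rfl | h
      · exact absurd rfl hba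
      · exact h
    have hset : insert a s \ {b} = insert a (s \ {b}) := by
      rw [Set.insert_sdiff_of_notMem]
      simpa using (Ne.symm hba)
    rw [hset, sSup_insert]
    have h1 : Disjoint b (sSup (s \ {b})) := hs hb'
    have h2 : Disjoint (b ⊔ sSup (s \ {b})) a :=
      (ha.mono_right (sup_le (le_sSup hb') (sSup_le_sSup Set.sdiff_subset))).symm
    rw [sup_comm]
    exact h1.disjoint_sup_right_of_disjoint_sup_left h2


/-- An independent set of submodules with supremum `P` gives an internal direct sum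
decomposition of `P`. -/
theorem isInternal_comap_of_sSupIndep (𝓛 : Set (Submodule R M)) (P : Submodule R M)
    (h2 : sSupIndep 𝓛) (h3 : sSup 𝓛 = P) [DecidableEq 𝓛] :
    DirectSum.IsInternal (fun k : 𝓛 => (k : Submodule R M).comap P.subtype) := by
  have hle : ∀ k : 𝓛, (k : Submodule R M) ≤ P := fun k => h3 ▸ le_sSup k.2
  apply DirectSum.isInternal_submodule_of_iSupIndep_of_iSup_eq_top
  · intro k
    rw [Submodule.disjoint_def]
    intro x hx1 hx2
    have hind' : iSupIndep (fun k : 𝓛 => (k : Submodule R M)) := (sSupIndep_iff 𝓛).mp h2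
    have hd := hind' k
    rw [Submodule.disjoint_def] at hd
    have hx2' : (x : M) ∈ ⨆ (j : 𝓛) (_ : j ≠ k), (j : Submodule R M) := by
      have hm : (x : M) ∈ (⨆ (j : 𝓛) (_ : j ≠ k),
          (j : Submodule R M).comap P.subtype).map P.subtype := Submodule.mem_map_of_mem hx2
      rw [Submodule.map_iSup] at hm
      have hmono : (⨆ (j : 𝓛), Submodule.map P.subtype (⨆ (_ : j ≠ k),
          (j : Submodule R M).comap P.subtype)) ≤ ⨆ (j : 𝓛) (_ : j ≠ k), (j : Submodule R M) := by
        refine iSup_mono fun j => ?_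
        rw [Submodule.map_iSup]
        exact iSup_mono fun _ => Submodule.map_comap_le _ _
      exact hmono hm
    exact Subtype.ext (hd (x : M) hx1 hx2')
  · apply Submodule.map_injective_of_injective P.injective_subtype
    rw [Submodule.map_iSup, Submodule.map_top, Submodule.range_subtype]
    have hmc : ∀ k : 𝓛, ((k : Submodule R M).comap P.subtype).map P.subtype = k := fun k => by
      rw [Submodule.map_comap_subtype, inf_eq_right]
      exact hle k
    simp_rw [hmc]
    rw [← sSup_eq_iSup', h3]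

section Main

variable {ι : Type u} (N : ι → Submodule R M)

/-- The partial sum over a set of indices. -/
def MI (I : Set ι) : Submodule R M := ⨆ i ∈ I, N i

theorem MI_mono {I J : Set ι} (h : I ⊆ J) : MI N I ≤ MI N J :=
  biSup_mono h

theorem MI_union (I J : Set ι) : MI N (I ∪ J) = MI N I ⊔ MI N J := iSup_union

theorem le_MI {I : Set ι} {i : ι} (hi : i ∈ I) : N i ≤ MI N I := le_biSup N hi

variable (π : M →ₗ[R] M)

/-- Step A: every index lies in a countable set of indices whose partial sum is `π`-stable. -/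
theorem exists_countable_stable (htop : ⨆ i, N i = ⊤) (hc : ∀ i, CG (N i)) (i₀ : ι) :
    ∃ C : Set ι, C.Countable ∧ i₀ ∈ C ∧ (MI N C).map π ≤ MI N C := by
  classical
  choose G hG1 hG2 using hc
  have hsupp : ∀ x : M, ∃ s : Finset ι, x ∈ ⨆ i ∈ s, N i := by
    intro x
    have hx : x ∈ ⨆ i, N i := by rw [htop]; trivial
    exact (Submodule.mem_iSup_iff_exists_finset).mp hx
  choose supp hsupp using hsupp
  let Φ : Set ι → Set ι := fun C => C ∪ ⋃ i ∈ C, ⋃ x ∈ G i, (supp (π x) : Set ι)
  let Cn : ℕ → Set ι := fun n => Φ^[n] {i₀}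
  have hCn_count : ∀ n, (Cn n).Countable := by
    intro n
    induction n with
    | zero => exact Set.countable_singleton i₀
    | succ n ih =>
      change (Φ^[n + 1] {i₀}).Countable
      rw [Function.iterate_succ_apply']
      exact ih.union (ih.biUnion fun i _ => (hG1 i).biUnion fun x _ => Finset.countable_toSet _)
  refine ⟨⋃ n, Cn n, Set.countable_iUnion hCn_count, Set.mem_iUnion.mpr ⟨0, rfl⟩, ?_⟩
  rw [MI, Submodule.map_iSup]
  refine iSup_le fun i => ?_
  rw [Submodule.map_iSup]
  refine iSup_le fun hi => ?_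
  obtain ⟨n, hn⟩ := Set.mem_iUnion.mp hi
  rw [← hG2 i, map_span, span_le]
  rintro _ ⟨x, hx, rfl⟩
  have h1 : π x ∈ ⨆ j ∈ supp (π x), N j := hsupp (π x)
  have h2 : (supp (π x) : Set ι) ⊆ Cn (n + 1) := by
    change _ ⊆ Φ^[n + 1] {i₀}
    rw [Function.iterate_succ_apply']
    intro j hj
    right
    exact Set.mem_biUnion hn (Set.mem_biUnion hx hj)
  have h3 : (⨆ j ∈ supp (π x), N j) ≤ MI N (⋃ n, Cn n) := by
    refine iSup₂_le fun j hj => le_MI N (Set.mem_iUnion.mpr ⟨n + 1, h2 hj⟩)
  exact h3 h1


theorem isCompl_MI (hind : iSupIndep N) (htop : ⨆ i, N i = ⊤) (I : Set ι) :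
    IsCompl (MI N I) (MI N Iᶜ) := by
  refine ⟨hind.disjoint_biSup_biSup disjoint_compl_right, ?_⟩
  rw [codisjoint_iff, ← MI_union, Set.union_compl_self, MI]
  simpa using htop

/-- Step B: extending a stable set of indices by a countable stable set, and splitting off a
countably generated complement. -/
theorem exists_complement (hind : iSupIndep N) (htop : ⨆ i, N i = ⊤) (hc : ∀ i, CG (N i))
    (hπ : ∀ x ∈ LinearMap.range π, π x = x)
    (I C : Set ι) (hI : (MI N I).map π ≤ MI N I) (hC : C.Countable)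
    (hCst : (MI N C).map π ≤ MI N C) :
    (MI N (I ∪ C)).map π ≤ MI N (I ∪ C) ∧
    ∃ L : Submodule R M, CG L ∧ Disjoint ((MI N I).map π) L ∧
      (MI N I).map π ⊔ L = (MI N (I ∪ C)).map π := by
  have hunion : (MI N (I ∪ C)).map π = (MI N I).map π ⊔ (MI N C).map π := by
    rw [MI_union, Submodule.map_sup]
  refine ⟨?_, ?_⟩
  · rw [hunion, MI_union]
    exact sup_le_sup hI hCst
  have hcompl := isCompl_MI N hind htop I
  set σ := (MI N I).projection (MI N Iᶜ) hcompl with hσ
  have hσmem : ∀ z, σ z ∈ MI N I := fun z => Submodule.projection_apply_mem hcompl z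
  have hσid : ∀ y ∈ MI N I, σ y = y := fun y hy =>
    Submodule.projection_apply_of_mem_left hcompl hy
  -- τ = π ∘ σ is a projection onto `PI = π (MI I)`
  have hτmem : ∀ z, π (σ z) ∈ (MI N I).map π := fun z => Submodule.mem_map_of_mem (hσmem z)
  have hτid : ∀ y ∈ (MI N I).map π, π (σ y) = y := by
    intro y hy
    rw [hσid y (hI hy)]
    obtain ⟨w, _, rfl⟩ := hy
    exact hπ _ ⟨w, rfl⟩
  let ρ : M →ₗ[R] M := LinearMap.id - π ∘ₗ σ
  have hρ : ∀ w, ρ w = w - π (σ w) := fun w => rfl
  refine ⟨((MI N C).map π).map ρ, ((CG.biSup C hC N fun i _ => hc i).map π).map ρ, ?_, ?_⟩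
  · rw [Submodule.disjoint_def]
    rintro y hy ⟨w, _, rfl⟩
    have h1 : π (σ (ρ w)) = ρ w := hτid _ hy
    have h2 : π (σ (ρ w)) = 0 := by
      rw [hρ, map_sub, map_sub, hτid _ (hτmem w), sub_self]
    rw [← h1, h2]
  · rw [hunion]
    apply le_antisymm
    · refine sup_le le_sup_left ?_
      rintro _ ⟨w, hw, rfl⟩
      rw [hρ]
      exact sub_mem (Submodule.mem_sup_right hw) (Submodule.mem_sup_left (hτmem w))
    · refine sup_le le_sup_left ?_
      intro w hw
      have : w = π (σ w) + ρ w := by rw [hρ]; abel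
      rw [this]
      exact add_mem (Submodule.mem_sup_left (hτmem w))
        (Submodule.mem_sup_right (Submodule.mem_map_of_mem hw))


/-- The set of admissible pairs for Zorn's lemma. -/
def Adm : Set (Set ι × Set (Submodule R M)) :=
  {p | (MI N p.1).map π ≤ MI N p.1 ∧ (∀ L ∈ p.2, CG L) ∧ sSupIndep p.2 ∧
    sSup p.2 = (MI N p.1).map π}

theorem MI_iUnion {η : Type*} (s : η → Set ι) : MI N (⋃ e, s e) = ⨆ e, MI N (s e) := by
  unfold MI
  exact iSup_iUnion s N

/-- Kaplansky's theorem, in terms of an idempotent endomorphism `π`. -/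
theorem kaplansky (hind : iSupIndep N) (htop : ⨆ i, N i = ⊤) (hc : ∀ i, CG (N i))
    (hπ : ∀ x ∈ LinearMap.range π, π x = x) :
    ∃ 𝓛 : Set (Submodule R M), (∀ L ∈ 𝓛, CG L) ∧ sSupIndep 𝓛 ∧ sSup 𝓛 = LinearMap.range π := by
  obtain ⟨m, hm⟩ := zorn_le₀ (Adm N π) (by
    intro c hcS hchain
    rcases c.eq_empty_or_nonempty with rfl | hne
    · refine ⟨(∅, ∅), ⟨?_, ?_, ?_, ?_⟩, by simp⟩
      · simp [MI]
      · simp
      · exact sSupIndep_empty
      · simp [MI]
    · haveI : Nonempty c := hne.to_subtype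
      refine ⟨(⋃ p : c, p.1.1, ⋃ p : c, p.1.2), ⟨?_, ?_, ?_, ?_⟩, ?_⟩
      · change (MI N (⋃ p : c, p.1.1)).map π ≤ MI N (⋃ p : c, p.1.1)
        rw [MI_iUnion, Submodule.map_iSup]
        exact iSup_mono fun p => (hcS p.2).1
      · intro L hL
        obtain ⟨p, hp⟩ := Set.mem_iUnion.mp hL
        exact (hcS p.2).2.1 L hp
      · refine sSupIndep_iUnion_of_directed ?_ fun p => (hcS p.2).2.2.1
        intro p q
        rcases hchain.total p.2 q.2 with h | h
        · exact ⟨q, h.2, le_rfl⟩
        · exact ⟨p, le_rfl, h.2⟩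
      · change sSup (⋃ p : c, p.1.2) = (MI N (⋃ p : c, p.1.1)).map π
        rw [sSup_iUnion, MI_iUnion, Submodule.map_iSup]
        exact iSup_congr fun p => (hcS p.2).2.2.2
      · intro z hz
        exact ⟨Set.subset_iUnion (fun p : c => p.1.1) ⟨z, hz⟩,
          Set.subset_iUnion (fun p : c => p.1.2) ⟨z, hz⟩⟩)
  obtain ⟨⟨hm1, hm2, hm3, hm4⟩, hmax⟩ := hm
  -- the index set of a maximal element is everything
  have huniv : m.1 = Set.univ := by
    by_contra hne
    obtain ⟨i₀, hi₀⟩ := (Set.ne_univ_iff_exists_notMem _).mp hne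
    obtain ⟨C, hC, hi₀C, hCst⟩ := exists_countable_stable N π htop hc i₀
    obtain ⟨hst, L, hLcg, hLdisj, hLsup⟩ :=
      exists_complement N π hind htop hc hπ m.1 C hm1 hC hCst
    have hadm : (m.1 ∪ C, insert L m.2) ∈ Adm N π := by
      refine ⟨hst, ?_, ?_, ?_⟩
      · rintro L' (rfl | hL')
        · exact hLcg
        · exact hm2 L' hL'
      · exact sSupIndep_insert hm3 (by rw [hm4]; exact hLdisj.symm)
      · change sSup (insert L m.2) = _
        rw [sSup_insert, hm4, sup_comm]
        exact hLsup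
    have hle : m ≤ (m.1 ∪ C, insert L m.2) :=
      ⟨Set.subset_union_left, Set.subset_insert _ _⟩
    have := hmax hadm hle
    exact hi₀ (this.1 (Set.mem_union_right _ hi₀C))
  refine ⟨m.2, hm2, hm3, ?_⟩
  rw [hm4, huniv, MI]
  simp only [Set.mem_univ, iSup_pos, htop, Submodule.map_top]

end Main

end Groth.Agent.Lib.helper8.Kap
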