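import Mathlib
import Groth.Prelude.Def_KZero
import Groth.Agent.Lib.Helper8.DevK0

set_option autoImplicit false
universe v u
open CategoryTheory CategoryTheory.Limits

namespace Groth.Agent.Lib.helper8.Dev

section K0

variable {A : Type u} [Category.{v} A] [Abelian A] (Q : ObjectProperty A)

theorem clSub_rel (T : ShortComplex A) (hT : T.ShortExact) (h₁ : Q T.X₁) (h₂ : Q T.X₂)
    (h₃ : Q T.X₃) : KZero.clSub Q T.X₂ = KZero.clSub Q T.X₁ + KZero.clSub Q T.X₃ := by
  classical
  have h0 : (QuotientAddGroup.mk (FreeAbelianGroup.of (⟨T.X₂, h₂⟩ : Subtype Q) -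
      FreeAbelianGroup.of (⟨T.X₁, h₁⟩ : Subtype Q) -
      FreeAbelianGroup.of (⟨T.X₃, h₃⟩ : Subtype Q)) : KZero.K0sub Q) = 0 :=
    (QuotientAddGroup.eq_zero_iff _).mpr
      (AddSubgroup.subset_closure ⟨T, h₁, h₂, h₃, hT, rfl⟩)
  rw [QuotientAddGroup.mk_sub, QuotientAddGroup.mk_sub, sub_sub, sub_eq_zero] at h0
  unfold KZero.clSub
  rw [dif_pos h₁, dif_pos h₂, dif_pos h₃]
  exact h0

variable (hQ0 : ∀ N : A, IsZero N → Q N)

include hQ0 in
theorem clSub_zero (N : A) (hN : IsZero N) : KZero.clSub Q N = 0 := by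
  let T : ShortComplex A := ShortComplex.mk (𝟙 N) (𝟙 N) (hN.eq_of_src _ _)
  have hsplit : T.Splitting :=
    { r := 𝟙 N
      s := 𝟙 N
      f_r := Category.comp_id _
      s_g := Category.comp_id _
      id := hN.eq_of_src _ _ }
  have h := clSub_rel Q T hsplit.shortExact (hQ0 N hN) (hQ0 N hN) (hQ0 N hN)
  exact left_eq_add.mp h

include hQ0 in
theorem clSub_iso (hQiso : ∀ M N : A, (M ≅ N) → Q M → Q N) {M N : A} (e : M ≅ N) :
    KZero.clSub Q M = KZero.clSub Q N := by
  classical
  by_cases hM : Q M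
  · have hN : Q N := hQiso M N e hM
    obtain ⟨Z0, hz⟩ := HasZeroObject.zero (C := A)
    let T : ShortComplex A := ShortComplex.mk (0 : Z0 ⟶ M) e.hom zero_comp
    have hsplit : T.Splitting :=
      { r := 0
        s := e.inv
        f_r := hz.eq_of_src _ _
        s_g := e.inv_hom_id
        id := by simp [T] }
    have h := clSub_rel Q T hsplit.shortExact (hQ0 _ hz) hM hN
    rw [clSub_zero Q hQ0 _ hz, zero_add] at h
    exact h
  · have hN : ¬ Q N := fun hN => hM (hQiso N M e.symm hN)
    unfold KZero.clSub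
    rw [dif_neg hM, dif_neg hN]

/-- `K₀` is generated by the classes of objects -/
theorem K0sub_induction (S : AddSubgroup (KZero.K0sub Q))
    (h : ∀ (G : A) (_ : Q G), KZero.clSub Q G ∈ S) : S = ⊤ := by
  classical
  rw [eq_top_iff]
  intro x _
  suffices hall : ∀ y : FreeAbelianGroup (Subtype Q),
      (QuotientAddGroup.mk y : KZero.K0sub Q) ∈ S by
    obtain ⟨y, rfl⟩ := QuotientAddGroup.mk_surjective x
    exact hall y
  intro y
  induction y using FreeAbelianGroup.induction_on with
  | zero => exact S.zero_mem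
  | of g =>
    have h' := h g.1 g.2
    unfold KZero.clSub at h'
    rw [dif_pos g.2] at h'
    exact h'
  | neg g ih => exact S.neg_mem ih
  | add a b ha hb => exact S.add_mem ha hb

end K0

end Groth.Agent.Lib.helper8.Dev
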