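import Mathlib
import Groth.Agent.Lib.Helper8.LocalFlat
import Groth.Agent.Lib.Helper8.MilnorGlue

/-!
# Étale algebras and nilpotent thickenings (helper8)

`A' → A` surjective with nilpotent kernel `I`, `B' → B` surjective with kernel `I B'`,
`B` étale over `A` and `B' ⊗ I → B'` injective. Then `B'` is étale over `A'`.
-/

set_option autoImplicit false
set_option linter.unusedSectionVars false
universe u

open TensorProduct

namespace Groth.Agent.Lib.helper8.EtLift

open Groth.Agent.Lib.helper8.Mil Groth.Agent.Lib.helper8.LocalFlat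

section Unramified

variable {A' A B' B : Type*} [CommRing A'] [CommRing A] [CommRing B'] [CommRing B]
  [Algebra A' A] [Algebra A' B'] [Algebra B' B] [Algebra A B] [Algebra A' B]
  [IsScalarTower A' A B] [IsScalarTower A' B' B]

/-- `1 ⊗ d j = 0` in `B ⊗ Ω[B'/A']` for `j ∈ I B'`. -/
theorem one_tmul_D_eq_zero {j : B'}
    (hj : j ∈ (RingHom.ker (algebraMap A' A)).map (algebraMap A' B')) :
    ((1 : B) ⊗ₜ[B'] KaehlerDifferential.D A' B' j : B ⊗[B'] Ω[B'⁄A']) = 0 := by
  refine Submodule.span_induction (p := fun j _ =>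
    ((1 : B) ⊗ₜ[B'] KaehlerDifferential.D A' B' j : B ⊗[B'] Ω[B'⁄A']) = 0) ?_ ?_ ?_ ?_ hj
  · rintro _ ⟨i, hi, rfl⟩
    rw [Derivation.map_algebraMap, tmul_zero]
  · rw [map_zero, tmul_zero]
  · intro x y _ _ hx hy
    rw [map_add, tmul_add, hx, hy, add_zero]
  · intro b x hx ih
    rw [smul_eq_mul, Derivation.leibniz, tmul_add, tmul_smul, ih, smul_zero, zero_add,
      ← smul_tmul, Algebra.smul_def, mul_one]
    have hx0 : algebraMap B' B x = 0 := by
      refine Submodule.span_induction (p := fun x _ => algebraMap B' B x = 0) ?_ ?_ ?_ ?_ hx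
      · rintro _ ⟨i, hi, rfl⟩
        rw [← IsScalarTower.algebraMap_apply, IsScalarTower.algebraMap_apply A' A B,
          (RingHom.mem_ker).mp hi, map_zero]
      · exact map_zero _
      · intro x y _ _ hx hy
        rw [map_add, hx, hy, add_zero]
      · intro b x _ ih
        rw [smul_eq_mul, map_mul, ih, mul_zero]
    rw [hx0, zero_tmul]

/-- Formal unramifiedness lifts along nilpotent thickenings. -/
theorem formallyUnramified_of_surjective_of_isNilpotent
    (hA : Function.Surjective (algebraMap A' A)) (hB : Function.Surjective (algebraMap B' B))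
    (hJI : RingHom.ker (algebraMap B' B) = (RingHom.ker (algebraMap A' A)).map (algebraMap A' B'))
    (hJ : IsNilpotent (RingHom.ker (algebraMap B' B)))
    [Algebra.FormallyUnramified A B] : Algebra.FormallyUnramified A' B' := by
  haveI : Algebra.FormallyUnramified A' A :=
    Algebra.FormallyUnramified.of_surjective (Algebra.ofId A' A) hA
  haveI : Algebra.FormallyUnramified A' B := Algebra.FormallyUnramified.comp A' A B
  have hex := KaehlerDifferential.exact_kerCotangentToTensor_mapBaseChange A' B' B hB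
  have h1 : ∀ ω : Ω[B'⁄A'], ((1 : B) ⊗ₜ[B'] ω : B ⊗[B'] Ω[B'⁄A']) = 0 := by
    intro ω
    have h2 : KaehlerDifferential.mapBaseChange A' B' B ((1 : B) ⊗ₜ[B'] ω) = 0 :=
      Subsingleton.elim _ _
    obtain ⟨c, hc⟩ := (hex _).mp h2
    obtain ⟨j, rfl⟩ := Ideal.toCotangent_surjective _ c
    rw [KaehlerDifferential.kerCotangentToTensor_toCotangent] at hc
    rw [← hc]
    exact one_tmul_D_eq_zero (by rw [← hJI]; exact j.2)
  have h3 : (⊤ : Submodule B' Ω[B'⁄A']) ≤ RingHom.ker (algebraMap B' B) • ⊤ := by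
    intro ω _
    exact mem_smul_top_of_one_tmul_eq_zero hB _ ω (h1 ω)
  obtain ⟨n, hn⟩ := hJ
  have h4 : ∀ k : ℕ, (⊤ : Submodule B' Ω[B'⁄A']) ≤ RingHom.ker (algebraMap B' B) ^ k • ⊤ := by
    intro k
    induction k with
    | zero => rw [pow_zero, Ideal.one_eq_top, Submodule.top_smul]
    | succ k ih =>
      rw [pow_succ', mul_smul]
      exact le_trans h3 (Submodule.smul_mono le_rfl ih)
  have h5 := h4 n
  rw [hn, Ideal.zero_eq_bot, Submodule.bot_smul] at h5
  refine ⟨⟨fun x y => ?_⟩⟩
  have hx : x ∈ (⊥ : Submodule B' Ω[B'⁄A']) := h5 Submodule.mem_top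
  have hy : y ∈ (⊥ : Submodule B' Ω[B'⁄A']) := h5 Submodule.mem_top
  rw [Submodule.mem_bot] at hx hy
  rw [hx, hy]

end Unramified

section Nak

/-- Nakayama for nilpotent ideals. -/
theorem le_of_le_sup_smul_of_isNilpotent {R M : Type*} [CommRing R] [AddCommGroup M] [Module R M]
    (I : Ideal R) (hI : IsNilpotent I) (N N' : Submodule R M) (h : N ≤ N' ⊔ I • N) : N ≤ N' := by
  obtain ⟨n, hn⟩ := hI
  have h4 : ∀ k : ℕ, N ≤ N' ⊔ I ^ k • N := by
    intro k
    induction k with
    | zero => rw [pow_zero, Ideal.one_eq_top, Submodule.top_smul]; exact le_sup_right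
    | succ k ih =>
      refine le_trans ih (sup_le le_sup_left ?_)
      refine le_trans (Submodule.smul_mono le_rfl h) ?_
      rw [Submodule.smul_sup, ← mul_smul, ← pow_succ]
      exact sup_le_sup_right Submodule.smul_le_right _
  have h5 := h4 n
  rw [hn, Ideal.zero_eq_bot, Submodule.bot_smul, sup_bot_eq] at h5
  exact h5

/-- `1 ⊗ y = 0` in `(R/I) ⊗ M` for `y ∈ I M`. -/
theorem one_tmul_eq_zero_of_mem_smul_top {R M : Type*} [CommRing R] [AddCommGroup M] [Module R M]
    (I : Ideal R) {y : M} (hy : y ∈ I • (⊤ : Submodule R M)) :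
    ((1 : R ⧸ I) ⊗ₜ[R] y : (R ⧸ I) ⊗[R] M) = 0 := by
  refine Submodule.smul_induction_on hy ?_ ?_
  · intro i hi x _
    rw [tmul_smul, smul_tmul', Algebra.smul_def, mul_one, Ideal.Quotient.algebraMap_eq,
      Ideal.Quotient.eq_zero_iff_mem.mpr hi, zero_tmul]
  · intro a b ha hb
    rw [tmul_add, ha, hb, add_zero]

/-- If `M / K` is flat then `K ∩ I M = I K`. -/
theorem mem_smul_of_mem_ker_of_flat {R M P : Type*} [CommRing R] [AddCommGroup M] [Module R M]
    [AddCommGroup P] [Module R P] [Module.Flat R P] (g : M →ₗ[R] P) (hg : Function.Surjective g)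
    (I : Ideal R) {y : M} (hy : y ∈ LinearMap.ker g) (hy' : y ∈ I • (⊤ : Submodule R M)) :
    y ∈ I • LinearMap.ker g := by
  have hinj := LinearMap.lTensor_injective_of_exact_of_flat g hg (LinearMap.ker g).subtype
    (LinearMap.ker g).injective_subtype (LinearMap.exact_subtype_ker_map g) (R ⧸ I)
  have h0 : ((1 : R ⧸ I) ⊗ₜ[R] (⟨y, hy⟩ : LinearMap.ker g) : (R ⧸ I) ⊗[R] LinearMap.ker g) = 0 := by
    apply hinj
    rw [LinearMap.lTensor_tmul, map_zero]
    exact one_tmul_eq_zero_of_mem_smul_top I hy'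
  have h1 := mem_smul_top_of_one_tmul_eq_zero (R := R) (S := R ⧸ I)
    Ideal.Quotient.mk_surjective (LinearMap.ker g) ⟨y, hy⟩ h0
  have hk : RingHom.ker (algebraMap R (R ⧸ I)) = I := Ideal.mk_ker
  rw [hk] at h1
  have h2 : (LinearMap.ker g).subtype ⟨y, hy⟩ ∈
      (I • (⊤ : Submodule R (LinearMap.ker g))).map (LinearMap.ker g).subtype :=
    Submodule.mem_map_of_mem h1
  rw [Submodule.map_smul'', Submodule.map_subtype_top] at h2
  exact h2

end Nak

section FP

variable {A' A B' B : Type*} [CommRing A'] [CommRing A] [CommRing B'] [CommRing B]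
  [Algebra A' A] [Algebra A' B'] [Algebra B' B] [Algebra A B] [Algebra A' B]
  [IsScalarTower A' A B] [IsScalarTower A' B' B]

/-- Finite presentation lifts along nilpotent thickenings, for flat algebras. -/
theorem finitePresentation_of_surjective_of_isNilpotent
    (hA : Function.Surjective (algebraMap A' A)) (hB : Function.Surjective (algebraMap B' B))
    (hJI : RingHom.ker (algebraMap B' B) = (RingHom.ker (algebraMap A' A)).map (algebraMap A' B'))
    (hI : IsNilpotent (RingHom.ker (algebraMap A' A)))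
    [Module.Flat A' B'] [Algebra.FinitePresentation A B] : Algebra.FinitePresentation A' B' := by
  classical
  obtain ⟨n, f, hf, hfk⟩ := Algebra.FinitePresentation.out (R := A) (A := B)
  choose b' hb' using fun i : Fin n => hB (f (MvPolynomial.X i))
  let g : MvPolynomial (Fin n) A' →ₐ[A'] B' := MvPolynomial.aeval b'
  let φ : MvPolynomial (Fin n) A' →+* MvPolynomial (Fin n) A := MvPolynomial.map (algebraMap A' A)
  have hφ : Function.Surjective φ := MvPolynomial.map_surjective _ hA
  set I := RingHom.ker (algebraMap A' A) with hIdef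
  have hcomm : ∀ p, algebraMap B' B (g p) = f (φ p) := by
    intro p
    induction p using MvPolynomial.induction_on with
    | C a =>
      simp only [g, φ, MvPolynomial.aeval_C, MvPolynomial.map_C]
      rw [← IsScalarTower.algebraMap_apply, IsScalarTower.algebraMap_apply A' A B,
        ← MvPolynomial.algebraMap_eq, AlgHom.commutes]
    | add p q hp hq => rw [map_add, map_add, hp, hq, map_add, map_add]
    | mul_X p i hp =>
      rw [map_mul, map_mul, hp, map_mul, map_mul]
      congr 1
      simp only [g, φ, MvPolynomial.aeval_X, MvPolynomial.map_X]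
      exact hb' i
  -- the kernel of `B' → B` as an `A'`-submodule
  have hJ' : ∀ j : B', algebraMap B' B j = 0 → j ∈ I • (⊤ : Submodule A' B') := by
    intro j hj
    rw [Ideal.smul_top_eq_map, Submodule.restrictScalars_mem, ← hJI]
    exact hj
  -- the kernel of `φ` as an `A'`-submodule
  have hkφ : ∀ p, φ p = 0 ↔ p ∈ I • (⊤ : Submodule A' (MvPolynomial (Fin n) A')) := by
    intro p
    rw [Ideal.smul_top_eq_map, Submodule.restrictScalars_mem, MvPolynomial.algebraMap_eq,
      ← MvPolynomial.ker_map, RingHom.mem_ker]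
  -- (a) `g` is surjective
  have hg : Function.Surjective g := by
    have h1 : (⊤ : Submodule A' B') ≤ LinearMap.range g.toLinearMap ⊔ I • ⊤ := by
      intro b _
      obtain ⟨q, hq⟩ := hf (algebraMap B' B b)
      obtain ⟨p, rfl⟩ := hφ q
      have h2 : b - g p ∈ I • (⊤ : Submodule A' B') := by
        apply hJ'
        rw [map_sub, hcomm, hq, sub_self]
      have h3 : b = g p + (b - g p) := by ring
      rw [h3]
      exact Submodule.add_mem_sup ⟨p, rfl⟩ h2
    have h4 := le_of_le_sup_smul_of_isNilpotent I hI _ _ h1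
    intro b
    obtain ⟨p, hp⟩ := h4 (Submodule.mem_top : b ∈ ⊤)
    exact ⟨p, hp⟩
  -- lifting elements of the kernel of `B' → B`
  have hlift : ∀ j : B', algebraMap B' B j = 0 → ∃ q, φ q = 0 ∧ g q = j := by
    intro j hj
    refine Submodule.smul_induction_on (hJ' j hj) ?_ ?_
    · intro i hi b _
      obtain ⟨p, rfl⟩ := hg b
      refine ⟨i • p, ?_, map_smul g i p⟩
      rw [hkφ]
      exact Submodule.smul_mem_smul hi Submodule.mem_top
    · rintro a b ⟨p, hp, rfl⟩ ⟨q, hq, rfl⟩
      exact ⟨p + q, by rw [map_add, hp, hq, add_zero], map_add g p q⟩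
  -- generators of the kernel of `f`
  obtain ⟨s, hs⟩ := hfk
  have hrel : ∀ k : MvPolynomial (Fin n) A, f k = 0 → ∃ p, φ p = k ∧ g p = 0 := by
    intro k hk
    obtain ⟨p, rfl⟩ := hφ k
    obtain ⟨q, hq, hgq⟩ := hlift (g p) (by rw [hcomm, hk])
    exact ⟨p - q, by rw [map_sub, hq, sub_zero], by rw [map_sub, hgq, sub_self]⟩
  have hsk : ∀ k ∈ s, f k = 0 := by
    intro k hk
    have : k ∈ RingHom.ker f.toRingHom := by rw [← hs]; exact Ideal.subset_span hk
    exact this
  choose! r hr1 hr2 using fun k (hk : k ∈ s) => hrel k (hsk k hk)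
  refine Algebra.FinitePresentation.of_surjective (f := g) hg ?_
  refine ⟨s.image r, ?_⟩
  refine le_antisymm ?_ ?_
  · rw [Ideal.span_le]
    intro x hx
    rw [Finset.coe_image] at hx
    obtain ⟨k, hk, rfl⟩ := hx
    exact hr2 k hk
  · -- Nakayama
    have key : (RingHom.ker g.toRingHom).restrictScalars A' ≤
        (Ideal.span ((s.image r : Finset _) : Set (MvPolynomial (Fin n) A'))).restrictScalars A' ⊔
          I • (RingHom.ker g.toRingHom).restrictScalars A' := by
      intro x hx
      have hx0 : g x = 0 := hx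
      have h1 : φ x ∈ Ideal.span (s : Set (MvPolynomial (Fin n) A)) := by
        rw [hs]
        change f (φ x) = 0
        rw [← hcomm, hx0, map_zero]
      obtain ⟨c, -, hc⟩ := Submodule.mem_span_finset.mp h1
      choose c' hc' using fun k => hφ (c k)
      have hw1 : ∑ k ∈ s, c' k * r k ∈
          Ideal.span ((s.image r : Finset _) : Set (MvPolynomial (Fin n) A')) := by
        refine Ideal.sum_mem _ fun k hk => Ideal.mul_mem_left _ _ (Ideal.subset_span ?_)
        rw [Finset.coe_image]
        exact ⟨k, hk, rfl⟩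
      have hw2 : φ (∑ k ∈ s, c' k * r k) = φ x := by
        rw [map_sum, ← hc]
        refine Finset.sum_congr rfl fun k hk => ?_
        rw [map_mul, hc', hr1 k hk, smul_eq_mul]
      have hw3 : g (∑ k ∈ s, c' k * r k) = 0 := by
        rw [map_sum]
        refine Finset.sum_eq_zero fun k hk => ?_
        rw [map_mul, hr2 k hk, mul_zero]
      have hy1 : x - ∑ k ∈ s, c' k * r k ∈ LinearMap.ker g.toLinearMap := by
        rw [LinearMap.mem_ker]
        change g (x - ∑ k ∈ s, c' k * r k) = 0
        rw [map_sub, hx0, hw3, sub_zero]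
      have hy2 : x - ∑ k ∈ s, c' k * r k ∈ I • (⊤ : Submodule A' (MvPolynomial (Fin n) A')) := by
        rw [← hkφ, map_sub, hw2, sub_self]
      have hy3 := mem_smul_of_mem_ker_of_flat g.toLinearMap hg I hy1 hy2
      have hx3 : x = ∑ k ∈ s, c' k * r k + (x - ∑ k ∈ s, c' k * r k) := by ring
      rw [hx3]
      exact Submodule.add_mem_sup hw1 hy3
    exact le_of_le_sup_smul_of_isNilpotent I hI _ _ key

end FP

section Etale

/-- Étale algebras lift along nilpotent thickenings: if `A' → A` is surjective with nilpotent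
kernel `I`, `B' → B` is surjective with kernel `I B'`, `B' ⊗ I → B'` is injective and `B` is étale
over `A`, then `B'` is étale over `A'`. -/
theorem etale_of_surjective_of_isNilpotent {A' A B' B : Type u} [CommRing A'] [CommRing A]
    [CommRing B'] [CommRing B] [Algebra A' A] [Algebra A' B'] [Algebra B' B] [Algebra A B]
    [Algebra A' B] [IsScalarTower A' A B] [IsScalarTower A' B' B]
    (hA : Function.Surjective (algebraMap A' A)) (hB : Function.Surjective (algebraMap B' B))
    (hJI : RingHom.ker (algebraMap B' B) = (RingHom.ker (algebraMap A' A)).map (algebraMap A' B'))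
    (hI : IsNilpotent (RingHom.ker (algebraMap A' A)))
    (hinj : Function.Injective ((RingHom.ker (algebraMap A' A)).subtype.baseChange B'))
    [Algebra.Etale A B] : Algebra.Etale A' B' := by
  haveI : Module.Flat A B := inferInstance
  haveI : Module.Flat A' B' := flat_of_surjective_of_isNilpotent hA hB hJI hI hinj
  haveI : Algebra.FinitePresentation A' B' :=
    finitePresentation_of_surjective_of_isNilpotent hA hB hJI hI
  have hJ : IsNilpotent (RingHom.ker (algebraMap B' B)) := by
    obtain ⟨n, hn⟩ := hI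
    refine ⟨n, ?_⟩
    rw [hJI, ← Ideal.map_pow, hn, Ideal.zero_eq_bot, Ideal.map_bot]
    rfl
  haveI : Algebra.FormallyUnramified A' B' :=
    formallyUnramified_of_surjective_of_isNilpotent hA hB hJI hJ
  exact Algebra.Etale.of_formallyUnramified_of_flat

end Etale

section Lift

open Algebra

set_option maxHeartbeats 400000 in
/-- Étale algebras lift along surjections (via a standard smooth presentation). -/
theorem exists_etale_lift (R : Type u) [CommRing R] (I : Ideal R) (Sb : Type u)
    [CommRing Sb] [Algebra (R ⧸ I) Sb] [Algebra.Etale (R ⧸ I) Sb] :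
    ∃ (S : Type u) (_ : CommRing S) (_ : Algebra R S), Algebra.Etale R S ∧
      Nonempty (((R ⧸ I) ⊗[R] S) ≃ₐ[R ⧸ I] Sb) := by
  classical
  have hss : IsStandardSmoothOfRelativeDimension 0 (R ⧸ I) Sb :=
    Etale.iff_isStandardSmoothOfRelativeDimension_zero.mp inferInstance
  obtain ⟨ι, σ, hσ, hι, Pb, hdim⟩ := hss.out
  -- lift the relations
  have hsurj : Function.Surjective (MvPolynomial.map (σ := ι) (Ideal.Quotient.mk I)) :=
    MvPolynomial.map_surjective _ Ideal.Quotient.mk_surjective
  choose v hv using fun r : σ => hsurj (Pb.relation r)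
  let T := MvPolynomial ι R ⧸ Ideal.span (Set.range v)
  let P₀ : PreSubmersivePresentation R T ι σ :=
    PreSubmersivePresentation.naive (v := v) Pb.map Pb.map_inj
  let Δ : T := P₀.jacobian
  let S := Localization.Away Δ
  let Q : SubmersivePresentation T S Unit Unit := SubmersivePresentation.localizationAway S Δ
  let PS : SubmersivePresentation R S (Unit ⊕ ι) (Unit ⊕ σ) :=
    { toPreSubmersivePresentation := Q.toPreSubmersivePresentation.comp P₀
      jacobian_isUnit := by
        rw [PreSubmersivePresentation.comp_jacobian_eq_jacobian_smul_jacobian, Algebra.smul_def]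
        exact (IsLocalization.Away.algebraMap_isUnit Δ).mul Q.jacobian_isUnit }
  have hPSdim : PS.dimension = 0 := by
    have h1 : PS.dimension = Q.dimension + P₀.dimension :=
      PreSubmersivePresentation.dimension_comp_eq_dimension_add_dimension _ _
    have h2 : Q.dimension = 0 := Presentation.localizationAway_dimension_zero Δ
    have h3 : P₀.dimension = 0 := hdim
    rw [h1, h2, h3]
  haveI : IsStandardSmoothOfRelativeDimension 0 R S :=
    PS.isStandardSmoothOfRelativeDimension hPSdim
  refine ⟨S, inferInstance, inferInstance, inferInstance, ?_⟩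
  -- the base change of `T`
  let Pbc : PreSubmersivePresentation (R ⧸ I) ((R ⧸ I) ⊗[R] T) ι σ := P₀.baseChange (R ⧸ I)
  have hrel : ∀ r, Pbc.relation r = Pb.relation r := by
    intro r
    exact hv r
  have hker : Pbc.ker = Pb.ker := by
    rw [← Pbc.span_range_relation_eq_ker, ← Pb.span_range_relation_eq_ker]
    congr 1
    ext x
    simp only [Set.mem_range, hrel]
  let e₁ : ((R ⧸ I) ⊗[R] T) ≃ₐ[R ⧸ I] Sb :=
    ((Pbc.quotientEquiv.restrictScalars (R ⧸ I)).symm.trans
      (Ideal.quotientEquivAlgOfEq (R ⧸ I) hker)).trans (Pb.quotientEquiv.restrictScalars (R ⧸ I))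
  have he₁ : ∀ p : MvPolynomial ι (R ⧸ I), e₁ (MvPolynomial.aeval Pbc.val p) =
      MvPolynomial.aeval Pb.val p := by
    intro p
    have h1 : MvPolynomial.aeval Pbc.val p =
        Pbc.quotientEquiv (Ideal.Quotient.mk Pbc.ker p) := by
      rw [Presentation.quotientEquiv_mk, Generators.algebraMap_apply]
    have h2 : (Pbc.quotientEquiv.restrictScalars (R ⧸ I)).symm
        (Pbc.quotientEquiv (Ideal.Quotient.mk Pbc.ker p)) = Ideal.Quotient.mk Pbc.ker p :=
      Pbc.quotientEquiv.symm_apply_apply _
    simp only [e₁, AlgEquiv.trans_apply]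
    rw [h1, h2, Ideal.quotientEquivAlgOfEq_mk]
    change Pb.quotientEquiv (Ideal.Quotient.mk Pb.ker p) = _
    rw [Presentation.quotientEquiv_mk, Generators.algebraMap_apply]
  -- the Jacobian
  have hjac : e₁ ((1 : R ⧸ I) ⊗ₜ[R] Δ) = Pb.jacobian := by
    have h1 : Pbc.jacobian = (1 : R ⧸ I) ⊗ₜ[R] Δ :=
      PreSubmersivePresentation.baseChange_jacobian (R ⧸ I) P₀
    haveI := Fintype.ofFinite σ
    have h2 : Pbc.jacobiMatrix = Pb.jacobiMatrix := by
      ext i j : 1
      rw [PreSubmersivePresentation.jacobiMatrix_apply,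
        PreSubmersivePresentation.jacobiMatrix_apply, hrel]
      rfl
    rw [← h1, PreSubmersivePresentation.jacobian_eq_jacobiMatrix_det,
      PreSubmersivePresentation.jacobian_eq_jacobiMatrix_det, Generators.algebraMap_apply,
      Generators.algebraMap_apply, he₁, h2]
  have hunit : IsUnit ((1 : R ⧸ I) ⊗ₜ[R] Δ : (R ⧸ I) ⊗[R] T) := by
    have h1 : IsUnit (e₁ ((1 : R ⧸ I) ⊗ₜ[R] Δ)) := by rw [hjac]; exact Pb.jacobian_isUnit
    have h2 := h1.map e₁.symm
    rwa [AlgEquiv.symm_apply_apply] at h2
  -- localization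
  letI alg : Algebra ((R ⧸ I) ⊗[R] T) ((R ⧸ I) ⊗[R] S) :=
    (Algebra.TensorProduct.map (AlgHom.id (R ⧸ I) (R ⧸ I))
      (IsScalarTower.toAlgHom R T S)).toRingHom.toAlgebra
  haveI : IsScalarTower (R ⧸ I) ((R ⧸ I) ⊗[R] T) ((R ⧸ I) ⊗[R] S) :=
    IsScalarTower.of_algebraMap_eq (fun x => by
      change _ = (Algebra.TensorProduct.map (AlgHom.id (R ⧸ I) (R ⧸ I))
        (IsScalarTower.toAlgHom R T S)) (algebraMap (R ⧸ I) ((R ⧸ I) ⊗[R] T) x)
      rw [AlgHom.commutes])
  haveI hloc := IsLocalization.tensorProduct_tensorProduct_right R (R ⧸ I)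
    (Submonoid.powers Δ) S (by
      refine RingHom.ext fun t => ?_
      change (Algebra.TensorProduct.map (AlgHom.id (R ⧸ I) (R ⧸ I))
        (IsScalarTower.toAlgHom R T S)) ((1 : R ⧸ I) ⊗ₜ[R] t) = (1 : R ⧸ I) ⊗ₜ[R] algebraMap T S t
      rw [Algebra.TensorProduct.map_tmul]
      rfl)
  have hunits : (Submonoid.powers Δ).map
      (Algebra.TensorProduct.includeRight (R := R) (A := R ⧸ I) (B := T)) ≤
      IsUnit.submonoid ((R ⧸ I) ⊗[R] T) := by
    rintro _ ⟨_, ⟨n, rfl⟩, rfl⟩
    change IsUnit (Algebra.TensorProduct.includeRight (R := R) (A := R ⧸ I) (B := T) (Δ ^ n))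
    rw [map_pow]
    exact hunit.pow n
  let e₂ : ((R ⧸ I) ⊗[R] T) ≃ₐ[(R ⧸ I) ⊗[R] T] ((R ⧸ I) ⊗[R] S) :=
    IsLocalization.atUnits _ _ hunits
  exact ⟨(e₂.restrictScalars (R ⧸ I)).symm.trans e₁⟩

end Lift

end Groth.Agent.Lib.helper8.EtLift
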