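import Mathlib
import Groth.Agent.Lib.Helper18.DegTensor
import Groth.Agent.Lib.Helper15.TraceCover
import Groth.Agent.Lib.Helper16.FLF5
import Groth.Agent.Lib.Helper16.FinPushCoh
import Groth.Agent.Lib.Helper1.FibRank2
import Groth.Agent.Lib.Helper2.ModSec2
import Groth.Agent.Lib.Helper8.PullbackUnit2
import Groth.Agent.Lib.Helper11.InvMod
import Groth.Agent.Lib.Helper9.VABC3
import Groth.Agent.Lib.Lead.CurveEuler

/-!
# Euler characteristic of a finite étale cover of a proper curve (helper8)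

* `isIso_decomp`: for complementary opens `D`, `D'` of a scheme `Z`,
  `O_Z ≅ (D.ι)_* O_D ⊞ (D'.ι)_* O_{D'}`.
* `euler_of_isCompl`: `χ(Z, O_Z) = χ(D, O_D) + χ(D', O_{D'})` for `Z` proper over a field.
* `euler_structure_of_isIso`: invariance of `χ(O)` under isomorphisms of `k`-schemes.
* `isFinLocFreeOfRank_pushO`: `f_* O_X` is finite locally free of rank `n` for `f` finite flat of
  constant rank `n` over a locally Noetherian base.
* `euler_fibreSquare`: for `f : X ⟶ Y` finite flat of constant rank `n` onto a proper `k`-scheme of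
  dimension `≤ 1`: `χ(X ×_Y X, O) = 2 n χ(O_X) - n² χ(O_Y)`.
* `euler_of_finite_etale`: **`χ(O_X) = n χ(O_Y)`** for `f` finite étale of constant rank `n`.
-/

set_option autoImplicit false
set_option linter.style.haveILetI false
universe u
open CategoryTheory CategoryTheory.Limits AlgebraicGeometry TopologicalSpace Opposite
open Groth.Agent.Lib.helper2.ModSec

namespace Groth.Agent.Lib.helper8.EtaleEuler

section Clopen

variable {Z : Scheme.{u}} (D D' : Z.Opens)

/-- `(U.ι)_* O_U` -/
noncomputable abbrev pO (U : Z.Opens) : Z.Modules :=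
  (Scheme.Modules.pushforward U.ι).obj (Coh.structureModule ↑U)

/-- the comparison `O_Z ⟶ (D.ι)_* O_D ⊞ (D'.ι)_* O_{D'}` -/
noncomputable def decomp : Coh.structureModule Z ⟶ pO D ⊞ pO D' :=
  biprod.lift (ClSub.unitToPush D.ι) (ClSub.unitToPush D'.ι)

theorem image_preimage_ι (U W : Z.Opens) : U.ι ''ᵁ U.ι ⁻¹ᵁ W = U ⊓ W := by
  rw [Scheme.Hom.image_preimage_eq_opensRange_inf, Scheme.Opens.opensRange_ι]

theorem biprod_sec_ext {A B : Z.Modules} (W : Z.Opens) (y z : Γ(A ⊞ B, W))
    (h1 : ((biprod.fst : A ⊞ B ⟶ A).app W).hom y = ((biprod.fst : A ⊞ B ⟶ A).app W).hom z)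
    (h2 : ((biprod.snd : A ⊞ B ⟶ B).app W).hom y = ((biprod.snd : A ⊞ B ⟶ B).app W).hom z) :
    y = z := by
  have key : ∀ t : Γ(A ⊞ B, W),
      t = ((biprod.inl : A ⟶ A ⊞ B).app W).hom (((biprod.fst : A ⊞ B ⟶ A).app W).hom t) +
        ((biprod.inr : B ⟶ A ⊞ B).app W).hom (((biprod.snd : A ⊞ B ⟶ B).app W).hom t) := by
    intro t
    have htot : (biprod.fst ≫ biprod.inl + biprod.snd ≫ biprod.inr : A ⊞ B ⟶ A ⊞ B) = 𝟙 _ :=
      biprod.total
    have := congrArg (fun φ : A ⊞ B ⟶ A ⊞ B => (φ.app W).hom t) htot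
    simp only [Scheme.Modules.Hom.add_app, Scheme.Modules.Hom.comp_app,
      Scheme.Modules.Hom.id_app] at this
    exact this.symm
  rw [key y, key z, h1, h2]

theorem isIso_decomp (hc : IsCompl D D') : IsIso (decomp D D') := by
  rw [isIso_iff_bijective_app]
  intro W
  have hfst : decomp D D' ≫ biprod.fst = ClSub.unitToPush D.ι := biprod.lift_fst _ _
  have hsnd : decomp D D' ≫ biprod.snd = ClSub.unitToPush D'.ι := biprod.lift_snd _ _
  have e1 : D.ι ''ᵁ D.ι ⁻¹ᵁ W = D ⊓ W := image_preimage_ι D W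
  have e2 : D'.ι ''ᵁ D'.ι ⁻¹ᵁ W = D' ⊓ W := image_preimage_ι D' W
  have h1 : D.ι ''ᵁ D.ι ⁻¹ᵁ W ≤ W := e1.le.trans inf_le_right
  have h2 : D'.ι ''ᵁ D'.ι ⁻¹ᵁ W ≤ W := e2.le.trans inf_le_right
  have hcov : W ≤ D.ι ''ᵁ D.ι ⁻¹ᵁ W ⊔ D'.ι ''ᵁ D'.ι ⁻¹ᵁ W := by
    rw [e1, e2, ← inf_sup_right, hc.sup_eq_top, top_inf_eq]
  have hbot : D.ι ''ᵁ D.ι ⁻¹ᵁ W ⊓ D'.ι ''ᵁ D'.ι ⁻¹ᵁ W = ⊥ := by
    rw [e1, e2, eq_bot_iff]
    calc D ⊓ W ⊓ (D' ⊓ W) ≤ D ⊓ D' := inf_le_inf inf_le_left inf_le_left
      _ = ⊥ := hc.inf_eq_bot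
  -- the two components of `decomp` on sections
  have c1 : ∀ s : Γ(Coh.structureModule Z, W),
      ((biprod.fst : pO D ⊞ pO D' ⟶ pO D).app W).hom (((decomp D D').app W).hom s) =
        (Coh.structureModule Z).presheaf.map (homOfLE h1).op s := by
    intro s
    have := congrArg (fun φ : Coh.structureModule Z ⟶ pO D => (φ.app W).hom s) hfst
    exact this
  have c2 : ∀ s : Γ(Coh.structureModule Z, W),
      ((biprod.snd : pO D ⊞ pO D' ⟶ pO D').app W).hom (((decomp D D').app W).hom s) =
        (Coh.structureModule Z).presheaf.map (homOfLE h2).op s := by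
    intro s
    have := congrArg (fun φ : Coh.structureModule Z ⟶ pO D' => (φ.app W).hom s) hsnd
    exact this
  constructor
  · intro s t hst
    refine sec_ext₂ (Coh.structureModule Z) h1 h2 hcov s t ?_ ?_
    · rw [← c1 s, ← c1 t]
      exact congrArg _ hst
    · rw [← c2 s, ← c2 t]
      exact congrArg _ hst
  · intro x
    let t₁ : Γ(Coh.structureModule Z, D.ι ''ᵁ D.ι ⁻¹ᵁ W) :=
      ((biprod.fst : pO D ⊞ pO D' ⟶ pO D).app W).hom x
    let t₂ : Γ(Coh.structureModule Z, D'.ι ''ᵁ D'.ι ⁻¹ᵁ W) :=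
      ((biprod.snd : pO D ⊞ pO D' ⟶ pO D').app W).hom x
    obtain ⟨s', hs1, hs2⟩ := glue₂ (Coh.structureModule Z) t₁ t₂ (by
      refine sec_ext_cover (Coh.structureModule Z) (fun i : PEmpty.{1} => i.elim) _
        (fun i => i.elim) (by rw [hbot]; exact bot_le) _ _ (fun i => i.elim))
    refine ⟨(Coh.structureModule Z).presheaf.map (homOfLE hcov).op s', ?_⟩
    apply biprod_sec_ext
    · rw [c1, res_comp (Coh.structureModule Z) (homOfLE h1) (homOfLE hcov)
        (homOfLE le_sup_left) s']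
      exact hs1
    · rw [c2, res_comp (Coh.structureModule Z) (homOfLE h2) (homOfLE hcov)
        (homOfLE le_sup_right) s']
      exact hs2

end Clopen

section Euler

variable (k : Type u) [Field k]

/-- `χ(O)` is invariant under isomorphisms of `k`-schemes -/
theorem euler_structure_of_isIso {A B : Scheme.{u}} [A.Over (Spec (CommRingCat.of k))]
    [B.Over (Spec (CommRingCat.of k))] (e : A ⟶ B) [IsIso e]
    (he : e ≫ (B ↘ Spec (CommRingCat.of k)) = A ↘ Spec (CommRingCat.of k)) :
    Curv2.euler k A (Coh.structureModule A) = Curv2.euler k B (Coh.structureModule B) := by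
  rw [← Groth.Agent.Lib.Helper18.PullEuler.euler_push k e he (Coh.structureModule A)]
  haveI : IsIso (ClSub.unitToPush e) := by
    rw [isIso_iff_bijective_app]
    intro U
    exact ConcreteCategory.bijective_of_isIso (e.app U)
  exact (Groth.Agent.Lib.Lead.CurveEuler.euler_eq_of_iso k B (asIso (ClSub.unitToPush e))).symm

/-- additivity of `χ` on biproducts of coherent modules on a proper `k`-scheme -/
theorem euler_biprod {Z : Scheme.{u}} [Z.Over (Spec (CommRingCat.of k))]
    [IsProper (Z ↘ Spec (CommRingCat.of k))] (A B : Z.Modules) (hA : Coh.IsCoh A)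
    (hB : Coh.IsCoh B) :
    Curv2.euler k Z (A ⊞ B) = Curv2.euler k Z A + Curv2.euler k Z B := by
  have hS : (ShortComplex.mk (biprod.inl : A ⟶ A ⊞ B) (biprod.snd : A ⊞ B ⟶ B)
      biprod.inl_snd).ShortExact :=
    (ShortComplex.Splitting.ofHasBinaryBiproduct A B).shortExact
  have := Groth.Agent.Lib.Lead.ProperEuler.euler_additive k hS hA hB
  exact this

/-- `χ(Z, O_Z) = χ(D, O_D) + χ(D', O_{D'})` for complementary opens of a proper `k`-scheme -/
theorem euler_of_isCompl {Z : Scheme.{u}} [Z.Over (Spec (CommRingCat.of k))]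
    [IsProper (Z ↘ Spec (CommRingCat.of k))] (D D' : Z.Opens) (hc : IsCompl D D') :
    Curv2.euler k Z (Coh.structureModule Z) =
      Curv2.euler k ↑D (Coh.structureModule ↑D) + Curv2.euler k ↑D' (Coh.structureModule ↑D') := by
  haveI := isIso_decomp D D' hc
  haveI : IsClosedImmersion D.ι :=
    Groth.Agent.H1.FibRank.isClosedImmersion_ι_of_isCompl D D' hc
  haveI : IsClosedImmersion D'.ι :=
    Groth.Agent.H1.FibRank.isClosedImmersion_ι_of_isCompl D' D hc.symm
  rw [Groth.Agent.Lib.Lead.CurveEuler.euler_eq_of_iso k Z (asIso (decomp D D')),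
    euler_biprod k (pO D) (pO D')
      (Groth.Agent.Lib.helper16.FinPushCoh.isCoh_push_of_isFinite D.ι _
        (Groth.Agent.Lib.helper8.Dev.isCoh_structureModule _))
      (Groth.Agent.Lib.helper16.FinPushCoh.isCoh_push_of_isFinite D'.ι _
        (Groth.Agent.Lib.helper8.Dev.isCoh_structureModule _)),
    Groth.Agent.Lib.Helper18.PullEuler.euler_push k D.ι rfl (Coh.structureModule ↑D),
    Groth.Agent.Lib.Helper18.PullEuler.euler_push k D'.ι rfl (Coh.structureModule ↑D')]

end Euler

section Main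

variable (k : Type u) [Field k]

/-- `f_* O_X` is finite locally free of rank `n` for `f` finite flat of constant rank `n` -/
theorem isFinLocFreeOfRank_pushO {X Y : Scheme.{u}} (f : X ⟶ Y) [IsLocallyNoetherian Y]
    [IsFinite f] [Flat f] (n : ℕ) (hn : ∀ y, f.finrank y = n) :
    FlatMod.IsFinLocFreeOfRank n
      ((Scheme.Modules.pushforward f).obj (Coh.structureModule X)) := by
  haveI : ((Scheme.Modules.pushforward f).obj (Coh.structureModule X)).IsQuasicoherent :=
    Groth.Agent.Lib.helper15.TraceCover.isQuasicoherent_pushO f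
  rw [Groth.Agent.Lib.helper16.FLF.isFinLocFreeOfRank_iff_sections]
  intro y
  obtain ⟨W, m, hW, hy, ⟨e⟩⟩ := Groth.Agent.Lib.helper15.TraceCover.exists_free_sections f y
  have hm := Groth.Agent.Lib.helper15.TraceCover.finrank_eq_of_free f hW y hy m e
  rw [hn] at hm
  subst hm
  exact ⟨W, hW, hy, ⟨e⟩⟩

/-- affine base change, as an isomorphism -/
theorem nonempty_baseChange_iso {X S X' S' : Scheme.{u}} (f : X ⟶ S) (g : S' ⟶ S)
    (g' : X' ⟶ X) (f' : X' ⟶ S') (h : IsPullback g' f' f g) [IsAffineHom f]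
    (F : X.Modules) [F.IsQuasicoherent] :
    Nonempty ((Scheme.Modules.pullback g).obj ((Scheme.Modules.pushforward f).obj F) ≅
      (Scheme.Modules.pushforward f').obj ((Scheme.Modules.pullback g').obj F)) :=
  ⟨@asIso _ _ _ _ _
    (Groth.Agent.Lib.helper8.PullbackUnit.isIso_baseChange_of_isAffineHom f g g' f' h F)⟩

/-- `χ(X ×_Y X, O) = 2 n χ(O_X) - n² χ(O_Y)` for `f : X ⟶ Y` finite flat of constant rank `n` onto a
proper `k`-scheme of dimension `≤ 1` -/
theorem euler_fibreSquare {X Y Z : Scheme.{u}} [X.Over (Spec (CommRingCat.of k))]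
    [Y.Over (Spec (CommRingCat.of k))] [Z.Over (Spec (CommRingCat.of k))]
    [IsProper (Y ↘ Spec (CommRingCat.of k))]
    (hdim : topologicalKrullDim Y ≤ 1) (f : X ⟶ Y) [IsFinite f] [Flat f]
    (hf : f ≫ (Y ↘ Spec (CommRingCat.of k)) = X ↘ Spec (CommRingCat.of k))
    (n : ℕ) (hn : ∀ y, f.finrank y = n) (p q : Z ⟶ X) (sq : IsPullback p q f f)
    (hq : q ≫ (X ↘ Spec (CommRingCat.of k)) = Z ↘ Spec (CommRingCat.of k)) :
    Curv2.euler k Z (Coh.structureModule Z) =
      2 * n * Curv2.euler k X (Coh.structureModule X) -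
        n ^ 2 * Curv2.euler k Y (Coh.structureModule Y) := by
  haveI := Groth.Agent.Lib.Lead.CurveEuler.isNoetherian k Y
  have hE : FlatMod.IsFinLocFreeOfRank n
      ((Scheme.Modules.pushforward f).obj (Coh.structureModule X)) :=
    isFinLocFreeOfRank_pushO f n hn
  have h1 := Groth.Agent.Lib.Helper18.DegTensor.deg_tensor k Y hdim hE hE
  unfold Curv2.deg at h1
  have h2 : Curv2.euler k Y ((Scheme.Modules.pushforward f).obj (Coh.structureModule X)) =
      Curv2.euler k X (Coh.structureModule X) :=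
    Groth.Agent.Lib.Helper18.PullEuler.euler_push k f hf (Coh.structureModule X)
  have h3 := Groth.Agent.Lib.Helper18.PullEuler.euler_pullback k f hf
    ((Scheme.Modules.pushforward f).obj (Coh.structureModule X))
    (Groth.Agent.Lib.helper16.FLF.isFinLocFree_of_isFinLocFreeOfRank hE)
  haveI : IsAffineHom q := MorphismProperty.of_isPullback sq inferInstance
  obtain ⟨e1⟩ := nonempty_baseChange_iso f f p q sq (Coh.structureModule X)
  have h4 := Groth.Agent.Lib.Lead.CurveEuler.euler_eq_of_iso k X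
    (e1 ≪≫ (Scheme.Modules.pushforward q).mapIso
      (Groth.Agent.Lib.helper11.InvMod.pullbackUnitIso p))
  have h5 : Curv2.euler k X ((Scheme.Modules.pushforward q).obj (Coh.structureModule Z)) =
      Curv2.euler k Z (Coh.structureModule Z) :=
    Groth.Agent.Lib.Helper18.PullEuler.euler_push k q hq (Coh.structureModule Z)
  rw [h2] at h1
  rw [← h5, ← h4, h3]
  push_cast at h1
  linear_combination h1

/-- **`χ(O_X) = n χ(O_Y)`** for `f : X ⟶ Y` finite étale of constant rank `n ≥ 1` onto a proper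
`k`-scheme of dimension `≤ 1` -/
theorem euler_of_finite_etale_aux : ∀ (n : ℕ) {X Y : Scheme.{u}}
    [X.Over (Spec (CommRingCat.of k))] [Y.Over (Spec (CommRingCat.of k))]
    [IsProper (Y ↘ Spec (CommRingCat.of k))] (_ : topologicalKrullDim Y ≤ 1)
    (f : X ⟶ Y) [IsFinite f] [Etale f]
    (_ : f ≫ (Y ↘ Spec (CommRingCat.of k)) = X ↘ Spec (CommRingCat.of k))
    (_ : ∀ y, f.finrank y = n + 1),
    Curv2.euler k X (Coh.structureModule X) =
      ((n : ℤ) + 1) * Curv2.euler k Y (Coh.structureModule Y) := by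
  intro n
  induction n with
  | zero =>
    intro X Y _ _ _ hdim f _ _ hf hn
    haveI : IsIso f := (Scheme.Hom.isIso_iff_finrank_eq f).mpr
      (funext fun y => by simpa using hn y)
    rw [euler_structure_of_isIso k f hf]
    simp
  | succ n ih =>
    intro X Y _ _ _ hdim f _ _ hf hn
    haveI hXp : IsProper (X ↘ Spec (CommRingCat.of k)) := by
      rw [← hf]; infer_instance
    have hdimX : topologicalKrullDim X ≤ 1 :=
      (Groth.Agent.Lib.helper9.VABC3.dim_le_of_isIntegralHom f).trans hdim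
    let q : pullback f f ⟶ X := pullback.snd f f
    let p : pullback f f ⟶ X := pullback.fst f f
    letI instZ : (pullback f f).Over (Spec (CommRingCat.of k)) :=
      ⟨q ≫ (X ↘ Spec (CommRingCat.of k))⟩
    haveI : IsProper ((pullback f f) ↘ Spec (CommRingCat.of k)) := by
      change IsProper (q ≫ (X ↘ Spec (CommRingCat.of k)))
      infer_instance
    have sq : IsPullback p q f f := IsPullback.of_hasPullback f f
    have hC := euler_fibreSquare k hdim f hf (n + 1 + 1) hn p q sq rfl
    let Δ : X ⟶ pullback f f := pullback.diagonal f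
    haveI : IsOpenImmersion Δ := inferInstance
    haveI : IsClosedImmersion Δ := inferInstance
    let D : (pullback f f).Opens := Δ.opensRange
    let D' : (pullback f f).Opens :=
      ⟨(Set.range Δ)ᶜ, Δ.isClosedEmbedding.isClosed_range.isOpen_compl⟩
    have hc : IsCompl D D' := by
      refine IsCompl.of_eq ?_ ?_
      · ext x
        simp only [D, D', Opens.coe_inf, Scheme.Hom.coe_opensRange, Opens.coe_mk, Opens.coe_bot,
          Set.inter_compl_self]
      · ext x
        simp only [D, D', Opens.coe_sup, Scheme.Hom.coe_opensRange, Opens.coe_mk, Opens.coe_top,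
          Set.union_compl_self]
    have hA := euler_of_isCompl k D D' hc
    have hqf : Groth.Agent.H1.FibRank.FinFib q := Groth.Agent.H1.FibRank.finFib_of_isFinite q
    have hdq : ∀ u', Groth.Agent.H1.FibRank.deg q u' = n + 1 + 1 := fun u' => by
      rw [Groth.Agent.H1.FibRank.deg_eq_finrank, Scheme.Hom.finrank_pullback_snd, hn]
    have hΔq : Δ ≫ q = 𝟙 _ := pullback.diagonal_snd f
    have hDq : D.ι ≫ q = Δ.isoOpensRange.inv := by
      rw [← cancel_epi Δ.isoOpensRange.hom, Iso.hom_inv_id, ← Category.assoc,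
        Scheme.Hom.isoOpensRange_hom_ι, hΔq]
    haveI : IsIso (D.ι ≫ q) := by rw [hDq]; infer_instance
    have hd1 : ∀ u', Groth.Agent.H1.FibRank.deg (D.ι ≫ q) u' = 1 := by
      intro u'
      rw [Groth.Agent.H1.FibRank.deg_eq_finrank, Scheme.Hom.finrank_eq_one_of_isIso]
      rfl
    haveI : IsClosedImmersion D'.ι :=
      Groth.Agent.H1.FibRank.isClosedImmersion_ι_of_isCompl D' D hc.symm
    haveI : IsFinite (D'.ι ≫ q) := inferInstance
    have hd' : ∀ u', (D'.ι ≫ q).finrank u' = n + 1 := by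
      intro u'
      have := Groth.Agent.H1.FibRank.deg_add_of_isCompl q hqf D D' hc u'
      rw [hdq, hd1, Groth.Agent.H1.FibRank.deg_eq_finrank] at this
      omega
    have hD : Curv2.euler k ↑D (Coh.structureModule ↑D) =
        Curv2.euler k X (Coh.structureModule X) :=
      euler_structure_of_isIso k (D.ι ≫ q) (Category.assoc _ _ _)
    have hD' : Curv2.euler k ↑D' (Coh.structureModule ↑D') =
        ((n : ℤ) + 1) * Curv2.euler k X (Coh.structureModule X) :=
      ih hdimX (D'.ι ≫ q) (Category.assoc _ _ _) hd'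
    rw [hD, hD'] at hA
    rw [hA] at hC
    push_cast at hC ⊢
    have h0 : ((n : ℤ) + 1 + 1) * (Curv2.euler k X (Coh.structureModule X) -
        ((n : ℤ) + 1 + 1) * Curv2.euler k Y (Coh.structureModule Y)) = 0 := by
      linear_combination (-1 : ℤ) * hC
    rcases mul_eq_zero.mp h0 with h | h
    · exfalso; omega
    · linarith

/-- `χ(O_X) = n χ(O_Y)` for `f` finite étale of constant rank `n ≥ 1` -/
theorem euler_of_finite_etale {X Y : Scheme.{u}}
    [X.Over (Spec (CommRingCat.of k))] [Y.Over (Spec (CommRingCat.of k))]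
    [IsProper (Y ↘ Spec (CommRingCat.of k))] (hdim : topologicalKrullDim Y ≤ 1)
    (f : X ⟶ Y) [IsFinite f] [Etale f]
    (hf : f ≫ (Y ↘ Spec (CommRingCat.of k)) = X ↘ Spec (CommRingCat.of k))
    (n : ℕ) (hn1 : 1 ≤ n) (hn : ∀ y, f.finrank y = n) :
    Curv2.euler k X (Coh.structureModule X) =
      (n : ℤ) * Curv2.euler k Y (Coh.structureModule Y) := by
  obtain ⟨m, rfl⟩ : ∃ m, n = m + 1 := ⟨n - 1, by omega⟩
  have := euler_of_finite_etale_aux k m hdim f hf hn
  push_cast
  exact this

end Main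

end Groth.Agent.Lib.helper8.EtaleEuler
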