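import Mathlib

/-!
# Adjoining a root of every monic polynomial (helper8)

`T A = A[X_P : P monic of positive degree] / (P(X_P))`.
* `aeval_root`, `isIntegral_T`: `T A` is integral over `A`;
* `comap_surjective`: `Spec T A → Spec A` is surjective;
* `residue`: for a prime `Q` of `T A` over `p`, `κ(Q)` is algebraically closed and integral over
  `κ(p)` (Gilmer/Isaacs: `IsAlgClosure.of_exists_root`).
-/

set_option autoImplicit false
universe u

namespace Groth.Agent.Lib.helper8.AdjoinRoots

open Polynomial

variable (A : Type u) [CommRing A]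

abbrev Idx := {P : Polynomial A // P.Monic ∧ 0 < P.natDegree}

noncomputable abbrev J : Ideal (MvPolynomial (Idx A) A) :=
  Ideal.span (Set.range fun P : Idx A => Polynomial.aeval (MvPolynomial.X (R := A) P) P.1)

noncomputable abbrev T := MvPolynomial (Idx A) A ⧸ J A

/-- the adjoined root of `P` -/
noncomputable def root (P : Idx A) : T A := Ideal.Quotient.mk (J A) (MvPolynomial.X P)

theorem aeval_root (P : Idx A) : Polynomial.aeval (root A P) P.1 = 0 := by
  have h : Polynomial.aeval (root A P) P.1 =
      Ideal.Quotient.mkₐ A (J A) (Polynomial.aeval (MvPolynomial.X (R := A) P) P.1) := by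
    rw [← Polynomial.aeval_algHom_apply]
    rfl
  rw [h]
  exact Ideal.Quotient.eq_zero_iff_mem.mpr (Ideal.subset_span ⟨P, rfl⟩)

theorem isIntegral_T : Algebra.IsIntegral A (T A) := by
  have htop : Algebra.adjoin A (Set.range (root A)) = ⊤ := by
    have h1 : (Algebra.adjoin A (Set.range
        (MvPolynomial.X : Idx A → MvPolynomial (Idx A) A))).map (Ideal.Quotient.mkₐ A (J A)) = ⊤ := by
      rw [MvPolynomial.adjoin_range_X, Algebra.map_top, AlgHom.range_eq_top]
      exact Ideal.Quotient.mkₐ_surjective A (J A)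
    rw [AlgHom.map_adjoin, ← Set.range_comp] at h1
    exact h1
  constructor
  intro z
  have hz : z ∈ Algebra.adjoin A (Set.range (root A)) := htop ▸ Algebra.mem_top
  have hle : Algebra.adjoin A (Set.range (root A)) ≤ integralClosure A (T A) := by
    apply Algebra.adjoin_le
    rintro _ ⟨P, rfl⟩
    exact ⟨P.1, P.2.1, aeval_root A P⟩
  exact hle hz

theorem comap_surjective :
    Function.Surjective (PrimeSpectrum.comap (algebraMap A (T A))) := by
  intro p
  let κ := p.asIdeal.ResidueField
  let Ω := AlgebraicClosure κ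
  have hroot : ∀ P : Idx A, ∃ r : Ω, Polynomial.aeval r P.1 = 0 := by
    intro P
    have hm : (P.1.map (algebraMap A Ω)).Monic := P.2.1.map _
    have hdeg : (P.1.map (algebraMap A Ω)).degree ≠ 0 := by
      have hn : (P.1.map (algebraMap A Ω)).natDegree = P.1.natDegree := P.2.1.natDegree_map _
      intro h0
      have := Polynomial.natDegree_eq_zero_iff_degree_le_zero.mpr h0.le
      rw [hn] at this
      exact absurd this P.2.2.ne'
    obtain ⟨r, hr⟩ := IsAlgClosed.exists_root _ hdeg
    exact ⟨r, by rwa [Polynomial.IsRoot, Polynomial.eval_map, ← Polynomial.aeval_def] at hr⟩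
  choose r hr using hroot
  let φ₀ : MvPolynomial (Idx A) A →ₐ[A] Ω := MvPolynomial.aeval r
  have hJ : ∀ a ∈ J A, φ₀ a = 0 := by
    intro a ha
    have hle : J A ≤ RingHom.ker φ₀.toRingHom := by
      rw [Ideal.span_le]
      rintro _ ⟨P, rfl⟩
      show φ₀ (Polynomial.aeval (MvPolynomial.X (R := A) P) P.1) = 0
      rw [← Polynomial.aeval_algHom_apply, MvPolynomial.aeval_X]
      exact hr P
    exact hle ha
  let φ : T A →ₐ[A] Ω := Ideal.Quotient.liftₐ (J A) φ₀ hJ
  refine ⟨⟨RingHom.ker φ.toRingHom, RingHom.ker_isPrime _⟩, ?_⟩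
  apply PrimeSpectrum.ext
  ext a
  show φ (algebraMap A (T A) a) = 0 ↔ a ∈ p.asIdeal
  rw [φ.commutes, IsScalarTower.algebraMap_apply A κ Ω, map_eq_zero_iff _ (algebraMap κ Ω).injective,
    Ideal.algebraMap_residueField_eq_zero]

section residue

variable {A}

/-- clearing denominators: a monic polynomial over `κ(p)` becomes, after scaling its roots by the
image of a suitable `b ∉ p`, the image of a monic polynomial over `A`. -/
theorem exists_scaleRoots_lifts (p : Ideal A) [p.IsPrime] (g : Polynomial p.ResidueField)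
    (hg : g.Monic) :
    ∃ b : A, b ∉ p ∧ ∃ P : Polynomial A, P.Monic ∧ P.natDegree = g.natDegree ∧
      P.map (algebraMap A p.ResidueField) = g.scaleRoots (algebraMap A p.ResidueField b) := by
  classical
  obtain ⟨b, hb⟩ := IsLocalization.exist_integer_multiples_of_finset (nonZeroDivisors (A ⧸ p))
    (g.support.image g.coeff)
  obtain ⟨b₀, hb₀⟩ := Ideal.Quotient.mk_surjective (b : A ⧸ p)
  have hb₀p : b₀ ∉ p := by
    intro h
    have : (b : A ⧸ p) = 0 := by rw [← hb₀]; exact Ideal.Quotient.eq_zero_iff_mem.mpr h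
    exact nonZeroDivisors.coe_ne_zero b this
  have hbc : algebraMap (A ⧸ p) p.ResidueField (b : A ⧸ p) = algebraMap A p.ResidueField b₀ := by
    rw [← hb₀]; rfl
  have hcoef : ∀ i, ∃ a : A, algebraMap A p.ResidueField a =
      algebraMap A p.ResidueField b₀ * g.coeff i := by
    intro i
    by_cases hi : i ∈ g.support
    · obtain ⟨d, hd⟩ := hb (g.coeff i) (Finset.mem_image_of_mem _ hi)
      obtain ⟨a, rfl⟩ := Ideal.Quotient.mk_surjective d
      refine ⟨a, ?_⟩
      rw [Algebra.smul_def, hbc] at hd
      rw [← hd]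
      rfl
    · refine ⟨0, ?_⟩
      rw [Polynomial.notMem_support_iff.mp hi, mul_zero, map_zero]
  refine ⟨b₀, hb₀p, ?_⟩
  have hlift : g.scaleRoots (algebraMap A p.ResidueField b₀) ∈
      Polynomial.lifts (algebraMap A p.ResidueField) := by
    rw [Polynomial.lifts_iff_coeff_lifts]
    intro i
    rw [Polynomial.coeff_scaleRoots]
    by_cases hi : i < g.natDegree
    · obtain ⟨a, ha⟩ := hcoef i
      obtain ⟨m, hm⟩ : ∃ m, g.natDegree - i = m + 1 := ⟨g.natDegree - i - 1, by omega⟩
      refine ⟨a * b₀ ^ m, ?_⟩
      rw [hm, pow_succ, map_mul, map_pow, ha]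
      ring
    · have e : g.natDegree - i = 0 := by omega
      rw [e, pow_zero, mul_one]
      rcases (not_lt.mp hi).eq_or_lt with h | h
      · refine ⟨1, ?_⟩
        rw [← h, map_one]
        exact hg.coeff_natDegree.symm
      · refine ⟨0, ?_⟩
        rw [map_zero, Polynomial.coeff_eq_zero_of_natDegree_lt h]
  obtain ⟨P, hPmap, hPdeg, hPmonic⟩ := Polynomial.lifts_and_natDegree_eq_and_monic hlift
    ((Polynomial.monic_scaleRoots_iff _).mpr hg)
  exact ⟨P, hPmonic, by rw [hPdeg, Polynomial.natDegree_scaleRoots], hPmap⟩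

/-- residue fields of `T A` are algebraic closures of the residue fields of `A` -/
theorem residue (A : Type u) [CommRing A] (Q : Ideal (T A)) [Q.IsPrime] :
    IsAlgClosed Q.ResidueField ∧
      (Ideal.ResidueField.map (Q.comap (algebraMap A (T A))) Q (algebraMap A (T A))
        rfl).IsIntegral := by
  set p : Ideal A := Q.comap (algebraMap A (T A)) with hp
  have hlies : Q.LiesOver p := ⟨rfl⟩
  letI := Localization.AtPrime.algebraOfLiesOver p Q
  have hint : Algebra.IsIntegral A (T A) := isIntegral_T A
  have halg : Algebra.IsAlgebraic p.ResidueField Q.ResidueField := inferInstance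
  have hmap : ∀ a : A, algebraMap p.ResidueField Q.ResidueField (algebraMap A p.ResidueField a) =
      algebraMap (T A) Q.ResidueField (algebraMap A (T A) a) := fun a =>
    Ideal.ResidueField.map_algebraMap p Q (algebraMap A (T A)) rfl a
  have htower : IsScalarTower A p.ResidueField Q.ResidueField := by
    refine IsScalarTower.of_algebraMap_eq fun a => ?_
    rw [hmap, ← IsScalarTower.algebraMap_apply]
  have hroots : ∀ g : Polynomial p.ResidueField, g.Monic → Irreducible g →
      ∃ x : Q.ResidueField, Polynomial.aeval x g = 0 := by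
    intro g hg hirr
    obtain ⟨b, hbp, P, hPm, hPd, hPmap⟩ := exists_scaleRoots_lifts p g hg
    have hpos : 0 < P.natDegree := by
      rw [hPd]; exact Polynomial.natDegree_pos_iff_degree_pos.mpr (Polynomial.degree_pos_of_irreducible hirr)
    let Pi : Idx A := ⟨P, hPm, hpos⟩
    let y : Q.ResidueField := algebraMap (T A) Q.ResidueField (root A Pi)
    have hy : Polynomial.aeval y P = 0 := by
      rw [Polynomial.aeval_algebraMap_apply, aeval_root A Pi, map_zero]
    have hy' : Polynomial.aeval y (g.scaleRoots (algebraMap A p.ResidueField b)) = 0 := by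
      rw [← hPmap, Polynomial.aeval_map_algebraMap]
      exact hy
    set c := algebraMap A p.ResidueField b with hc
    have hc0 : c ≠ 0 := by
      rw [hc, Ne, Ideal.algebraMap_residueField_eq_zero]
      exact hbp
    have h2 := Polynomial.scaleRoots_aeval_eq_zero (r := c⁻¹) hy'
    rw [← Polynomial.scaleRoots_mul, mul_inv_cancel₀ hc0, Polynomial.scaleRoots_one] at h2
    exact ⟨_, h2⟩
  have hcl : IsAlgClosure p.ResidueField Q.ResidueField := IsAlgClosure.of_exists_root hroots
  refine ⟨hcl.isAlgClosed, ?_⟩
  have : Algebra.IsIntegral p.ResidueField Q.ResidueField := inferInstance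
  intro z
  exact (Algebra.IsIntegral.isIntegral z : IsIntegral p.ResidueField z)

end residue

end Groth.Agent.Lib.helper8.AdjoinRoots
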