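import Mathlib
import Groth.Agent.Lib.Helper8.AdjoinRoots

/-!
# Every commutative ring embeds into an absolutely integrally closed ring (helper8)

* `algebraMap_T_injective`: `A → T A` (adjoin a root of every monic polynomial) is injective;
* `tower A`, `B A = colim_n T^n A`;
* `exists_root`: every monic polynomial of positive degree over `B A` has a root;
* `exists_multiset_of_forall_root`: a ring in which monic polynomials of positive degree have roots
  is absolutely integrally closed;
* `main`: the statement.
-/

set_option autoImplicit false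
universe u

namespace Groth.Agent.Lib.helper8.AbsIntClosed

open Polynomial CategoryTheory CategoryTheory.Limits
open Groth.Agent.Lib.helper8.AdjoinRoots

section finite

variable (A : Type u) [CommRing A]

theorem of_injective_of_monic {C : Type u} [CommRing C] (f : C[X]) (hf : f.Monic)
    (hdeg : 0 < f.natDegree) : Function.Injective (AdjoinRoot.of f) := by
  rw [injective_iff_map_eq_zero]
  intro c hc
  rcases subsingleton_or_nontrivial C with h | h
  · exact Subsingleton.elim _ _
  · have h1 : f ∣ Polynomial.C c := AdjoinRoot.mk_eq_zero.mp hc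
    by_contra hne
    refine hf.not_dvd_of_natDegree_lt ?_ ?_ h1
    · intro h0
      exact hne (Polynomial.C_eq_zero.mp h0)
    · rw [Polynomial.natDegree_C]
      exact hdeg

theorem exists_ext_of_finset (s : Finset (Idx A)) :
    ∃ (C : Type u) (_ : CommRing C) (_ : Algebra A C), Function.Injective (algebraMap A C) ∧
      ∀ P ∈ s, ∃ r : C, Polynomial.aeval r P.1 = 0 := by
  classical
  induction s using Finset.induction_on with
  | empty => exact ⟨A, inferInstance, inferInstance, Function.injective_id, by simp⟩
  | insert P s hP ih =>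
    obtain ⟨C, _, _, hinj, hr⟩ := ih
    let f : C[X] := P.1.map (algebraMap A C)
    have hf : f.Monic := P.2.1.map _
    rcases subsingleton_or_nontrivial C with hC | hC
    · -- then `A` is trivial and `C` works
      refine ⟨C, inferInstance, inferInstance, hinj, fun Q _ => ⟨0, Subsingleton.elim _ _⟩⟩
    · have hdeg : 0 < f.natDegree := by
        rw [P.2.1.natDegree_map]
        exact P.2.2
      refine ⟨AdjoinRoot f, inferInstance, inferInstance, ?_, ?_⟩
      · rw [AdjoinRoot.algebraMap_eq']
        exact (of_injective_of_monic f hf hdeg).comp hinj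
      · intro Q hQ
        rcases Finset.mem_insert.mp hQ with rfl | hQ
        · refine ⟨AdjoinRoot.root f, ?_⟩
          have h1 : Polynomial.aeval (AdjoinRoot.root f) Q.1 =
              Polynomial.eval₂ (AdjoinRoot.of f) (AdjoinRoot.root f) f := by
            rw [Polynomial.aeval_def, Polynomial.eval₂_map, AdjoinRoot.algebraMap_eq']
          rw [h1, AdjoinRoot.eval₂_root]
        · obtain ⟨r, hr'⟩ := hr Q hQ
          refine ⟨AdjoinRoot.of f r, ?_⟩
          have h1 : Polynomial.aeval (AdjoinRoot.of f r) Q.1 =
              AdjoinRoot.of f (Polynomial.aeval r Q.1) := by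
            rw [Polynomial.aeval_def, Polynomial.aeval_def, Polynomial.hom_eval₂,
              AdjoinRoot.algebraMap_eq']
          rw [h1, hr', map_zero]

theorem algebraMap_T_injective : Function.Injective (algebraMap A (T A)) := by
  classical
  rw [injective_iff_map_eq_zero]
  intro a ha
  have hmem : (MvPolynomial.C a : MvPolynomial (Idx A) A) ∈ J A :=
    Ideal.Quotient.eq_zero_iff_mem.mp ha
  obtain ⟨t, ht, hat⟩ := Submodule.mem_span_finite_of_mem_span hmem
  have hex : ∀ x ∈ t, ∃ P : Idx A,
      Polynomial.aeval (MvPolynomial.X (R := A) P) P.1 = x := fun x hx => ht hx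
  choose idx hidx using hex
  let s : Finset (Idx A) := t.attach.image (fun x : {x // x ∈ t} => idx x.1 x.2)
  obtain ⟨C', _, _, hinj, hr⟩ := exists_ext_of_finset A s
  choose! r hr using hr
  let φ : MvPolynomial (Idx A) A →ₐ[A] C' := MvPolynomial.aeval r
  have hle : Submodule.span (MvPolynomial (Idx A) A) (t : Set (MvPolynomial (Idx A) A)) ≤
      RingHom.ker φ.toRingHom := by
    rw [Submodule.span_le]
    intro x hx
    have hx' : x ∈ t := hx
    show φ x = 0
    rw [← hidx x hx', ← Polynomial.aeval_algHom_apply, MvPolynomial.aeval_X]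
    exact hr _ (Finset.mem_image.mpr ⟨(⟨x, hx'⟩ : {x // x ∈ t}), Finset.mem_attach _ _, rfl⟩)
  have h0 : φ (MvPolynomial.C a) = 0 := hle hat
  rw [MvPolynomial.algHom_C] at h0
  exact hinj (h0.trans (map_zero _).symm)

end finite

section tower

noncomputable def TC (R : CommRingCat.{u}) : CommRingCat.{u} := CommRingCat.of (T R)

noncomputable def toTC (R : CommRingCat.{u}) : R ⟶ TC R :=
  CommRingCat.ofHom (algebraMap R (T R))

variable (A : CommRingCat.{u})

noncomputable def towerObj : ℕ → CommRingCat.{u}
  | 0 => A
  | n + 1 => TC (towerObj n)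

noncomputable def towerMap (n : ℕ) : towerObj A n ⟶ towerObj A (n + 1) := toTC _

noncomputable def tower : ℕ ⥤ CommRingCat.{u} := Functor.ofSequence (towerMap A)

noncomputable abbrev B : CommRingCat.{u} := colimit (tower A)

instance presCol (F : ℕ ⥤ CommRingCat.{u}) : PreservesColimit F (forget CommRingCat.{u}) := by
  haveI : PreservesFilteredColimitsOfSize.{0, 0} (forget CommRingCat.{u}) :=
    preservesSmallestFilteredColimits_of_preservesFilteredColimits.{u, u} _
  infer_instance

theorem tower_map_succ (n : ℕ) :
    (tower A).map (homOfLE (Nat.le_succ n)) = towerMap A n :=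
  Functor.ofSequence_map_homOfLE_succ _ n

theorem tower_map_injective {n k : ℕ} (h : n ⟶ k) :
    Function.Injective ((tower A).map h).hom := by
  have hnk : n ≤ k := leOfHom h
  obtain rfl : h = homOfLE hnk := Subsingleton.elim _ _
  induction k, hnk using Nat.le_induction with
  | base =>
    have : homOfLE (le_refl n) = 𝟙 n := Subsingleton.elim _ _
    rw [this, CategoryTheory.Functor.map_id]
    exact Function.injective_id
  | succ k hk ih =>
    have : homOfLE (hk.trans (Nat.le_succ k)) = homOfLE hk ≫ homOfLE (Nat.le_succ k) :=
      Subsingleton.elim _ _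
    rw [this, CategoryTheory.Functor.map_comp, tower_map_succ]
    exact (algebraMap_T_injective (towerObj A k)).comp ih

theorem ι_injective (n : ℕ) : Function.Injective (colimit.ι (tower A) n).hom := by
  rw [injective_iff_map_eq_zero]
  intro x hx
  have h : colimit.ι (tower A) n x = colimit.ι (tower A) n (0 : (tower A).obj n) :=
    hx.trans (map_zero (colimit.ι (tower A) n).hom).symm
  obtain ⟨k, f, g, hfg⟩ := (Concrete.colimit_rep_eq_iff_exists (tower A) x 0).mp h
  obtain rfl : f = g := Subsingleton.elim _ _
  exact tower_map_injective A f (hfg.trans ((map_zero ((tower A).map f).hom).trans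
    (map_zero ((tower A).map f).hom).symm))

theorem exists_rep (x : B A) : ∃ (n : ℕ) (y : (tower A).obj n), colimit.ι (tower A) n y = x :=
  Concrete.colimit_exists_rep (tower A) x

theorem ι_map {n k : ℕ} (h : n ⟶ k) (y : (tower A).obj n) :
    colimit.ι (tower A) k ((tower A).map h y) = colimit.ι (tower A) n y := by
  have := colimit.w (tower A) h
  exact congrArg (fun φ => φ y) this

theorem exists_common_stage (s : Finset (B A)) :
    ∃ N : ℕ, ∀ x ∈ s, x ∈ Set.range (colimit.ι (tower A) N).hom := by
  classical
  induction s using Finset.induction_on with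
  | empty => exact ⟨0, by simp⟩
  | insert x s hx ih =>
    obtain ⟨N, hN⟩ := ih
    obtain ⟨n, y, hy⟩ := exists_rep A x
    refine ⟨max N n, ?_⟩
    intro z hz
    rcases Finset.mem_insert.mp hz with rfl | hz
    · exact ⟨(tower A).map (homOfLE (le_max_right N n)) y, (ι_map A _ y).trans hy⟩
    · obtain ⟨w, hw⟩ := hN z hz
      exact ⟨(tower A).map (homOfLE (le_max_left N n)) w, (ι_map A _ w).trans hw⟩

theorem exists_root (f : (B A)[X]) (hf : f.Monic) (hdeg : 0 < f.natDegree) :
    ∃ b : B A, f.IsRoot b := by
  classical
  obtain ⟨N, hN⟩ := exists_common_stage A f.coeffs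
  have hlift : f ∈ Polynomial.lifts (colimit.ι (tower A) N).hom := by
    rw [Polynomial.lifts_iff_coeff_lifts]
    intro i
    by_cases hi : f.coeff i = 0
    · exact ⟨0, (map_zero _).trans hi.symm⟩
    · exact hN _ (Polynomial.coeff_mem_coeffs hi)
  obtain ⟨q, hq, hqdeg, hqm⟩ := Polynomial.lifts_and_natDegree_eq_and_monic hlift hf
  let P : Idx ((tower A).obj N) := ⟨q, hqm, hqdeg ▸ hdeg⟩
  let r : (tower A).obj (N + 1) := root ((tower A).obj N) P
  have hr : Polynomial.eval₂ ((tower A).map (homOfLE (Nat.le_succ N))).hom r q = 0 := by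
    have h1 := aeval_root ((tower A).obj N) P
    rw [Polynomial.aeval_def] at h1
    rw [tower_map_succ]
    exact h1
  refine ⟨colimit.ι (tower A) (N + 1) r, ?_⟩
  have hι : (colimit.ι (tower A) N).hom =
      (colimit.ι (tower A) (N + 1)).hom.comp ((tower A).map (homOfLE (Nat.le_succ N))).hom := by
    have h1 := colimit.w (tower A) (homOfLE (Nat.le_succ N))
    have h2 := congrArg CommRingCat.Hom.hom h1
    rw [CommRingCat.hom_comp] at h2
    exact h2.symm
  rw [Polynomial.IsRoot, ← hq, Polynomial.eval_map, hι, ← Polynomial.hom_eval₂, hr, map_zero]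

end tower

section split

variable {R : Type u} [CommRing R]

theorem exists_multiset_of_forall_root
    (h : ∀ f : R[X], f.Monic → 0 < f.natDegree → ∃ b : R, f.IsRoot b) :
    ∀ f : R[X], f.Monic → ∃ s : Multiset R, f = (s.map fun b => X - C b).prod := by
  rcases subsingleton_or_nontrivial R with hR | hR
  · intro f _
    exact ⟨0, Subsingleton.elim _ _⟩
  · suffices H : ∀ (d : ℕ) (f : R[X]), f.Monic → f.natDegree = d →
        ∃ s : Multiset R, f = (s.map fun b => X - C b).prod from
      fun f hf => H _ f hf rfl
    intro d
    induction d with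
    | zero =>
      intro f hf hd
      refine ⟨0, ?_⟩
      rw [Multiset.map_zero, Multiset.prod_zero]
      exact (Polynomial.Monic.natDegree_eq_zero hf).mp hd
    | succ d ih =>
      intro f hf hd
      obtain ⟨b, hb⟩ := h f hf (by omega)
      have hmul : (X - C b) * (f /ₘ (X - C b)) = f := Polynomial.mul_divByMonic_eq_iff_isRoot.mpr hb
      have hg : (f /ₘ (X - C b)).Monic :=
        (Polynomial.monic_X_sub_C b).of_mul_monic_left (by rw [hmul]; exact hf)
      have hgd : (f /ₘ (X - C b)).natDegree = d := by
        have := (Polynomial.monic_X_sub_C b).natDegree_mul hg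
        rw [hmul, hd, Polynomial.natDegree_X_sub_C] at this
        omega
      obtain ⟨s, hs⟩ := ih _ hg hgd
      refine ⟨b ::ₘ s, ?_⟩
      rw [Multiset.map_cons, Multiset.prod_cons, ← hs, hmul]

end split

/-- **Every commutative ring embeds into an absolutely integrally closed ring.** -/
theorem main (A : Type u) [CommRing A] :
    ∃ (B : Type u) (_ : CommRing B) (_ : Algebra A B), Function.Injective (algebraMap A B) ∧
      ∀ f : B[X], f.Monic → ∃ s : Multiset B, f = (s.map fun b => X - C b).prod := by
  refine ⟨B (CommRingCat.of A), inferInstance,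
    (colimit.ι (tower (CommRingCat.of A)) 0).hom.toAlgebra, ?_, ?_⟩
  · exact ι_injective (CommRingCat.of A) 0
  · exact exists_multiset_of_forall_root (exists_root (CommRingCat.of A))

end Groth.Agent.Lib.helper8.AbsIntClosed
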