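import Mathlib

/-!
# Exactness of adic completion under a "shifted strictness" hypothesis

If `f : M → N` is injective, `g : N → P` surjective, `Exact f g`, and there is `k` with
`I ^ (k + n) • ⊤ ⊓ range f ≤ map f (I ^ n • ⊤)` for all `n`, then
`AdicCompletion.map I f` is injective and `Exact (map I f) (map I g)`.
No Noetherian / finiteness hypotheses.
-/

set_option autoImplicit false

namespace Groth.Agent.Lib.Helper8.AdicExact

open AdicCompletion LinearMap

universe u v w t

variable {R : Type u} [CommRing R] (I : Ideal R)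
variable {M : Type v} [AddCommGroup M] [Module R M]
variable {N : Type w} [AddCommGroup N] [Module R N]
variable {P : Type t} [AddCommGroup P] [Module R P]

theorem map_injective_of_shift {f : M →ₗ[R] N} (hf : Function.Injective f) (k : ℕ)
    (hk : ∀ n, (I ^ (k + n) • ⊤ : Submodule R N) ⊓ range f ≤
      Submodule.map f (I ^ n • ⊤ : Submodule R M)) :
    Function.Injective (AdicCompletion.map I f) := by
  rw [← LinearMap.ker_eq_bot, LinearMap.ker_eq_bot']
  intro x
  apply AdicCompletion.induction_on I M x (fun a ↦ ?_)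
  intro hx
  refine AdicCompletion.mk_zero_of _ _ _ ⟨42, fun n _ ↦ ⟨k + n, by lia, n, by lia, ?_⟩⟩
  rw [← Submodule.comap_map_eq_of_injective hf (I ^ n • ⊤ : Submodule R M)]
  apply hk n
  exact ⟨by simpa using congrArg (fun x ↦ x.val (k + n)) hx, ⟨a (k + n), rfl⟩⟩

theorem map_exact_of_shift {f : M →ₗ[R] N} {g : N →ₗ[R] P} (hf : Function.Injective f)
    (hfg : Function.Exact f g) (hg : Function.Surjective g) (k : ℕ)
    (hk : ∀ n, (I ^ (k + n) • ⊤ : Submodule R N) ⊓ range f ≤
      Submodule.map f (I ^ n • ⊤ : Submodule R M)) :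
    Function.Exact (AdicCompletion.map I f) (AdicCompletion.map I g) := by
  refine LinearMap.exact_of_comp_eq_zero_of_ker_le_range ?_ (fun y ↦ ?_)
  · rw [map_comp, hfg.linearMap_comp_eq_zero, AdicCompletion.map_zero]
  · apply AdicCompletion.induction_on I N y (fun b ↦ ?_)
    intro hz
    have hb (n : ℕ) : g (b n) ∈ (I ^ n • ⊤ : Submodule R P) := by
      simpa using congrArg (fun x ↦ x.val n) hz
    have h2 (n : ℕ) : ∃ y : M, f y - b (k + n) ∈ (I ^ (k + n) • ⊤ : Submodule R N) := by
      have h1 : g (b (k + n)) ∈ Submodule.map g (I ^ (k + n) • ⊤ : Submodule R N) := by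
        rw [Submodule.map_smul'', Submodule.map_top, range_eq_top.mpr hg]
        exact hb (k + n)
      obtain ⟨d, hdmem, hd⟩ := h1
      obtain ⟨y, hdy⟩ := (hfg (b (k + n) - d)).mp (by simp [hd])
      refine ⟨y, ?_⟩
      rw [hdy, sub_sub_cancel_left]
      exact neg_mem hdmem
    choose a ha using h2
    have hcauchy : ∀ n, a n ≡ a (n + 1) [SMOD (I ^ n • ⊤ : Submodule R M)] := by
      intro n
      rw [SModEq.sub_mem, ← Submodule.comap_map_eq_of_injective hf (I ^ n • ⊤ : Submodule R M)]
      apply hk n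
      refine ⟨?_, ⟨a n - a (n + 1), rfl⟩⟩
      have h3 : b (k + n) - b (k + (n + 1)) ∈ (I ^ (k + n) • ⊤ : Submodule R N) := by
        rw [← SModEq.sub_mem]
        exact b.property (by lia)
      have h4 : f (a (n + 1)) - b (k + (n + 1)) ∈ (I ^ (k + n) • ⊤ : Submodule R N) :=
        (Submodule.smul_mono_left (Ideal.pow_le_pow_right (by lia))) (ha (n + 1))
      have : f (a n - a (n + 1)) = (f (a n) - b (k + n)) + (b (k + n) - b (k + (n + 1)))
          - (f (a (n + 1)) - b (k + (n + 1))) := by
        rw [map_sub]; abel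
      rw [this]
      exact sub_mem (add_mem (ha n) h3) h4
    refine ⟨AdicCompletion.mk I M (AdicCauchySequence.mk I M a hcauchy), ?_⟩
    ext n
    suffices h : Submodule.Quotient.mk (p := (I ^ n • ⊤ : Submodule R N)) (f (a n)) =
          Submodule.Quotient.mk (p := (I ^ n • ⊤ : Submodule R N)) (b (k + n)) by
      simp [h, AdicCauchySequence.mk_eq_mk (show n ≤ k + n by lia)]
    rw [Submodule.Quotient.eq]
    have hle : (I ^ (k + n) • ⊤ : Submodule R N) ≤ (I ^ n • ⊤ : Submodule R N) :=
      Submodule.smul_mono_left (Ideal.pow_le_pow_right (by lia))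
    exact hle (ha n)

end Groth.Agent.Lib.Helper8.AdicExact
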