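import Mathlib.RingTheory.Filtration
import Mathlib.RingTheory.Ideal.Operations
import Mathlib.Algebra.Exact.Basic

/-!
Artin–Rees and congruent maps (Stacks 07VF).
-/

set_option autoImplicit false
universe u

namespace Groth.Agent.Lib.helper8

section
variable {A : Type u} [CommRing A] (I : Ideal A)
  {L M N : Type u} [AddCommGroup L] [Module A L] [AddCommGroup M] [Module A M]
  [AddCommGroup N] [Module A N]

/-- a linear map with values in `I^(c+1) N` raises the `I`-adic filtration by `c+1`. -/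
theorem ar_shift (h : M →ₗ[A] N) (c : ℕ) (hh : ∀ x, h x ∈ I ^ (c + 1) • (⊤ : Submodule A N))
    (k : ℕ) (a : M) (ha : a ∈ I ^ k • (⊤ : Submodule A M)) :
    h a ∈ I ^ (k + c + 1) • (⊤ : Submodule A N) := by
  refine Submodule.smul_induction_on ha ?_ ?_
  · intro r hr n _
    rw [map_smul, add_assoc, pow_add, Submodule.mul_smul]
    exact Submodule.smul_mem_smul hr (hh n)
  · intro x y hx hy
    rw [map_add]
    exact add_mem hx hy

theorem ar_pow_le {k l : ℕ} (hkl : k ≤ l) :
    I ^ l • (⊤ : Submodule A M) ≤ I ^ k • (⊤ : Submodule A M) :=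
  Submodule.smul_mono_left (Ideal.pow_le_pow_right hkl)

variable (f f' : L →ₗ[A] M) (g g' : M →ₗ[A] N) (c : ℕ)

/-- the adjusting step -/
theorem ar_step
    (hf : ∀ n : ℕ, c ≤ n → LinearMap.range f ⊓ (I ^ n • (⊤ : Submodule A M)) ≤
      Submodule.map f (I ^ (n - c) • (⊤ : Submodule A L)))
    (hg : ∀ n : ℕ, c ≤ n → LinearMap.range g ⊓ (I ^ n • (⊤ : Submodule A N)) ≤
      Submodule.map g (I ^ (n - c) • (⊤ : Submodule A M)))
    (hex : Function.Exact f g)
    (hff' : ∀ x : L, f x - f' x ∈ I ^ (c + 1) • (⊤ : Submodule A M))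
    (hgg' : ∀ y : M, g y - g' y ∈ I ^ (c + 1) • (⊤ : Submodule A N))
    (n r : ℕ) (hr : r + c + 1 ≤ n) (a : M) (ha : a ∈ I ^ r • (⊤ : Submodule A M))
    (hga : g' a ∈ I ^ n • (⊤ : Submodule A N)) :
    ∃ b : L, a - f' b ∈ I ^ (r + 1) • (⊤ : Submodule A M) := by
  have h1 : (g - g') a ∈ I ^ (r + c + 1) • (⊤ : Submodule A N) :=
    ar_shift I (g - g') c (fun x => by simpa using hgg' x) r a ha
  have h2 : g a ∈ I ^ (r + c + 1) • (⊤ : Submodule A N) := by
    have : g a = g' a + (g - g') a := by simp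
    rw [this]
    exact add_mem (ar_pow_le I hr hga) h1
  have h3 := hg (r + c + 1) (by omega) ⟨⟨a, rfl⟩, h2⟩
  rw [show r + c + 1 - c = r + 1 by omega] at h3
  obtain ⟨a₁, ha₁, hga₁⟩ := h3
  have h4 : g (a - a₁) = 0 := by rw [map_sub, hga₁, sub_self]
  obtain ⟨b, hb⟩ := (hex (a - a₁)).mp h4
  have hfb : f b ∈ I ^ r • (⊤ : Submodule A M) := by
    rw [hb]
    exact sub_mem ha (ar_pow_le I (Nat.le_succ r) ha₁)
  by_cases hrc : c ≤ r
  · obtain ⟨b', hb', hfb'⟩ := hf r hrc ⟨⟨b, rfl⟩, hfb⟩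
    refine ⟨b', ?_⟩
    have h5 : (f - f') b' ∈ I ^ (r - c + c + 1) • (⊤ : Submodule A M) :=
      ar_shift I (f - f') c (fun x => by simpa using hff' x) (r - c) b' hb'
    rw [show r - c + c + 1 = r + 1 by omega] at h5
    have : a - f' b' = a₁ + (f - f') b' := by
      simp only [LinearMap.sub_apply]
      rw [hfb', hb]
      abel
    rw [this]
    exact add_mem ha₁ h5
  · refine ⟨b, ?_⟩
    have h5 : (f - f') b ∈ I ^ (r + 1) • (⊤ : Submodule A M) :=
      ar_pow_le I (k := r + 1) (l := c + 1) (by omega) (by simpa using hff' b)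
    have : a - f' b = a₁ + (f - f') b := by
      simp only [LinearMap.sub_apply]
      rw [hb]
      abel
    rw [this]
    exact add_mem ha₁ h5

/-- key lemma: `g'⁻¹(I^n N) ⊆ f'(L) + I^r M` for `r + c ≤ n`. -/
theorem ar_key
    (hgf' : g'.comp f' = 0)
    (hf : ∀ n : ℕ, c ≤ n → LinearMap.range f ⊓ (I ^ n • (⊤ : Submodule A M)) ≤
      Submodule.map f (I ^ (n - c) • (⊤ : Submodule A L)))
    (hg : ∀ n : ℕ, c ≤ n → LinearMap.range g ⊓ (I ^ n • (⊤ : Submodule A N)) ≤
      Submodule.map g (I ^ (n - c) • (⊤ : Submodule A M)))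
    (hex : Function.Exact f g)
    (hff' : ∀ x : L, f x - f' x ∈ I ^ (c + 1) • (⊤ : Submodule A M))
    (hgg' : ∀ y : M, g y - g' y ∈ I ^ (c + 1) • (⊤ : Submodule A N))
    (n r : ℕ) (hr : r + c ≤ n) (a : M) (hga : g' a ∈ I ^ n • (⊤ : Submodule A N)) :
    ∃ b : L, a - f' b ∈ I ^ r • (⊤ : Submodule A M) := by
  induction r with
  | zero => exact ⟨0, by simp⟩
  | succ r ih =>
    obtain ⟨b₀, hb₀⟩ := ih (by omega)
    have hga₀ : g' (a - f' b₀) ∈ I ^ n • (⊤ : Submodule A N) := by
      have : g' (f' b₀) = 0 := by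
        have := congrArg (fun h => h b₀) hgf'
        simpa using this
      rw [map_sub, this, sub_zero]
      exact hga
    obtain ⟨b₁, hb₁⟩ := ar_step I f f' g g' c hf hg hex hff' hgg' n r (by omega) _ hb₀ hga₀
    refine ⟨b₀ + b₁, ?_⟩
    have : a - f' (b₀ + b₁) = a - f' b₀ - f' b₁ := by rw [map_add]; abel
    rw [this]
    exact hb₁

/-- Stacks 07VF -/
theorem artinRees_congruent [IsNoetherianRing A] [Module.Finite A M]
    (hI : I ≤ Ideal.jacobson (⊥ : Ideal A))
    (hgf' : g'.comp f' = 0)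
    (hf : ∀ n : ℕ, c ≤ n → LinearMap.range f ⊓ (I ^ n • (⊤ : Submodule A M)) ≤
      Submodule.map f (I ^ (n - c) • (⊤ : Submodule A L)))
    (hg : ∀ n : ℕ, c ≤ n → LinearMap.range g ⊓ (I ^ n • (⊤ : Submodule A N)) ≤
      Submodule.map g (I ^ (n - c) • (⊤ : Submodule A M)))
    (hex : Function.Exact f g)
    (hff' : ∀ x : L, f x - f' x ∈ I ^ (c + 1) • (⊤ : Submodule A M))
    (hgg' : ∀ y : M, g y - g' y ∈ I ^ (c + 1) • (⊤ : Submodule A N)) :
    (∀ n : ℕ, c ≤ n → LinearMap.range g' ⊓ (I ^ n • (⊤ : Submodule A N)) ≤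
      Submodule.map g' (I ^ (n - c) • (⊤ : Submodule A M))) ∧
    Function.Exact f' g' := by
  have hgf'0 : ∀ b, g' (f' b) = 0 := fun b => by
    have := congrArg (fun h => h b) hgf'
    simpa using this
  constructor
  · rintro n hn _ ⟨⟨a, rfl⟩, hga⟩
    obtain ⟨b, hb⟩ := ar_key I f f' g g' c hgf' hf hg hex hff' hgg' n (n - c) (by omega) a hga
    refine ⟨a - f' b, hb, ?_⟩
    rw [map_sub, hgf'0, sub_zero]
  · intro a
    constructor
    · intro hga
      -- Krull intersection in M ⧸ range f'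
      set Q := M ⧸ LinearMap.range f' with hQ
      have hmem : (LinearMap.range f').mkQ a ∈ (⨅ i : ℕ, I ^ i • (⊤ : Submodule A Q)) := by
        rw [Submodule.mem_iInf]
        intro r
        obtain ⟨b, hb⟩ := ar_key I f f' g g' c hgf' hf hg hex hff' hgg' (r + c) r le_rfl a
          (by rw [hga]; exact zero_mem _)
        have h1 : (LinearMap.range f').mkQ a = (LinearMap.range f').mkQ (a - f' b) := by
          rw [map_sub]
          have : (LinearMap.range f').mkQ (f' b) = 0 := by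
            rw [Submodule.mkQ_apply, Submodule.Quotient.mk_eq_zero]
            exact ⟨b, rfl⟩
          rw [this, sub_zero]
        rw [h1]
        have h2 : Submodule.map (LinearMap.range f').mkQ (I ^ r • (⊤ : Submodule A M)) =
            I ^ r • (⊤ : Submodule A Q) := by
          rw [Submodule.map_smul'', Submodule.map_top, Submodule.range_mkQ]
        rw [← h2]
        exact ⟨_, hb, rfl⟩
      rw [Ideal.iInf_pow_smul_eq_bot_of_le_jacobson I hI, Submodule.mem_bot,
        Submodule.mkQ_apply, Submodule.Quotient.mk_eq_zero] at hmem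
      exact hmem
    · rintro ⟨b, rfl⟩
      exact hgf'0 b

end

end Groth.Agent.Lib.helper8
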