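import Mathlib

/-!
# Beauville–Laszlo glueing data: ring part and points of quasi-affine schemes (helper8)

`φ : A → A'`, `t ∈ A` with `A/t^m ≃ A'/t^m` for all `m` and `φ` bijective on `t`-power torsion.
* `inj`: `A → A' × A_t` is injective;
* `glue`: `A = A' ×_{A'_t} A_t`;
* `cover`: `Spec A' ⊔ Spec A_t → Spec A` is surjective;
* `points`: the statement for sections of a quasi-affine scheme over `Spec A`.
-/

set_option autoImplicit false
universe u

namespace Groth.Agent.Lib.helper8.BLGlue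

open CategoryTheory AlgebraicGeometry

section ring

variable {A A' : Type u} [CommRing A] [CommRing A'] (φ : A →+* A') (t : A)

theorem map_span_pow (m : ℕ) :
    Ideal.map φ (Ideal.span {t} ^ m) = Ideal.span {φ t ^ m} := by
  rw [Ideal.span_singleton_pow, Ideal.map_span, Set.image_singleton, map_pow]

variable (hq : ∀ m : ℕ, Function.Bijective
    (Ideal.quotientMap (Ideal.map φ (Ideal.span {t} ^ m)) φ Ideal.le_comap_map))
  (htor : ∀ a' : A', (∃ m : ℕ, φ t ^ m * a' = 0) →
    ∃! a : A, (∃ m : ℕ, t ^ m * a = 0) ∧ φ a = a')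

include hq in
theorem hq_surj (m : ℕ) (a' : A') : ∃ (a₀ : A) (d' : A'), a' = φ a₀ + φ t ^ m * d' := by
  obtain ⟨x, hx⟩ := (hq m).2 (Ideal.Quotient.mk _ a')
  obtain ⟨a₀, rfl⟩ := Ideal.Quotient.mk_surjective x
  rw [Ideal.quotientMap_mk, Ideal.Quotient.eq, map_span_pow, Ideal.mem_span_singleton'] at hx
  obtain ⟨d, hd⟩ := hx
  exact ⟨a₀, -d, by linear_combination hd⟩

include hq in
theorem hq_inj (m : ℕ) (a : A) (d' : A') (h : φ a = φ t ^ m * d') : ∃ e : A, a = t ^ m * e := by
  have h0 : Ideal.quotientMap (Ideal.map φ (Ideal.span {t} ^ m)) φ Ideal.le_comap_map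
      (Ideal.Quotient.mk _ a) = 0 := by
    rw [Ideal.quotientMap_mk, Ideal.Quotient.eq_zero_iff_mem, map_span_pow,
      Ideal.mem_span_singleton']
    exact ⟨d', by rw [h]; ring⟩
  have h1 := (hq m).1 (h0.trans (map_zero _).symm)
  rw [Ideal.Quotient.eq_zero_iff_mem, Ideal.span_singleton_pow, Ideal.mem_span_singleton'] at h1
  obtain ⟨e, he⟩ := h1
  exact ⟨e, by rw [← he]; ring⟩

theorem algebraMap_eq_zero_iff (a : A) :
    algebraMap A (Localization.Away t) a = 0 ↔ ∃ n : ℕ, t ^ n * a = 0 := by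
  rw [IsLocalization.map_eq_zero_iff (Submonoid.powers t)]
  constructor
  · rintro ⟨⟨_, n, rfl⟩, h⟩
    exact ⟨n, h⟩
  · rintro ⟨n, h⟩
    exact ⟨⟨t ^ n, n, rfl⟩, h⟩

include htor in
theorem inj (a : A) (h1 : φ a = 0) (h2 : algebraMap A (Localization.Away t) a = 0) : a = 0 := by
  obtain ⟨a₀, -, huniq⟩ := htor 0 ⟨0, by simp⟩
  rw [algebraMap_eq_zero_iff] at h2
  rw [huniq a ⟨h2, h1⟩, huniq 0 ⟨⟨0, by simp⟩, map_zero φ⟩]

include hq htor in
theorem glue (a' : A') (b : Localization.Away t)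
    (h : algebraMap A' (Localization.Away (φ t)) a' = Localization.awayMap φ t b) :
    ∃ a : A, φ a = a' ∧ algebraMap A (Localization.Away t) a = b := by
  obtain ⟨n, c, hc⟩ := IsLocalization.Away.surj t b
  -- `(φ t)^n a' - φ c` is torsion
  have h1 : algebraMap A' (Localization.Away (φ t)) (φ t ^ n * a' - φ c) = 0 := by
    have e1 : Localization.awayMap φ t (algebraMap A (Localization.Away t) c) =
        algebraMap A' (Localization.Away (φ t)) (φ c) := IsLocalization.map_eq _ c
    have e2 : Localization.awayMap φ t (algebraMap A (Localization.Away t) t) =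
        algebraMap A' (Localization.Away (φ t)) (φ t) := IsLocalization.map_eq _ t
    rw [map_sub, map_mul, map_pow, h, ← e1, ← hc, map_mul, map_pow, e2]
    ring
  rw [algebraMap_eq_zero_iff] at h1
  obtain ⟨τ, ⟨hτ, hφτ⟩, -⟩ := htor _ h1
  set c₁ := c + τ with hc₁
  have hφc₁ : φ c₁ = φ t ^ n * a' := by rw [hc₁, map_add, hφτ]; ring
  have hτ0 : algebraMap A (Localization.Away t) τ = 0 := (algebraMap_eq_zero_iff t τ).mpr hτ
  have hc₁b : b * algebraMap A (Localization.Away t) t ^ n =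
      algebraMap A (Localization.Away t) c₁ := by rw [hc₁, map_add, hτ0, add_zero, hc]
  obtain ⟨a₀, d', had⟩ := hq_surj φ t hq n a'
  have h2 : φ (c₁ - t ^ n * a₀) = φ t ^ (2 * n) * d' := by
    rw [map_sub, map_mul, map_pow, hφc₁, had]; ring
  obtain ⟨e, he⟩ := hq_inj φ t hq (2 * n) _ d' h2
  set a := a₀ + t ^ n * e with ha
  have hta : t ^ n * a = c₁ := by
    rw [ha]; linear_combination (-1 : A) * he
  have hunit : IsUnit (algebraMap A (Localization.Away t) t ^ n) :=
    (IsLocalization.Away.algebraMap_isUnit t).pow n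
  have hab : algebraMap A (Localization.Away t) a = b := by
    apply hunit.mul_left_injective
    show algebraMap A (Localization.Away t) a * _ = b * _
    rw [hc₁b, ← hta, map_mul, map_pow]; ring
  have hσ : ∃ m : ℕ, φ t ^ m * (a' - φ a) = 0 := by
    refine ⟨n, ?_⟩
    rw [mul_sub, ← hφc₁, ← hta, map_mul, map_pow]; ring
  obtain ⟨σ, ⟨hσt, hφσ⟩, -⟩ := htor _ hσ
  refine ⟨a + σ, by rw [map_add, hφσ]; ring, ?_⟩
  rw [map_add, (algebraMap_eq_zero_iff t σ).mpr hσt, add_zero, hab]

include hq in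
/-- every prime of `A` comes from `A'` or from `A_t` -/
theorem cover (x : PrimeSpectrum A) :
    (∃ y : PrimeSpectrum A', PrimeSpectrum.comap φ y = x) ∨
      ∃ y : PrimeSpectrum (Localization.Away t),
        PrimeSpectrum.comap (algebraMap A (Localization.Away t)) y = x := by
  by_cases ht : t ∈ x.asIdeal
  · left
    set I : Ideal A := Ideal.span {t} ^ 1 with hI
    have hIx : I ≤ x.asIdeal := by
      rw [hI, pow_one, Ideal.span_le]
      exact Set.singleton_subset_iff.mpr ht
    let e := RingEquiv.ofBijective _ (hq 1)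
    let ψ : A' →+* A ⧸ I := (e.symm : _ →+* _).comp (Ideal.Quotient.mk (Ideal.map φ I))
    have hψ : ψ.comp φ = Ideal.Quotient.mk I := by
      ext a
      show e.symm (Ideal.Quotient.mk _ (φ a)) = Ideal.Quotient.mk I a
      rw [RingEquiv.symm_apply_eq]
      exact (Ideal.quotientMap_mk (J := I) (I := Ideal.map φ I) (f := φ)
        (H := Ideal.le_comap_map) (x := a)).symm
    haveI : (x.asIdeal.map (Ideal.Quotient.mk I)).IsPrime :=
      Ideal.isPrime_map_quotientMk_of_isPrime hIx
    refine ⟨⟨Ideal.comap ψ (x.asIdeal.map (Ideal.Quotient.mk I)), inferInstance⟩, ?_⟩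
    apply PrimeSpectrum.ext
    show Ideal.comap φ (Ideal.comap ψ (x.asIdeal.map (Ideal.Quotient.mk I))) = x.asIdeal
    rw [Ideal.comap_comap, hψ, Ideal.comap_map_mk hIx]
  · right
    have : x ∈ Set.range (PrimeSpectrum.comap (algebraMap A (Localization.Away t))) := by
      rw [PrimeSpectrum.localization_away_comap_range (Localization.Away t) t]
      exact ht
    exact this

end ring

section scheme

variable (A A' : Type u) [CommRing A] [CommRing A'] (φ : A →+* A') (t : A)
  (hq : ∀ m : ℕ, Function.Bijective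
    (Ideal.quotientMap (Ideal.map φ (Ideal.span {t} ^ m)) φ Ideal.le_comap_map))
  (htor : ∀ a' : A', (∃ m : ℕ, φ t ^ m * a' = 0) →
    ∃! a : A, (∃ m : ℕ, t ^ m * a = 0) ∧ φ a = a')

include htor in
/-- two ring maps into `A` agreeing after `φ` and after localization agree -/
theorem hom_ext {R : CommRingCat.{u}} (ψ₁ ψ₂ : R ⟶ CommRingCat.of A)
    (h1 : ψ₁ ≫ CommRingCat.ofHom φ = ψ₂ ≫ CommRingCat.ofHom φ)
    (h2 : ψ₁ ≫ CommRingCat.ofHom (algebraMap A (Localization.Away t)) =
      ψ₂ ≫ CommRingCat.ofHom (algebraMap A (Localization.Away t))) : ψ₁ = ψ₂ := by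
  ext r
  have e1 : φ (ψ₁.hom r) = φ (ψ₂.hom r) := congrArg (fun f => f.hom r) h1
  have e2 : algebraMap A (Localization.Away t) (ψ₁.hom r) =
      algebraMap A (Localization.Away t) (ψ₂.hom r) := congrArg (fun f => f.hom r) h2
  have := inj φ t htor (ψ₁.hom r - ψ₂.hom r) (by rw [map_sub, e1, sub_self])
    (by rw [map_sub, e2, sub_self])
  exact sub_eq_zero.mp this

include htor in
/-- two morphisms from `Spec A` into a scheme with `toSpecΓ` a monomorphism agree if they agree on
`Spec A'` and on `Spec A_t` -/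
theorem scheme_hom_ext {X : Scheme.{u}} [Mono X.toSpecΓ]
    (s₁ s₂ : Spec (CommRingCat.of A) ⟶ X)
    (h1 : Spec.map (CommRingCat.ofHom φ) ≫ s₁ = Spec.map (CommRingCat.ofHom φ) ≫ s₂)
    (h2 : Spec.map (CommRingCat.ofHom (algebraMap A (Localization.Away t))) ≫ s₁ =
      Spec.map (CommRingCat.ofHom (algebraMap A (Localization.Away t))) ≫ s₂) : s₁ = s₂ := by
  rw [← cancel_mono X.toSpecΓ]
  obtain ⟨ψ₁, hψ₁⟩ := Spec.map_surjective (s₁ ≫ X.toSpecΓ)
  obtain ⟨ψ₂, hψ₂⟩ := Spec.map_surjective (s₂ ≫ X.toSpecΓ)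
  rw [← hψ₁, ← hψ₂]
  congr 1
  apply hom_ext A A' φ t htor
  · apply Spec.map_injective
    rw [Spec.map_comp, Spec.map_comp, hψ₁, hψ₂, ← Category.assoc, ← Category.assoc, h1]
  · apply Spec.map_injective
    rw [Spec.map_comp, Spec.map_comp, hψ₁, hψ₂, ← Category.assoc, ← Category.assoc, h2]

include hq htor in
theorem exists_ringHom {R : CommRingCat.{u}} (ψ' : R ⟶ CommRingCat.of A')
    (ψt : R ⟶ CommRingCat.of (Localization.Away t))
    (hc : ψ' ≫ CommRingCat.ofHom (algebraMap A' (Localization.Away (φ t))) =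
      ψt ≫ CommRingCat.ofHom (Localization.awayMap φ t)) :
    ∃ ψ : R ⟶ CommRingCat.of A, ψ ≫ CommRingCat.ofHom φ = ψ' ∧
      ψ ≫ CommRingCat.ofHom (algebraMap A (Localization.Away t)) = ψt := by
  let f₁ : A' × Localization.Away t →+* Localization.Away (φ t) :=
    (algebraMap A' (Localization.Away (φ t))).comp (RingHom.fst _ _)
  let f₂ : A' × Localization.Away t →+* Localization.Away (φ t) :=
    (Localization.awayMap φ t).comp (RingHom.snd _ _)
  let P : Subring (A' × Localization.Away t) := RingHom.eqLocus f₁ f₂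
  let ι : A →+* P := (φ.prod (algebraMap A (Localization.Away t))).codRestrict P (fun a => by
    show algebraMap A' (Localization.Away (φ t)) (φ a) =
      Localization.awayMap φ t (algebraMap A (Localization.Away t) a)
    exact (IsLocalization.map_eq _ a).symm)
  have hι : Function.Bijective ι := by
    constructor
    · rw [injective_iff_map_eq_zero]
      intro a ha
      have h1 : φ a = 0 := congrArg (fun z : P => z.1.1) ha
      have h2 : algebraMap A (Localization.Away t) a = 0 := congrArg (fun z : P => z.1.2) ha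
      exact inj φ t htor a h1 h2
    · rintro ⟨⟨a', b⟩, hab⟩
      obtain ⟨a, h1, h2⟩ := glue φ t hq htor a' b hab
      refine ⟨a, Subtype.ext ?_⟩
      exact Prod.ext h1 h2
  let e := RingEquiv.ofBijective ι hι
  let Ψ : R →+* P := (ψ'.hom.prod ψt.hom).codRestrict P (fun r => by
    show algebraMap A' (Localization.Away (φ t)) (ψ'.hom r) =
      Localization.awayMap φ t (ψt.hom r)
    exact congrArg (fun f => f.hom r) hc)
  let ψ : R →+* A := (e.symm : P →+* A).comp Ψ
  have hψ : ∀ r, ι (ψ r) = Ψ r := fun r => e.apply_symm_apply (Ψ r)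
  refine ⟨CommRingCat.ofHom ψ, ?_, ?_⟩
  · ext r
    exact congrArg (fun z : P => z.1.1) (hψ r)
  · ext r
    exact congrArg (fun z : P => z.1.2) (hψ r)

include hq htor in
theorem exists_section {X : Scheme.{u}} [X.IsQuasiAffine]
    (x' : Spec (CommRingCat.of A') ⟶ X) (xt : Spec (CommRingCat.of (Localization.Away t)) ⟶ X)
    (hc : Spec.map (CommRingCat.ofHom (algebraMap A' (Localization.Away (φ t)))) ≫ x' =
      Spec.map (CommRingCat.ofHom (Localization.awayMap φ t)) ≫ xt) :
    ∃ s : Spec (CommRingCat.of A) ⟶ X,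
      Spec.map (CommRingCat.ofHom φ) ≫ s = x' ∧
      Spec.map (CommRingCat.ofHom (algebraMap A (Localization.Away t))) ≫ s = xt := by
  obtain ⟨ψ', hψ'⟩ := Spec.map_surjective (x' ≫ X.toSpecΓ)
  obtain ⟨ψt, hψt⟩ := Spec.map_surjective (xt ≫ X.toSpecΓ)
  have hc' : ψ' ≫ CommRingCat.ofHom (algebraMap A' (Localization.Away (φ t))) =
      ψt ≫ CommRingCat.ofHom (Localization.awayMap φ t) := by
    apply Spec.map_injective
    rw [Spec.map_comp, Spec.map_comp, hψ', hψt, ← Category.assoc, ← Category.assoc, hc]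
  obtain ⟨ψ, h1, h2⟩ := exists_ringHom A A' φ t hq htor ψ' ψt hc'
  let s₀ : Spec (CommRingCat.of A) ⟶ Spec Γ(X, ⊤) := Spec.map ψ
  have e1 : Spec.map (CommRingCat.ofHom φ) ≫ s₀ = x' ≫ X.toSpecΓ := by
    rw [← hψ', ← h1, Spec.map_comp]
  have e2 : Spec.map (CommRingCat.ofHom (algebraMap A (Localization.Away t))) ≫ s₀ =
      xt ≫ X.toSpecΓ := by
    rw [← hψt, ← h2, Spec.map_comp]
  have hrange : Set.range s₀ ⊆ Set.range X.toSpecΓ := by
    rintro _ ⟨x, rfl⟩
    rcases cover φ t hq x with ⟨y, rfl⟩ | ⟨y, rfl⟩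
    · refine ⟨x' y, ?_⟩
      have := congrArg (fun f : Spec (CommRingCat.of A') ⟶ Spec Γ(X, ⊤) => f y) e1
      exact this.symm
    · refine ⟨xt y, ?_⟩
      have := congrArg (fun f : Spec (CommRingCat.of (Localization.Away t)) ⟶ Spec Γ(X, ⊤) =>
        f y) e2
      exact this.symm
  refine ⟨IsOpenImmersion.lift X.toSpecΓ s₀ hrange, ?_, ?_⟩
  · rw [← cancel_mono X.toSpecΓ, Category.assoc, IsOpenImmersion.lift_fac, e1]
  · rw [← cancel_mono X.toSpecΓ, Category.assoc, IsOpenImmersion.lift_fac, e2]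

include hq htor in
/-- **Beauville–Laszlo glueing of points of a quasi-affine scheme over `Spec A`** -/
theorem points (X : Scheme.{u}) [X.IsQuasiAffine] (p : X ⟶ Spec (CommRingCat.of A)) :
    (∀ s₁ s₂ : Spec (CommRingCat.of A) ⟶ X, s₁ ≫ p = 𝟙 _ → s₂ ≫ p = 𝟙 _ →
        Spec.map (CommRingCat.ofHom φ) ≫ s₁ = Spec.map (CommRingCat.ofHom φ) ≫ s₂ →
        Spec.map (CommRingCat.ofHom (algebraMap A (Localization.Away t))) ≫ s₁ =
          Spec.map (CommRingCat.ofHom (algebraMap A (Localization.Away t))) ≫ s₂ →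
        s₁ = s₂) ∧
    (∀ (x' : Spec (CommRingCat.of A') ⟶ X) (xt : Spec (CommRingCat.of (Localization.Away t)) ⟶ X),
        x' ≫ p = Spec.map (CommRingCat.ofHom φ) →
        xt ≫ p = Spec.map (CommRingCat.ofHom (algebraMap A (Localization.Away t))) →
        Spec.map (CommRingCat.ofHom (algebraMap A' (Localization.Away (φ t)))) ≫ x' =
          Spec.map (CommRingCat.ofHom (Localization.awayMap φ t)) ≫ xt →
        ∃ s : Spec (CommRingCat.of A) ⟶ X, s ≫ p = 𝟙 _ ∧
          Spec.map (CommRingCat.ofHom φ) ≫ s = x' ∧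
          Spec.map (CommRingCat.ofHom (algebraMap A (Localization.Away t))) ≫ s = xt) := by
  refine ⟨fun s₁ s₂ _ _ h1 h2 => scheme_hom_ext A A' φ t htor s₁ s₂ h1 h2, ?_⟩
  intro x' xt hx' hxt hc
  obtain ⟨s, hs1, hs2⟩ := exists_section A A' φ t hq htor x' xt hc
  refine ⟨s, ?_, hs1, hs2⟩
  apply scheme_hom_ext A A' φ t htor
  · rw [← Category.assoc, hs1, hx', Category.comp_id]
  · rw [← Category.assoc, hs2, hxt, Category.comp_id]

end scheme

end Groth.Agent.Lib.helper8.BLGlue
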