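import Mathlib
import Groth.Agent.Lib.Helper8.RingChange
import Groth.Agent.Lib.Helper8.FlatBCNat
import Groth.Agent.Lib.Helper8.AlgzBasic
import Groth.Agent.Lib.Helper8.FormalPullback
import Groth.Agent.Lib.Helper16.QCohPullback

/-!
# Canonical extension is stable under flat base change (helper8)

* `sectSysIso`: `(H⁰(U, G_n))~ ≅ j_* G_n` as inverse systems, for quasi-coherent `G_n`, `U` quasi-compact.
* `sectSysBaseChangeIso`: `φ^* (H⁰(U, G_n))~ ≅ (H⁰(U', g'^* G_n))~` for `φ : Spec A' ⟶ Spec A` flat.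
* `canonicallyExtends_baseChange`: S9538 for any quasi-compact open `U` of `Spec A`.
-/

set_option autoImplicit false
universe u

namespace Groth.Agent.Lib.helper8.CanonExtBC

open CategoryTheory CategoryTheory.Limits AlgebraicGeometry Opposite TopologicalSpace Formal
open Scheme.Modules

section Sect

variable (A : Type u) [CommRing A] (U : (Spec (CommRingCat.of A)).Opens) [QuasiCompact U.ι]

/-- `(H⁰(U, G_n))~ ≅ j_* G_n` -/
noncomputable def sectSysIso (G : ℕᵒᵖ ⥤ (U : Scheme.{u}).Modules)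
    (hG : ∀ n, (G.obj n).IsQuasicoherent) :
    Algz.sectSys A U G ≅ G ⋙ Scheme.Modules.pushforward U.ι :=
  NatIso.ofComponents (fun n =>
    @asIso _ _ _ _ (Scheme.Modules.fromTildeΓ (R := CommRingCat.of A)
      ((Scheme.Modules.pushforward U.ι).obj (G.obj n)))
      (haveI := hG n; Groth.Agent.Lib.helper8.AlgzB.isIso_fromTildeΓ_push A U (G.obj n))) (by
    intro n k g
    exact (Scheme.Modules.fromTildeΓNatTrans (R := CommRingCat.of A)).naturality
      ((Scheme.Modules.pushforward U.ι).map (G.map g)))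

end Sect

section Main

variable (A A' : Type u) [CommRing A] [CommRing A'] [Algebra A A']

/-- `Spec A' ⟶ Spec A` -/
noncomputable abbrev φ : Spec (CommRingCat.of A') ⟶ Spec (CommRingCat.of A) :=
  Spec.map (CommRingCat.ofHom (algebraMap A A'))

lemma flat_φ [Module.Flat A A'] : Flat (φ A A') := by
  rw [Flat.SpecMap_iff]
  exact (RingHom.flat_algebraMap_iff).2 inferInstance

/-- **canonical extension is stable under flat base change** -/
theorem canonicallyExtends_baseChange [Module.Flat A A'] (I : Ideal A)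
    (U : (Spec (CommRingCat.of A)).Opens) [QuasiCompact U.ι]
    (G : ℕᵒᵖ ⥤ (↑U : Scheme.{u}).Modules) (hq : ∀ n, (G.obj n).IsQuasicoherent)
    (h : Algz.CanonicallyExtends A I U G) :
    Algz.CanonicallyExtends A' (I.map (algebraMap A A')) (φ A A' ⁻¹ᵁ U)
      (G ⋙ Scheme.Modules.pullback (φ A A' ∣_ U)) := by
  obtain ⟨G', hG', hpro⟩ := h
  haveI : Flat (φ A A') := flat_φ A A'
  have hpb : IsPullback (φ A A' ∣_ U) (φ A A' ⁻¹ᵁ U).ι U.ι (φ A A') :=
    isPullback_morphismRestrict (φ A A') U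
  haveI : QuasiCompact (φ A A' ⁻¹ᵁ U).ι :=
    MorphismProperty.of_isPullback (P := @QuasiCompact) hpb inferInstance
  refine ⟨G' ⋙ Scheme.Modules.pullback (φ A A'), ?_, ?_⟩
  · -- coherent formal for `I A'`
    let iS : (Spec (CommRingCat.of A)).Over (Spec (CommRingCat.of A)) := ⟨𝟙 _⟩
    let iX : (Spec (CommRingCat.of A')).Over (Spec (CommRingCat.of A)) := ⟨φ A A'⟩
    have hf : φ A A' ≫ iS.hom = iX.hom := Category.comp_id _
    have h3 := @Groth.Agent.Lib.helper8.FPull.isCohFormal_pullback _ _ (φ A A') A _ iX iS hf I G' hG'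
    exact Groth.Agent.Lib.helper8.RingChange.isCohFormal_map (algebraMap A A') iX ⟨𝟙 _⟩
      (Category.id_comp _).symm I _ h3
  · -- the pro-isomorphism
    have hq' : ∀ n, ((G ⋙ Scheme.Modules.pullback (φ A A' ∣_ U)).obj n).IsQuasicoherent := fun n =>
      haveI := hq n
      Groth.Agent.Lib.helper16.QCohPullback.isQuasicoherent_pullback (φ A A' ∣_ U) (G.obj n)
    have h1 : Algz.IsProIsomorphic (Algz.sectSys A U G ⋙ Scheme.Modules.pullback (φ A A'))
        (G' ⋙ Scheme.Modules.pullback (φ A A')) :=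
      Groth.Agent.Lib.helper8.AlgzB.isProIsomorphic_comp_functor hpro _
    let E : Algz.sectSys A U G ⋙ Scheme.Modules.pullback (φ A A') ≅
        Algz.sectSys A' (φ A A' ⁻¹ᵁ U) (G ⋙ Scheme.Modules.pullback (φ A A' ∣_ U)) :=
      Functor.isoWhiskerRight (sectSysIso A U G hq) (Scheme.Modules.pullback (φ A A')) ≪≫
        Functor.associator _ _ _ ≪≫
        Groth.Agent.Lib.helper8.FlatBCNat.bcIsoOn hpb G hq ≪≫
        (Functor.associator _ _ _).symm ≪≫
        (sectSysIso A' (φ A A' ⁻¹ᵁ U) (G ⋙ Scheme.Modules.pullback (φ A A' ∣_ U)) hq').symm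
    exact Groth.Agent.Lib.helper8.AlgzB.isProIsomorphic_of_iso_left h1 E

end Main

end Groth.Agent.Lib.helper8.CanonExtBC
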