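import Mathlib
import Groth.Agent.Lib.Helper11.InvPullback
import Groth.Agent.Lib.Helper25.PullMonoFlat

/-!
# Zero schemes of sections pulled back along flat covers (helper8), part A

* `ringKrullDim_le_of_flat`: a flat local homomorphism `A → B` of Noetherian local rings has
  `dim A ≤ dim B`.
* `pullSec1 π s : O_Y ⟶ π^* L`, the pullback of a section `s : O_X ⟶ L`; `mono_pullSec1` (for flat
  `π`), `genLocus_pullSec1`.
* `connectedSpace_pullback_subschemeι`: `Y ×_X V(I)` is connected when `π⁻¹ (supp I)` is.
-/

set_option autoImplicit false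
universe u
open CategoryTheory CategoryTheory.Limits AlgebraicGeometry TopologicalSpace Opposite

namespace Groth.Agent.Lib.helper8.CoverZero

/-- dimension does not drop along a flat local homomorphism -/
theorem ringKrullDim_le_of_flat {A B : Type u} [CommRing A] [CommRing B] [IsLocalRing A]
    [IsLocalRing B] [IsNoetherianRing A] [IsNoetherianRing B] (φ : A →+* B) [IsLocalHom φ] (hφ : φ.Flat) :
    ringKrullDim A ≤ ringKrullDim B := by
  algebraize [φ]
  haveI : (IsLocalRing.maximalIdeal B).LiesOver (IsLocalRing.maximalIdeal A) := by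
    refine ⟨?_⟩
    have := ((IsLocalRing.local_hom_TFAE φ).out 0 4).mp ‹IsLocalHom φ›
    exact this.symm
  have h := Ideal.height_eq_height_add_of_liesOver_of_hasGoingDown
    (IsLocalRing.maximalIdeal A) (IsLocalRing.maximalIdeal B)
  rw [← IsLocalRing.maximalIdeal_height_eq_ringKrullDim,
    ← IsLocalRing.maximalIdeal_height_eq_ringKrullDim (R := B), h]
  exact WithBot.coe_le_coe.mpr le_self_add

variable {X Y : Scheme.{u}} (π : Y ⟶ X)

/-- the pullback of a section of `L` to a section of `π^* L` -/
noncomputable def pullSec1 {L : X.Modules} (s : Coh.structureModule X ⟶ L) :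
    Coh.structureModule Y ⟶ (Scheme.Modules.pullback π).obj L :=
  (Groth.Agent.Lib.helper11.InvMod.pullbackUnitIso π).inv ≫ (Scheme.Modules.pullback π).map s

theorem mono_pullSec1 [Flat π] {L : X.Modules} (s : Coh.structureModule X ⟶ L) [Mono s] :
    Mono (pullSec1 π s) := by
  haveI := Groth.Agent.Lib.Helper25.PullMonoFlat.mono_pullback_map π s
  unfold pullSec1
  exact mono_comp _ _

theorem genLocus_pullSec1 {L : X.Modules} (hL : PicF.IsInvertible L)
    (s : Coh.structureModule X ⟶ L) :
    CohB1.genLocus ((Scheme.Modules.pullback π).obj L) (pullSec1 π s) =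
      π ⁻¹ᵁ CohB1.genLocus L s :=
  Groth.Agent.Lib.helper11.InvPullback.genLocus_pullback π L hL s
    (Groth.Agent.Lib.helper11.InvMod.pullbackUnitIso π).symm

/-- `Y ×_X V(I)` is connected when the preimage of the support of `I` is -/
theorem connectedSpace_pullback_subschemeι (I : X.IdealSheafData)
    (h : _root_.IsConnected (π ⁻¹' (I.support : Set X))) :
    ConnectedSpace ↥(pullback π I.subschemeι) := by
  have hind : Topology.IsInducing (pullback.fst π I.subschemeι) :=
    (pullback.fst π I.subschemeι).isClosedEmbedding.isEmbedding.isInducing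
  have hrange : Set.range (pullback.fst π I.subschemeι) = π ⁻¹' (I.support : Set X) := by
    rw [Scheme.Pullback.range_fst, Scheme.IdealSheafData.range_subschemeι]
  have hpre : _root_.IsPreconnected (Set.univ : Set ↥(pullback π I.subschemeι)) := by
    rw [← hind.isPreconnected_image, Set.image_univ, hrange]
    exact h.isPreconnected
  obtain ⟨y, hy⟩ := h.nonempty
  rw [← hrange] at hy
  obtain ⟨z, -⟩ := hy
  exact { isPreconnected_univ := hpre, toNonempty := ⟨z⟩ }

end Groth.Agent.Lib.helper8.CoverZero
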