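import Mathlib
import Groth.Agent.Lib.Helper8.CoverZeroA
import Groth.Agent.Lib.Helper21.ZeroConn4
import Groth.Agent.Lib.Helper13.Normal2
import Groth.Agent.Lib.Lead.FlatHartogs
import Groth.Agent.Lib.Helper20.EquidimClosedPt
import Groth.Agent.Lib.Helper12.PullAmple
import Groth.Agent.S7681

/-!
# Zero schemes of ample sections on connected finite étale covers (helper8), part B

`connectedSpace_pullback_zeroScheme`: `X` integral normal proper over a field `k`, `dim X ≥ 2`, `L`
ample, `s` a regular section, `π : Y ⟶ X` finite étale with `Y` connected: `Y ×_X Z(s)` is connected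
(the Lefschetz-type statement `π₁(Z(s)) ↠ π₁(X)`), by applying S7681 to `π^* s` on `Y`.
-/

set_option autoImplicit false
universe u
open CategoryTheory CategoryTheory.Limits AlgebraicGeometry TopologicalSpace Opposite

namespace Groth.Agent.Lib.helper8.CoverZero

theorem connectedSpace_pullback_zeroScheme (k : Type u) [Field k]
    (X : Scheme.{u}) (f : X ⟶ Spec (CommRingCat.of k)) [IsProper f] [IsIntegral X]
    (hN : Pi1.IsNormalScheme X) (hdim : (2 : WithBot ℕ∞) ≤ topologicalKrullDim X)
    (L : X.Modules) (hL : CohB1.IsAmple L) (s : Coh.structureModule X ⟶ L) (hs : Mono s)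
    {Y : Scheme.{u}} (π : Y ⟶ X) [IsFinite π] [Etale π] [ConnectedSpace Y] :
    ConnectedSpace ↥(pullback π (PicF2.zeroScheme L s).subschemeι) := by
  letI : X.Over (Spec (CommRingCat.of k)) := ⟨f⟩
  letI : Y.Over (Spec (CommRingCat.of k)) := ⟨π ≫ f⟩
  haveI : IsProper (Y ↘ Spec (CommRingCat.of k)) := by
    change IsProper (π ≫ f)
    infer_instance
  haveI : LocallyOfFiniteType (X ↘ Spec (CommRingCat.of k)) := by
    change LocallyOfFiniteType f
    infer_instance
  haveI : IsLocallyNoetherian X := LocallyOfFiniteType.isLocallyNoetherian f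
  haveI : IsLocallyNoetherian Y := LocallyOfFiniteType.isLocallyNoetherian (π ≫ f)
  have hN' : Pi1.IsNormalScheme Y := Groth.Agent.Lib.helper13.Normal.of_etale π hN
  have hL' : CohB1.IsAmple ((Scheme.Modules.pullback π).obj L) :=
    Groth.Agent.Lib.helper12.PullAmple.isAmple_pullback_of_isAffineHom π hL
  haveI : Mono s := hs
  have hs' : Mono (pullSec1 π s) := mono_pullSec1 π s
  -- the dimension of the local rings of `X` at closed points
  obtain ⟨d, hd, -⟩ := Groth.Agent.Lib.helper3.IrredDim.exists_dim_eq_localDim_of_irreducible k X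
  have hd2 : (2 : ℕ∞) ≤ (d : ℕ∞) := by
    rw [hd] at hdim
    exact_mod_cast hdim
  have hdimX : ∀ x : X, IsClosed ({x} : Set X) →
      ringKrullDim (X.presheaf.stalk x) = (d : WithBot ℕ∞) := by
    intro x hx
    refine Groth.Agent.Lib.Helper20.EquidimClosedPt.ringKrullDim_stalk_of_isClosed k X d ?_ x hx
    intro Z hZ
    rw [irreducibleComponents_eq_singleton, Set.mem_singleton_iff] at hZ
    subst hZ
    rw [Groth.Agent.Lib.helper3.IrredDim.dim_univ_eq]
    exact hd
  have hdepth : ∀ y : Y, IsClosed ({y} : Set Y) →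
      2 ≤ LocCoh.depth (Y.presheaf.stalk y) (Y.presheaf.stalk y) := by
    intro y hy
    have hx : IsClosed ({π y} : Set X) := by
      have := π.isClosedMap _ hy
      rwa [Set.image_singleton] at this
    have h1 := hdimX (π y) hx
    have h2 : ringKrullDim (X.presheaf.stalk (π y)) ≤ ringKrullDim (Y.presheaf.stalk y) :=
      ringKrullDim_le_of_flat (π.stalkMap y).hom (Flat.stalkMap π y)
    apply Groth.Agent.Lib.Lead.FlatHartogs.two_le_depth_of_normal hN' y
    intro hle
    rw [h1] at h2
    have h3 : ((d : ℕ∞) : WithBot ℕ∞) ≤ 1 := h2.trans hle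
    have h4 : (d : ℕ∞) ≤ 1 := by exact_mod_cast h3
    have h5 : (2 : ℕ∞) ≤ 1 := hd2.trans h4
    exact absurd h5 (by norm_num)
  have hconn := Groth.Agent.S7681.result k Y ((Scheme.Modules.pullback π).obj L) hL'
    (pullSec1 π s) hs' hdepth
  apply connectedSpace_pullback_subschemeι
  have heq : π ⁻¹' ((PicF2.zeroScheme L s).support : Set X) =
      ((PicF2.zeroScheme ((Scheme.Modules.pullback π).obj L) (pullSec1 π s)).support : Set Y) := by
    ext y
    rw [Set.mem_preimage, SetLike.mem_coe, SetLike.mem_coe,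
      Groth.Agent.Lib.helper21.ZeroConn.mem_support_zeroScheme_iff hL.1,
      Groth.Agent.Lib.helper21.ZeroConn.mem_support_zeroScheme_iff hL'.1,
      genLocus_pullSec1 π hL.1]
    rfl
  rw [heq, ← Scheme.IdealSheafData.range_subschemeι]
  exact isConnected_range (Scheme.Hom.continuous _)

end Groth.Agent.Lib.helper8.CoverZero
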