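import Groth.Agent.Lib.Helper8.CycPull
import Groth.Agent.Lib.Helper13.Normal11
import Groth.Agent.Lib.Helper11.GenLocus
import Groth.Agent.Lib.Helper12.AmpleBasis
import Groth.Agent.Lib.Helper28.CanonIso

/-!
# Connectedness of the cyclic cover (helper8)

`Γ(X', O_{X'}) = ⊕_{k<d} Γ(X, L^{⊗ k})`; when `Γ(X, O_X)` is a field and `L` has exact order `d`
on the integral scheme `X`, the summands with `0 < k` vanish, so `Γ(X', O_{X'}) = Γ(X, O_X)` is a
field and `X'` is connected.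
-/

set_option autoImplicit false
set_option linter.style.haveILetI false
set_option linter.unusedSectionVars false
universe u
open CategoryTheory CategoryTheory.Limits AlgebraicGeometry TopologicalSpace Opposite

namespace Groth.Agent.Lib.helper8.CycCover

open Groth.Agent.Lib.helper28.SymLinePow Groth.Agent.Lib.helper28.SpecColim
  Groth.Agent.Lib.helper8.CycRing Groth.Agent.Lib.helper12.TwistExtend

variable {X : Scheme.{u}} {L : X.Modules} [L.IsQuasicoherent]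
  {𝒮L : RelProj.QCGrAlg X} (j : L ⟶ 𝒮L.toModule) {d : ℕ}
  (φ : CohB1.tensorPow L d ≅ Coh.structureModule X)

/-- restriction `O_{X'}(g⁻¹U) → O_{X'}(g⁻¹W)` -/
noncomputable def resA {U W : X.Opens} (i : W ≤ U) :
    Γ(cyc j φ, cycπ j φ ⁻¹ᵁ U) →+* Γ(cyc j φ, cycπ j φ ⁻¹ᵁ W) :=
  ((cyc j φ).presheaf.map (homOfLE ((cycπ j φ).preimage_mono i)).op).hom

theorem resA_resA {U W W' : X.Opens} (i : W ≤ U) (i' : W' ≤ W)
    (x : Γ(cyc j φ, cycπ j φ ⁻¹ᵁ U)) :
    resA j φ i' (resA j φ i x) = resA j φ (i'.trans i) x := by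
  unfold resA
  rw [← RingHom.comp_apply, ← CommRingCat.hom_comp, ← Functor.map_comp]
  rfl

theorem symToCyc_resA {U W : X.Opens} (i : W ≤ U) (s : 𝒮L.presheaf.obj (op U)) :
    symToCyc j φ W ((𝒮L.presheaf.map (homOfLE i).op).hom s) = resA j φ i (symToCyc j φ U s) :=
  symToCyc_res j φ i s

theorem cycπ_app_resA {U W : X.Opens} (i : W ≤ U) (r : Γ(X, U)) :
    ((cycπ j φ).app W).hom ((X.presheaf.map (homOfLE i).op).hom r) =
      resA j φ i (((cycπ j φ).app U).hom r) := by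
  have h := (cycπ j φ).naturality (homOfLE i).op
  have h2 := congrArg (fun k => k.hom r) h
  exact h2

section Local

variable (hL : PicF.IsInvertible L)

/-- the class `z̄` of the variable on the chart over `U` -/
noncomputable def zC {U : X.Opens} (D : GenData L 𝒮L j U) : Γ(cyc j φ, cycπ j φ ⁻¹ᵁ U) :=
  symToCyc j φ U D.z

include hL in
theorem locRepr (hd : 0 < d) {U : X.Opens} (D : GenData L 𝒮L j U)
    (x : Γ(cyc j φ, cycπ j φ ⁻¹ᵁ U)) :
    ∃! β : Fin d → Γ(X, U),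
      x = ∑ k : Fin d, ((cycπ j φ).app U).hom (β k) * zC j φ D ^ (k : ℕ) := by
  obtain ⟨c, hcu, hc⟩ := exists_unit_θ j φ hL D
  have h1 : zC j φ D = ((cycι j φ).app (pV 𝒮L ⁻¹ᵁ U)).hom (zV j D) := by
    unfold zC
    rw [symToCyc_apply, gammaInv_app U D.hV]
    rfl
  rw [h1]
  exact existsUnique_repr_gen' ((pV 𝒮L).app U).hom (zV j D) (bijective_eval₂ j D) d hd c hcu
    ((cycι j φ).app (pV 𝒮L ⁻¹ᵁ U)).hom
    ((idealV j φ).subschemeι_app_surjective (WU 𝒮L U D.hV))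
    (((idealV j φ).ker_subschemeι_app (WU 𝒮L U D.hV)).trans (idealV_ideal_gen j φ D c hc)) x

theorem symToCyc_μ_smul_γ {U : X.Opens} (D : GenData L 𝒮L j U) (k : ℕ) (b : Γ(X, U)) :
    symToCyc j φ U (μ j k U (b • D.γ k : Γ(CohB1.tensorPow L k, U))) =
      ((cycπ j φ).app U).hom b * zC j φ D ^ k := by
  rw [D.μ_smul_γ, map_mul, map_pow, symToCyc_str]
  rfl

/-- the function on `g⁻¹ U` with components `τ k ∈ Γ(U, L^{⊗ k})` -/
noncomputable def sumμ (U : X.Opens) (τ : ∀ k : Fin d, (CohB1.tensorPow L k).val.obj (op U)) :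
    Γ(cyc j φ, cycπ j φ ⁻¹ᵁ U) :=
  ∑ k : Fin d, symToCyc j φ U (μ j k U (τ k))

theorem sumμ_res {U W : X.Opens} (i : W ≤ U)
    (τ : ∀ k : Fin d, (CohB1.tensorPow L k).val.obj (op U)) :
    resA j φ i (sumμ j φ U τ) = sumμ j φ W (fun k => res (CohB1.tensorPow L k) i (τ k)) := by
  unfold sumμ
  rw [map_sum]
  refine Finset.sum_congr rfl fun k _ => ?_
  rw [← symToCyc_resA, ← μ_res]
  rfl

theorem sumμ_smul_γ {U : X.Opens} (D : GenData L 𝒮L j U) (β : Fin d → Γ(X, U)) :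
    sumμ j φ U (fun k => (β k • D.γ k : Γ(CohB1.tensorPow L k, U))) =
      ∑ k : Fin d, ((cycπ j φ).app U).hom (β k) * zC j φ D ^ (k : ℕ) := by
  unfold sumμ
  exact Finset.sum_congr rfl fun k _ => symToCyc_μ_smul_γ j φ D k (β k)

include hL in
theorem exists_sumμ (hd : 0 < d) {U : X.Opens} (D : GenData L 𝒮L j U)
    (x : Γ(cyc j φ, cycπ j φ ⁻¹ᵁ U)) :
    ∃ τ : ∀ k : Fin d, (CohB1.tensorPow L k).val.obj (op U), x = sumμ j φ U τ := by
  obtain ⟨β, hβ, -⟩ := locRepr j φ hL hd D x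
  exact ⟨fun k => (β k • D.γ k : Γ(CohB1.tensorPow L k, U)), hβ.trans (sumμ_smul_γ j φ D β).symm⟩

include hL in
theorem sumμ_injective (hd : 0 < d) {U : X.Opens} (D : GenData L 𝒮L j U)
    (τ τ' : ∀ k : Fin d, (CohB1.tensorPow L k).val.obj (op U))
    (h : sumμ j φ U τ = sumμ j φ U τ') : τ = τ' := by
  have hex : ∀ (σ : ∀ k : Fin d, (CohB1.tensorPow L k).val.obj (op U)),
      ∃ β : Fin d → Γ(X, U), σ = fun k : Fin d => (β k • D.γ k : Γ(CohB1.tensorPow L k, U)) := by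
    intro σ
    choose β hβ using fun k : Fin d => (D.bijective_smul_γ hL k).2 (σ k)
    exact ⟨β, funext fun k => (hβ k).symm⟩
  obtain ⟨β, rfl⟩ := hex τ
  obtain ⟨β', rfl⟩ := hex τ'
  rw [sumμ_smul_γ, sumμ_smul_γ] at h
  obtain ⟨β₀, -, huniq⟩ := locRepr j φ hL hd D
    (∑ k : Fin d, ((cycπ j φ).app U).hom (β k) * zC j φ D ^ (k : ℕ))
  have e1 : β = β₀ := huniq β rfl
  have e2 : β' = β₀ := huniq β' h
  rw [e1, e2]

end Local

section Global

variable (hj : RelProj.IsGrSymAlg L 𝒮L j) (hL : PicF.IsInvertible L)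

include hj hL in
/-- every function on `X'` has global components `t k ∈ Γ(X, L^{⊗ k})`, `k < d` -/
theorem exists_global_sumμ (hd : 0 < d) (ε : Γ(cyc j φ, cycπ j φ ⁻¹ᵁ ⊤)) :
    ∃ t : ∀ k : Fin d, (CohB1.tensorPow L k).val.obj (op ⊤),
      ∀ (U : X.Opens), Nonempty (GenData L 𝒮L j U) →
        resA j φ (le_top : U ≤ ⊤) ε =
          sumμ j φ U (fun k => res (CohB1.tensorPow L k) le_top (t k)) := by
  classical
  let I := {V : X.Opens // Nonempty (GenData L 𝒮L j V)}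
  have hex : ∀ V : I, ∃ τ : ∀ k : Fin d, (CohB1.tensorPow L k).val.obj (op V.1),
      resA j φ (le_top : V.1 ≤ ⊤) ε = sumμ j φ V.1 τ := fun V => by
    obtain ⟨D⟩ := V.2
    exact exists_sumμ j φ hL hd D _
  choose τ hτ using hex
  have hcompat : ∀ (k : Fin d) (V₁ V₂ : I),
      res (CohB1.tensorPow L k) (inf_le_left : V₁.1 ⊓ V₂.1 ≤ V₁.1) (τ V₁ k) =
        res (CohB1.tensorPow L k) (inf_le_right : V₁.1 ⊓ V₂.1 ≤ V₂.1) (τ V₂ k) := by
    intro k V₁ V₂
    refine eq_of_cover (CohB1.tensorPow L k)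
      (fun W : {W : X.Opens // W ≤ V₁.1 ⊓ V₂.1 ∧ Nonempty (GenData L 𝒮L j W)} => W.1) _
      (fun W => W.2.1) (le_iSup_genData hj hL _) _ _ (fun W => ?_)
    obtain ⟨D⟩ := W.2.2
    rw [res_res, res_res]
    have key : (fun k : Fin d =>
          res (CohB1.tensorPow L k) (W.2.1.trans inf_le_left) (τ V₁ k)) =
        fun k : Fin d => res (CohB1.tensorPow L k) (W.2.1.trans inf_le_right) (τ V₂ k) := by
      refine sumμ_injective j φ hL hd D _ _ ?_
      rw [← sumμ_res, ← sumμ_res, ← hτ, ← hτ, resA_resA, resA_resA]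
    exact congrFun key k
  have hcover : (⊤ : X.Opens) ≤ ⨆ V : I, V.1 := by
    intro x _
    obtain ⟨V, hxV, -, hD⟩ := exists_genData hj hL x ⊤ trivial
    exact Opens.mem_iSup.mpr ⟨⟨V, hD⟩, hxV⟩
  have hglue : ∀ k : Fin d, ∃ T : (CohB1.tensorPow L k).val.obj (op ⊤),
      ∀ V : I, res (CohB1.tensorPow L k) (le_top : V.1 ≤ ⊤) T = τ V k :=
    fun k => exists_glue (CohB1.tensorPow L k) (fun V : I => V.1) hcover (fun V => τ V k)
      (hcompat k)
  choose t ht using hglue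
  refine ⟨t, fun U hU => ?_⟩
  have : (fun k : Fin d => res (CohB1.tensorPow L k) (le_top : U ≤ ⊤) (t k)) = τ ⟨U, hU⟩ :=
    funext fun k => ht k ⟨U, hU⟩
  rw [this]
  exact hτ ⟨U, hU⟩

end Global

section Field

variable (hj : RelProj.IsGrSymAlg L 𝒮L j) (hL : PicF.IsInvertible L)

theorem zC_eq {U : X.Opens} (D : GenData L 𝒮L j U) :
    zC j φ D = ((cycι j φ).app (pV 𝒮L ⁻¹ᵁ U)).hom (zV j D) := by
  unfold zC
  rw [symToCyc_apply, gammaInv_app U D.hV]
  rfl

theorem zC_pow {U : X.Opens} (D : GenData L 𝒮L j U) (c : Γ(X, U)) (hcu : IsUnit c)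
    (hc : θ j φ U = (𝒮L.str.app (op U)).hom c * D.z ^ d) :
    zC j φ D ^ d = ((cycπ j φ).app U).hom (uInv c hcu) := by
  rw [zC_eq]
  exact pow_gen ((pV 𝒮L).app U).hom (zV j D) d c hcu
    ((cycι j φ).app (pV 𝒮L ⁻¹ᵁ U)).hom
    ((idealV j φ).subschemeι_app_surjective (WU 𝒮L U D.hV))
    (((idealV j φ).ker_subschemeι_app (WU 𝒮L U D.hV)).trans (idealV_ideal_gen j φ D c hc))

/-- local computation of `ζ^d` for `ζ = μ_i(b γ_i)` -/
theorem symToCyc_μ_pow {U : X.Opens} (D : GenData L 𝒮L j U) (c : Γ(X, U)) (hcu : IsUnit c)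
    (hc : θ j φ U = (𝒮L.str.app (op U)).hom c * D.z ^ d) (i : ℕ) (b : Γ(X, U)) :
    symToCyc j φ U (μ j i U (b • D.γ i : Γ(CohB1.tensorPow L i, U))) ^ d =
      ((cycπ j φ).app U).hom (b ^ d * uInv c hcu ^ i) := by
  rw [symToCyc_μ_smul_γ, mul_pow, ← pow_mul, mul_comm i d, pow_mul, zC_pow j φ D c hcu hc,
    map_mul, map_pow, map_pow]

include hj hL in
/-- the "norm" `h = t^d / θ^i ∈ Γ(X, O_X)` of a section `t` of `L^{⊗ i}` -/
theorem exists_norm (hd : 0 < d) (i : ℕ) (t : (CohB1.tensorPow L i).val.obj (op ⊤)) :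
    ∃ h : Γ(X, ⊤), ∀ (U : X.Opens) (D : GenData L 𝒮L j U) (c : Γ(X, U)) (hcu : IsUnit c)
      (_ : θ j φ U = (𝒮L.str.app (op U)).hom c * D.z ^ d) (b : Γ(X, U)),
      res (CohB1.tensorPow L i) (le_top : U ≤ ⊤) t = (b • D.γ i : Γ(CohB1.tensorPow L i, U)) →
      (X.presheaf.map (homOfLE (le_top : U ≤ ⊤)).op).hom h = b ^ d * uInv c hcu ^ i := by
  obtain ⟨t', ht'⟩ := exists_global_sumμ j φ hj hL hd (symToCyc j φ ⊤ (μ j i ⊤ t) ^ d)
  refine ⟨t' ⟨0, hd⟩, fun U D c hcu hc b hb => ?_⟩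
  have h1 := ht' U ⟨D⟩
  rw [map_pow, ← symToCyc_resA, ← μ_res] at h1
  have h2 : (CohB1.tensorPow L i).val.map (homOfLE (le_top : U ≤ ⊤)).op t =
      (b • D.γ i : Γ(CohB1.tensorPow L i, U)) := hb
  rw [h2, symToCyc_μ_pow j φ D c hcu hc] at h1
  let β0 : Fin d → Γ(X, U) := fun k => if (k : ℕ) = 0 then b ^ d * uInv c hcu ^ i else 0
  have h3 : ((cycπ j φ).app U).hom (b ^ d * uInv c hcu ^ i) =
      sumμ j φ U (fun k : Fin d => (β0 k • D.γ k : Γ(CohB1.tensorPow L k, U))) := by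
    rw [sumμ_smul_γ, Finset.sum_eq_single (⟨0, hd⟩ : Fin d)]
    · simp [β0]
    · intro k _ hk
      have : (k : ℕ) ≠ 0 := fun h0 => hk (Fin.ext h0)
      simp [β0, this]
    · intro h
      exact absurd (Finset.mem_univ _) h
  have h4 := sumμ_injective j φ hL hd D _ _ (h3.symm.trans h1)
  have h5 := congrFun h4 ⟨0, hd⟩
  have h6 : β0 ⟨0, hd⟩ = b ^ d * uInv c hcu ^ i := if_pos rfl
  rw [← h6]
  have h7 : (β0 ⟨0, hd⟩ • ((1 : Γ(X, U)) : Γ(Coh.structureModule X, U))) =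
      ((β0 ⟨0, hd⟩ : Γ(X, U)) : Γ(Coh.structureModule X, U)) := mul_one (β0 ⟨0, hd⟩)
  exact h5.symm.trans h7

open Groth.Agent.Lib.helper11.GenLocus Groth.Agent.Lib.helper12.AmpleBasis in
include hj hL φ in
/-- `Γ(X, L^{⊗ i}) = 0` when `L^{⊗ i}` is non-trivial, `Γ(X, O_X)` is a field and `X` integral -/
theorem sec_eq_zero [IsIntegral X] (hfield : IsField (Γ(X, ⊤) : Type u)) (hd : 0 < d) (i : ℕ)
    (hi : IsEmpty (CohB1.tensorPow L i ≅ Coh.structureModule X))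
    (t : (CohB1.tensorPow L i).val.obj (op ⊤)) : t = 0 := by
  by_contra ht
  obtain ⟨h, hh⟩ := exists_norm j φ hj hL hd i t
  have hloc : ∀ (U : X.Opens) (D : GenData L 𝒮L j U), ∃ (c : Γ(X, U)) (hcu : IsUnit c)
      (b : Γ(X, U)),
      res (CohB1.tensorPow L i) (le_top : U ≤ ⊤) t =
        (b • D.γ i : Γ(CohB1.tensorPow L i, U)) ∧
      (X.presheaf.map (homOfLE (le_top : U ≤ ⊤)).op).hom h = b ^ d * uInv c hcu ^ i := by
    intro U D
    obtain ⟨c, hcu, hc⟩ := exists_unit_θ j φ hL D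
    obtain ⟨b, hb⟩ := (D.bijective_smul_γ hL i).2 (res (CohB1.tensorPow L i) (le_top : U ≤ ⊤) t)
    exact ⟨c, hcu, b, hb.symm, hh U D c hcu hc b hb.symm⟩
  have hne : h ≠ 0 := by
    intro h0
    apply ht
    refine eq_of_cover (CohB1.tensorPow L i)
      (fun V : {V : X.Opens // V ≤ ⊤ ∧ Nonempty (GenData L 𝒮L j V)} => V.1) ⊤ (fun V => V.2.1)
      (le_iSup_genData hj hL ⊤) t 0 (fun V => ?_)
    obtain ⟨D⟩ := V.2.2
    obtain ⟨c, hcu, b, hb, hhb⟩ := hloc V.1 D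
    rw [h0, map_zero] at hhb
    have hb0 : b = 0 := by
      rcases subsingleton_or_nontrivial Γ(X, V.1) with hs | hn
      · exact Subsingleton.elim _ _
      · haveI : Nonempty V.1 := by
          by_contra hne
          have hbot : V.1 = ⊥ := by
            ext x
            simp only [Opens.coe_bot, Set.mem_empty_iff_false, iff_false]
            exact fun hx => hne ⟨⟨x, hx⟩⟩
          have hsub : Subsingleton Γ(X, V.1) := by
            rw [hbot]
            infer_instance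
          exact not_subsingleton _ hsub
        rcases mul_eq_zero.mp hhb.symm with h1 | h1
        · exact (pow_eq_zero_iff hd.ne').mp h1
        · exact absurd h1 ((isUnit_uInv c hcu).pow i).ne_zero
    have hz : res (CohB1.tensorPow L i) V.2.1 (0 : (CohB1.tensorPow L i).val.obj (op ⊤)) = 0 :=
      map_zero ((CohB1.tensorPow L i).presheaf.map (homOfLE V.2.1).op).hom
    rw [hz, hb, hb0]
    exact zero_smul _ _
  obtain ⟨h', hh'⟩ := hfield.mul_inv_cancel hne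
  have hunit : ∀ (U : X.Opens) (D : GenData L 𝒮L j U) (b : Γ(X, U)),
      res (CohB1.tensorPow L i) (le_top : U ≤ ⊤) t =
        (b • D.γ i : Γ(CohB1.tensorPow L i, U)) → IsUnit b := by
    intro U D b hb
    obtain ⟨c, hcu, hc⟩ := exists_unit_θ j φ hL D
    have e := hh U D c hcu hc b hb
    have e2 := congrArg (X.presheaf.map (homOfLE (le_top : U ≤ ⊤)).op).hom hh'
    rw [map_mul, map_one, e] at e2
    have u1 : IsUnit (b ^ d * uInv c hcu ^ i) := IsUnit.of_mul_eq_one _ e2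
    have u2 : IsUnit (b ^ d) := isUnit_of_mul_isUnit_left u1
    exact (isUnit_pow_iff hd.ne').mp u2
  let s := homOfSec (CohB1.tensorPow L i) t
  have hiso : IsIso s := by
    refine Groth.Agent.Lib.helper28.CanonIso.isIso_of_bijective_basis s
      (fun V : {V : X.Opens // Nonempty (GenData L 𝒮L j V)} => V.1) ?_ (fun V => ?_)
    · rw [Opens.isBasis_iff_nbhd]
      intro W x hxW
      obtain ⟨V, hxV, hVW, hD⟩ := exists_genData hj hL x W hxW
      exact ⟨V, ⟨⟨V, hD⟩, rfl⟩, hxV, hVW⟩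
    · obtain ⟨D⟩ := V.2
      obtain ⟨b, hb⟩ := (D.bijective_smul_γ hL i).2
        (res (CohB1.tensorPow L i) (le_top : V.1 ≤ ⊤) t)
      have hbu := hunit V.1 D b hb.symm
      have hfun : ⇑(s.app V.1).hom =
          (fun a : Γ(X, V.1) => (a • D.γ i : Γ(CohB1.tensorPow L i, V.1))) ∘
            (fun a : Γ(X, V.1) => a * b) := by
        funext a0
        let a : Γ(X, V.1) := a0
        change (s.app V.1).hom (a : Γ(Coh.structureModule X, V.1)) = _
        have h1 : (s.app V.1).hom (a : Γ(Coh.structureModule X, V.1)) = a • sec s V.1 :=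
          app_apply s V.1 a
        have h2 : sec s V.1 = res (CohB1.tensorPow L i) (le_top : V.1 ≤ ⊤) t :=
          val_homOfSec _ _ _
        rw [h2, ← hb] at h1
        exact h1.trans (mul_smul a b _).symm
      change Function.Bijective ⇑(s.app V.1).hom
      rw [hfun]
      have hmulb : Function.Bijective (fun a : Γ(X, V.1) => a * b) :=
        IsUnit.isUnit_iff_mulRight_bijective.mp hbu
      exact (D.bijective_smul_γ hL i).comp hmulb
  exact hi.false (asIso s).symm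

include hj hL φ in
/-- every function on `X'` comes from `Γ(X, O_X)` -/
theorem exists_eq_cycπ_app [IsIntegral X] (hfield : IsField (Γ(X, ⊤) : Type u)) (hd : 0 < d)
    (hmin : ∀ i : ℕ, 0 < i → i < d → IsEmpty (CohB1.tensorPow L i ≅ Coh.structureModule X))
    (ε : Γ(cyc j φ, cycπ j φ ⁻¹ᵁ ⊤)) :
    ∃ a : Γ(X, ⊤), ε = ((cycπ j φ).app ⊤).hom a := by
  obtain ⟨t, ht⟩ := exists_global_sumμ j φ hj hL hd ε
  have ht0 : ∀ k : Fin d, (k : ℕ) ≠ 0 → t k = 0 := fun k hk =>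
    sec_eq_zero j φ hj hL hfield hd k (hmin k (Nat.pos_of_ne_zero hk) k.2) (t k)
  refine ⟨t ⟨0, hd⟩, ?_⟩
  let I := {V : X.Opens // Nonempty (GenData L 𝒮L j V)}
  refine TopCat.Sheaf.eq_of_locally_eq' (cyc j φ).sheaf (fun V : I => cycπ j φ ⁻¹ᵁ V.1)
    (cycπ j φ ⁻¹ᵁ ⊤) (fun V => homOfLE ((cycπ j φ).preimage_mono le_top)) ?_ _ _ (fun V => ?_)
  · intro y _
    obtain ⟨V, hyV, -, hD⟩ := exists_genData hj hL (cycπ j φ y) ⊤ trivial
    exact Opens.mem_iSup.mpr ⟨⟨V, hD⟩, hyV⟩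
  · change resA j φ (le_top : V.1 ≤ ⊤) ε =
      resA j φ (le_top : V.1 ≤ ⊤) (((cycπ j φ).app ⊤).hom (t ⟨0, hd⟩))
    rw [ht V.1 V.2, ← cycπ_app_resA]
    unfold sumμ
    rw [Finset.sum_eq_single (⟨0, hd⟩ : Fin d)]
    · have h1 : μ j 0 V.1 (res (CohB1.tensorPow L 0) (le_top : V.1 ≤ ⊤) (t ⟨0, hd⟩)) =
          (𝒮L.str.app (op V.1)).hom
            ((X.presheaf.map (homOfLE (le_top : V.1 ≤ ⊤)).op).hom (t ⟨0, hd⟩)) :=
        μ_zero_apply V.1 _
      exact (congrArg (symToCyc j φ V.1) h1).trans (symToCyc_str j φ V.1 _)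
    · intro k _ hk
      have hk0 : (k : ℕ) ≠ 0 := fun h0 => hk (Fin.ext h0)
      beta_reduce
      rw [ht0 k hk0]
      have hz : res (CohB1.tensorPow L k) (le_top : V.1 ≤ ⊤)
          (0 : (CohB1.tensorPow L k).val.obj (op ⊤)) = 0 :=
        map_zero ((CohB1.tensorPow L k).presheaf.map (homOfLE (le_top : V.1 ≤ ⊤)).op).hom
      rw [hz, μ_zero, map_zero]
    · intro h
      exact absurd (Finset.mem_univ _) h

include hj hL φ in
/-- the cyclic cover is connected -/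
theorem connectedSpace_cyc [IsIntegral X] (hfield : IsField (Γ(X, ⊤) : Type u)) (hd : 0 < d)
    (hmin : ∀ i : ℕ, 0 < i → i < d → IsEmpty (CohB1.tensorPow L i ≅ Coh.structureModule X))
    [Nonempty (cyc j φ)] : ConnectedSpace (cyc j φ) := by
  haveI : Nonempty (⊤ : (cyc j φ).Opens) := ⟨⟨Classical.arbitrary _, trivial⟩⟩
  haveI : Nontrivial Γ(cyc j φ, ⊤) := Scheme.component_nontrivial (cyc j φ) ⊤
  refine Groth.Agent.Lib.helper13.Normal.connectedSpace_of_idempotents (cyc j φ) (fun e he => ?_)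
  obtain ⟨a, ha⟩ := exists_eq_cycπ_app j φ hj hL hfield hd hmin
    (show Γ(cyc j φ, cycπ j φ ⁻¹ᵁ ⊤) from e)
  have ha' : e = ((cycπ j φ).app ⊤).hom a := ha
  by_cases ha0 : a = 0
  · left
    rw [ha', ha0, map_zero]
    rfl
  · right
    obtain ⟨a', haa'⟩ := hfield.mul_inv_cancel ha0
    have hu : IsUnit e := by
      rw [ha']
      exact (IsUnit.of_mul_eq_one _ haa').map _
    exact (IsIdempotentElem.iff_eq_one_of_isUnit hu).mp he

end Field

end Groth.Agent.Lib.helper8.CycCover
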