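import Mathlib

/-!
# Ring lemmas for normalised cyclic covers (helper8)

* `surjective_of_normal_of_away`: an injective integral ring map `φ : C → B` out of a ring all of
  whose localisations at maximal ideals are integrally closed domains is surjective as soon as it
  becomes surjective after inverting an element `h` whose image is a nonzerodivisor of `B`.
* `etale_adjoinRoot`: `A[T]/(T^N - f)` is étale over `A` when `f` and `N` are units of `A`.
* `etale_restrict_of_app`, `etale_restrict_of_cover`: étaleness of `π ∣_ W` from ring maps over affine opens.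
-/

set_option autoImplicit false
universe u
open Polynomial

namespace Groth.Agent.Lib.helper8.CycEt

theorem surjective_of_normal_of_away {C B : Type*} [CommRing C] [CommRing B] (φ : C →+* B)
    (hinj : Function.Injective φ) (hint : φ.IsIntegral)
    (hC : ∀ (𝔪 : Ideal C) [𝔪.IsMaximal],
      IsDomain (Localization.AtPrime 𝔪) ∧ IsIntegrallyClosed (Localization.AtPrime 𝔪))
    (h : C) (hh : ∀ b : B, φ h * b = 0 → b = 0)
    (hloc : ∀ b : B, ∃ (n : ℕ) (c : C), φ h ^ n * b = φ c) :
    Function.Surjective φ := by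
  intro b
  obtain ⟨n, c, hc⟩ := hloc b
  -- `s = h ^ n` kills nothing in `B`
  have hs : ∀ b' : B, φ (h ^ n) * b' = 0 → b' = 0 := by
    intro b' hb'
    rw [map_pow] at hb'
    clear hc
    induction n with
    | zero => simpa using hb'
    | succ n ih =>
      apply ih
      apply hh
      rw [← mul_assoc, ← pow_succ']
      exact hb'
  have hsC : ∀ a : C, h ^ n * a = 0 → a = 0 := by
    intro a ha
    apply hinj
    rw [map_zero]
    apply hs
    rw [← map_mul, ha, map_zero]
  set s : C := h ^ n with hsdef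
  have hc' : φ s * b = φ c := by rw [hsdef, map_pow]; exact hc
  -- the conductor-like ideal
  let I : Ideal C :=
    { carrier := {a | ∃ c' : C, φ a * b = φ c'}
      add_mem' := by
        rintro a a' ⟨c1, h1⟩ ⟨c2, h2⟩
        exact ⟨c1 + c2, by rw [map_add, add_mul, h1, h2, map_add]⟩
      zero_mem' := ⟨0, by simp⟩
      smul_mem' := by
        rintro r a ⟨c1, h1⟩
        exact ⟨r * c1, by rw [smul_eq_mul, map_mul, mul_assoc, h1, map_mul]⟩ }
  suffices hI : I = ⊤ by
    have h1 : (1 : C) ∈ I := hI ▸ Submodule.mem_top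
    obtain ⟨c', hc''⟩ := h1
    exact ⟨c', by rw [← hc'', map_one, one_mul]⟩
  by_contra hI
  obtain ⟨𝔪, h𝔪, hI𝔪⟩ := Ideal.exists_le_maximal I hI
  obtain ⟨hdom, hic⟩ := hC 𝔪
  let Lc := Localization.AtPrime 𝔪
  let K := FractionRing Lc
  let g : C →+* K := (algebraMap Lc K).comp (algebraMap C Lc)
  -- `s` is nonzero in `K`
  have hsL : algebraMap C Lc s ≠ 0 := by
    have hmem : s ∈ nonZeroDivisors C := by
      rw [mem_nonZeroDivisors_iff_right]
      intro a ha
      exact hsC a (by rw [mul_comm]; exact ha)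
    have := IsLocalization.map_nonZeroDivisors_le 𝔪.primeCompl Lc ⟨s, hmem, rfl⟩
    exact nonZeroDivisors.ne_zero this
  have hgs : g s ≠ 0 := by
    change algebraMap Lc K (algebraMap C Lc s) ≠ 0
    rw [Ne, IsFractionRing.to_map_eq_zero_iff]
    exact hsL
  -- integrality
  obtain ⟨p, hpm, hpb⟩ := hint b
  have h1 : eval₂ φ (φ c) (scaleRoots p s) = 0 := by
    rw [← hc', scaleRoots_eval₂_mul, hpb, mul_zero]
  have h2 : eval c (scaleRoots p s) = 0 := by
    apply hinj
    rw [map_zero, ← h1, eval, hom_eval₂, RingHom.comp_id]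
  let x : K := g c / g s
  have hx : g s * x = g c := by
    change g s * (g c / g s) = g c
    rw [mul_comm, div_mul_cancel₀ _ hgs]
  have h3 : eval₂ g x p = 0 := by
    have h4 : eval₂ g (g s * x) (scaleRoots p s) = g s ^ p.natDegree * eval₂ g x p :=
      scaleRoots_eval₂_mul g x s
    rw [hx] at h4
    have h5 : eval₂ g (g c) (scaleRoots p s) = 0 := by
      have := congrArg g h2
      rw [map_zero, eval, hom_eval₂, RingHom.comp_id] at this
      exact this
    rw [h5] at h4
    rcases mul_eq_zero.mp h4.symm with h6 | h6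
    · exact absurd (pow_eq_zero_iff (n := p.natDegree) (by
        intro h0; rw [h0, pow_zero] at h6; exact one_ne_zero h6) |>.mp h6) hgs
    · exact h6
  have hxint : IsIntegral Lc x := by
    refine ⟨p.map (algebraMap C Lc), hpm.map _, ?_⟩
    rw [eval₂_map]
    exact h3
  obtain ⟨y, hy⟩ := IsIntegrallyClosed.isIntegral_iff.mp hxint
  have hy2 : y * algebraMap C Lc s = algebraMap C Lc c := by
    apply IsFractionRing.injective Lc K
    rw [map_mul, hy, mul_comm]
    exact hx
  obtain ⟨c', t, rfl⟩ := IsLocalization.exists_mk'_eq 𝔪.primeCompl y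
  have h7 : algebraMap C Lc (c' * s) = algebraMap C Lc (c * t) := by
    rw [map_mul, map_mul, ← hy2, ← IsLocalization.mk'_spec Lc c' t]
    ring
  obtain ⟨t', ht'⟩ := (IsLocalization.eq_iff_exists 𝔪.primeCompl Lc).mp h7
  have h8 : (t' : C) * t ∈ I := by
    refine ⟨t' * c', ?_⟩
    have h9 : φ s * (φ (t' * t) * b - φ (t' * c')) = 0 := by
      have e1 : φ s * (φ (t' * t) * b - φ (t' * c')) =
          φ (t' * t) * (φ s * b) - φ ((t' : C) * (c' * s)) := by
        simp only [map_mul]
        ring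
      rw [e1, hc', ht', ← map_mul, ← map_sub]
      have : (t' : C) * t * c - t' * (c * t) = 0 := by ring
      rw [this, map_zero]
    exact sub_eq_zero.mp (hs _ h9)
  have h10 : (t' : C) * t ∈ 𝔪 := hI𝔪 h8
  rcases h𝔪.isPrime.mem_or_mem h10 with h11 | h11
  · exact t'.2 h11
  · exact t.2 h11

/-- `A[T]/(T^N - f)` is étale over `A` when `f` and `N` are units of `A`. -/
theorem etale_adjoinRoot {A : Type u} [CommRing A] (N : ℕ) (hN : 0 < N) (f : A) (hf : IsUnit f)
    (hNu : IsUnit ((N : ℕ) : A)) : Algebra.Etale A (AdjoinRoot (X ^ N - C f : A[X])) := by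
  obtain ⟨e, rfl⟩ : ∃ e, N = e + 1 := ⟨N - 1, by omega⟩
  obtain ⟨dinv, hdinv⟩ := hNu.exists_right_inv
  obtain ⟨finv, hfinv⟩ := hf.exists_right_inv
  have hC1 : (C (((e + 1 : ℕ) : A)) : A[X]) * C dinv = 1 := by
    rw [← C_mul, hdinv, C_1]
  have hC2 : (C f : A[X]) * C finv = 1 := by
    rw [← C_mul, hfinv, C_1]
  let P : StandardEtalePair A :=
    { f := X ^ (e + 1) - C f
      monic_f := monic_X_pow_sub_C _ (Nat.succ_ne_zero e)
      g := 1
      cond := ⟨C (dinv * finv) * X, - C finv, 0, by
        rw [derivative_sub, derivative_X_pow, derivative_C, C_mul, pow_zero,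
          Nat.add_sub_cancel]
        linear_combination (X ^ (e + 1) * C finv) * hC1 + hC2⟩ }
  have e1 : P.Ring ≃ₐ[A] Localization.Away (AdjoinRoot.mk P.f P.g) := P.equivAwayAdjoinRoot
  have e2 : AdjoinRoot P.f ≃ₐ[A] Localization.Away (AdjoinRoot.mk P.f P.g) :=
    (IsLocalization.atUnits (AdjoinRoot P.f) (Submonoid.powers (AdjoinRoot.mk P.f P.g)) (by
      rintro x ⟨n, rfl⟩
      change IsUnit ((AdjoinRoot.mk P.f (1 : A[X])) ^ n)
      rw [map_one, one_pow]
      exact isUnit_one)).restrictScalars A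
  exact Algebra.Etale.of_equiv (e1.trans e2.symm)

open CategoryTheory AlgebraicGeometry Opposite TopologicalSpace

/-- étaleness of the restriction over an affine open, from the ring map -/
theorem etale_restrict_of_app {X Y : Scheme.{u}} (π : Y ⟶ X) [IsAffineHom π] (U : X.Opens)
    (hU : IsAffineOpen U) (h : (π.app U).hom.Etale) : Etale (π ∣_ U) := by
  haveI : IsAffine U.toScheme := hU
  haveI : IsAffine (π ⁻¹ᵁ U).toScheme := hU.preimage π
  rw [HasRingHomProperty.iff_of_isAffine (P := @Etale)]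
  have this : ∀ V : X.Opens, V = U → (π.app V).hom.Etale := by
    rintro V rfl
    exact h
  have h2 : RingHom.Etale (π.app (U.ι ''ᵁ ⊤) ≫
      Y.presheaf.map (eqToHom (image_morphismRestrict_preimage π U ⊤)).op).hom := by
    rw [CommRingCat.hom_comp, RingHom.Etale.respectsIso.cancel_right_isIso]
    exact this _ (by simp)
  rw [morphismRestrict_appTop]
  exact h2

theorem etale_restrict_of_cover {X Y : Scheme.{u}} (π : Y ⟶ X) (W : X.Opens)
    (H : ∀ x ∈ W, ∃ U : X.Opens, x ∈ U ∧ U ≤ W ∧ Etale (π ∣_ U)) : Etale (π ∣_ W) := by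
  apply IsZariskiLocalAtTarget.of_forall_exists_morphismRestrict (P := @Etale)
  intro x
  obtain ⟨U, hxU, hUW, hU⟩ := H x.1 x.2
  refine ⟨W.ι ⁻¹ᵁ U, hxU, ?_⟩
  rw [MorphismProperty.arrow_mk_iso_iff @Etale (morphismRestrictRestrict π W (W.ι ⁻¹ᵁ U))]
  have e : W.ι ''ᵁ (W.ι ⁻¹ᵁ U) = U := by
    rw [Scheme.Hom.image_preimage_eq_opensRange_inf, Scheme.Opens.opensRange_ι]
    exact inf_eq_right.mpr hUW
  rw [MorphismProperty.arrow_mk_iso_iff @Etale (morphismRestrictEq π e)]
  exact hU

end Groth.Agent.Lib.helper8.CycEt
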