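import Groth.Prelude.Def_CycCov
import Groth.Agent.Lib.Helper8.CycEt1
import Groth.Agent.Lib.Helper12.NormSec2

/-!
# Charts of a root datum and restriction (helper8)
-/

set_option autoImplicit false
universe u
open CategoryTheory AlgebraicGeometry Opposite TopologicalSpace Polynomial

namespace Groth.Agent.Lib.helper8.CycEt

open Groth.Agent.Lib.Helper12.NormSec

variable {X Y : Scheme.{u}} {L : X.Modules} {N : ℕ}
  {s : Coh.structureModule X ⟶ CohB1.tensorPow L N} {π : Y ⟶ X} (R : CycCov.Root L N s π)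

theorem lpow_eq (U : X.Opens) (e : L.val.obj (op U)) (n : ℕ) :
    CycCov.lpow L U e n = Groth.Agent.Lib.Helper12.NormSec.lpow L e n := by
  induction n with
  | zero => rfl
  | succ n ih =>
    change SecTwist.tmul _ _ U (CycCov.lpow L U e n) e = _
    rw [ih]
    rfl

theorem chart_mk (U : X.affineOpens) (e : L.val.obj (op U.1)) (he : CycCov.IsGen L U.1 e)
    (f : Γ(X, U.1)) (hf : SecTwist.val s U.1 = f • CycCov.lpow L U.1 e N) (p : Γ(X, U.1)[X]) :
    CycCov.chart R U e he f hf (AdjoinRoot.mk _ p) = p.eval₂ (π.app U.1).hom (R.t U e he) :=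
  AdjoinRoot.lift_mk _ _

theorem chart_of (U : X.affineOpens) (e : L.val.obj (op U.1)) (he : CycCov.IsGen L U.1 e)
    (f : Γ(X, U.1)) (hf : SecTwist.val s U.1 = f • CycCov.lpow L U.1 e N) (a : Γ(X, U.1)) :
    CycCov.chart R U e he f hf (AdjoinRoot.of _ a) = (π.app U.1).hom a :=
  AdjoinRoot.lift_of _

/-- restriction of the equation `s = f • e^N` -/
theorem hf_res {U V : X.Opens} (h : V ≤ U) (e : L.val.obj (op U)) (f : Γ(X, U))
    (hf : SecTwist.val s U = f • CycCov.lpow L U e N) :
    SecTwist.val s V = (X.presheaf.map (homOfLE h).op).hom f •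
      CycCov.lpow L V (L.val.map (homOfLE h).op e) N := by
  rw [← SecTwist.map_val s (homOfLE h), hf, lpow_eq, lpow_eq]
  have h1 := rs_smul (CohB1.tensorPow L N) h f (Groth.Agent.Lib.Helper12.NormSec.lpow L e N)
  have h2 := lpow_rs L h e N
  rw [h2] at h1
  exact h1

theorem chart_res (U V : X.affineOpens) (h : V.1 ≤ U.1) (e : L.val.obj (op U.1))
    (he : CycCov.IsGen L U.1 e) (he' : CycCov.IsGen L V.1 (L.val.map (homOfLE h).op e))
    (f : Γ(X, U.1)) (hf : SecTwist.val s U.1 = f • CycCov.lpow L U.1 e N) (p : Γ(X, U.1)[X]) :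
    (Y.presheaf.map (homOfLE (π.preimage_mono h)).op).hom
        (CycCov.chart R U e he f hf (AdjoinRoot.mk _ p)) =
      CycCov.chart R V _ he' _ (hf_res h e f hf)
        (AdjoinRoot.mk _ (p.map (X.presheaf.map (homOfLE h).op).hom)) := by
  rw [chart_mk, chart_mk, Polynomial.eval₂_map, ← R.t_res U V h e he he', Polynomial.hom_eval₂]
  congr 1
  have := π.naturality (homOfLE h).op
  ext a
  exact (congrArg (fun ψ => ψ.hom a) this).symm

end Groth.Agent.Lib.helper8.CycEt
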