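import Groth.Agent.Lib.Helper8.CycEt2
import Groth.Agent.Lib.Helper13.Normal2

/-!
# The normalised cyclic cover is étale away from the branch divisor: local part (helper8)

For a root datum `R` on `π : Y ⟶ X` (`X` integral and normal, `π` finite, `Y` normal) which is the
simple cyclic cover over a dense open `W₀` with dense preimage, and an affine open `U` with a frame
`e` of `L` in which `s = f • e^N` with `f` and `N` units: the chart `A[T]/(T^N - f) → Γ(Y, π⁻¹U)` is
bijective (`chart_bijective`) and `Γ(X, U) → Γ(Y, π⁻¹U)` is étale (`etale_app`).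
-/

set_option autoImplicit false
universe u
open CategoryTheory AlgebraicGeometry Opposite TopologicalSpace Polynomial

namespace Groth.Agent.Lib.helper8.CycEt

open Groth.Agent.Lib.Helper12.NormSec

theorem exists_rep {A : Type*} [CommRing A] [Nontrivial A] (g : A[X]) (hg : g.Monic)
    (c : AdjoinRoot g) : ∃ p : A[X], p.degree < g.degree ∧ AdjoinRoot.mk g p = c := by
  obtain ⟨q, rfl⟩ := AdjoinRoot.mk_surjective c
  refine ⟨q %ₘ g, degree_modByMonic_lt q hg, ?_⟩
  rw [AdjoinRoot.mk_eq_mk]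
  refine ⟨-(q /ₘ g), ?_⟩
  have := modByMonic_add_div q g
  linear_combination this

theorem eq_zero_of_mk_eq_zero {A : Type*} [CommRing A] (g : A[X]) (hg : g.Monic) (p : A[X])
    (hp : p.degree < g.degree) (h : AdjoinRoot.mk g p = 0) : p = 0 := by
  rw [AdjoinRoot.mk_eq_zero] at h
  by_contra h0
  exact hg.not_dvd_of_degree_lt h0 hp h

variable {X Y : Scheme.{u}} {L : X.Modules} {N : ℕ}
  {s : Coh.structureModule X ⟶ CohB1.tensorPow L N} {π : Y ⟶ X} (R : CycCov.Root L N s π)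

/-- over an affine open where the chart is bijective, functions on `Y` are torsion free over
functions on `X` -/
theorem mul_eq_zero_of_simple [IsIntegral X] (hN : 0 < N) (V : X.affineOpens) [Nonempty V.1]
    (eV : L.val.obj (op V.1)) (heV : CycCov.IsGen L V.1 eV) (fV : Γ(X, V.1))
    (hfV : SecTwist.val s V.1 = fV • CycCov.lpow L V.1 eV N)
    (hbij : Function.Bijective (CycCov.chart R V eV heV fV hfV))
    (a : Γ(X, V.1)) (ha : a ≠ 0) (b' : Γ(Y, π ⁻¹ᵁ V.1))
    (hab : (π.app V.1).hom a * b' = 0) : b' = 0 := by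
  obtain ⟨c, rfl⟩ := hbij.2 b'
  have hg : (Polynomial.X ^ N - C fV : Γ(X, V.1)[X]).Monic := monic_X_pow_sub_C _ hN.ne'
  obtain ⟨p, hp, rfl⟩ := exists_rep _ hg c
  rw [← chart_of R V eV heV fV hfV a, ← map_mul] at hab
  have h1 := hbij.1 (hab.trans (map_zero _).symm)
  rw [AdjoinRoot.of, RingHom.comp_apply, ← map_mul] at h1
  have h2 : C a * p = 0 := by
    refine eq_zero_of_mk_eq_zero _ hg _ (lt_of_le_of_lt ?_ hp) h1
    rw [degree_C_mul ha]
  rcases mul_eq_zero.mp h2 with h3 | h3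
  · exact absurd (C_eq_zero.mp h3) ha
  · rw [h3, map_zero, map_zero]


theorem isGen_res {U V : X.Opens} (h : V ≤ U) (e : L.val.obj (op U)) (hgen : IsGen L U e) :
    CycCov.IsGen L V (L.val.map (homOfLE h).op e) := hgen V h

theorem app_res {U V : X.Opens} (h : V ≤ U) (a : Γ(X, U)) :
    (π.app V).hom ((X.presheaf.map (homOfLE h).op).hom a) =
      (Y.presheaf.map (homOfLE (π.preimage_mono h)).op).hom ((π.app U).hom a) := by
  have := π.naturality (homOfLE h).op
  exact congrArg (fun ψ => ψ.hom a) this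

theorem exists_pow_mul_eq_zero_of_res_preimage (U : X.Opens) (hU' : IsAffineOpen (π ⁻¹ᵁ U))
    (h' : Γ(X, U)) (x : Γ(Y, π ⁻¹ᵁ U))
    (H : (Y.presheaf.map (homOfLE (π.preimage_mono (X.basicOpen_le h'))).op).hom x = 0) :
    ∃ n : ℕ, (π.app U).hom h' ^ n * x = 0 := by
  apply exists_pow_mul_eq_zero_of_res_basicOpen_eq_zero_of_isAffineOpen Y hU' x
  have e : Y.basicOpen ((π.app U).hom h') = π ⁻¹ᵁ X.basicOpen h' :=
    (Scheme.preimage_basicOpen π h').symm
  have h1 : (Y.presheaf.map (homOfLE e.le).op).hom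
      ((Y.presheaf.map (homOfLE (π.preimage_mono (X.basicOpen_le h'))).op).hom x) = 0 := by
    rw [H, map_zero]
  rw [← CommRingCat.comp_apply, ← Functor.map_comp] at h1
  exact h1

section Local

variable [IsIntegral X] (hN : 0 < N) (W₀ : X.Opens)
  (hch : ∀ (U : X.affineOpens), U.1 ≤ W₀ → ∀ (e : L.val.obj (op U.1)) (he : CycCov.IsGen L U.1 e)
    (f : Γ(X, U.1)) (hf : SecTwist.val s U.1 = f • CycCov.lpow L U.1 e N),
    Function.Bijective (CycCov.chart R U e he f hf))
  (U : X.affineOpens) (e : L.val.obj (op U.1)) (hgen : IsGen L U.1 e)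
  (he : CycCov.IsGen L U.1 e) (f : Γ(X, U.1)) (hf : SecTwist.val s U.1 = f • CycCov.lpow L U.1 e N)

/-- the basic open of `U` as an affine open -/
abbrev bV (h' : Γ(X, U.1)) : X.affineOpens := ⟨X.basicOpen h', U.2.basicOpen h'⟩

include hN hch hgen hf in
theorem res_eq_zero_small (h' : Γ(X, U.1)) (hle : X.basicOpen h' ≤ W₀) (x : X)
    (hx : x ∈ X.basicOpen h') (h : Γ(X, U.1)) (hh : h ≠ 0) (b : Γ(Y, π ⁻¹ᵁ U.1))
    (hb : (π.app U.1).hom h * b = 0) :
    (Y.presheaf.map (homOfLE (π.preimage_mono (X.basicOpen_le h'))).op).hom b = 0 := by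
  haveI : Nonempty (bV U h').1 := ⟨⟨x, hx⟩⟩
  haveI : Nonempty (X.basicOpen h') := ⟨⟨x, hx⟩⟩
  refine mul_eq_zero_of_simple R hN (bV U h') _ (isGen_res (X.basicOpen_le h') e hgen) _
    (hf_res (X.basicOpen_le h') e f hf) (hch (bV U h') hle _ _ _ _)
    ((X.presheaf.map (homOfLE (X.basicOpen_le h')).op).hom h) ?_ _ ?_
  · intro h0
    apply hh
    apply map_injective_of_isIntegral X (homOfLE (X.basicOpen_le h'))
    rw [h0, map_zero]
  · change (π.app (X.basicOpen h')).hom _ * _ = 0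
    rw [app_res, ← map_mul, hb, map_zero]

include hN hch hgen hf in
theorem nonzerodiv [IsReduced Y] (hpre : Dense ((π ⁻¹ᵁ W₀ : Y.Opens) : Set Y))
    (h : Γ(X, U.1)) (hh : h ≠ 0) (b : Γ(Y, π ⁻¹ᵁ U.1))
    (hb : (π.app U.1).hom h * b = 0) : b = 0 := by
  rw [← basicOpen_eq_bot_iff]
  by_contra hne
  have hne' : ((Y.basicOpen b : Y.Opens) : Set Y).Nonempty := by
    rw [Set.nonempty_iff_ne_empty]
    intro h0
    apply hne
    ext1
    exact h0
  obtain ⟨y, hyb, hyW⟩ := hpre.inter_open_nonempty _ (Y.basicOpen b).2 hne'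
  have hyU : π y ∈ U.1 := Y.basicOpen_le b hyb
  obtain ⟨h', hle, hx⟩ := U.2.exists_basicOpen_le ⟨π y, hyW⟩ hyU
  have h0 := res_eq_zero_small R hN W₀ hch U e hgen f hf h' hle (π y) hx h hh b hb
  have h1 : y ∈ Y.basicOpen ((Y.presheaf.map
      (homOfLE (π.preimage_mono (X.basicOpen_le h'))).op).hom b) := by
    rw [Scheme.basicOpen_res]
    exact ⟨hx, hyb⟩
  rw [h0, Scheme.basicOpen_zero] at h1
  exact h1

include hN hch hgen in
theorem chart_injective (h' : Γ(X, U.1)) (hle : X.basicOpen h' ≤ W₀) (x : X)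
    (hx : x ∈ X.basicOpen h') :
    Function.Injective (CycCov.chart R U e he f hf) := by
  haveI : Nonempty (X.basicOpen h') := ⟨⟨x, hx⟩⟩
  haveI : Nonempty U.1 := ⟨⟨x, X.basicOpen_le h' hx⟩⟩
  rw [injective_iff_map_eq_zero]
  intro c hc
  have hg : (Polynomial.X ^ N - C f : Γ(X, U.1)[X]).Monic := monic_X_pow_sub_C _ hN.ne'
  obtain ⟨p, hp, rfl⟩ := exists_rep _ hg c
  have h1 := chart_res R U (bV U h') (X.basicOpen_le h') e he
    (isGen_res (X.basicOpen_le h') e hgen) f hf p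
  rw [hc, map_zero] at h1
  have hbij := hch (bV U h') hle _ (isGen_res (X.basicOpen_le h') e hgen) _
    (hf_res (X.basicOpen_le h') e f hf)
  have h2 := hbij.1 (h1.symm.trans (map_zero _).symm)
  have hg' : (Polynomial.X ^ N - C ((X.presheaf.map (homOfLE (X.basicOpen_le h')).op).hom f) :
      Γ(X, X.basicOpen h')[X]).Monic := monic_X_pow_sub_C _ hN.ne'
  have h3 : p.map (X.presheaf.map (homOfLE (X.basicOpen_le h')).op).hom = 0 := by
    refine eq_zero_of_mk_eq_zero _ hg' _ ?_ h2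
    refine lt_of_le_of_lt (degree_map_le) ?_
    rw [degree_X_pow_sub_C hN] at hp ⊢
    exact hp
  have h4 : p = 0 := by
    apply Polynomial.map_injective _ (map_injective_of_isIntegral X (homOfLE (X.basicOpen_le h')))
    rw [Polynomial.map_zero]
    exact h3
  rw [h4, map_zero]

omit [IsIntegral X] in
include hgen in
/-- if the chart over the basic open `D(h')` is bijective, then every function on `π⁻¹U` times a
power of `h'` is in the image of the chart over `U` -/
theorem exists_pow_mul_eq_chart' (hU' : IsAffineOpen (π ⁻¹ᵁ U.1)) (h' : Γ(X, U.1))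
    (hbij : Function.Bijective (CycCov.chart R (bV U h') _
      (isGen_res (X.basicOpen_le h') e hgen) _ (hf_res (X.basicOpen_le h') e f hf)))
    (b : Γ(Y, π ⁻¹ᵁ U.1)) :
    ∃ (n : ℕ) (c : AdjoinRoot (Polynomial.X ^ N - C f : Γ(X, U.1)[X])),
      (π.app U.1).hom h' ^ n * b = CycCov.chart R U e he f hf c := by
  obtain ⟨cV, hcV⟩ := hbij.2
    ((Y.presheaf.map (homOfLE (π.preimage_mono (X.basicOpen_le h'))).op).hom b)
  obtain ⟨q, rfl⟩ := AdjoinRoot.mk_surjective cV
  letI : Algebra Γ(X, U.1) Γ(X, X.basicOpen h') :=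
    (X.presheaf.map (homOfLE (X.basicOpen_le h')).op).hom.toAlgebra
  haveI : IsLocalization.Away h' Γ(X, X.basicOpen h') := U.2.isLocalization_basicOpen h'
  obtain ⟨_, ⟨n, rfl⟩, hp⟩ :=
    IsLocalization.integerNormalization_spec (Submonoid.powers h') q
  set p := IsLocalization.integerNormalization (Submonoid.powers h') q with hpdef
  have hp' : p.map (X.presheaf.map (homOfLE (X.basicOpen_le h')).op).hom =
      C ((X.presheaf.map (homOfLE (X.basicOpen_le h')).op).hom (h' ^ n)) * q := by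
    rw [← Polynomial.smul_eq_C_mul]
    exact hp
  have h1 := chart_res R U (bV U h') (X.basicOpen_le h') e he
    (isGen_res (X.basicOpen_le h') e hgen) f hf p
  rw [hp', map_mul, AdjoinRoot.mk_C, map_mul, chart_of, hcV] at h1
  have h2 : (Y.presheaf.map (homOfLE (π.preimage_mono (X.basicOpen_le h'))).op).hom
      ((π.app U.1).hom h' ^ n * b - CycCov.chart R U e he f hf (AdjoinRoot.mk _ p)) = 0 := by
    rw [map_sub, h1, map_mul, ← map_pow, ← app_res (X.basicOpen_le h')]
    exact sub_self _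
  obtain ⟨m, hm⟩ := exists_pow_mul_eq_zero_of_res_preimage U.1 hU' h' _ h2
  refine ⟨m + n, AdjoinRoot.of _ (h' ^ m) * AdjoinRoot.mk _ p, ?_⟩
  rw [map_mul, chart_of, map_pow, pow_add, mul_assoc]
  rw [mul_sub, sub_eq_zero] at hm
  exact hm

omit [IsIntegral X] in
include hch hgen in
theorem exists_pow_mul_eq_chart (hU' : IsAffineOpen (π ⁻¹ᵁ U.1)) (h' : Γ(X, U.1))
    (hle : X.basicOpen h' ≤ W₀) (b : Γ(Y, π ⁻¹ᵁ U.1)) :
    ∃ (n : ℕ) (c : AdjoinRoot (Polynomial.X ^ N - C f : Γ(X, U.1)[X])),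
      (π.app U.1).hom h' ^ n * b = CycCov.chart R U e he f hf c :=
  exists_pow_mul_eq_chart' R U e hgen he f hf hU' h'
    (hch (bV U h') hle _ (isGen_res (X.basicOpen_le h') e hgen) _
      (hf_res (X.basicOpen_le h') e f hf)) b

include hN hch hgen in
theorem chart_bijective (hX : Pi1.IsNormalScheme X) [IsFinite π] (hY : Pi1.IsNormalScheme Y)
    (hW₀ : Dense (W₀ : Set X)) (hpre : Dense ((π ⁻¹ᵁ W₀ : Y.Opens) : Set Y))
    [Nonempty U.1] (hfu : IsUnit f) (hNu : IsUnit ((N : ℕ) : Γ(X, U.1))) :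
    Function.Bijective (CycCov.chart R U e he f hf) := by
  haveI : IsReduced Y := Groth.Agent.Lib.helper13.Normal.isReduced hY
  have hU' : IsAffineOpen (π ⁻¹ᵁ U.1) := U.2.preimage π
  obtain ⟨x, hxU, hxW⟩ := hW₀.inter_open_nonempty U.1.1 U.1.2 ⟨_, (Classical.arbitrary U.1).2⟩
  obtain ⟨h', hle, hx⟩ := U.2.exists_basicOpen_le ⟨x, hxW⟩ hxU
  have hh' : h' ≠ 0 := by
    rintro rfl
    rw [Scheme.basicOpen_zero] at hx
    exact hx
  have hinj := chart_injective R hN W₀ hch U e hgen he f hf h' hle x hx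
  refine ⟨hinj, ?_⟩
  haveI := etale_adjoinRoot N hN f hfu hNu
  refine surjective_of_normal_of_away _ hinj ?_ ?_ (AdjoinRoot.of _ h') ?_ ?_
  · refine RingHom.IsIntegral.tower_top (AdjoinRoot.of _) _ ?_
    have : (CycCov.chart R U e he f hf).comp (AdjoinRoot.of _) = (π.app U.1).hom :=
      RingHom.ext (chart_of R U e he f hf)
    rw [this]
    exact (IsFinite.finite_app π U.1 U.2).to_isIntegral
  · intro 𝔪 _
    have hA := (Groth.Agent.Lib.helper13.Normal.iff_affineOpens X).mp hX U.1 U.2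
      (𝔪.comap (algebraMap Γ(X, U.1) (AdjoinRoot (Polynomial.X ^ N - C f : Γ(X, U.1)[X]))))
    exact Groth.Agent.Lib.Helper24.SmoothNormal.isDomain_isIntegrallyClosed_atPrime_of_smooth
      Γ(X, U.1) (AdjoinRoot (Polynomial.X ^ N - C f : Γ(X, U.1)[X])) 𝔪 hA.1 hA.2
  · intro b hb
    rw [chart_of] at hb
    exact nonzerodiv R hN W₀ hch U e hgen f hf hpre h' hh' b hb
  · intro b
    obtain ⟨n, c, hc⟩ := exists_pow_mul_eq_chart R W₀ hch U e hgen he f hf hU' h' hle b
    exact ⟨n, c, by rw [chart_of]; exact hc⟩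

include hN hch hgen he hf in
theorem etale_app (hX : Pi1.IsNormalScheme X) [IsFinite π] (hY : Pi1.IsNormalScheme Y)
    (hW₀ : Dense (W₀ : Set X)) (hpre : Dense ((π ⁻¹ᵁ W₀ : Y.Opens) : Set Y))
    [Nonempty U.1] (hfu : IsUnit f) (hNu : IsUnit ((N : ℕ) : Γ(X, U.1))) :
    (π.app U.1).hom.Etale := by
  have hbij := chart_bijective R hN W₀ hch U e hgen he f hf hX hY hW₀ hpre hfu hNu
  haveI := etale_adjoinRoot N hN f hfu hNu
  have h1 : (AdjoinRoot.of (Polynomial.X ^ N - C f : Γ(X, U.1)[X])).Etale := by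
    rw [← AdjoinRoot.algebraMap_eq, RingHom.etale_algebraMap]
    infer_instance
  have h2 := RingHom.Etale.respectsIso.1 _ (RingEquiv.ofBijective _ hbij) h1
  have : (RingEquiv.ofBijective _ hbij).toRingHom.comp
      (AdjoinRoot.of (Polynomial.X ^ N - C f : Γ(X, U.1)[X])) = (π.app U.1).hom :=
    RingHom.ext (chart_of R U e he f hf)
  rw [← this]
  exact h2

end Local


section Global

variable {X : Scheme.{u}}

theorem ideal_eq_top_of_disjoint (I : X.IdealSheafData) (U : X.affineOpens)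
    (h : Disjoint (U.1 : Set X) (I.support : Set X)) : I.ideal U = ⊤ := by
  rw [← PrimeSpectrum.zeroLocus_empty_iff_eq_top]
  have h1 := U.2.fromSpec_image_zeroLocus (I.ideal U : Set Γ(X, U.1))
  rw [← I.coe_support_inter U, Set.inter_comm, h.inter_eq] at h1
  exact Set.image_eq_empty.mp h1

theorem ideal_divIdeal_eq_top {r : ℕ} (D : Fin r → X.IdealSheafData) (α : Fin r → ℕ)
    (U : X.affineOpens)
    (hU : ∀ j, 0 < α j → Disjoint (U.1 : Set X) ((D j).support : Set X)) :
    (CycCov.divIdeal D α).ideal U = ⊤ := by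
  unfold CycCov.divIdeal
  refine Finset.prod_induction (fun j => D j ^ α j) (fun I : X.IdealSheafData => I.ideal U = ⊤)
    ?_ ?_ ?_
  · intro a b ha hb
    change a.ideal U * b.ideal U = ⊤
    rw [ha, hb, Ideal.mul_top]
  · rfl
  · intro j _
    change (D j).ideal U ^ α j = ⊤
    rcases Nat.eq_zero_or_pos (α j) with h0 | h0
    · rw [h0, pow_zero, Ideal.one_eq_top]
    · rw [ideal_eq_top_of_disjoint (D j) U (hU j h0), Ideal.top_pow]

theorem exists_isUnit_of_isZeroDiv {L : X.Modules} (hL : PicF.IsInvertible L) {N : ℕ}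
    (s : Coh.structureModule X ⟶ CohB1.tensorPow L N) (I : X.IdealSheafData)
    (hs : CycCov.IsZeroDiv (CohB1.tensorPow L N) s I) (U : X.affineOpens)
    (e : L.val.obj (op U.1)) (he : Function.Bijective (fun a : Γ(X, U.1) => a • e))
    (hI : I.ideal U = ⊤) :
    ∃ f : Γ(X, U.1), IsUnit f ∧ SecTwist.val s U.1 = f • CycCov.lpow L U.1 e N := by
  have hb := bijective_smul_lpow hL U.2 e he N
  obtain ⟨f, hf⟩ := hb.2 (SecTwist.val s U.1)
  have h1 := hs U
  rw [hI, Submodule.top_smul] at h1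
  have h2 : CycCov.lpow L U.1 e N ∈
      Submodule.span Γ(X, U.1) {SecTwist.val s U.1} := by
    rw [h1]
    exact Submodule.mem_top
  obtain ⟨a, ha⟩ := Submodule.mem_span_singleton.mp h2
  have hf' : f • CycCov.lpow L U.1 e N = SecTwist.val s U.1 := by
    rw [lpow_eq]
    exact hf
  refine ⟨f, ?_, hf'.symm⟩
  have h3 : (a * f) • CycCov.lpow L U.1 e N = (1 : Γ(X, U.1)) • CycCov.lpow L U.1 e N := by
    rw [mul_smul, one_smul, hf']
    exact ha
  rw [lpow_eq] at h3
  have h4 : a * f = 1 := hb.1 h3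
  exact IsUnit.of_mul_eq_one a (by rw [mul_comm]; exact h4)

theorem isUnit_natCast_of_field {k : Type u} [Field k] (f : X ⟶ Spec (CommRingCat.of k)) (N : ℕ)
    (hNk : (N : k) ≠ 0) (U : X.Opens) : IsUnit ((N : ℕ) : Γ(X, U)) := by
  let φ : k →+* Γ(X, U) := (X.presheaf.map (homOfLE (le_top : U ≤ ⊤)).op).hom.comp
    (f.appTop.hom.comp (Scheme.ΓSpecIso (CommRingCat.of k)).inv.hom)
  have := (IsUnit.mk0 _ hNk).map φ
  rwa [map_natCast] at this

theorem isNormal_of_smooth_field {k : Type u} [Field k] (f : X ⟶ Spec (CommRingCat.of k))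
    [Smooth f] : Pi1.IsNormalScheme X :=
  Groth.Agent.Lib.helper13.Normal.of_smooth f
    (Groth.Agent.Lib.helper13.Normal.Spec_of_isNormalDomain _ ⟨inferInstance, inferInstance⟩)

end Global

end Groth.Agent.Lib.helper8.CycEt
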