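import Groth.Agent.Lib.Helper8.CycEt3

/-!
# Irreducibility of normalised cyclic covers: field and ring lemmas (helper8)

* `X_pow_sub_C_irreducible_of_forall_prime`: `X^n - a` is irreducible over a field `K` if `a` is not
  a `p`-th power for any prime `p ∣ n` and, when `4 ∣ n`, `-1` is a square in `K`.
* `isDomain_adjoinRoot_of_irreducible_map`: for a monic `g` over a domain `A` which is irreducible
  over the fraction field, `A[X]/(g)` is a domain.
* `exists_prime_root_of_not_isDomain`: for `A` an integrally closed domain, if `A[X]/(X^N - a)` is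
  not a domain then `a` is a `p`-th power in `A` for some prime `p ∣ N`.
-/

set_option autoImplicit false
universe u
open Polynomial IntermediateField

namespace Groth.Agent.Lib.helper8.CycIrr

open Groth.Agent.Lib.helper8.CycEt

/-- Kummer irreducibility criterion when `-1` is a square (for `4 ∣ n`) -/
theorem X_pow_sub_C_irreducible_of_forall_prime {K : Type u} [Field K] {n : ℕ} (hn0 : n ≠ 0)
    {a : K} (hneg : 4 ∣ n → ∃ i : K, i ^ 2 = -1)
    (ha : ∀ p : ℕ, p.Prime → p ∣ n → ∀ b : K, b ^ p ≠ a) : Irreducible (X ^ n - C a) := by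
  induction n using induction_on_primes generalizing K a with
  | zero => exact absurd rfl hn0
  | one => simpa using irreducible_X_sub_C a
  | prime_mul p n hp IH =>
    rw [mul_comm]
    apply X_pow_mul_sub_C_irreducible
      (X_pow_sub_C_irreducible_of_prime hp (ha p hp (dvd_mul_right _ _)))
    intro E _ _ x hx
    have hint : IsIntegral K x := not_not.mp fun h ↦ by
      simpa only [degree_zero, degree_X_pow_sub_C hp.pos,
        WithBot.natCast_ne_bot] using congr_arg degree (hx.symm.trans (dif_neg h))
    have hn0' : n ≠ 0 := right_ne_zero_of_mul hn0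
    apply IH hn0'
    · intro h4
      obtain ⟨i, hi⟩ := hneg (Dvd.dvd.mul_left h4 p)
      exact ⟨algebraMap K K⟮x⟯ i, by rw [← map_pow, hi, map_neg, map_one]⟩
    · intro q hq hqn b hb
      have key : (Algebra.norm K b) ^ q = (-1) ^ (p + 1) * a := by
        rw [← map_pow, hb, ← adjoin.powerBasis_gen hint,
          Algebra.PowerBasis.norm_gen_eq_coeff_zero_minpoly]
        simp [minpoly_gen, hx, hp.ne_zero.symm]
        ring
      rcases hp.eq_two_or_odd' with h2 | hodd
      · subst h2
        have key2 : (Algebra.norm K b) ^ q = -a := by rw [key]; ring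
        rcases hq.eq_two_or_odd' with hq2 | hqodd
        · subst hq2
          obtain ⟨i, hi⟩ := hneg (by
            obtain ⟨m, rfl⟩ := hqn
            exact ⟨m, by ring⟩)
          apply ha 2 hq (dvd_mul_of_dvd_right hqn 2) (i * Algebra.norm K b)
          rw [mul_pow, hi, key2]
          ring
        · apply ha q hq (dvd_mul_of_dvd_right hqn 2) (-Algebra.norm K b)
          rw [hqodd.neg_pow, key2]
          ring
      · apply ha q hq (dvd_mul_of_dvd_right hqn p) (Algebra.norm K b)
        rw [key, (hodd.add_one).neg_one_pow, one_mul]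

/-- for a monic polynomial over a domain which is irreducible over the fraction field, the quotient
is a domain -/
theorem isDomain_adjoinRoot_of_irreducible_map {A : Type u} [CommRing A] [IsDomain A]
    (g : A[X]) (hg : g.Monic)
    (hirr : Irreducible (g.map (algebraMap A (FractionRing A)))) :
    IsDomain (AdjoinRoot g) := by
  set K := FractionRing A
  set gK : K[X] := g.map (algebraMap A K) with hgK
  haveI : Fact (Irreducible gK) := ⟨hirr⟩
  have hgKm : gK.Monic := hg.map _
  let φ : AdjoinRoot g →+* AdjoinRoot gK :=
    AdjoinRoot.lift ((AdjoinRoot.of gK).comp (algebraMap A K)) (AdjoinRoot.root gK) (by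
      rw [← Polynomial.eval₂_map, ← hgK]
      exact AdjoinRoot.eval₂_root gK)
  have hφ : ∀ p : A[X], φ (AdjoinRoot.mk g p) = AdjoinRoot.mk gK (p.map (algebraMap A K)) := by
    intro p
    rw [AdjoinRoot.lift_mk, ← Polynomial.eval₂_map, ← AdjoinRoot.aeval_eq]
    rfl
  have hinj : Function.Injective φ := by
    rw [injective_iff_map_eq_zero]
    intro c hc
    obtain ⟨p, hp, rfl⟩ := exists_rep g hg c
    rw [hφ] at hc
    have h1 : p.map (algebraMap A K) = 0 := by
      refine eq_zero_of_mk_eq_zero gK hgKm _ ?_ hc
      rw [hgK, degree_map_eq_of_injective (IsFractionRing.injective A K),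
        degree_map_eq_of_injective (IsFractionRing.injective A K)]
      exact hp
    have h2 : p = 0 := by
      apply Polynomial.map_injective _ (IsFractionRing.injective A K)
      rw [h1, Polynomial.map_zero]
    rw [h2, map_zero]
  exact hinj.isDomain φ

/-- if `A[X]/(X^N - a)` is not a domain over an integrally closed domain `A` in which `-1` is a
square (when `4 ∣ N`), then `a` is a `p`-th power for some prime `p ∣ N` -/
theorem exists_prime_root_of_not_isDomain {A : Type u} [CommRing A] [IsDomain A]
    [IsIntegrallyClosed A] {N : ℕ} (hN : 0 < N) (a : A) (hneg : 4 ∣ N → ∃ i : A, i ^ 2 = -1)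
    (h : ¬ IsDomain (AdjoinRoot (X ^ N - C a : A[X]))) :
    ∃ p : ℕ, p.Prime ∧ p ∣ N ∧ ∃ c : A, c ^ p = a := by
  by_contra hcon
  push_neg at hcon
  apply h
  apply isDomain_adjoinRoot_of_irreducible_map _ (monic_X_pow_sub_C _ hN.ne')
  rw [Polynomial.map_sub, Polynomial.map_pow, Polynomial.map_X, Polynomial.map_C]
  apply X_pow_sub_C_irreducible_of_forall_prime hN.ne'
  · intro h4
    obtain ⟨i, hi⟩ := hneg h4
    exact ⟨algebraMap A (FractionRing A) i, by rw [← map_pow, hi, map_neg, map_one]⟩
  · intro p hp hpN b hb
    have hint : IsIntegral A (b ^ p) := by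
      rw [hb]
      exact isIntegral_algebraMap
    obtain ⟨c, rfl⟩ := IsIntegrallyClosed.exists_algebraMap_eq_of_isIntegral_pow hp.pos hint
    apply hcon p hp hpN c
    apply IsFractionRing.injective A (FractionRing A)
    rw [map_pow, hb]

end Groth.Agent.Lib.helper8.CycIrr
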