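import Groth.Agent.Lib.Helper8.CycIrr1

/-!
# Irreducibility of normalised cyclic covers: geometric lemmas (helper8)

* `exists_frame`: frames of an invertible module on small affine neighbourhoods.
* `rs_injective`: on an integral scheme, restriction of sections of an invertible module to a
  nonempty open is injective.
* `inter_preimage_nonempty`: on a normalised cyclic cover `π : Y ⟶ X`, every nonempty open of `Y`
  meets the preimage of every nonempty open of `X`.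
* `exists_prime_root`: if `Y` is not irreducible, on some small affine open the coefficient of `s`
  is a `p`-th power for a prime `p ∣ N`.
* `not_irreducibleSpace_of_pow`: if the coefficients of `s` are `μ`-th powers (`1 < μ ∣ N`) then `Y`
  is not irreducible.
-/

set_option autoImplicit false
universe u
open CategoryTheory AlgebraicGeometry Opposite TopologicalSpace Polynomial

namespace Groth.Agent.Lib.helper8.CycIrr

open Groth.Agent.Lib.helper8.CycEt Groth.Agent.Lib.Helper12.NormSec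
open Groth.Agent.Lib.helper12.TwistExtend

theorem exists_frame {X : Scheme.{u}} {L : X.Modules} (hL : PicF.IsInvertible L) (x : X)
    (V : X.Opens) (hx : x ∈ V) :
    ∃ (U : X.affineOpens) (e : L.val.obj (op U.1)), x ∈ U.1 ∧ U.1 ≤ V ∧ IsGen L U.1 e := by
  obtain ⟨U₀, hxU₀, hT⟩ := hL x
  obtain ⟨U, hU, hxU, hUle⟩ := exists_isAffineOpen_mem_and_subset (x := x)
    (U := U₀ ⊓ V) ⟨hxU₀, hx⟩
  obtain ⟨e, hgen⟩ := exists_isGen_of_isTrivOn hT (hUle.trans inf_le_left)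
  exact ⟨⟨U, hU⟩, e, hxU, hUle.trans inf_le_right, hgen⟩

theorem isGen_self {X : Scheme.{u}} {L : X.Modules} {U : X.Opens} {e : L.val.obj (op U)}
    (hgen : IsGen L U e) : CycCov.IsGen L U e := by
  have := hgen U le_rfl
  rw [rs_self] at this
  exact this

/-- restriction of sections of an invertible module to a nonempty open is injective on an integral
scheme -/
theorem rs_injective {X : Scheme.{u}} [IsIntegral X] {M : X.Modules} (hM : PicF.IsInvertible M)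
    {V V' : X.Opens} (h : V ≤ V') (hne : (V : Set X).Nonempty) (x y : M.val.obj (op V'))
    (hxy : rs M h x = rs M h y) : x = y := by
  have key : ∀ z : V', ∃ (U : X.affineOpens) (e : M.val.obj (op U.1)),
      z.1 ∈ U.1 ∧ U.1 ≤ V' ∧ IsGen M U.1 e := fun z => exists_frame hM z.1 V' z.2
  choose U e hzU hUV hgen using key
  refine eq_of_cover M (fun z : V' => (U z).1) V' hUV ?_ x y ?_
  · intro z hz
    exact Opens.mem_iSup.mpr ⟨⟨z, hz⟩, hzU ⟨z, hz⟩⟩
  · intro z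
    change rs M (hUV z) x = rs M (hUV z) y
    obtain ⟨a, ha⟩ := (isGen_self (hgen z)).2 (rs M (hUV z) x)
    obtain ⟨b, hb⟩ := (isGen_self (hgen z)).2 (rs M (hUV z) y)
    have ha' : a • e z = rs M (hUV z) x := ha
    have hb' : b • e z = rs M (hUV z) y := hb
    obtain ⟨w, hwU, hwV⟩ := nonempty_preirreducible_inter (U z).1.2 V.2 ⟨z.1, hzU z⟩ hne
    have hW : (U z).1 ⊓ V ≤ (U z).1 := inf_le_left
    haveI : Nonempty ((U z).1 ⊓ V : X.Opens) := ⟨⟨w, hwU, hwV⟩⟩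
    have h1 : rs M hW (rs M (hUV z) x) = rs M hW (rs M (hUV z) y) := by
      rw [rs_rs, rs_rs]
      have e1 : rs M (hW.trans (hUV z)) x = rs M (inf_le_right : (U z).1 ⊓ V ≤ V) (rs M h x) := by
        rw [rs_rs]
      have e2 : rs M (hW.trans (hUV z)) y = rs M (inf_le_right : (U z).1 ⊓ V ≤ V) (rs M h y) := by
        rw [rs_rs]
      rw [e1, e2, hxy]
    have h1' : rf hW a • rs M hW (e z) = rf hW b • rs M hW (e z) := by
      have e1 := rs_smul M hW a (e z)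
      have e2 := rs_smul M hW b (e z)
      refine e1.symm.trans (Eq.trans ?_ e2)
      exact (congrArg (rs M hW) ha').trans (h1.trans (congrArg (rs M hW) hb').symm)
    have h2 := (hgen z _ hW).1 h1'
    have h3 : a = b := map_injective_of_isIntegral X (homOfLE hW) h2
    rw [← ha', ← hb', h3]

theorem subsingleton_of_not_nonempty {X : Scheme.{u}} [IsReduced X] (U : X.Opens)
    (hU : ¬ (U : Set X).Nonempty) : Subsingleton Γ(X, U) := by
  have h1 : X.basicOpen (1 : Γ(X, U)) = ⊥ := by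
    ext1
    rw [Set.not_nonempty_iff_eq_empty] at hU
    apply Set.eq_empty_of_subset_empty
    intro z hz
    have := X.basicOpen_le (1 : Γ(X, U)) hz
    rw [← hU]
    exact this
  rw [basicOpen_eq_bot_iff] at h1
  exact subsingleton_of_zero_eq_one h1.symm

/-- `A[X]/(X^N - b^μ)` is not a domain for `1 < μ ∣ N` -/
theorem not_isDomain_adjoinRoot_pow {A : Type*} [CommRing A] [Nontrivial A] {N μ : ℕ}
    (hN : 0 < N) (hμ : 1 < μ) (hμN : μ ∣ N) (b : A) :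
    ¬ IsDomain (AdjoinRoot (X ^ N - C (b ^ μ) : A[X])) := by
  intro hdom
  obtain ⟨d, rfl⟩ := hμN
  have hd : 0 < d := Nat.pos_of_mul_pos_left hN
  set G : A[X] := X ^ (μ * d) - C (b ^ μ) with hG
  have hGm : G.Monic := monic_X_pow_sub_C _ hN.ne'
  set P : A[X] := X ^ d - C b with hP
  have hPm : P.Monic := monic_X_pow_sub_C _ hd.ne'
  set Q : A[X] := ∑ i ∈ Finset.range μ, (X ^ d) ^ i * (C b) ^ (μ - 1 - i) with hQ
  have hQP : Q * P = G := by
    rw [hQ, hP, geom_sum₂_mul, hG, ← pow_mul, mul_comm d μ, C_pow]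
  have hGdeg : G.natDegree = μ * d := natDegree_X_pow_sub_C
  have hPdeg : P.natDegree = d := natDegree_X_pow_sub_C
  have h0 : AdjoinRoot.mk G Q * AdjoinRoot.mk G P = 0 := by
    rw [← map_mul, hQP]
    exact AdjoinRoot.mk_self
  rcases mul_eq_zero.mp h0 with h1 | h1
  · by_cases hQ0 : Q = 0
    · rw [hQ0, zero_mul] at hQP
      exact hGm.ne_zero hQP.symm
    · apply hQ0
      refine eq_zero_of_mk_eq_zero G hGm Q ?_ h1
      apply degree_lt_degree
      have h2 : (Q * P).natDegree = Q.natDegree + P.natDegree := hPm.natDegree_mul' hQ0 |> fun h => by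
        rw [mul_comm, h, add_comm]
      rw [hQP, hGdeg, hPdeg] at h2
      rw [hGdeg, h2]
      omega
  · apply hPm.ne_zero
    refine eq_zero_of_mk_eq_zero G hGm P ?_ h1
    apply degree_lt_degree
    rw [hGdeg, hPdeg]
    calc d = 1 * d := (one_mul d).symm
      _ < μ * d := Nat.mul_lt_mul_of_pos_right hμ hd

section Cover

variable {X Y : Scheme.{u}} [IsIntegral X] {L : X.Modules} (hL : PicF.IsInvertible L) {N : ℕ}
  (hN : 0 < N) {s : Coh.structureModule X ⟶ CohB1.tensorPow L N} {π : Y ⟶ X}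
  (R : CycCov.Root L N s π) (hR : CycCov.IsCover R)

omit [IsIntegral X] in
include hL in
/-- the coefficient of `s` in a frame -/
theorem exists_coeff (U : X.affineOpens) (e : L.val.obj (op U.1)) (he : CycCov.IsGen L U.1 e)
    (n : ℕ) (t : Coh.structureModule X ⟶ CohB1.tensorPow L n) :
    ∃ a : Γ(X, U.1), SecTwist.val t U.1 = a • CycCov.lpow L U.1 e n := by
  obtain ⟨a, ha⟩ := (bijective_smul_lpow hL U.2 e he n).2 (SecTwist.val t U.1)
  refine ⟨a, ?_⟩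
  rw [lpow_eq]
  exact ha.symm

include hL hN hR in
/-- every nonempty open of the cover meets the preimage of every nonempty open of the base -/
theorem inter_preimage_nonempty (V : Y.Opens) (hV : (V : Set Y).Nonempty) (U : X.Opens)
    (hU : (U : Set X).Nonempty) : ((V ⊓ π ⁻¹ᵁ U : Y.Opens) : Set Y).Nonempty := by
  obtain ⟨hfin, hY, W₀, hW₀, hpre, hch⟩ := hR
  haveI := hfin
  haveI : IsReduced Y := Groth.Agent.Lib.helper13.Normal.isReduced hY
  obtain ⟨y, hy⟩ := hV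
  obtain ⟨U', e', hxU', -, hgen'⟩ := exists_frame hL (π y) ⊤ trivial
  obtain ⟨f', hf'⟩ := exists_coeff hL U' e' (isGen_self hgen') N s
  obtain ⟨x', hx'U', hx'U⟩ := nonempty_preirreducible_inter U'.1.2 U.2 ⟨π y, hxU'⟩ hU
  obtain ⟨h, hle, hx'h⟩ := U'.2.exists_basicOpen_le ⟨x', hx'U⟩ hx'U'
  have hh : h ≠ 0 := by
    rintro rfl
    rw [Scheme.basicOpen_zero] at hx'h
    exact hx'h
  have hU'aff : IsAffineOpen (π ⁻¹ᵁ U'.1) := U'.2.preimage π
  obtain ⟨b, hble, hyb⟩ := hU'aff.exists_basicOpen_le (V := V ⊓ π ⁻¹ᵁ U'.1)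
    ⟨y, ⟨hy, hxU'⟩⟩ hxU'
  have hb : b ≠ 0 := by
    rintro rfl
    rw [Scheme.basicOpen_zero] at hyb
    exact hyb
  have hne : (π.app U'.1).hom h * b ≠ 0 := fun h0 =>
    hb (nonzerodiv R hN W₀ hch U' e' hgen' f' hf' hpre h hh b h0)
  rw [Ne, ← basicOpen_eq_bot_iff] at hne
  obtain ⟨y', hy'⟩ : ((Y.basicOpen ((π.app U'.1).hom h * b) : Y.Opens) : Set Y).Nonempty := by
    rw [Set.nonempty_iff_ne_empty]
    intro h0
    apply hne
    ext1
    exact h0
  rw [Scheme.basicOpen_mul] at hy'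
  refine ⟨y', (hble hy'.2).1, ?_⟩
  have : y' ∈ π ⁻¹ᵁ X.basicOpen h := by
    rw [Scheme.preimage_basicOpen]
    exact hy'.1
  exact hle this

include hL hN hR in
/-- if the cover is not irreducible, the coefficient of `s` on some small affine open is a `p`-th
power for a prime `p ∣ N` -/
theorem exists_prime_root (hX : Pi1.IsNormalScheme X)
    (hneg : ∀ U : X.Opens, ∃ i : Γ(X, U), i ^ 2 = -1) (hirr : ¬ IrreducibleSpace Y) :
    ∃ (p : ℕ) (U₀ : X.affineOpens) (e₀ : L.val.obj (op U₀.1)) (a₀ c₀ : Γ(X, U₀.1)),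
      p.Prime ∧ p ∣ N ∧ (U₀.1 : Set X).Nonempty ∧ IsGen L U₀.1 e₀ ∧
        SecTwist.val s U₀.1 = a₀ • CycCov.lpow L U₀.1 e₀ N ∧ c₀ ^ p = a₀ := by
  have hR' := hR
  obtain ⟨hfin, hY, W₀, hW₀, hpre, hch⟩ := hR
  haveI := hfin
  haveI : IsReduced Y := Groth.Agent.Lib.helper13.Normal.isReduced hY
  obtain ⟨x₀, hx₀⟩ := hW₀.nonempty
  obtain ⟨U₀, e₀, hxU₀, hU₀W, hgen₀⟩ := exists_frame hL x₀ W₀ hx₀
  haveI : Nonempty U₀.1 := ⟨⟨x₀, hxU₀⟩⟩
  obtain ⟨a₀, ha₀⟩ := exists_coeff hL U₀ e₀ (isGen_self hgen₀) N s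
  have hbij := hch U₀ hU₀W e₀ (isGen_self hgen₀) a₀ ha₀
  -- `Y` is nonempty
  have hnt : Nontrivial Γ(Y, π ⁻¹ᵁ U₀.1) := by
    haveI : Nontrivial (AdjoinRoot (Polynomial.X ^ N - C a₀ : Γ(X, U₀.1)[X])) :=
      AdjoinRoot.nontrivial _ (by
        rw [degree_X_pow_sub_C hN]
        exact_mod_cast hN.ne')
    exact hbij.1.nontrivial
  have hYne : Nonempty Y := by
    by_contra hcon
    have : ¬ ((π ⁻¹ᵁ U₀.1 : Y.Opens) : Set Y).Nonempty := fun ⟨y, _⟩ => hcon ⟨y⟩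
    haveI := subsingleton_of_not_nonempty _ this
    exact not_subsingleton Γ(Y, π ⁻¹ᵁ U₀.1) inferInstance
  -- two disjoint nonempty opens
  have hpre' : ¬ PreirreducibleSpace Y := fun h => hirr { toPreirreducibleSpace := h, toNonempty := hYne }
  have hex : ∃ V₁ V₂ : Y.Opens, (V₁ : Set Y).Nonempty ∧ (V₂ : Set Y).Nonempty ∧
      ((V₁ ⊓ V₂ : Y.Opens) : Set Y) = ∅ := by
    by_contra hcon
    apply hpre'
    refine ⟨fun u v hu hv hun hvn => ?_⟩
    rw [Set.univ_inter] at hun hvn ⊢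
    by_contra hcon2
    exact hcon ⟨⟨u, hu⟩, ⟨v, hv⟩, hun, hvn, Set.not_nonempty_iff_eq_empty.mp hcon2⟩
  obtain ⟨V₁, V₂, hV₁, hV₂, hdisj⟩ := hex
  have hV₁' := inter_preimage_nonempty hL hN R hR' V₁ hV₁ U₀.1 ⟨x₀, hxU₀⟩
  have hV₂' := inter_preimage_nonempty hL hN R hR' V₂ hV₂ U₀.1 ⟨x₀, hxU₀⟩
  have hU₀aff : IsAffineOpen (π ⁻¹ᵁ U₀.1) := U₀.2.preimage π
  obtain ⟨y₁, hy₁⟩ := hV₁'
  obtain ⟨y₂, hy₂⟩ := hV₂'
  obtain ⟨b₁, hb₁le, hyb₁⟩ := hU₀aff.exists_basicOpen_le (V := V₁ ⊓ π ⁻¹ᵁ U₀.1) ⟨y₁, hy₁⟩ hy₁.2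
  obtain ⟨b₂, hb₂le, hyb₂⟩ := hU₀aff.exists_basicOpen_le (V := V₂ ⊓ π ⁻¹ᵁ U₀.1) ⟨y₂, hy₂⟩ hy₂.2
  have hb₁ : b₁ ≠ 0 := by
    rintro rfl
    rw [Scheme.basicOpen_zero] at hyb₁
    exact hyb₁
  have hb₂ : b₂ ≠ 0 := by
    rintro rfl
    rw [Scheme.basicOpen_zero] at hyb₂
    exact hyb₂
  have hb₁₂ : b₁ * b₂ = 0 := by
    rw [← basicOpen_eq_bot_iff, Scheme.basicOpen_mul]
    ext1
    apply Set.eq_empty_of_subset_empty
    intro z hz
    rw [← hdisj]
    exact ⟨(hb₁le hz.1).1, (hb₂le hz.2).1⟩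
  -- transfer to the chart
  have hnd : ¬ IsDomain (AdjoinRoot (Polynomial.X ^ N - C a₀ : Γ(X, U₀.1)[X])) := by
    intro hdom
    obtain ⟨c₁, rfl⟩ := hbij.2 b₁
    obtain ⟨c₂, rfl⟩ := hbij.2 b₂
    rw [← map_mul] at hb₁₂
    have h0 := hbij.1 (hb₁₂.trans (map_zero _).symm)
    rcases mul_eq_zero.mp h0 with h1 | h1
    · exact hb₁ (by rw [h1, map_zero])
    · exact hb₂ (by rw [h1, map_zero])
  haveI : IsIntegrallyClosed Γ(X, U₀.1) := by
    apply IsIntegrallyClosed.of_localization_maximal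
    intro 𝔪 _ _
    exact ((Groth.Agent.Lib.helper13.Normal.iff_affineOpens X).mp hX U₀.1 U₀.2 𝔪).2
  obtain ⟨p, hp, hpN, c₀, hc₀⟩ := exists_prime_root_of_not_isDomain hN a₀ (fun _ => hneg U₀.1) hnd
  exact ⟨p, U₀, e₀, a₀, c₀, hp, hpN, ⟨x₀, hxU₀⟩, hgen₀, ha₀, hc₀⟩

include hL hN hR in
/-- if the coefficients of `s` are `μ`-th powers for some `1 < μ ∣ N`, the cover is not
irreducible -/
theorem not_irreducibleSpace_of_pow (μ : ℕ) (hμ : 1 < μ) (hμN : μ ∣ N)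
    (H : ∀ (U : X.affineOpens) (e : L.val.obj (op U.1)), IsGen L U.1 e → ∀ a : Γ(X, U.1),
      SecTwist.val s U.1 = a • CycCov.lpow L U.1 e N → ∃ b : Γ(X, U.1), a = b ^ μ) :
    ¬ IrreducibleSpace Y := by
  intro hirr
  obtain ⟨hfin, hY, W₀, hW₀, hpre, hch⟩ := hR
  haveI := hfin
  haveI : IsReduced Y := Groth.Agent.Lib.helper13.Normal.isReduced hY
  haveI : IsIntegral Y := isIntegral_of_irreducibleSpace_of_isReduced Y
  obtain ⟨x₀, hx₀⟩ := hW₀.nonempty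
  obtain ⟨U₀, e₀, hxU₀, hU₀W, hgen₀⟩ := exists_frame hL x₀ W₀ hx₀
  haveI : Nonempty U₀.1 := ⟨⟨x₀, hxU₀⟩⟩
  obtain ⟨a₀, ha₀⟩ := exists_coeff hL U₀ e₀ (isGen_self hgen₀) N s
  have hbij := hch U₀ hU₀W e₀ (isGen_self hgen₀) a₀ ha₀
  obtain ⟨b, rfl⟩ := H U₀ e₀ hgen₀ a₀ ha₀
  have hnt : Nontrivial Γ(Y, π ⁻¹ᵁ U₀.1) := by
    haveI : Nontrivial (AdjoinRoot (Polynomial.X ^ N - C (b ^ μ) : Γ(X, U₀.1)[X])) :=
      AdjoinRoot.nontrivial _ (by
        rw [degree_X_pow_sub_C hN]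
        exact_mod_cast hN.ne')
    exact hbij.1.nontrivial
  have hne : ((π ⁻¹ᵁ U₀.1 : Y.Opens) : Set Y).Nonempty := by
    by_contra hcon
    haveI := subsingleton_of_not_nonempty _ hcon
    exact not_subsingleton Γ(Y, π ⁻¹ᵁ U₀.1) inferInstance
  haveI : Nonempty (π ⁻¹ᵁ U₀.1 : Y.Opens) := ⟨⟨hne.some, hne.some_mem⟩⟩
  apply not_isDomain_adjoinRoot_pow (A := Γ(X, U₀.1)) hN hμ hμN b
  exact hbij.1.isDomain (CycCov.chart R U₀ e₀ (isGen_self hgen₀) (b ^ μ) ha₀)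

end Cover

end Groth.Agent.Lib.helper8.CycIrr
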