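import Groth.Agent.Lib.Helper8.CycEt1

/-!
# Ring lemmas for the smoothness of normalised cyclic covers (helper8)

* `exists_of_isIntegral_away`: a ring whose localisations at maximal ideals are integrally closed
  domains is integrally closed in its localisation at a nonzerodivisor.
* `formallySmooth_twistedKummer`: if `A` is formally smooth over `R₀[t_j]`, `c` is a unit of `A` and
  `m` is invertible in `A`, then `A[Z]/(Z^m - c t_{j₀})` is formally smooth over `R₀`.
-/

set_option autoImplicit false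
universe u
open Polynomial

namespace Groth.Agent.Lib.helper8.CycEt

theorem exists_of_isIntegral_away {C Ch : Type*} [CommRing C] [CommRing Ch] [Algebra C Ch] (h : C)
    [IsLocalization.Away h Ch]
    (hC : ∀ (𝔪 : Ideal C) [𝔪.IsMaximal],
      IsDomain (Localization.AtPrime 𝔪) ∧ IsIntegrallyClosed (Localization.AtPrime 𝔪))
    (hh : ∀ c : C, h * c = 0 → c = 0) (x : Ch) (hx : IsIntegral C x) :
    ∃ c : C, algebraMap C Ch c = x := by
  have hinj0 : Function.Injective (algebraMap C Ch) := by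
    apply IsLocalization.injective Ch (M := Submonoid.powers h)
    rintro _ ⟨n, rfl⟩
    rw [mem_nonZeroDivisors_iff_right]
    intro a ha
    change a * h ^ n = 0 at ha
    induction n with
    | zero => simpa using ha
    | succ n ih =>
      apply ih
      apply hh
      rw [← ha, pow_succ]
      ring
  let B' := integralClosure C Ch
  let φ : C →+* B' := algebraMap C B'
  have hφ : ∀ c, ((φ c : B') : Ch) = algebraMap C Ch c := fun c => rfl
  have hunit : IsUnit (algebraMap C Ch h) := IsLocalization.Away.algebraMap_isUnit h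
  have hsurj : Function.Surjective φ := by
    refine surjective_of_normal_of_away φ ?_ ?_ hC h ?_ ?_
    · intro a b hab
      apply hinj0
      rw [← hφ, ← hφ, hab]
    · intro b
      have hb : IsIntegral C (b : Ch) := b.2
      obtain ⟨p, hp, hpb⟩ := hb
      refine ⟨p, hp, ?_⟩
      apply Subtype.ext
      have : ((eval₂ φ b p : B') : Ch) = eval₂ (algebraMap C Ch) (b : Ch) p := by
        have h1 := Polynomial.hom_eval₂ p φ (B'.val : B' →+* Ch) b
        exact h1
      rw [this, hpb]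
      rfl
    · intro b hb
      apply Subtype.ext
      have h1 : algebraMap C Ch h * (b : Ch) = 0 := by
        have := congrArg (fun y : B' => (y : Ch)) hb
        exact this
      have := hunit.mul_right_eq_zero.mp h1
      simpa using this
    · intro b
      obtain ⟨n, a, ha⟩ := IsLocalization.Away.surj h (b : Ch)
      refine ⟨n, a, ?_⟩
      apply Subtype.ext
      have : ((φ h ^ n * b : B') : Ch) = algebraMap C Ch h ^ n * (b : Ch) := by
        simp [hφ]
      rw [this, hφ, ← ha, mul_comm]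
  obtain ⟨c, hc⟩ := hsurj ⟨x, hx⟩
  exact ⟨c, by rw [← hφ, hc]⟩

/-- lifting through a square-zero extension with prescribed values on the coordinates -/
theorem exists_lift_of_formallySmooth {R₀ A : Type u} [CommRing R₀] [CommRing A] [Algebra R₀ A]
    {J : Type u} (t : J → A)
    (hFS : @Algebra.FormallySmooth (MvPolynomial J R₀) A _ _
      (MvPolynomial.aeval (R := R₀) t).toRingHom.toAlgebra)
    {Q : Type u} [CommRing Q] [Algebra R₀ Q] (N : Ideal Q) (hN : N ^ 2 = ⊥)
    (γ : A →ₐ[R₀] Q ⧸ N) (τ : J → Q) (hτ : ∀ j, Ideal.Quotient.mk N (τ j) = γ (t j)) :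
    ∃ β : A →ₐ[R₀] Q, (∀ a, Ideal.Quotient.mk N (β a) = γ a) ∧ ∀ j, β (t j) = τ j := by
  letI algPA : Algebra (MvPolynomial J R₀) A := (MvPolynomial.aeval (R := R₀) t).toRingHom.toAlgebra
  letI algPQ : Algebra (MvPolynomial J R₀) Q :=
    (MvPolynomial.aeval (R := R₀) τ).toRingHom.toAlgebra
  haveI : Algebra.FormallySmooth (MvPolynomial J R₀) A := hFS
  have hcomm : ∀ p : MvPolynomial J R₀,
      γ (MvPolynomial.aeval (R := R₀) t p) =
        Ideal.Quotient.mk N (MvPolynomial.aeval (R := R₀) τ p) := by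
    intro p
    have h1 : (γ.toRingHom.comp (MvPolynomial.aeval (R := R₀) t).toRingHom) =
        (Ideal.Quotient.mk N).comp (MvPolynomial.aeval (R := R₀) τ).toRingHom := by
      apply MvPolynomial.ringHom_ext
      · intro r
        simp only [RingHom.comp_apply, AlgHom.toRingHom_eq_coe, RingHom.coe_coe,
          MvPolynomial.aeval_C]
        rw [AlgHom.commutes]
        rfl
      · intro j
        simp only [RingHom.comp_apply, AlgHom.toRingHom_eq_coe, RingHom.coe_coe,
          MvPolynomial.aeval_X]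
        exact (hτ j).symm
    exact RingHom.congr_fun h1 p
  let β₀ : A →ₐ[MvPolynomial J R₀] Q ⧸ N :=
    { toRingHom := γ.toRingHom
      commutes' := fun p => hcomm p }
  obtain ⟨β', hβ'⟩ := Algebra.FormallySmooth.comp_surjective (MvPolynomial J R₀) A N hN β₀
  have hβ'mk : ∀ a : A, Ideal.Quotient.mk N (β' a) = γ a := fun a => AlgHom.congr_fun hβ' a
  have hβ't : ∀ j, β' (t j) = τ j := by
    intro j
    have h1 : t j = algebraMap (MvPolynomial J R₀) A (MvPolynomial.X j) := by
      change t j = MvPolynomial.aeval (R := R₀) t (MvPolynomial.X j)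
      rw [MvPolynomial.aeval_X]
    rw [h1, AlgHom.commutes]
    change MvPolynomial.aeval (R := R₀) τ (MvPolynomial.X j) = τ j
    rw [MvPolynomial.aeval_X]
  have hβ'R : ∀ r : R₀, β' (algebraMap R₀ A r) = algebraMap R₀ Q r := by
    intro r
    have h1 : algebraMap R₀ A r = algebraMap (MvPolynomial J R₀) A (MvPolynomial.C r) := by
      change _ = MvPolynomial.aeval (R := R₀) t (MvPolynomial.C r)
      rw [MvPolynomial.aeval_C]
    rw [h1, AlgHom.commutes]
    change MvPolynomial.aeval (R := R₀) τ (MvPolynomial.C r) = _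
    rw [MvPolynomial.aeval_C]
  exact ⟨{ toRingHom := β'.toRingHom, commutes' := hβ'R }, hβ'mk, hβ't⟩


theorem add_pow_succ_of_mul_self_eq_zero {Q : Type*} [CommRing Q] (ζ η : Q) (hη : η * η = 0)
    (m : ℕ) : (ζ + η) ^ (m + 1) = ζ ^ (m + 1) + ((m + 1 : ℕ) : Q) * ζ ^ m * η := by
  induction m with
  | zero => simp
  | succ m ih =>
    rw [pow_succ, ih]
    have : (ζ ^ (m + 1) + ((m + 1 : ℕ) : Q) * ζ ^ m * η) * (ζ + η) =
        ζ ^ (m + 1 + 1) + ((m + 1 + 1 : ℕ) : Q) * ζ ^ (m + 1) * η +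
          ((m + 1 : ℕ) : Q) * ζ ^ m * (η * η) := by
      push_cast
      ring
    rw [this, hη, mul_zero, add_zero]

/-- **twisted Kummer algebras over a formally smooth chart are formally smooth** -/
theorem formallySmooth_twistedKummer {R₀ A : Type u} [CommRing R₀] [CommRing A] [Algebra R₀ A]
    {J : Type u} (t : J → A)
    (hFS : @Algebra.FormallySmooth (MvPolynomial J R₀) A _ _
      (MvPolynomial.aeval (R := R₀) t).toRingHom.toAlgebra)
    (j₀ : J) (c : A) (hc : IsUnit c) (m : ℕ) (hm : IsUnit ((m + 1 : ℕ) : A))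
    (P : A[X]) (hP : P = X ^ (m + 1) - C (c * t j₀)) :
    Algebra.FormallySmooth R₀ (AdjoinRoot P) := by
  classical
  refine Algebra.FormallySmooth.of_comp_surjective fun Q _ _ N hN g => ?_
  obtain ⟨c', hcc'⟩ := hc.exists_right_inv
  obtain ⟨mi, hmi⟩ := hm.exists_right_inv
  have hNN : ∀ x ∈ N, ∀ y ∈ N, x * y = 0 := by
    intro x hx y hy
    have : x * y ∈ N ^ 2 := by
      rw [pow_two]
      exact Ideal.mul_mem_mul hx hy
    rw [hN] at this
    exact this
  let ofA : A →ₐ[R₀] AdjoinRoot P := IsScalarTower.toAlgHom R₀ A (AdjoinRoot P)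
  have hofA : ∀ a, ofA a = AdjoinRoot.of P a := fun a => rfl
  have hroot : (AdjoinRoot.root P) ^ (m + 1) = AdjoinRoot.of P (c * t j₀) := by
    have : eval₂ (AdjoinRoot.of P) (AdjoinRoot.root P) (X ^ (m + 1) - C (c * t j₀)) = 0 := by
      rw [← hP]
      exact AdjoinRoot.eval₂_root P
    rw [eval₂_sub, eval₂_pow, eval₂_X, eval₂_C, sub_eq_zero] at this
    exact this
  let γ : A →ₐ[R₀] Q ⧸ N := g.comp ofA
  obtain ⟨ζ, hζ⟩ := Ideal.Quotient.mk_surjective (g (AdjoinRoot.root P))
  choose τ₀ hτ₀ using fun j => Ideal.Quotient.mk_surjective (γ (t j))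
  obtain ⟨β, hβmk, hβt⟩ := exists_lift_of_formallySmooth t hFS N hN γ τ₀ hτ₀
  have hβc : β c * β c' = 1 := by rw [← map_mul, hcc', map_one]
  -- first error term
  set ε : Q := ζ ^ (m + 1) - β c * τ₀ j₀ with hε
  have hεN : ε ∈ N := by
    rw [← Ideal.Quotient.eq_zero_iff_mem, hε, map_sub, map_pow, map_mul, hζ, hβmk, hτ₀,
      ← map_mul, ← map_pow]
    change g (AdjoinRoot.root P ^ (m + 1)) - g (ofA (c * t j₀)) = 0
    rw [hroot, hofA, sub_self]
  set δ : Q := β c' * ε with hδ
  have hδN : δ ∈ N := N.mul_mem_left _ hεN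
  let τ₁ : J → Q := Function.update τ₀ j₀ (τ₀ j₀ + δ)
  have hτ₁ : ∀ j, Ideal.Quotient.mk N (τ₁ j) = γ (t j) := by
    intro j
    by_cases hj : j = j₀
    · subst hj
      simp only [τ₁, Function.update_self, map_add, hτ₀]
      rw [Ideal.Quotient.eq_zero_iff_mem.mpr hδN, add_zero]
    · simp only [τ₁, Function.update_of_ne hj, hτ₀]
  obtain ⟨β', hβ'mk, hβ't⟩ := exists_lift_of_formallySmooth t hFS N hN γ τ₁ hτ₁
  have hβ'j₀ : β' (t j₀) = τ₀ j₀ + δ := by
    rw [hβ't]
    simp only [τ₁, Function.update_self]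
  set κ : Q := β' c - β c with hκ
  have hκN : κ ∈ N := by
    rw [← Ideal.Quotient.eq_zero_iff_mem, hκ, map_sub, hβ'mk, hβmk, sub_self]
  -- `τ₀ j₀ ≡ β c' * ζ^(m+1)` modulo `N`
  have hτζ : τ₀ j₀ - β c' * ζ ^ (m + 1) ∈ N := by
    rw [← Ideal.Quotient.eq_zero_iff_mem, map_sub, map_mul, map_pow, hζ, hβmk, hτ₀, ← map_pow,
      hroot]
    change g (ofA (t j₀)) - g (ofA c') * g (ofA (c * t j₀)) = 0
    rw [← map_mul, ← map_mul, ← mul_assoc, mul_comm c' c, hcc', one_mul, sub_self]
  set ν : Q := ζ * κ * β c' with hν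
  have hνN : ν ∈ N := by
    rw [hν, mul_assoc]
    exact N.mul_mem_left _ (N.mul_mem_right _ hκN)
  set η : Q := β' mi * ν with hη
  have hηN : η ∈ N := N.mul_mem_left _ hνN
  have hmQ : ((m + 1 : ℕ) : Q) * β' mi = 1 := by
    have : β' (((m + 1 : ℕ) : A) * mi) = 1 := by rw [hmi, map_one]
    rw [map_mul, map_natCast] at this
    exact this
  have hmain : (ζ + η) ^ (m + 1) = β' (c * t j₀) := by
    rw [add_pow_succ_of_mul_self_eq_zero ζ η (hNN η hηN η hηN) m, map_mul, hβ'j₀]
    have e1 : ((m + 1 : ℕ) : Q) * ζ ^ m * η = ζ ^ (m + 1) * κ * β c' := by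
      rw [hη, hν]
      calc ((m + 1 : ℕ) : Q) * ζ ^ m * (β' mi * (ζ * κ * β c'))
          = (((m + 1 : ℕ) : Q) * β' mi) * (ζ ^ (m + 1) * κ * β c') := by ring
        _ = ζ ^ (m + 1) * κ * β c' := by rw [hmQ, one_mul]
    have e2 : β' c = β c + κ := by rw [hκ]; ring
    have e3 : κ * δ = 0 := hNN κ hκN δ hδN
    have e4 : κ * τ₀ j₀ = κ * (β c' * ζ ^ (m + 1)) := by
      have := hNN κ hκN _ hτζ
      rw [mul_sub, sub_eq_zero] at this
      exact this
    have e5 : β c * δ = ε := by
      rw [hδ, ← mul_assoc, hβc, one_mul]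
    rw [e1, e2]
    calc ζ ^ (m + 1) + ζ ^ (m + 1) * κ * β c'
        = (β c * τ₀ j₀ + ε) + κ * (β c' * ζ ^ (m + 1)) := by rw [hε]; ring
      _ = (β c * τ₀ j₀ + β c * δ) + κ * τ₀ j₀ + κ * δ := by rw [e5, e4, e3, add_zero]
      _ = (β c + κ) * (τ₀ j₀ + δ) := by ring
  -- the lift
  have hev : eval₂ (β' : A →+* Q) (ζ + η) P = 0 := by
    rw [hP, eval₂_sub, eval₂_pow, eval₂_X, eval₂_C, sub_eq_zero]
    exact hmain
  let G₀ : AdjoinRoot P →+* Q := AdjoinRoot.lift (β' : A →+* Q) (ζ + η) hev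
  let G : AdjoinRoot P →ₐ[R₀] Q :=
    { toRingHom := G₀
      commutes' := fun r => by
        have : algebraMap R₀ (AdjoinRoot P) r = AdjoinRoot.of P (algebraMap R₀ A r) := rfl
        simp only [RingHom.toMonoidHom_eq_coe, OneHom.toFun_eq_coe, MonoidHom.toOneHom_coe,
          MonoidHom.coe_coe]
        rw [this]
        change AdjoinRoot.lift (β' : A →+* Q) (ζ + η) _ (AdjoinRoot.of P _) = _
        rw [AdjoinRoot.lift_of]
        exact β'.commutes r }
  refine ⟨G, ?_⟩
  apply AlgHom.coe_ringHom_injective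
  apply AdjoinRoot.ringHom_ext
  · ext a
    change Ideal.Quotient.mk N (AdjoinRoot.lift (β' : A →+* Q) (ζ + η) hev (AdjoinRoot.of P a)) =
      g (AdjoinRoot.of P a)
    rw [AdjoinRoot.lift_of]
    exact hβ'mk a
  · change Ideal.Quotient.mk N (AdjoinRoot.lift (β' : A →+* Q) (ζ + η) hev (AdjoinRoot.root P)) =
      g (AdjoinRoot.root P)
    rw [AdjoinRoot.lift_root, map_add, hζ, Ideal.Quotient.eq_zero_iff_mem.mpr hηN, add_zero]

end Groth.Agent.Lib.helper8.CycEt
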