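import Groth.Agent.Lib.Helper8.CycIrr2
import Groth.Agent.Lib.Helper8.CycSm1

/-!
# Irreducibility of normalised cyclic covers: gluing a root of the section (helper8)

`X` integral and normal, `L` invertible, `s` a section of `L^N`, `N = d * p`.  If on one nonempty
affine open with a frame the coefficient of `s` is a `p`-th power, then there is a global section
`T` of `L^d` with `s = T^p` in every frame (`exists_global_root`).
-/

set_option autoImplicit false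
universe u
open CategoryTheory AlgebraicGeometry Opposite TopologicalSpace Polynomial

namespace Groth.Agent.Lib.helper8.CycIrr

open Groth.Agent.Lib.helper8.CycEt Groth.Agent.Lib.Helper12.NormSec
open Groth.Agent.Lib.helper12.TwistExtend

section Root

variable {X : Scheme.{u}} [IsIntegral X] {L : X.Modules} (hL : PicF.IsInvertible L) {N : ℕ}
  {s : Coh.structureModule X ⟶ CohB1.tensorPow L N} (hX : Pi1.IsNormalScheme X)
  {p d : ℕ} (hp : 0 < p) (hNpd : N = d * p)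
  (U₀ : X.affineOpens) (e₀ : L.val.obj (op U₀.1)) (a₀ c₀ : Γ(X, U₀.1))
  (hne₀ : (U₀.1 : Set X).Nonempty)
  (ha₀ : SecTwist.val s U₀.1 = a₀ • CycCov.lpow L U₀.1 e₀ N) (hc₀ : c₀ ^ p = a₀)

omit [IsIntegral X] in
theorem val_res {U V : X.Opens} (h : V ≤ U) (e : L.val.obj (op U)) (f : Γ(X, U)) (n : ℕ)
    (t : Coh.structureModule X ⟶ CohB1.tensorPow L n)
    (hf : SecTwist.val t U = f • CycCov.lpow L U e n) :
    SecTwist.val t V = rf h f • lpow L (rs L h e) n := by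
  have := hf_res (s := t) h e f hf
  rw [lpow_eq] at this
  exact this

include hL hX hp hNpd hne₀ ha₀ hc₀ in
/-- in every frame the coefficient of `s` has a `p`-th root compatible with the given one -/
theorem exists_root_compat (U : X.affineOpens) (e : L.val.obj (op U.1)) (hgen : IsGen L U.1 e)
    (a : Γ(X, U.1)) (hne : (U.1 : Set X).Nonempty)
    (ha : SecTwist.val s U.1 = a • CycCov.lpow L U.1 e N) :
    ∃ c : Γ(X, U.1), c ^ p = a ∧ ∃ (V : X.Opens) (hVU : V ≤ U.1) (hVU₀ : V ≤ U₀.1),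
      (V : Set X).Nonempty ∧
      rs (CohB1.tensorPow L d) hVU (c • lpow L e d) =
        rs (CohB1.tensorPow L d) hVU₀ (c₀ • lpow L e₀ d) := by
  obtain ⟨x, hxU, hxU₀⟩ := nonempty_preirreducible_inter U.1.2 U₀.1.2 hne hne₀
  obtain ⟨h, h₀, hhh₀, hxh⟩ := exists_basicOpen_le_affine_inter U.2 U₀.2 x ⟨hxU, hxU₀⟩
  have hVU : X.basicOpen h ≤ U.1 := X.basicOpen_le h
  have hVU₀ : X.basicOpen h ≤ U₀.1 := by
    rw [hhh₀]
    exact X.basicOpen_le h₀
  have hVaff : IsAffineOpen (X.basicOpen h) := U.2.basicOpen h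
  haveI : Nonempty (X.basicOpen h) := ⟨⟨x, hxh⟩⟩
  haveI : Nonempty U.1 := ⟨⟨x, hxU⟩⟩
  have hεV := hgen.rs hVU
  obtain ⟨g, hg⟩ := (isGen_self hεV).2 (rs L hVU₀ e₀)
  have hg' : g • rs L hVU e = rs L hVU₀ e₀ := hg
  have hsV1 : SecTwist.val s (X.basicOpen h) = rf hVU a • lpow L (rs L hVU e) N :=
    val_res hVU e a N s ha
  have hsV2 : SecTwist.val s (X.basicOpen h) = rf hVU₀ a₀ • lpow L (rs L hVU₀ e₀) N :=
    val_res hVU₀ e₀ a₀ N s ha₀
  have hl : ∀ n : ℕ, lpow L (rs L hVU₀ e₀) n = g ^ n • lpow L (rs L hVU e) n := by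
    intro n
    rw [← hg']
    exact lpow_smul L g _ n
  have hbN := bijective_smul_lpow hL hVaff (rs L hVU e) (isGen_self hεV) N
  have hag : rf hVU a = rf hVU₀ a₀ * g ^ N := by
    apply hbN.1
    change rf hVU a • lpow L (rs L hVU e) N = (rf hVU₀ a₀ * g ^ N) • lpow L (rs L hVU e) N
    rw [mul_smul, ← hl, ← hsV1, ← hsV2]
  have hcV : (rf hVU₀ c₀ * g ^ d) ^ p = rf hVU a := by
    rw [mul_pow, ← rf_pow, hc₀, ← pow_mul, ← hNpd, hag]
  have hh0 : h ≠ 0 := by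
    rintro rfl
    rw [Scheme.basicOpen_zero] at hxh
    exact hxh
  haveI : IsLocalization.Away h Γ(X, X.basicOpen h) := U.2.isLocalization_basicOpen h
  have hint : IsIntegral Γ(X, U.1) (rf hVU₀ c₀ * g ^ d) := by
    refine ⟨Polynomial.X ^ p - C a, monic_X_pow_sub_C _ hp.ne', ?_⟩
    rw [eval₂_sub, eval₂_X_pow, eval₂_C, hcV]
    exact sub_self _
  obtain ⟨c, hc⟩ := exists_of_isIntegral_away h
    (fun 𝔪 _ => (Groth.Agent.Lib.helper13.Normal.iff_affineOpens X).mp hX U.1 U.2 𝔪)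
    (fun c hc => (mul_eq_zero.mp hc).resolve_left hh0) _ hint
  have hc' : rf hVU c = rf hVU₀ c₀ * g ^ d := hc
  refine ⟨c, ?_, X.basicOpen h, hVU, hVU₀, ⟨x, hxh⟩, ?_⟩
  · apply map_injective_of_isIntegral X (homOfLE hVU)
    change rf hVU (c ^ p) = rf hVU a
    rw [rf_pow, hc', hcV]
  · have e1 := rs_smul (CohB1.tensorPow L d) hVU c (lpow L e d)
    have e2 := rs_smul (CohB1.tensorPow L d) hVU₀ c₀ (lpow L e₀ d)
    refine e1.trans (Eq.trans ?_ e2.symm)
    rw [lpow_rs, lpow_rs, hc', hl, mul_smul]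

include hL hX hp hNpd hne₀ ha₀ hc₀ in
/-- a global `p`-th root of `s` -/
theorem exists_global_root :
    ∃ T : (CohB1.tensorPow L d).val.obj (op ⊤), ∀ (U : X.affineOpens) (e : L.val.obj (op U.1))
      (_ : IsGen L U.1 e) (a : Γ(X, U.1)), (U.1 : Set X).Nonempty →
      SecTwist.val s U.1 = a • CycCov.lpow L U.1 e N →
      ∃ c : Γ(X, U.1), c ^ p = a ∧
        res (CohB1.tensorPow L d) (le_top : U.1 ≤ ⊤) T = c • lpow L e d := by
  let ι := {q : Σ U : X.affineOpens, L.val.obj (op U.1) //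
    IsGen L q.1.1 q.2 ∧ (q.1.1 : Set X).Nonempty}
  have key : ∀ i : ι, ∃ (a c : Γ(X, i.1.1.1)) (V : X.Opens) (hVU : V ≤ i.1.1.1)
      (hVU₀ : V ≤ U₀.1), SecTwist.val s i.1.1.1 = a • CycCov.lpow L i.1.1.1 i.1.2 N ∧
      c ^ p = a ∧ (V : Set X).Nonempty ∧
      rs (CohB1.tensorPow L d) hVU (c • lpow L i.1.2 d) =
        rs (CohB1.tensorPow L d) hVU₀ (c₀ • lpow L e₀ d) := by
    intro i
    obtain ⟨a, ha⟩ := exists_coeff hL i.1.1 i.1.2 (isGen_self i.2.1) N s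
    obtain ⟨c, hc, V, hVU, hVU₀, hV, hcomp⟩ := exists_root_compat hL hX hp hNpd U₀ e₀ a₀ c₀
      hne₀ ha₀ hc₀ i.1.1 i.1.2 i.2.1 a i.2.2 ha
    exact ⟨a, c, V, hVU, hVU₀, ha, hc, hV, hcomp⟩
  choose a c V hVU hVU₀ ha hc hV hcomp using key
  have hM := Groth.Agent.Lib.helper12.TensorInv.isInvertible_tensorPow hL d
  obtain ⟨T, hT⟩ := exists_glue (CohB1.tensorPow L d) (fun i : ι => i.1.1.1) (by
      intro x _
      obtain ⟨U, e, hxU, -, hgen⟩ := exists_frame hL x ⊤ trivial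
      exact Opens.mem_iSup.mpr ⟨⟨⟨U, e⟩, hgen, ⟨x, hxU⟩⟩, hxU⟩)
    (fun i => c i • lpow L i.1.2 d) (by
      intro i j
      obtain ⟨w, hwi, hwj⟩ := nonempty_preirreducible_inter (V i).2 (V j).2 (hV i) (hV j)
      have hle : V i ⊓ V j ≤ i.1.1.1 ⊓ j.1.1.1 := inf_le_inf (hVU i) (hVU j)
      apply rs_injective hM hle ⟨w, hwi, hwj⟩
      change rs _ hle (rs _ inf_le_left _) = rs _ hle (rs _ inf_le_right _)
      rw [rs_rs, rs_rs]
      have e1 : rs (CohB1.tensorPow L d) (hle.trans inf_le_left) (c i • lpow L i.1.2 d) =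
          rs (CohB1.tensorPow L d) (inf_le_left : V i ⊓ V j ≤ V i)
            (rs (CohB1.tensorPow L d) (hVU i) (c i • lpow L i.1.2 d)) := by
        rw [rs_rs]
      have e2 : rs (CohB1.tensorPow L d) (hle.trans inf_le_right) (c j • lpow L j.1.2 d) =
          rs (CohB1.tensorPow L d) (inf_le_right : V i ⊓ V j ≤ V j)
            (rs (CohB1.tensorPow L d) (hVU j) (c j • lpow L j.1.2 d)) := by
        rw [rs_rs]
      rw [e1, e2, hcomp i, hcomp j, rs_rs, rs_rs])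
  refine ⟨T, ?_⟩
  intro U e hgen a' hne ha'
  have hi := hT ⟨⟨U, e⟩, hgen, hne⟩
  have haa : a ⟨⟨U, e⟩, hgen, hne⟩ = a' := by
    apply (bijective_smul_lpow hL U.2 e (isGen_self hgen) N).1
    have h1 := ha ⟨⟨U, e⟩, hgen, hne⟩
    rw [lpow_eq] at h1 ha'
    exact h1.symm.trans ha'
  exact ⟨c ⟨⟨U, e⟩, hgen, hne⟩, (hc _).trans haa, hi⟩

end Root

end Groth.Agent.Lib.helper8.CycIrr
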