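import Groth.Agent.Lib.Helper8.CycSm1

/-!
# The étale chart of a twisted Kummer algebra along its branch divisor (helper8)

`S` an `R₀`-algebra with a formally étale chart `t : J → S`, `c ∈ S`, `P = Z^n - c t_{j₀}`.  Then
there is `d ∈ S` (the partial derivative of `c`) such that on the localisation of `S[Z]/(P)` at
`h = c + t_{j₀} d` the functions `t_j` (`j ≠ j₀`) and `Z` form a formally étale chart.

* `lift_unique_of_formallyUnramified`: lifts with prescribed values on a formally unramified chart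
  are unique.
* `exists_dual_lift`: the dual-number lift encoding the partial derivative along `t_{j₀}`.
* `formallyEtale_of_unique_lift`: unique lifting with prescribed coordinates gives a formally
  étale chart.
* `formallyEtale_chart_twistedKummer`: the main result.
-/

set_option autoImplicit false
universe u
open Polynomial

namespace Groth.Agent.Lib.helper8.CycNcd

open Groth.Agent.Lib.helper8.CycEt

section Chart

variable {R₀ S : Type u} [CommRing R₀] [CommRing S] [Algebra R₀ S] {J : Type u} (t : J → S)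

/-- uniqueness of lifts with prescribed values on the coordinates of a formally unramified chart -/
theorem lift_unique_of_formallyUnramified
    (hFU : @Algebra.FormallyUnramified (MvPolynomial J R₀) S _ _
      (MvPolynomial.aeval (R := R₀) t).toRingHom.toAlgebra)
    {Q : Type u} [CommRing Q] [Algebra R₀ Q] (N : Ideal Q) (hN : N ^ 2 = ⊥)
    (β₁ β₂ : S →ₐ[R₀] Q)
    (hmk : ∀ a, Ideal.Quotient.mk N (β₁ a) = Ideal.Quotient.mk N (β₂ a))
    (ht : ∀ j, β₁ (t j) = β₂ (t j)) : β₁ = β₂ := by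
  letI algPA : Algebra (MvPolynomial J R₀) S :=
    (MvPolynomial.aeval (R := R₀) t).toRingHom.toAlgebra
  letI algPQ : Algebra (MvPolynomial J R₀) Q :=
    (MvPolynomial.aeval (R := R₀) (fun j => β₁ (t j))).toRingHom.toAlgebra
  haveI : Algebra.FormallyUnramified (MvPolynomial J R₀) S := hFU
  have hcomm : ∀ (β : S →ₐ[R₀] Q), (∀ j, β (t j) = β₁ (t j)) → ∀ p : MvPolynomial J R₀,
      β (MvPolynomial.aeval (R := R₀) t p) =
        MvPolynomial.aeval (R := R₀) (fun j => β₁ (t j)) p := by
    intro β hβ p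
    have h1 : (β.toRingHom.comp (MvPolynomial.aeval (R := R₀) t).toRingHom) =
        (MvPolynomial.aeval (R := R₀) (fun j => β₁ (t j))).toRingHom := by
      apply MvPolynomial.ringHom_ext
      · intro r
        simp only [RingHom.comp_apply, AlgHom.toRingHom_eq_coe, RingHom.coe_coe,
          MvPolynomial.aeval_C]
        rw [AlgHom.commutes]
      · intro j
        simp only [RingHom.comp_apply, AlgHom.toRingHom_eq_coe, RingHom.coe_coe,
          MvPolynomial.aeval_X]
        exact hβ j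
    exact RingHom.congr_fun h1 p
  let F₁ : S →ₐ[MvPolynomial J R₀] Q :=
    { toRingHom := β₁.toRingHom
      commutes' := fun p => hcomm β₁ (fun _ => rfl) p }
  let F₂ : S →ₐ[MvPolynomial J R₀] Q :=
    { toRingHom := β₂.toRingHom
      commutes' := fun p => hcomm β₂ (fun j => (ht j).symm) p }
  have h12 : F₁ = F₂ := by
    apply Algebra.FormallyUnramified.comp_injective N hN
    apply AlgHom.ext
    intro a
    exact hmk a
  apply AlgHom.ext
  intro a
  exact AlgHom.congr_fun h12 a

/-- the dual-number lift of the identity encoding the partial derivative along `t_{j₀}` -/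
theorem exists_dual_lift [DecidableEq J]
    (hFS : @Algebra.FormallySmooth (MvPolynomial J R₀) S _ _
      (MvPolynomial.aeval (R := R₀) t).toRingHom.toAlgebra) (j₀ : J) :
    ∃ β : S →ₐ[R₀] DualNumber S, (∀ a, (β a).fst = a) ∧
      ∀ j, β (t j) = TrivSqZeroExt.inl (t j) + (if j = j₀ then DualNumber.eps else 0) := by
  let N : Ideal (DualNumber S) := TrivSqZeroExt.kerIdeal S S
  have hN : N ^ 2 = ⊥ := TrivSqZeroExt.kerIdeal_sq S S
  let γ : S →ₐ[R₀] DualNumber S ⧸ N :=
    (Ideal.Quotient.mkₐ R₀ N).comp (TrivSqZeroExt.inlAlgHom R₀ S S)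
  let τ : J → DualNumber S :=
    fun j => TrivSqZeroExt.inl (t j) + (if j = j₀ then DualNumber.eps else 0)
  have hmem : ∀ x : DualNumber S, x ∈ N ↔ x.fst = 0 := by
    intro x
    change x ∈ RingHom.ker (TrivSqZeroExt.fstHom S S S) ↔ _
    rw [RingHom.mem_ker]
    rfl
  have hτ : ∀ j, Ideal.Quotient.mk N (τ j) = γ (t j) := by
    intro j
    change _ = Ideal.Quotient.mk N (TrivSqZeroExt.inl (t j))
    rw [Ideal.Quotient.eq, hmem]
    simp only [τ]
    split_ifs <;> simp
  obtain ⟨β, hβmk, hβt⟩ := exists_lift_of_formallySmooth t hFS N hN γ τ hτ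
  refine ⟨β, ?_, hβt⟩
  intro a
  have h1 := hβmk a
  change _ = Ideal.Quotient.mk N (TrivSqZeroExt.inl a) at h1
  rw [Ideal.Quotient.eq, hmem] at h1
  simpa [sub_eq_zero] using h1

end Chart

/-- unique lifting through square-zero extensions with prescribed values on the coordinates gives
a formally étale chart -/
theorem formallyEtale_of_unique_lift {R₀ B : Type u} [CommRing R₀] [CommRing B] [Algebra R₀ B]
    {J : Type u} (t' : J → B)
    (H : ∀ (Q : Type u) [CommRing Q] [Algebra R₀ Q] (N : Ideal Q), N ^ 2 = ⊥ →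
      ∀ (γ : B →ₐ[R₀] Q ⧸ N) (τ : J → Q), (∀ j, Ideal.Quotient.mk N (τ j) = γ (t' j)) →
      ∃! φ : B →ₐ[R₀] Q, (∀ b, Ideal.Quotient.mk N (φ b) = γ b) ∧ ∀ j, φ (t' j) = τ j) :
    @Algebra.FormallyEtale (MvPolynomial J R₀) B _ _
      (MvPolynomial.aeval (R := R₀) t').toRingHom.toAlgebra := by
  letI algPB : Algebra (MvPolynomial J R₀) B :=
    (MvPolynomial.aeval (R := R₀) t').toRingHom.toAlgebra
  haveI : IsScalarTower R₀ (MvPolynomial J R₀) B := IsScalarTower.of_algebraMap_eq (fun r => by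
    change algebraMap R₀ B r =
      MvPolynomial.aeval (R := R₀) t' (algebraMap R₀ (MvPolynomial J R₀) r)
    rw [MvPolynomial.algebraMap_eq, MvPolynomial.aeval_C])
  have ht' : ∀ j, algebraMap (MvPolynomial J R₀) B (MvPolynomial.X j) = t' j := by
    intro j
    change MvPolynomial.aeval (R := R₀) t' (MvPolynomial.X j) = t' j
    rw [MvPolynomial.aeval_X]
  rw [Algebra.FormallyEtale.iff_comp_bijective]
  intro Q _ _ N hN
  letI algRQ : Algebra R₀ Q :=
    ((algebraMap (MvPolynomial J R₀) Q).comp MvPolynomial.C).toAlgebra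
  haveI : IsScalarTower R₀ (MvPolynomial J R₀) Q := IsScalarTower.of_algebraMap_eq (fun _ => rfl)
  let τ : J → Q := fun j => algebraMap (MvPolynomial J R₀) Q (MvPolynomial.X j)
  have hτ : ∀ (g : B →ₐ[MvPolynomial J R₀] Q ⧸ N) (j : J),
      Ideal.Quotient.mk N (τ j) = (g.restrictScalars R₀) (t' j) := by
    intro g j
    change _ = g (t' j)
    rw [← ht' j, AlgHom.commutes]
    rfl
  have hrestr : ∀ (F : B →ₐ[MvPolynomial J R₀] Q) (j : J), (F.restrictScalars R₀) (t' j) = τ j := by
    intro F j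
    change F (t' j) = _
    rw [← ht' j, AlgHom.commutes]
  refine ⟨fun f₁ f₂ h12 => ?_, fun g => ?_⟩
  · obtain ⟨φ, -, huniq⟩ := H Q N hN (((Ideal.Quotient.mkₐ (MvPolynomial J R₀) N).comp
      f₁).restrictScalars R₀) τ (hτ _)
    have e1 : f₁.restrictScalars R₀ = φ := huniq _ ⟨fun b => rfl, hrestr f₁⟩
    have e2 : f₂.restrictScalars R₀ = φ := huniq _ ⟨fun b => by
      change Ideal.Quotient.mk N (f₂ b) = Ideal.Quotient.mk N (f₁ b)
      exact (AlgHom.congr_fun h12 b).symm, hrestr f₂⟩
    apply AlgHom.ext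
    intro b
    exact AlgHom.congr_fun (e1.trans e2.symm) b
  · obtain ⟨φ, ⟨hφmk, hφt⟩, -⟩ := H Q N hN (g.restrictScalars R₀) τ (hτ g)
    have hcomm : ∀ p : MvPolynomial J R₀,
        φ (algebraMap (MvPolynomial J R₀) B p) = algebraMap (MvPolynomial J R₀) Q p := by
      intro p
      have h1 : (φ.toRingHom.comp (algebraMap (MvPolynomial J R₀) B)) =
          algebraMap (MvPolynomial J R₀) Q := by
        apply MvPolynomial.ringHom_ext
        · intro r
          simp only [RingHom.comp_apply, AlgHom.toRingHom_eq_coe, RingHom.coe_coe]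
          have : algebraMap (MvPolynomial J R₀) B (MvPolynomial.C r) = algebraMap R₀ B r := by
            change MvPolynomial.aeval (R := R₀) t' (MvPolynomial.C r) = _
            rw [MvPolynomial.aeval_C]
          rw [this, AlgHom.commutes]
          rfl
        · intro j
          simp only [RingHom.comp_apply, AlgHom.toRingHom_eq_coe, RingHom.coe_coe]
          rw [ht' j]
          exact hφt j
      exact RingHom.congr_fun h1 p
    refine ⟨{ toRingHom := φ.toRingHom, commutes' := hcomm }, ?_⟩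
    apply AlgHom.ext
    intro b
    exact hφmk b

section Main

variable {R₀ S : Type u} [CommRing R₀] [CommRing S] [Algebra R₀ S] {J : Type u} (t : J → S)

/-- **the étale chart of a twisted Kummer algebra**: on the localisation of `S[Z]/(Z^n - c t_{j₀})`
at `c + t_{j₀} ∂c`, the functions `t_j` (`j ≠ j₀`) and `Z` form a formally étale chart -/
theorem formallyEtale_chart_twistedKummer [DecidableEq J]
    (hFE : @Algebra.FormallyEtale (MvPolynomial J R₀) S _ _
      (MvPolynomial.aeval (R := R₀) t).toRingHom.toAlgebra)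
    (j₀ : J) (c : S) (n : ℕ) (P : S[X]) (hP : P = X ^ n - C (c * t j₀)) :
    ∃ d : S, ∀ (B' : Type u) [CommRing B'] [Algebra R₀ B'] [Algebra (AdjoinRoot P) B']
      [IsScalarTower R₀ (AdjoinRoot P) B']
      [IsLocalization.Away (AdjoinRoot.of P (c + t j₀ * d)) B'],
      @Algebra.FormallyEtale (MvPolynomial J R₀) B' _ _
        (MvPolynomial.aeval (R := R₀) (fun j => algebraMap (AdjoinRoot P) B'
          (if j = j₀ then AdjoinRoot.root P else AdjoinRoot.of P (t j)))).toRingHom.toAlgebra := by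
  classical
  have hFS : @Algebra.FormallySmooth (MvPolynomial J R₀) S _ _
      (MvPolynomial.aeval (R := R₀) t).toRingHom.toAlgebra := by
    letI algPS : Algebra (MvPolynomial J R₀) S :=
      (MvPolynomial.aeval (R := R₀) t).toRingHom.toAlgebra
    haveI : Algebra.FormallyEtale (MvPolynomial J R₀) S := hFE
    infer_instance
  have hFU : @Algebra.FormallyUnramified (MvPolynomial J R₀) S _ _
      (MvPolynomial.aeval (R := R₀) t).toRingHom.toAlgebra := by
    letI algPS : Algebra (MvPolynomial J R₀) S :=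
      (MvPolynomial.aeval (R := R₀) t).toRingHom.toAlgebra
    haveI : Algebra.FormallyEtale (MvPolynomial J R₀) S := hFE
    infer_instance
  obtain ⟨βd, hβd1, hβd2⟩ := exists_dual_lift t hFS j₀
  refine ⟨(βd c).snd, ?_⟩
  intro B' _ _ _ _ _
  set h : S := c + t j₀ * (βd c).snd with hh
  apply formallyEtale_of_unique_lift
  intro Q _ _ N hN γ τ hτ
  let ofS : S →ₐ[R₀] AdjoinRoot P := IsScalarTower.toAlgHom R₀ S (AdjoinRoot P)
  let toB' : AdjoinRoot P →ₐ[R₀] B' := IsScalarTower.toAlgHom R₀ (AdjoinRoot P) B'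
  have hofS : ∀ a, ofS a = AdjoinRoot.of P a := fun a => rfl
  have htoB' : ∀ x, toB' x = algebraMap (AdjoinRoot P) B' x := fun x => rfl
  let γS : S →ₐ[R₀] Q ⧸ N := γ.comp (toB'.comp ofS)
  have hγS : ∀ a, γS a = γ (algebraMap (AdjoinRoot P) B' (AdjoinRoot.of P a)) := fun a => rfl
  have hNN : ∀ x ∈ N, ∀ y ∈ N, x * y = 0 := by
    intro x hx y hy
    have : x * y ∈ N ^ 2 := by
      rw [pow_two]
      exact Ideal.mul_mem_mul hx hy
    rw [hN] at this
    exact this
  have hroot : (AdjoinRoot.root P) ^ n = AdjoinRoot.of P (c * t j₀) := by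
    have : eval₂ (AdjoinRoot.of P) (AdjoinRoot.root P) (X ^ n - C (c * t j₀)) = 0 := by
      rw [← hP]
      exact AdjoinRoot.eval₂_root P
    rw [eval₂_sub, eval₂_pow, eval₂_X, eval₂_C, sub_eq_zero] at this
    exact this
  have hunitB' : IsUnit (algebraMap (AdjoinRoot P) B' (AdjoinRoot.of P h)) :=
    IsLocalization.Away.algebraMap_isUnit _
  have hτj₀ : Ideal.Quotient.mk N (τ j₀) = γ (algebraMap (AdjoinRoot P) B' (AdjoinRoot.root P)) := by
    have := hτ j₀
    simp only [if_pos] at this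
    exact this
  have hτj : ∀ j, j ≠ j₀ → Ideal.Quotient.mk N (τ j) = γS (t j) := by
    intro j hj
    have := hτ j
    simp only [if_neg hj] at this
    exact this
  -- the twisted homomorphism
  have key : ∀ (β₀ : S →ₐ[R₀] Q) (ε : Q), ε ∈ N → ∃ β' : S →ₐ[R₀] Q,
      (∀ a, β' a - β₀ a ∈ N) ∧ (∀ j, β' (t j) = β₀ (t j) + if j = j₀ then ε else 0) ∧
        β' (c * t j₀) = β₀ (c * t j₀) + β₀ h * ε := by
    intro β₀ ε hε
    have hεε : ε * ε = 0 := hNN ε hε ε hε
    let Φ : DualNumber S →ₐ[R₀] Q := DualNumber.lift ⟨(β₀, ε), hεε, fun a => Commute.all _ _⟩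
    have hΦ : ∀ x : DualNumber S, Φ x = β₀ x.fst + β₀ x.snd * ε :=
      fun x => DualNumber.lift_apply_apply _ x
    have hΦeps : Φ DualNumber.eps = ε := DualNumber.lift_apply_eps _
    have hΦinl : ∀ a, Φ (TrivSqZeroExt.inl a) = β₀ a := fun a => DualNumber.lift_apply_inl _ a
    have e2 : Φ (βd (t j₀)) = β₀ (t j₀) + ε := by
      rw [hβd2, if_pos rfl, map_add, hΦinl, hΦeps]
    refine ⟨Φ.comp βd, ?_, ?_, ?_⟩
    · intro a
      rw [AlgHom.comp_apply, hΦ, hβd1, add_sub_cancel_left]
      exact N.mul_mem_left _ hε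
    · intro j
      rw [AlgHom.comp_apply, hβd2, map_add, hΦinl]
      split_ifs with hj
      · rw [hΦeps]
      · rw [map_zero]
    · have e1 : Φ (βd c) = β₀ c + β₀ (βd c).snd * ε := by rw [hΦ, hβd1]
      rw [AlgHom.comp_apply, map_mul, map_mul, e1, e2, hh, map_add, map_mul, map_mul]
      linear_combination (β₀ (βd c).snd) * hεε
  -- uniqueness
  have hcv : ∀ φ : B' →ₐ[R₀] Q, φ (algebraMap (AdjoinRoot P) B' (AdjoinRoot.root P)) = τ j₀ →
      φ (algebraMap (AdjoinRoot P) B' (AdjoinRoot.of P (c * t j₀))) = τ j₀ ^ n := by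
    intro φ hφ
    rw [← hφ, ← map_pow, ← map_pow, hroot]
  have uniq : ∀ φ₁ φ₂ : B' →ₐ[R₀] Q,
      (∀ b, Ideal.Quotient.mk N (φ₁ b) = γ b) →
      (∀ j, φ₁ (algebraMap (AdjoinRoot P) B'
        (if j = j₀ then AdjoinRoot.root P else AdjoinRoot.of P (t j))) = τ j) →
      (∀ b, Ideal.Quotient.mk N (φ₂ b) = γ b) →
      (∀ j, φ₂ (algebraMap (AdjoinRoot P) B'
        (if j = j₀ then AdjoinRoot.root P else AdjoinRoot.of P (t j))) = τ j) → φ₁ = φ₂ := by
    intro φ₁ φ₂ h1mk h1t h2mk h2t
    let β₁ : S →ₐ[R₀] Q := φ₁.comp (toB'.comp ofS)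
    let β₂ : S →ₐ[R₀] Q := φ₂.comp (toB'.comp ofS)
    have hβ₁ : ∀ a, β₁ a = φ₁ (algebraMap (AdjoinRoot P) B' (AdjoinRoot.of P a)) := fun a => rfl
    have hβ₂ : ∀ a, β₂ a = φ₂ (algebraMap (AdjoinRoot P) B' (AdjoinRoot.of P a)) := fun a => rfl
    have h1root : φ₁ (algebraMap (AdjoinRoot P) B' (AdjoinRoot.root P)) = τ j₀ := by
      have := h1t j₀
      simp only [if_pos] at this
      exact this
    have h2root : φ₂ (algebraMap (AdjoinRoot P) B' (AdjoinRoot.root P)) = τ j₀ := by
      have := h2t j₀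
      simp only [if_pos] at this
      exact this
    have h1j : ∀ j, j ≠ j₀ → β₁ (t j) = τ j := by
      intro j hj
      have := h1t j
      simp only [if_neg hj] at this
      exact this
    have h2j : ∀ j, j ≠ j₀ → β₂ (t j) = τ j := by
      intro j hj
      have := h2t j
      simp only [if_neg hj] at this
      exact this
    have hmk12 : ∀ a, Ideal.Quotient.mk N (β₁ a) = Ideal.Quotient.mk N (β₂ a) := by
      intro a
      rw [hβ₁, hβ₂, h1mk, h2mk]
    set ε : Q := β₂ (t j₀) - β₁ (t j₀) with hεdef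
    have hε : ε ∈ N := by
      rw [hεdef, ← Ideal.Quotient.eq]
      exact (hmk12 _).symm
    obtain ⟨β', hβ'N, hβ't, hβ'cv⟩ := key β₁ ε hε
    have hβ'eq : β' = β₂ := by
      apply lift_unique_of_formallyUnramified t hFU N hN
      · intro a
        rw [← hmk12 a, Ideal.Quotient.eq]
        exact hβ'N a
      · intro j
        rw [hβ't]
        by_cases hj : j = j₀
        · subst hj
          rw [if_pos rfl, hεdef]
          ring
        · rw [if_neg hj, add_zero, h1j j hj, h2j j hj]
    have h0 : β₁ h * ε = 0 := by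
      have e1 := hβ'cv
      rw [hβ'eq, hβ₂, hβ₁ (c * t j₀), hcv φ₂ h2root, hcv φ₁ h1root] at e1
      linear_combination -e1
    have hu : IsUnit (β₁ h) := by
      rw [hβ₁]
      exact hunitB'.map φ₁
    have hε0 : ε = 0 := hu.mul_right_eq_zero.mp h0
    have h12 : β₁ = β₂ := by
      apply lift_unique_of_formallyUnramified t hFU N hN _ _ hmk12
      intro j
      by_cases hj : j = j₀
      · subst hj
        exact (sub_eq_zero.mp hε0).symm
      · rw [h1j j hj, h2j j hj]
    apply AlgHom.coe_ringHom_injective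
    apply IsLocalization.ringHom_ext (Submonoid.powers (AdjoinRoot.of P h))
    apply AdjoinRoot.ringHom_ext
    · refine RingHom.ext (fun a => ?_)
      exact AlgHom.congr_fun h12 a
    · change φ₁ (algebraMap (AdjoinRoot P) B' (AdjoinRoot.root P)) =
        φ₂ (algebraMap (AdjoinRoot P) B' (AdjoinRoot.root P))
      rw [h1root, h2root]
  -- existence
  obtain ⟨v₀, hv₀⟩ := Ideal.Quotient.mk_surjective (γS (t j₀))
  let τ₀ : J → Q := Function.update τ j₀ v₀
  have hτ₀ : ∀ j, Ideal.Quotient.mk N (τ₀ j) = γS (t j) := by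
    intro j
    by_cases hj : j = j₀
    · subst hj
      simp only [τ₀, Function.update_self]
      exact hv₀
    · simp only [τ₀, Function.update_of_ne hj]
      exact hτj j hj
  obtain ⟨β₀, hβ₀mk, hβ₀t⟩ := exists_lift_of_formallySmooth t hFS N hN γS τ₀ hτ₀
  have hβ₀j₀ : β₀ (t j₀) = v₀ := by
    rw [hβ₀t]
    simp only [τ₀, Function.update_self]
  set ρ : Q := τ j₀ ^ n - β₀ (c * t j₀) with hρdef
  have hρ : ρ ∈ N := by
    rw [← Ideal.Quotient.eq_zero_iff_mem, hρdef, map_sub, map_pow, hτj₀, hβ₀mk, hγS, ← map_pow,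
      ← map_pow, hroot, sub_self]
  have hunit₀ : IsUnit (β₀ h) := by
    rw [← IsNilpotent.isUnit_quotient_mk_iff (I := N) ⟨2, hN⟩, hβ₀mk, hγS]
    exact hunitB'.map γ
  obtain ⟨hinv, hhinv⟩ := hunit₀.exists_right_inv
  set ε : Q := hinv * ρ with hεdef
  have hε : ε ∈ N := N.mul_mem_left _ hρ
  obtain ⟨β', hβ'N, hβ't, hβ'cv⟩ := key β₀ ε hε
  have hβ'mk : ∀ a, Ideal.Quotient.mk N (β' a) = γS a := by
    intro a
    rw [← hβ₀mk, Ideal.Quotient.eq]
    exact hβ'N a
  have hev : eval₂ (β' : S →+* Q) (τ j₀) P = 0 := by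
    rw [hP, eval₂_sub, eval₂_pow, eval₂_X, eval₂_C, sub_eq_zero]
    change τ j₀ ^ n = β' (c * t j₀)
    rw [hβ'cv, hεdef, ← mul_assoc, hhinv, one_mul, hρdef]
    ring
  let G₁ : AdjoinRoot P →+* Q := AdjoinRoot.lift (β' : S →+* Q) (τ j₀) hev
  have hG₁of : ∀ a, G₁ (AdjoinRoot.of P a) = β' a := fun a => AdjoinRoot.lift_of hev
  have hG₁root : G₁ (AdjoinRoot.root P) = τ j₀ := AdjoinRoot.lift_root hev
  have hG₁h : IsUnit (G₁ (AdjoinRoot.of P h)) := by
    rw [hG₁of, ← IsNilpotent.isUnit_quotient_mk_iff (I := N) ⟨2, hN⟩, hβ'mk, hγS]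
    exact hunitB'.map γ
  let G₂ : B' →+* Q := IsLocalization.Away.lift (AdjoinRoot.of P h) hG₁h
  have hG₂ : ∀ x, G₂ (algebraMap (AdjoinRoot P) B' x) = G₁ x :=
    fun x => IsLocalization.Away.lift_eq _ hG₁h x
  let G : B' →ₐ[R₀] Q :=
    { toRingHom := G₂
      commutes' := fun r => by
        have h1 : algebraMap R₀ B' r =
            algebraMap (AdjoinRoot P) B' (AdjoinRoot.of P (algebraMap R₀ S r)) := by
          rw [IsScalarTower.algebraMap_apply R₀ (AdjoinRoot P) B']
          rfl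
        simp only [RingHom.toMonoidHom_eq_coe, OneHom.toFun_eq_coe, MonoidHom.toOneHom_coe,
          MonoidHom.coe_coe]
        rw [h1, hG₂, hG₁of]
        exact β'.commutes r }
  have hGmk : ∀ b, Ideal.Quotient.mk N (G b) = γ b := by
    have h1 : (Ideal.Quotient.mk N).comp G₂ = (γ : B' →+* Q ⧸ N) := by
      apply IsLocalization.ringHom_ext (Submonoid.powers (AdjoinRoot.of P h))
      apply AdjoinRoot.ringHom_ext
      · refine RingHom.ext (fun a => ?_)
        change Ideal.Quotient.mk N (G₂ (algebraMap (AdjoinRoot P) B' (AdjoinRoot.of P a))) =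
          γ (algebraMap (AdjoinRoot P) B' (AdjoinRoot.of P a))
        rw [hG₂, hG₁of, hβ'mk, hγS]
      · change Ideal.Quotient.mk N (G₂ (algebraMap (AdjoinRoot P) B' (AdjoinRoot.root P))) =
          γ (algebraMap (AdjoinRoot P) B' (AdjoinRoot.root P))
        rw [hG₂, hG₁root, hτj₀]
    intro b
    exact RingHom.congr_fun h1 b
  have hGt : ∀ j, G (algebraMap (AdjoinRoot P) B'
      (if j = j₀ then AdjoinRoot.root P else AdjoinRoot.of P (t j))) = τ j := by
    intro j
    change G₂ _ = _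
    rw [hG₂]
    by_cases hj : j = j₀
    · subst hj
      rw [if_pos rfl, hG₁root]
    · rw [if_neg hj, hG₁of, hβ't, if_neg hj, add_zero, hβ₀t]
      simp only [τ₀, Function.update_of_ne hj]
  exact ⟨G, ⟨hGmk, hGt⟩, fun φ hφ => uniq φ G hφ.1 hφ.2 hGmk hGt⟩

end Main

end Groth.Agent.Lib.helper8.CycNcd
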