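import Groth.Agent.Lib.Helper8.CycSm2

/-!
# Ramification of normalised cyclic covers along a smooth divisor: ring lemmas (helper8)

* `formallySmooth_quotient_coord`: if `C` is formally smooth over `R₀[t_j]`, then `C ⧸ (t_{j₀})` is
  formally smooth over `R₀`.
* `isReduced_quotient_coord`: hence reduced when `R₀` has normal local rings and `C` is finitely
  presented.
* `isRadical_span_root`: in `C[Z]/(Z^n - c v)`, `c` a unit and `C ⧸ (v)` reduced, the ideal `(Z)` is
  radical.
* `span_eq_radical_pow_adjoinRoot`: there `(v) = rad(v)^n`.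
* `span_eq_radical_pow_of_cyclic_normal`: the same in the normalised cyclic cover (ring form).
-/

set_option autoImplicit false
universe u
open Polynomial

namespace Groth.Agent.Lib.helper8.CycEt

/-- the quotient of a formally smooth chart by one of its coordinates is formally smooth over the
base -/
theorem formallySmooth_quotient_coord {R₀ C : Type u} [CommRing R₀] [CommRing C] [Algebra R₀ C]
    {J : Type u} (t : J → C)
    (hFS : @Algebra.FormallySmooth (MvPolynomial J R₀) C _ _
      (MvPolynomial.aeval (R := R₀) t).toRingHom.toAlgebra) (j₀ : J) :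
    Algebra.FormallySmooth R₀ (C ⧸ Ideal.span {t j₀}) := by
  classical
  refine Algebra.FormallySmooth.of_comp_surjective fun Q _ _ N hN g => ?_
  let q : C →ₐ[R₀] C ⧸ Ideal.span {t j₀} := Ideal.Quotient.mkₐ R₀ _
  let γ : C →ₐ[R₀] Q ⧸ N := g.comp q
  choose τ₀ hτ₀ using fun j => Ideal.Quotient.mk_surjective (γ (t j))
  let τ₁ : J → Q := Function.update τ₀ j₀ 0
  have hq0 : q (t j₀) = 0 := Ideal.Quotient.eq_zero_iff_mem.mpr (Ideal.subset_span rfl)
  have hτ₁ : ∀ j, Ideal.Quotient.mk N (τ₁ j) = γ (t j) := by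
    intro j
    by_cases hj : j = j₀
    · subst hj
      simp only [τ₁, Function.update_self, map_zero]
      change 0 = g (q (t j))
      rw [hq0, map_zero]
    · simp only [τ₁, Function.update_of_ne hj, hτ₀]
  obtain ⟨β, hβmk, hβt⟩ := exists_lift_of_formallySmooth t hFS N hN γ τ₁ hτ₁
  have hβ0 : β (t j₀) = 0 := by
    rw [hβt]
    simp only [τ₁, Function.update_self]
  let G : C ⧸ Ideal.span {t j₀} →ₐ[R₀] Q := Ideal.Quotient.liftₐ _ β (by
    intro a ha
    obtain ⟨c, rfl⟩ := Ideal.mem_span_singleton'.mp ha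
    rw [map_mul, hβ0, mul_zero])
  refine ⟨G, ?_⟩
  apply Ideal.Quotient.algHom_ext
  apply AlgHom.ext
  intro a
  change Ideal.Quotient.mk N (β a) = g (q a)
  exact hβmk a

/-- a ring whose localisations at maximal ideals are domains is reduced -/
theorem isReduced_of_isDomain_localization {C : Type*} [CommRing C]
    (h : ∀ (𝔪 : Ideal C) [𝔪.IsMaximal], IsDomain (Localization.AtPrime 𝔪)) : IsReduced C := by
  constructor
  intro x hx
  apply eq_zero_of_localization
  intro 𝔪 h𝔪
  haveI := h 𝔪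
  exact (hx.map (algebraMap C (Localization.AtPrime 𝔪))).eq_zero

/-- the quotient of a finitely presented formally smooth chart by a coordinate is reduced -/
theorem isReduced_quotient_coord {R₀ C : Type u} [CommRing R₀] [CommRing C] [Algebra R₀ C]
    [Algebra.FinitePresentation R₀ C]
    (hR₀ : ∀ (p : Ideal R₀) [p.IsPrime],
      IsDomain (Localization.AtPrime p) ∧ IsIntegrallyClosed (Localization.AtPrime p))
    {J : Type u} (t : J → C)
    (hFS : @Algebra.FormallySmooth (MvPolynomial J R₀) C _ _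
      (MvPolynomial.aeval (R := R₀) t).toRingHom.toAlgebra) (j₀ : J) :
    IsReduced (C ⧸ Ideal.span {t j₀}) := by
  haveI := formallySmooth_quotient_coord t hFS j₀
  haveI : Algebra.FinitePresentation R₀ (C ⧸ Ideal.span {t j₀}) :=
    Algebra.FinitePresentation.quotient ⟨{t j₀}, by simp⟩
  haveI : Algebra.Smooth R₀ (C ⧸ Ideal.span {t j₀}) := ⟨inferInstance, inferInstance⟩
  apply isReduced_of_isDomain_localization
  intro 𝔪 _
  have h := hR₀ (𝔪.comap (algebraMap R₀ (C ⧸ Ideal.span {t j₀})))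
  exact (Groth.Agent.Lib.Helper24.SmoothNormal.isDomain_isIntegrallyClosed_atPrime_of_smooth
    R₀ (C ⧸ Ideal.span {t j₀}) 𝔪 h.1 h.2).1

/-- in `C[Z]/(Z^n - c v)` with `c` a unit and `C ⧸ (v)` reduced, the ideal `(Z)` is radical -/
theorem isRadical_span_root {S : Type*} [CommRing S] (c v : S) (hc : IsUnit c) (n : ℕ)
    (hn : 0 < n) (P : S[X]) (hP : P = X ^ n - C (c * v))
    (hred : IsReduced (S ⧸ Ideal.span {v})) :
    (Ideal.span {AdjoinRoot.root P}).IsRadical := by
  obtain ⟨c', hcc'⟩ := hc.exists_right_inv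
  have hroot : (AdjoinRoot.root P) ^ n = AdjoinRoot.of P (c * v) := by
    have : eval₂ (AdjoinRoot.of P) (AdjoinRoot.root P) (X ^ n - C (c * v)) = 0 := by
      rw [← hP]
      exact AdjoinRoot.eval₂_root P
    rw [eval₂_sub, eval₂_pow, eval₂_X, eval₂_C, sub_eq_zero] at this
    exact this
  have hmk0 : Ideal.Quotient.mk (Ideal.span {v}) (c * v) = 0 :=
    Ideal.Quotient.eq_zero_iff_mem.mpr (Ideal.mul_mem_left _ _ (Ideal.subset_span rfl))
  let lam : AdjoinRoot P →+* S ⧸ Ideal.span {v} :=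
    AdjoinRoot.lift (Ideal.Quotient.mk (Ideal.span {v})) 0 (by
      rw [hP, eval₂_sub, eval₂_pow, eval₂_X, eval₂_C, hmk0, zero_pow hn.ne', sub_self])
  have hlam_root : lam (AdjoinRoot.root P) = 0 := AdjoinRoot.lift_root _
  have hlam_of : ∀ a, lam (AdjoinRoot.of P a) = Ideal.Quotient.mk _ a := fun a =>
    AdjoinRoot.lift_of _
  have hle : Ideal.span {AdjoinRoot.root P} ≤ RingHom.ker lam := by
    rw [Ideal.span_le, Set.singleton_subset_iff]
    exact hlam_root
  have hker : ∀ x, lam x = 0 → x ∈ Ideal.span {AdjoinRoot.root P} := by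
    intro x hx
    obtain ⟨p, rfl⟩ := AdjoinRoot.mk_surjective x
    have hp : p = p.divX * X + C (p.coeff 0) := (Polynomial.divX_mul_X_add p).symm
    have h1 : AdjoinRoot.mk P p =
        AdjoinRoot.mk P p.divX * AdjoinRoot.root P + AdjoinRoot.of P (p.coeff 0) := by
      conv_lhs => rw [hp]
      rw [map_add, map_mul, AdjoinRoot.mk_X, AdjoinRoot.mk_C]
    rw [h1, map_add, map_mul, hlam_root, mul_zero, zero_add, hlam_of] at hx
    obtain ⟨d, hd⟩ := Ideal.mem_span_singleton'.mp (Ideal.Quotient.eq_zero_iff_mem.mp hx)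
    rw [h1]
    refine Ideal.add_mem _ (Ideal.mul_mem_left _ _ (Ideal.subset_span rfl)) ?_
    have h2 : p.coeff 0 = (d * c') * (c * v) := by
      rw [← hd]
      calc d * v = d * ((c * c') * v) := by rw [hcc', one_mul]
        _ = (d * c') * (c * v) := by ring
    rw [h2, map_mul, ← hroot]
    obtain ⟨m, rfl⟩ : ∃ m, n = m + 1 := ⟨n - 1, by omega⟩
    rw [pow_succ, ← mul_assoc]
    exact Ideal.mul_mem_left _ _ (Ideal.subset_span rfl)
  intro x hx
  obtain ⟨k, hk⟩ := hx
  apply hker
  have h1 : lam x ^ k = 0 := by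
    rw [← map_pow]
    exact hle hk
  exact (IsNilpotent.eq_zero ⟨k, h1⟩)

/-- in `C[Z]/(Z^n - c v)` with `c` a unit and `C ⧸ (v)` reduced, `(v) = rad(v)^n` -/
theorem span_eq_radical_pow_adjoinRoot {S : Type*} [CommRing S] (c v : S) (hc : IsUnit c) (n : ℕ)
    (hn : 0 < n) (P : S[X]) (hP : P = X ^ n - C (c * v))
    (hred : IsReduced (S ⧸ Ideal.span {v})) :
    Ideal.span {AdjoinRoot.of P v} = (Ideal.span {AdjoinRoot.of P v}).radical ^ n := by
  have hrad := isRadical_span_root c v hc n hn P hP hred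
  have hroot : (AdjoinRoot.root P) ^ n = AdjoinRoot.of P (c * v) := by
    have : eval₂ (AdjoinRoot.of P) (AdjoinRoot.root P) (X ^ n - C (c * v)) = 0 := by
      rw [← hP]
      exact AdjoinRoot.eval₂_root P
    rw [eval₂_sub, eval₂_pow, eval₂_X, eval₂_C, sub_eq_zero] at this
    exact this
  have h1 : Ideal.span {AdjoinRoot.of P v} = Ideal.span {AdjoinRoot.root P} ^ n := by
    rw [Ideal.span_singleton_pow, hroot, map_mul]
    exact (Ideal.span_singleton_mul_left_unit (hc.map (AdjoinRoot.of P)) _).symm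
  rw [h1, Ideal.radical_pow _ hn.ne', hrad.radical]

section Main

variable {R₀ A B : Type u} [CommRing R₀] [CommRing A] [CommRing B] [Algebra R₀ A] [Algebra A B]
  [Algebra R₀ B] [IsScalarTower R₀ A B]

/-- the chart of `A` induces a formally smooth chart of `A[W]/(W^g - u)` -/
theorem formallySmooth_chart_A1 {J : Type u} (tJ : J → A)
    (hFS : @Algebra.FormallySmooth (MvPolynomial J R₀) A _ _
      (MvPolynomial.aeval (R := R₀) tJ).toRingHom.toAlgebra)
    (u : A) (hu : IsUnit u) (g : ℕ) (hg : 0 < g) (hgu : IsUnit ((g : ℕ) : A)) :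
    @Algebra.FormallySmooth (MvPolynomial J R₀) (A1 u g) _ _
      (MvPolynomial.aeval (R := R₀)
        (fun j => AdjoinRoot.of (X ^ g - C u : A[X]) (tJ j))).toRingHom.toAlgebra := by
  haveI hEt : Algebra.Etale A (A1 u g) := etale_adjoinRoot g hg u hu hgu
  letI algPA : Algebra (MvPolynomial J R₀) A :=
    (MvPolynomial.aeval (R := R₀) tJ).toRingHom.toAlgebra
  haveI : Algebra.FormallySmooth (MvPolynomial J R₀) A := hFS
  have h₀ : Algebra.FormallySmooth (MvPolynomial J R₀) (A1 u g) :=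
    Algebra.FormallySmooth.comp (MvPolynomial J R₀) A (A1 u g)
  have h1 : (AdjoinRoot.of (X ^ g - C u : A[X])).comp
      (MvPolynomial.aeval (R := R₀) tJ).toRingHom =
      (MvPolynomial.aeval (R := R₀)
        (fun j => AdjoinRoot.of (X ^ g - C u : A[X]) (tJ j))).toRingHom := by
    apply MvPolynomial.ringHom_ext
    · intro r
      simp only [RingHom.comp_apply, AlgHom.toRingHom_eq_coe, RingHom.coe_coe,
        MvPolynomial.aeval_C]
      rfl
    · intro j
      simp only [RingHom.comp_apply, AlgHom.toRingHom_eq_coe, RingHom.coe_coe,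
        MvPolynomial.aeval_X]
  have heq : (inferInstance : Algebra (MvPolynomial J R₀) (A1 u g)) =
      (MvPolynomial.aeval (R := R₀)
        (fun j => AdjoinRoot.of (X ^ g - C u : A[X]) (tJ j))).toRingHom.toAlgebra :=
    Algebra.algebra_ext _ _ (fun p => RingHom.congr_fun h1 p)
  rw [← heq]
  exact h₀

/-- **ramification of the normalised cyclic cover along a smooth divisor** (ring form): the
pulled-back equation of the divisor generates the `N'`-th power of its radical -/
theorem span_eq_radical_pow_of_cyclic_normal [IsDomain A] [Algebra.FinitePresentation R₀ A]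
    (hR₀ : ∀ (p : Ideal R₀) [p.IsPrime],
      IsDomain (Localization.AtPrime p) ∧ IsIntegrallyClosed (Localization.AtPrime p))
    {J : Type u} (tJ : J → A)
    (hFS : @Algebra.FormallySmooth (MvPolynomial J R₀) A _ _
      (MvPolynomial.aeval (R := R₀) tJ).toRingHom.toAlgebra) (j₀ : J)
    (u : A) (hu : IsUnit u) (g N' α' a b : ℕ) (hg : 0 < g) (hN' : 0 < N')
    (hab : b * α' = 1 + a * N')
    (hgu : IsUnit ((g : ℕ) : A)) (hN'u : IsUnit ((N' : ℕ) : A))
    (t : B) (ht : t ^ (g * N') = algebraMap A B (u * tJ j₀ ^ (g * α')))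
    (hBn : ∀ (𝔪 : Ideal B) [𝔪.IsMaximal],
      IsDomain (Localization.AtPrime 𝔪) ∧ IsIntegrallyClosed (Localization.AtPrime 𝔪))
    (hv0 : tJ j₀ ≠ 0)
    (hv : ∀ x : B, algebraMap A B (tJ j₀) * x = 0 → x = 0)
    (hint : (algebraMap A B).IsIntegral)
    (hsurj : ∀ x : B, ∃ (n : ℕ) (p : A[X]),
      algebraMap A B (tJ j₀) ^ n * x = eval₂ (algebraMap A B) t p)
    (hinj : ∀ p : A[X], p.degree < ((g * N' : ℕ) : WithBot ℕ) →
      eval₂ (algebraMap A B) t p = 0 → p = 0) :
    Ideal.span {algebraMap A B (tJ j₀)} =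
      (Ideal.span {algebraMap A B (tJ j₀)}).radical ^ N' := by
  obtain ⟨ψ, hψb, hψA⟩ := exists_model_equiv hR₀ tJ hFS j₀ u hu g N' α' a b hg hN' hab hgu hN'u
    t ht hBn hv0 hv hint hsurj hinj
  haveI hEt : Algebra.Etale A (A1 u g) := etale_adjoinRoot g hg u hu hgu
  have hFS₁ := formallySmooth_chart_A1 (R₀ := R₀) tJ hFS u hu g hg hgu
  have hW : IsUnit (W1 u g) := by
    obtain ⟨uinv, huinv⟩ := hu.exists_right_inv
    exact IsUnit.of_mul_eq_one _ (W1_mul_winv1 u g uinv huinv hg)
  haveI : Algebra.FinitePresentation R₀ (A1 u g) :=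
    Algebra.FinitePresentation.trans R₀ A (A1 u g)
  have hred : IsReduced (A1 u g ⧸ Ideal.span {AdjoinRoot.of (X ^ g - C u : A[X]) (tJ j₀)}) :=
    isReduced_quotient_coord hR₀
      (fun j => AdjoinRoot.of (X ^ g - C u : A[X]) (tJ j)) hFS₁ j₀
  have hmodel := span_eq_radical_pow_adjoinRoot (W1 u g ^ b)
    (AdjoinRoot.of (X ^ g - C u : A[X]) (tJ j₀)) (hW.pow b) N' hN' (pol1 u (tJ j₀) g N' b) rfl hred
  let e : B1 u (tJ j₀) g N' b ≃+* B := RingEquiv.ofBijective ψ hψb
  have hv' : algebraMap A B (tJ j₀) =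
      e (AdjoinRoot.of (pol1 u (tJ j₀) g N' b) (AdjoinRoot.of (X ^ g - C u : A[X]) (tJ j₀))) :=
    (hψA _).symm
  have hmap : Ideal.span {algebraMap A B (tJ j₀)} =
      Ideal.map (e : B1 u (tJ j₀) g N' b →+* B)
        (Ideal.span {AdjoinRoot.of (pol1 u (tJ j₀) g N' b)
          (AdjoinRoot.of (X ^ g - C u : A[X]) (tJ j₀))}) := by
    rw [Ideal.map_span, Set.image_singleton, hv']
    rfl
  have hker : RingHom.ker (e : B1 u (tJ j₀) g N' b →+* B) ≤
      Ideal.span {AdjoinRoot.of (pol1 u (tJ j₀) g N' b)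
          (AdjoinRoot.of (X ^ g - C u : A[X]) (tJ j₀))} := by
    intro x hx
    have : x = 0 := e.injective (by rw [map_zero]; exact hx)
    rw [this]
    exact Ideal.zero_mem _
  rw [hmap]
  conv_lhs => rw [hmodel]
  rw [Ideal.map_pow, Ideal.map_radical_of_surjective (f := (e : B1 u (tJ j₀) g N' b →+* B))
    e.surjective hker]

end Main

end Groth.Agent.Lib.helper8.CycEt
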