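import Groth.Agent.Lib.Helper8.CycNcd1
import Groth.Agent.Lib.Helper8.CycRad1

/-!
# The étale chart of the normalised cyclic cover along a smooth branch divisor: ring form (helper8)

* `formallyEtale_chart_A1`: the chart of `A` induces a formally étale chart of `A[W]/(W^g - u)`.
* `exists_chart_of_cyclic_normal`: in the normalised cyclic cover `B` of `A` along the coordinate
  `v = t_{j₀}` there are `z` with `v = unit * z^N'` and `h = unit + v d` such that on `B[1/h]` the
  functions `t_j` (`j ≠ j₀`) and `z` form a formally étale chart.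
-/

set_option autoImplicit false
universe u
open Polynomial

namespace Groth.Agent.Lib.helper8.CycNcd

open Groth.Agent.Lib.helper8.CycEt

section Main

variable {R₀ A B : Type u} [CommRing R₀] [CommRing A] [CommRing B] [Algebra R₀ A] [Algebra A B]
  [Algebra R₀ B] [IsScalarTower R₀ A B]

/-- the chart of `A` induces a formally étale chart of `A[W]/(W^g - u)` -/
theorem formallyEtale_chart_A1 {J : Type u} (tJ : J → A)
    (hFE : @Algebra.FormallyEtale (MvPolynomial J R₀) A _ _
      (MvPolynomial.aeval (R := R₀) tJ).toRingHom.toAlgebra)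
    (u : A) (hu : IsUnit u) (g : ℕ) (hg : 0 < g) (hgu : IsUnit ((g : ℕ) : A)) :
    @Algebra.FormallyEtale (MvPolynomial J R₀) (A1 u g) _ _
      (MvPolynomial.aeval (R := R₀)
        (fun j => AdjoinRoot.of (X ^ g - C u : A[X]) (tJ j))).toRingHom.toAlgebra := by
  haveI hEt : Algebra.Etale A (A1 u g) := etale_adjoinRoot g hg u hu hgu
  letI algPA : Algebra (MvPolynomial J R₀) A :=
    (MvPolynomial.aeval (R := R₀) tJ).toRingHom.toAlgebra
  haveI : Algebra.FormallyEtale (MvPolynomial J R₀) A := hFE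
  have h₀ : Algebra.FormallyEtale (MvPolynomial J R₀) (A1 u g) :=
    Algebra.FormallyEtale.comp (MvPolynomial J R₀) A (A1 u g)
  have h1 : (AdjoinRoot.of (X ^ g - C u : A[X])).comp
      (MvPolynomial.aeval (R := R₀) tJ).toRingHom =
      (MvPolynomial.aeval (R := R₀)
        (fun j => AdjoinRoot.of (X ^ g - C u : A[X]) (tJ j))).toRingHom := by
    apply MvPolynomial.ringHom_ext
    · intro r
      simp only [RingHom.comp_apply, AlgHom.toRingHom_eq_coe, RingHom.coe_coe,
        MvPolynomial.aeval_C]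
      rfl
    · intro j
      simp only [RingHom.comp_apply, AlgHom.toRingHom_eq_coe, RingHom.coe_coe,
        MvPolynomial.aeval_X]
  have heq : (inferInstance : Algebra (MvPolynomial J R₀) (A1 u g)) =
      (MvPolynomial.aeval (R := R₀)
        (fun j => AdjoinRoot.of (X ^ g - C u : A[X]) (tJ j))).toRingHom.toAlgebra :=
    Algebra.algebra_ext _ _ (fun p => RingHom.congr_fun h1 p)
  rw [← heq]
  exact h₀

/-- **the étale chart of the normalised cyclic cover along a smooth divisor** (ring form) -/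
theorem exists_chart_of_cyclic_normal [IsDomain A] [Algebra.FinitePresentation R₀ A]
    (hR₀ : ∀ (p : Ideal R₀) [p.IsPrime],
      IsDomain (Localization.AtPrime p) ∧ IsIntegrallyClosed (Localization.AtPrime p))
    {J : Type u} [DecidableEq J] (tJ : J → A)
    (hFE : @Algebra.FormallyEtale (MvPolynomial J R₀) A _ _
      (MvPolynomial.aeval (R := R₀) tJ).toRingHom.toAlgebra) (j₀ : J)
    (u : A) (hu : IsUnit u) (g N' α' a b : ℕ) (hg : 0 < g) (hN' : 0 < N')
    (hab : b * α' = 1 + a * N')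
    (hgu : IsUnit ((g : ℕ) : A)) (hN'u : IsUnit ((N' : ℕ) : A))
    (t : B) (ht : t ^ (g * N') = algebraMap A B (u * tJ j₀ ^ (g * α')))
    (hBn : ∀ (𝔪 : Ideal B) [𝔪.IsMaximal],
      IsDomain (Localization.AtPrime 𝔪) ∧ IsIntegrallyClosed (Localization.AtPrime 𝔪))
    (hv0 : tJ j₀ ≠ 0)
    (hv : ∀ x : B, algebraMap A B (tJ j₀) * x = 0 → x = 0)
    (hint : (algebraMap A B).IsIntegral)
    (hsurj : ∀ x : B, ∃ (n : ℕ) (p : A[X]),
      algebraMap A B (tJ j₀) ^ n * x = eval₂ (algebraMap A B) t p)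
    (hinj : ∀ p : A[X], p.degree < ((g * N' : ℕ) : WithBot ℕ) →
      eval₂ (algebraMap A B) t p = 0 → p = 0) :
    ∃ (hB z cB c₁ d₁ : B), IsUnit cB ∧ IsUnit c₁ ∧ hB = c₁ + algebraMap A B (tJ j₀) * d₁ ∧
      algebraMap A B (tJ j₀) = cB * z ^ N' ∧
      ∀ (B' : Type u) [CommRing B'] [Algebra R₀ B'] [Algebra B B'] [IsScalarTower R₀ B B']
        [IsLocalization.Away hB B'],
        @Algebra.FormallyEtale (MvPolynomial J R₀) B' _ _
          (MvPolynomial.aeval (R := R₀) (fun j => algebraMap B B'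
            (if j = j₀ then z else algebraMap A B (tJ j)))).toRingHom.toAlgebra := by
  have hFS : @Algebra.FormallySmooth (MvPolynomial J R₀) A _ _
      (MvPolynomial.aeval (R := R₀) tJ).toRingHom.toAlgebra := by
    letI algPA : Algebra (MvPolynomial J R₀) A :=
      (MvPolynomial.aeval (R := R₀) tJ).toRingHom.toAlgebra
    haveI : Algebra.FormallyEtale (MvPolynomial J R₀) A := hFE
    infer_instance
  obtain ⟨ψ, hψb, hψA⟩ := exists_model_equiv hR₀ tJ hFS j₀ u hu g N' α' a b hg hN' hab hgu hN'u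
    t ht hBn hv0 hv hint hsurj hinj
  have hFE₁ := formallyEtale_chart_A1 (R₀ := R₀) tJ hFE u hu g hg hgu
  obtain ⟨uinv, huinv⟩ := hu.exists_right_inv
  have hWW : W1 u g * winv1 u g uinv = 1 := W1_mul_winv1 u g uinv huinv hg
  obtain ⟨d, hd⟩ := formallyEtale_chart_twistedKummer
    (fun j => AdjoinRoot.of (X ^ g - C u : A[X]) (tJ j)) hFE₁ j₀ (W1 u g ^ b) N'
    (pol1 u (tJ j₀) g N' b) rfl
  let e : B1 u (tJ j₀) g N' b ≃+* B := RingEquiv.ofBijective ψ hψb
  have he : ∀ x, e x = ψ x := fun x => rfl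
  let ofB : A1 u g →+* B1 u (tJ j₀) g N' b := AdjoinRoot.of (pol1 u (tJ j₀) g N' b)
  let ofA : A →+* A1 u g := AdjoinRoot.of (X ^ g - C u : A[X])
  have hψA' : ∀ x : A, ψ (ofB (ofA x)) = algebraMap A B x := hψA
  refine ⟨ψ (ofB (W1 u g ^ b + ofA (tJ j₀) * d)), ψ (Z1 u (tJ j₀) g N' b),
    ψ (ofB (winv1 u g uinv ^ b)), ψ (ofB (W1 u g ^ b)), ψ (ofB d), ?_, ?_, ?_, ?_, ?_⟩
  · refine IsUnit.map ψ (IsUnit.map ofB ?_)
    exact IsUnit.pow b (IsUnit.of_mul_eq_one _ (by rw [mul_comm]; exact hWW))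
  · refine IsUnit.map ψ (IsUnit.map ofB ?_)
    exact IsUnit.pow b (IsUnit.of_mul_eq_one _ hWW)
  · rw [map_add, map_add, map_mul, map_mul, hψA']
  · rw [← map_pow, Z1_pow, ← map_mul, ← map_mul, ← hψA']
    congr 2
    calc ofA (tJ j₀) = (winv1 u g uinv * W1 u g) ^ b * ofA (tJ j₀) := by
          rw [mul_comm (winv1 u g uinv), hWW, one_pow, one_mul]
      _ = winv1 u g uinv ^ b * (W1 u g ^ b * ofA (tJ j₀)) := by ring
  · intro B' _ _ _ _ _
    letI algB1B' : Algebra (B1 u (tJ j₀) g N' b) B' := ((algebraMap B B').comp ψ).toAlgebra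
    have halg : ∀ x, algebraMap (B1 u (tJ j₀) g N' b) B' x = algebraMap B B' (ψ x) := fun x => rfl
    haveI : IsScalarTower R₀ (B1 u (tJ j₀) g N' b) B' := IsScalarTower.of_algebraMap_eq (fun r => by
      rw [halg, IsScalarTower.algebraMap_apply R₀ B B', IsScalarTower.algebraMap_apply R₀ A B,
        ← hψA']
      rfl)
    haveI : IsLocalization.Away (ofB (W1 u g ^ b + ofA (tJ j₀) * d)) B' := by
      refine IsLocalization.of_ringEquiv_left e (M₁ := Submonoid.powers
        (ψ (ofB (W1 u g ^ b + ofA (tJ j₀) * d)))) ?_ (fun x => rfl)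
      rw [Submonoid.map_powers]
      rfl
    have key := hd B'
    have hfun : (fun j => algebraMap (B1 u (tJ j₀) g N' b) B'
        (if j = j₀ then AdjoinRoot.root (pol1 u (tJ j₀) g N' b)
          else AdjoinRoot.of (pol1 u (tJ j₀) g N' b) (AdjoinRoot.of (X ^ g - C u : A[X]) (tJ j)))) =
        (fun j => algebraMap B B' (if j = j₀ then ψ (Z1 u (tJ j₀) g N' b)
          else algebraMap A B (tJ j))) := by
      funext j
      rw [halg]
      split_ifs
      · rfl
      · rw [← hψA']
    rw [hfun] at key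
    exact key

end Main

end Groth.Agent.Lib.helper8.CycNcd
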