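import Groth.Agent.Lib.Helper8.CycRad2

/-!
# From ring-level étale charts to normal crossing charts (helper8)

* `etale_homOfVector_of_chart`: a ring-level étale chart on an affine open `W` gives an étale
  morphism `W ⟶ 𝔸ⁿ`.
* `isNCD_at_of_chart`: the normal crossing condition at a point of `Y` for the reduced preimages of
  the components of a normal crossing divisor on `X`, from an étale chart on an affine open of `Y`
  in which the pulled-back coordinates are unit multiples of powers of the new coordinates.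
-/

set_option autoImplicit false
universe u
open CategoryTheory AlgebraicGeometry Opposite TopologicalSpace

namespace Groth.Agent.Lib.helper8.CycNcd

open Groth.Agent.Lib.helper8.CycEt

/-- a ring-level étale chart on an affine open gives an étale morphism to affine space -/
theorem etale_homOfVector_of_chart {Y S : Scheme.{u}} [IsAffine S] (G : Y ⟶ S) (W : Y.Opens)
    (hW : IsAffineOpen W) (J : Type u) [Finite J] (w : J → Γ(Y, W))
    (h : letI : Algebra Γ(S, ⊤) Γ(Y, W) := (G.appLE ⊤ W (fun _ _ => trivial)).hom.toAlgebra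
      @Algebra.Etale (MvPolynomial J Γ(S, ⊤)) Γ(Y, W) _ _
        (MvPolynomial.aeval (R := Γ(S, ⊤)) w).toRingHom.toAlgebra) :
    Etale (AffineSpace.homOfVector (W.ι ≫ G) (fun j => W.topIso.inv.hom (w j))) := by
  letI algSW : Algebra Γ(S, ⊤) Γ(Y, W) := (G.appLE ⊤ W (fun _ _ => trivial)).hom.toAlgebra
  haveI : IsAffine W.toScheme := hW
  set g : W.toScheme ⟶ S := W.ι ≫ G with hg
  set v' : J → Γ(W.toScheme, ⊤) := fun j => W.topIso.inv.hom (w j) with hv'
  have hring : (MvPolynomial.eval₂Hom g.appTop.hom v').Etale := by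
    have h0 : (MvPolynomial.aeval (R := Γ(S, ⊤)) w).toRingHom.Etale := h
    let e₂ : Γ(Y, W) ≃+* Γ(W.toScheme, ⊤) := W.topIso.symm.commRingCatIsoToRingEquiv
    have h1 := RingHom.Etale.respectsIso.1 _ e₂ h0
    have heq : e₂.toRingHom.comp (MvPolynomial.aeval (R := Γ(S, ⊤)) w).toRingHom =
        MvPolynomial.eval₂Hom g.appTop.hom v' := by
      apply MvPolynomial.ringHom_ext
      · intro r
        simp only [RingHom.comp_apply, AlgHom.toRingHom_eq_coe, RingHom.coe_coe,
          MvPolynomial.aeval_C, RingEquiv.toRingHom_eq_coe, MvPolynomial.coe_eval₂Hom,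
          MvPolynomial.eval₂_C]
        change W.topIso.inv.hom ((G.appLE ⊤ W _).hom r) = (W.ι ≫ G).appTop.hom r
        have h3 : (W.ι ≫ G).appTop ≫ W.topIso.hom = G.appLE ⊤ W (fun _ _ => trivial) := by
          rw [Scheme.Hom.comp_appTop, Scheme.Opens.ι_appTop, Scheme.Hom.appLE,
            Scheme.Opens.topIso_hom, Category.assoc]
          erw [← Functor.map_comp]
          rfl
        rw [← h3, CommRingCat.hom_comp, RingHom.comp_apply, ← RingHom.comp_apply,
          ← CommRingCat.hom_comp, Iso.hom_inv_id]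
        rfl
      · intro j
        simp only [RingHom.comp_apply, AlgHom.toRingHom_eq_coe, RingHom.coe_coe,
          MvPolynomial.aeval_X, RingEquiv.toRingHom_eq_coe, MvPolynomial.coe_eval₂Hom,
          MvPolynomial.eval₂_X]
        rfl
    rw [heq] at h1
    exact h1
  let q : W.toScheme ⟶ Spec (CommRingCat.of (MvPolynomial J Γ(S, ⊤))) :=
    AffineSpace.homOfVector g v' ≫ (AffineSpace.isoOfIsAffine J S).hom
  have hq : Etale q := by
    rw [HasRingHomProperty.iff_of_isAffine (P := @Etale)]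
    have h1 : q.appTop = (Scheme.ΓSpecIso _).hom ≫ (CommRingCat.ofHom
          (MvPolynomial.eval₂Hom ((𝔸(J; S) ↘ S).appTop).hom (AffineSpace.coord S)) ≫
        (AffineSpace.homOfVector g v').appTop) := by
      rw [Scheme.Hom.comp_appTop, AffineSpace.isoOfIsAffine_hom_appTop, Category.assoc]
    rw [h1, CommRingCat.hom_comp, RingHom.Etale.respectsIso.cancel_left_isIso]
    have heq : (CommRingCat.ofHom
        (MvPolynomial.eval₂Hom ((𝔸(J; S) ↘ S).appTop).hom (AffineSpace.coord S)) ≫
        (AffineSpace.homOfVector g v').appTop).hom =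
        MvPolynomial.eval₂Hom g.appTop.hom v' := by
      apply MvPolynomial.ringHom_ext
      · intro r
        simp only [CommRingCat.hom_comp, CommRingCat.hom_ofHom, RingHom.comp_apply,
          MvPolynomial.coe_eval₂Hom, MvPolynomial.eval₂_C]
        rw [← CommRingCat.comp_apply, ← Scheme.Hom.comp_appTop, AffineSpace.homOfVector_over]
      · intro j
        simp only [CommRingCat.hom_comp, CommRingCat.hom_ofHom, RingHom.comp_apply,
          MvPolynomial.coe_eval₂Hom, MvPolynomial.eval₂_X]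
        exact AffineSpace.homOfVector_appTop_coord _ _ _
    rw [heq]
    exact hring
  have hfac : AffineSpace.homOfVector g v' = q ≫ (AffineSpace.isoOfIsAffine J S).inv := by
    rw [Category.assoc, Iso.hom_inv_id, Category.comp_id]
  rw [hfac]
  infer_instance

/-- the radical of the ideal generated by a unit multiple of a positive power of a generator of a
radical ideal -/
theorem radical_span_unit_mul_pow {R : Type*} [CommRing R] (c z : R) (hc : IsUnit c) (m : ℕ)
    (hm : 0 < m) (hz : (Ideal.span {z}).IsRadical) :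
    (Ideal.span {c * z ^ m}).radical = Ideal.span {z} := by
  rw [Ideal.span_singleton_mul_left_unit hc, ← Ideal.span_singleton_pow,
    Ideal.radical_pow _ hm.ne', hz.radical]

/-- **normal crossings at a point from an étale chart upstairs** -/
theorem isNCD_at_of_chart {k : Type u} [Field k] {X Y : Scheme.{u}}
    (f : X ⟶ Spec (CommRingCat.of k)) (π : Y ⟶ X)
    {r : ℕ} (D : Fin r → X.IdealSheafData) (y : Y)
    (W₁ : X.Opens) (n : ℕ) (v : ULift.{u} (Fin n) → Γ(W₁, ⊤))
    (e : LogNCD.Through D (π y) → Fin n) (hinj : Function.Injective e)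
    (U : X.affineOpens) (hUW : U.1 ≤ W₁)
    (hDi : ∀ i : LogNCD.Through D (π y),
      (D i.1).ideal U = Ideal.span {LogNCD.sectOn W₁ hUW (v (ULift.up (e i)))})
    (hDo : ∀ i : Fin r, π y ∉ (D i).support → (D i).ideal U = ⊤)
    (WY : Y.affineOpens) (hy : y ∈ WY.1) (hWY : WY.1 ≤ π ⁻¹ᵁ U.1)
    (w : ULift.{u} (Fin n) → Γ(Y, WY.1))
    (hEt : letI : Algebra Γ(Spec (CommRingCat.of k), ⊤) Γ(Y, WY.1) :=
        ((π ≫ f).appLE ⊤ WY.1 (fun _ _ => trivial)).hom.toAlgebra
      @Algebra.Etale (MvPolynomial (ULift.{u} (Fin n)) Γ(Spec (CommRingCat.of k), ⊤)) Γ(Y, WY.1) _ _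
        (MvPolynomial.aeval (R := Γ(Spec (CommRingCat.of k), ⊤)) w).toRingHom.toAlgebra)
    (hw : ∀ i : LogNCD.Through D (π y), ∃ (m : ℕ) (c : Γ(Y, WY.1)), 0 < m ∧ IsUnit c ∧
      (π.appLE U.1 WY.1 hWY).hom (LogNCD.sectOn W₁ hUW (v (ULift.up (e i)))) =
        c * w (ULift.up (e i)) ^ m) :
    ∃ (W : Y.Opens) (_ : y ∈ W) (n : ℕ) (v' : ULift.{u} (Fin n) → Γ(W, ⊤))
      (e' : LogNCD.Through (fun j => ((D j).comap π).radical) y → Fin n),
      Function.Injective e' ∧ Etale (AffineSpace.homOfVector (W.ι ≫ (π ≫ f)) v') ∧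
      (∀ (i : LogNCD.Through (fun j => ((D j).comap π).radical) y) (U' : Y.affineOpens)
        (h : U'.1 ≤ W), (((D i.1).comap π).radical).ideal U' =
          Ideal.span {LogNCD.sectOn W h (v' (ULift.up (e' i)))}) ∧
      (∀ (i : Fin r), y ∉ (((D i).comap π).radical).support → ∀ (U' : Y.affineOpens), U'.1 ≤ W →
        (((D i).comap π).radical).ideal U' = ⊤) := by
  have hsupp : ∀ i : Fin r, y ∈ (((D i).comap π).radical).support ↔ π y ∈ (D i).support := by
    intro i
    rw [Scheme.IdealSheafData.support_radical, Scheme.IdealSheafData.support_comap]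
    rfl
  let toX : LogNCD.Through (fun j => ((D j).comap π).radical) y → LogNCD.Through D (π y) :=
    fun i => ⟨i.1, (hsupp i.1).mp i.2⟩
  have htoX : Function.Injective toX := by
    intro i i' hii'
    apply Subtype.ext
    have h1 : (toX i).1 = (toX i').1 := by rw [hii']
    exact h1
  letI algkW : Algebra Γ(Spec (CommRingCat.of k), ⊤) Γ(Y, WY.1) :=
    ((π ≫ f).appLE ⊤ WY.1 (fun _ _ => trivial)).hom.toAlgebra
  have hfield := isField_ΓSpec_field k
  have hsect : ∀ (U' : Y.affineOpens) (h : U'.1 ≤ WY.1) (j : ULift.{u} (Fin n)),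
      LogNCD.sectOn WY.1 h (WY.1.topIso.inv.hom (w j)) =
        (Y.presheaf.map (homOfLE h).op).hom (w j) := by
    intro U' h j
    rw [LogNCD.sectOn_apply]
    congr 1
    rw [← CommRingCat.comp_apply, Iso.inv_hom_id]
    rfl
  refine ⟨WY.1, hy, n, fun j => WY.1.topIso.inv.hom (w j), fun i => e (toX i),
    hinj.comp htoX, etale_homOfVector_of_chart (π ≫ f) WY.1 WY.2 _ w hEt, ?_, ?_⟩
  · intro i U' h
    have hle : U'.1 ≤ π ⁻¹ᵁ U.1 := h.trans hWY
    have h1 : ((D i.1).comap π).ideal U' =
        Ideal.map (π.appLE U.1 U'.1 hle).hom ((D i.1).ideal U) :=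
      Groth.Agent.Lib.helper7.IdealComap.ideal_comap π (D i.1) U.2 U'.2 hle
    obtain ⟨m, c, hm, hc, hcw⟩ := hw (toX i)
    have happ : ∀ a, (π.appLE U.1 U'.1 hle).hom a =
        (Y.presheaf.map (homOfLE h).op).hom ((π.appLE U.1 WY.1 hWY).hom a) := by
      intro a
      rw [← Scheme.Hom.appLE_map π hWY (homOfLE h).op]
      rfl
    rw [Scheme.IdealSheafData.radical_ideal, h1, hDi (toX i), Ideal.map_span, Set.image_singleton,
      happ, hcw, map_mul, map_pow, hsect]
    refine radical_span_unit_mul_pow _ _ (hc.map _) m hm ?_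
    -- the restricted coordinate generates a radical ideal
    letI algWU : Algebra Γ(Y, WY.1) Γ(Y, U'.1) := (Y.presheaf.map (homOfLE h).op).hom.toAlgebra
    letI algkU : Algebra Γ(Spec (CommRingCat.of k), ⊤) Γ(Y, U'.1) :=
      ((Y.presheaf.map (homOfLE h).op).hom.comp
        ((π ≫ f).appLE ⊤ WY.1 (fun _ _ => trivial)).hom).toAlgebra
    haveI : IsScalarTower Γ(Spec (CommRingCat.of k), ⊤) Γ(Y, WY.1) Γ(Y, U'.1) :=
      IsScalarTower.of_algebraMap_eq (fun _ => rfl)
    letI algPW : Algebra (MvPolynomial (ULift.{u} (Fin n)) Γ(Spec (CommRingCat.of k), ⊤))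
        Γ(Y, WY.1) :=
      (MvPolynomial.aeval (R := Γ(Spec (CommRingCat.of k), ⊤)) w).toRingHom.toAlgebra
    haveI hEt' : Algebra.Etale (MvPolynomial (ULift.{u} (Fin n)) Γ(Spec (CommRingCat.of k), ⊤))
        Γ(Y, WY.1) := hEt
    haveI : IsScalarTower Γ(Spec (CommRingCat.of k), ⊤)
        (MvPolynomial (ULift.{u} (Fin n)) Γ(Spec (CommRingCat.of k), ⊤)) Γ(Y, WY.1) :=
      IsScalarTower.of_algebraMap_eq (fun a => by
        change algebraMap _ _ a = MvPolynomial.aeval (R := Γ(Spec (CommRingCat.of k), ⊤)) w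
          (algebraMap _ _ a)
        rw [MvPolynomial.algebraMap_eq, MvPolynomial.aeval_C])
    haveI : Algebra.FinitePresentation Γ(Spec (CommRingCat.of k), ⊤) Γ(Y, WY.1) :=
      Algebra.FinitePresentation.trans Γ(Spec (CommRingCat.of k), ⊤)
        (MvPolynomial (ULift.{u} (Fin n)) Γ(Spec (CommRingCat.of k), ⊤)) Γ(Y, WY.1)
    haveI : Algebra.Etale Γ(Y, WY.1) Γ(Y, U'.1) := by
      have h2 := HasRingHomProperty.appLE (P := @Etale) (𝟙 Y) inferInstance WY U' h
      have h3 : (𝟙 Y : Y ⟶ Y).appLE WY.1 U'.1 h = Y.presheaf.map (homOfLE h).op := by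
        simp only [Scheme.Hom.appLE, Scheme.Hom.id_app]
        exact Category.id_comp _
      rw [h3] at h2
      exact h2
    have hFS : @Algebra.FormallySmooth
        (MvPolynomial (ULift.{u} (Fin n)) Γ(Spec (CommRingCat.of k), ⊤)) Γ(Y, WY.1) _ _
        (MvPolynomial.aeval (R := Γ(Spec (CommRingCat.of k), ⊤)) w).toRingHom.toAlgebra :=
      inferInstance
    exact isRadical_span_of_etale (fun p _ => normal_of_isField hfield p) w hFS
      (ULift.up (e (toX i)))
  · intro i hi U' h
    have hle : U'.1 ≤ π ⁻¹ᵁ U.1 := h.trans hWY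
    have h1 : ((D i).comap π).ideal U' =
        Ideal.map (π.appLE U.1 U'.1 hle).hom ((D i).ideal U) :=
      Groth.Agent.Lib.helper7.IdealComap.ideal_comap π (D i) U.2 U'.2 hle
    rw [Scheme.IdealSheafData.radical_ideal, h1, hDo i (fun hx => hi ((hsupp i).mpr hx)),
      Ideal.map_top, Ideal.radical_top]

end Groth.Agent.Lib.helper8.CycNcd
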