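import Groth.Agent.Lib.Helper8.CycNcd2
import Groth.Agent.Lib.Helper8.CycNcd3

/-!
# Étale charts on the normalised cyclic cover (helper8)

* `mem_basicOpen_unit_add`: a unit plus a multiple of a function vanishing at `y` does not vanish
  at `y`.
* `one_component_chart`: over a small affine open meeting a single component `D_j` (`α_j > 0`) of
  the branch divisor cut out by an étale coordinate `v`, near a point `y` over `D_j` there is an
  affine open `W_Y ∋ y` of the normalised cyclic cover with an étale chart consisting of the other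
  pulled-back coordinates and a function `z` with `π^* v = unit * z^m`.
* `zero_component_chart`: over a small affine open missing the branch divisor, the pulled-back
  coordinates form an étale chart on the preimage.
-/

set_option autoImplicit false
universe u
open CategoryTheory AlgebraicGeometry Opposite TopologicalSpace Polynomial

namespace Groth.Agent.Lib.helper8.CycNcd

open Groth.Agent.Lib.helper8.CycEt Groth.Agent.Lib.Helper12.NormSec

theorem mem_basicOpen_unit_add {Y : Scheme.{u}} (V : Y.Opens) (y : Y) (hy : y ∈ V)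
    (c a d : Γ(Y, V)) (hc : IsUnit c) (ha : y ∉ Y.basicOpen a) : y ∈ Y.basicOpen (c + a * d) := by
  rw [Scheme.mem_basicOpen Y _ y hy] at ha ⊢
  rw [map_add, map_mul]
  by_contra hcon
  have h1 : (Y.presheaf.germ V y hy).hom a * (Y.presheaf.germ V y hy).hom d ∈
      nonunits (Y.presheaf.stalk y) :=
    Ideal.mul_mem_right _ (IsLocalRing.maximalIdeal (Y.presheaf.stalk y))
      ((IsLocalRing.mem_maximalIdeal _).mpr ha)
  have h2 : -((Y.presheaf.germ V y hy).hom a * (Y.presheaf.germ V y hy).hom d) ∈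
      nonunits (Y.presheaf.stalk y) := by
    rw [mem_nonunits_iff, IsUnit.neg_iff]
    exact h1
  have h3 := IsLocalRing.nonunits_add hcon h2
  rw [add_neg_cancel_right] at h3
  exact h3 (hc.map _)

section Local

variable {k : Type u} [Field k] {X Y : Scheme.{u}}
  (f : X ⟶ Spec (CommRingCat.of k)) [Smooth f] [IsIntegral X]
  {L : X.Modules} (hL : PicF.IsInvertible L) {N : ℕ} (hN : 0 < N) (hNk : (N : k) ≠ 0)
  {r : ℕ} (D : Fin r → X.IdealSheafData) (α : Fin r → ℕ)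
  {s : Coh.structureModule X ⟶ CohB1.tensorPow L N}
  (hs : CycCov.IsZeroDiv (CohB1.tensorPow L N) s (CycCov.divIdeal D α))
  {π : Y ⟶ X} (R : CycCov.Root L N s π) (hR : CycCov.IsCover R)

include hL hN hNk hs hR in
/-- near a point over the single component of the branch divisor meeting a small affine open, the
normalised cyclic cover has an étale chart in which the equation of the component is a unit
multiple of a power of a coordinate -/
theorem one_component_chart (W₁ : X.Opens) (J : Type u) [Finite J] [DecidableEq J]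
    (vv : J → Γ(W₁, ⊤))
    [Etale (AffineSpace.homOfVector (W₁.ι ≫ f) vv)] (U : X.affineOpens) (hUW : U.1 ≤ W₁)
    [Nonempty U.1] (j : Fin r) (j₀ : J) (hαj : 0 < α j)
    (hj : (D j).ideal U = Ideal.span {LogNCD.sectOn W₁ hUW (vv j₀)})
    (hi : ∀ i, i ≠ j → 0 < α i → (D i).ideal U = ⊤)
    (e : L.val.obj (op U.1)) (hgen : IsGen L U.1 e) (y : Y) (hyU : y ∈ π ⁻¹ᵁ U.1)
    (hyv : y ∉ Y.basicOpen ((π.app U.1).hom (LogNCD.sectOn W₁ hUW (vv j₀)))) :
    ∃ (WY : Y.affineOpens) (_ : y ∈ WY.1) (hWY : WY.1 ≤ π ⁻¹ᵁ U.1) (z c : Γ(Y, WY.1)) (m : ℕ),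
      0 < m ∧ IsUnit c ∧
      (π.appLE U.1 WY.1 hWY).hom (LogNCD.sectOn W₁ hUW (vv j₀)) = c * z ^ m ∧
      (letI : Algebra Γ(Spec (CommRingCat.of k), ⊤) Γ(Y, WY.1) :=
        ((π ≫ f).appLE ⊤ WY.1 (fun _ _ => trivial)).hom.toAlgebra
      @Algebra.Etale (MvPolynomial J Γ(Spec (CommRingCat.of k), ⊤)) Γ(Y, WY.1) _ _
        (MvPolynomial.aeval (R := Γ(Spec (CommRingCat.of k), ⊤))
          (fun j' => if j' = j₀ then z else
            (π.appLE U.1 WY.1 hWY).hom (LogNCD.sectOn W₁ hUW (vv j')))).toRingHom.toAlgebra) := by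
  obtain ⟨hfin, hY, W₀, hW₀, hpre, hch⟩ := hR
  haveI := hfin
  haveI : IsReduced Y := Groth.Agent.Lib.helper13.Normal.isReduced hY
  have hX := isNormal_of_smooth_field f
  have hU' : IsAffineOpen (π ⁻¹ᵁ U.1) := U.2.preimage π
  have he : Function.Bijective (fun a : Γ(X, U.1) => a • e) := by
    have := hgen U.1 le_rfl
    rw [rs_self] at this
    exact this
  -- the equation of `s`
  have hb := bijective_smul_lpow hL U.2 e he N
  obtain ⟨f', hf'0⟩ := hb.2 (SecTwist.val s U.1)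
  have hf' : SecTwist.val s U.1 = f' • CycCov.lpow L U.1 e N := by
    rw [lpow_eq]
    exact hf'0.symm
  set v : Γ(X, U.1) := LogNCD.sectOn W₁ hUW (vv j₀) with hvdef
  have hI := ideal_divIdeal_eq_span_pow D α U j v hj hi
  have hspan : Ideal.span {f'} = Ideal.span {v ^ α j} := by
    have h1 := hs U
    rw [hI, hf', lpow_eq] at h1
    exact ideal_span_eq_of_span_smul_eq _ hb f' _ h1
  obtain ⟨u, hu⟩ := (Ideal.span_singleton_eq_span_singleton.mp hspan).symm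
  -- the chart
  letI algA : Algebra Γ(Spec (CommRingCat.of k), ⊤) Γ(X, U.1) :=
    (f.appLE ⊤ U.1 (fun _ _ => trivial)).hom.toAlgebra
  have hEt := etale_of_chart f W₁ J vv U.1 U.2 hUW
  have hfield := isField_ΓSpec_field k
  have hFE : @Algebra.FormallyEtale (MvPolynomial J Γ(Spec (CommRingCat.of k), ⊤)) Γ(X, U.1) _ _
      (MvPolynomial.aeval (R := Γ(Spec (CommRingCat.of k), ⊤))
        (fun j => LogNCD.sectOn W₁ hUW (vv j))).toRingHom.toAlgebra := by
    letI algPA : Algebra (MvPolynomial J Γ(Spec (CommRingCat.of k), ⊤)) Γ(X, U.1) :=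
      (MvPolynomial.aeval (R := Γ(Spec (CommRingCat.of k), ⊤))
        (fun j => LogNCD.sectOn W₁ hUW (vv j))).toRingHom.toAlgebra
    haveI : Algebra.Etale (MvPolynomial J Γ(Spec (CommRingCat.of k), ⊤)) Γ(X, U.1) := hEt
    infer_instance
  have hFS : @Algebra.FormallySmooth (MvPolynomial J Γ(Spec (CommRingCat.of k), ⊤)) Γ(X, U.1) _ _
      (MvPolynomial.aeval (R := Γ(Spec (CommRingCat.of k), ⊤))
        (fun j => LogNCD.sectOn W₁ hUW (vv j))).toRingHom.toAlgebra := by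
    letI algPA : Algebra (MvPolynomial J Γ(Spec (CommRingCat.of k), ⊤)) Γ(X, U.1) :=
      (MvPolynomial.aeval (R := Γ(Spec (CommRingCat.of k), ⊤))
        (fun j => LogNCD.sectOn W₁ hUW (vv j))).toRingHom.toAlgebra
    haveI : Algebra.Etale (MvPolynomial J Γ(Spec (CommRingCat.of k), ⊤)) Γ(X, U.1) := hEt
    infer_instance
  -- `v ≠ 0`
  have hv0 : v ≠ 0 := by
    letI := hfield.toField
    letI algPA : Algebra (MvPolynomial J Γ(Spec (CommRingCat.of k), ⊤)) Γ(X, U.1) :=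
      (MvPolynomial.aeval (R := Γ(Spec (CommRingCat.of k), ⊤))
        (fun j => LogNCD.sectOn W₁ hUW (vv j))).toRingHom.toAlgebra
    haveI : Algebra.Etale (MvPolynomial J Γ(Spec (CommRingCat.of k), ⊤)) Γ(X, U.1) := hEt
    have hreg : IsSMulRegular (MvPolynomial J Γ(Spec (CommRingCat.of k), ⊤))
        (MvPolynomial.X j₀ : MvPolynomial J Γ(Spec (CommRingCat.of k), ⊤)) :=
      (IsRegular.of_ne_zero (MvPolynomial.X_ne_zero j₀)).left.isSMulRegular
    have h1 := IsSMulRegular.of_flat (S := Γ(X, U.1)) hreg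
    have h2 : algebraMap (MvPolynomial J Γ(Spec (CommRingCat.of k), ⊤)) Γ(X, U.1)
        (MvPolynomial.X j₀) = v := by
      change MvPolynomial.aeval (R := Γ(Spec (CommRingCat.of k), ⊤))
        (fun j => LogNCD.sectOn W₁ hUW (vv j)) (MvPolynomial.X j₀) = v
      rw [MvPolynomial.aeval_X]
    rw [h2] at h1
    intro h0
    rw [h0] at h1
    have := h1 (show (0 : Γ(X, U.1)) • (1 : Γ(X, U.1)) = (0 : Γ(X, U.1)) • 0 by simp)
    exact one_ne_zero this
  -- arithmetic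
  obtain ⟨g, N', α', a, b, hg, hN', hNeq, hαeq, hab, hgcd⟩ := exists_gcd_decomp N (α j) hN hαj
  have hNu : IsUnit ((N : ℕ) : Γ(X, U.1)) := isUnit_natCast_of_field f N hNk U.1
  have hgu : IsUnit ((g : ℕ) : Γ(X, U.1)) := by
    rw [hNeq, Nat.cast_mul] at hNu
    exact isUnit_of_mul_isUnit_left hNu
  have hN'u : IsUnit ((N' : ℕ) : Γ(X, U.1)) := by
    rw [hNeq, Nat.cast_mul] at hNu
    exact isUnit_of_mul_isUnit_right hNu
  have hfu : f' = (u : Γ(X, U.1)) * v ^ (g * α') := by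
    rw [← hαeq, ← hu, mul_comm]
  -- small basic open inside `W₀`
  obtain ⟨x, hxU, hxW⟩ := hW₀.inter_open_nonempty U.1.1 U.1.2 ⟨_, (Classical.arbitrary U.1).2⟩
  obtain ⟨h', hle, hx⟩ := U.2.exists_basicOpen_le ⟨x, hxW⟩ hxU
  have heC : CycCov.IsGen L U.1 e := he
  have hinjC := chart_injective R hN W₀ hch U e hgen heC f' hf' h' hle x hx
  -- the chart over `D(v)` is bijective
  have hvne : ((X.basicOpen v : X.Opens) : Set X).Nonempty := by
    rw [Set.nonempty_iff_ne_empty]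
    intro h0
    apply hv0
    rw [← basicOpen_eq_bot_iff]
    ext1
    exact h0
  haveI : Nonempty (bV U v).1 := ⟨⟨hvne.some, hvne.some_mem⟩⟩
  have hbijv : Function.Bijective (CycCov.chart R (bV U v) _
      (isGen_res (X.basicOpen_le v) e hgen) _ (hf_res (X.basicOpen_le v) e f' hf')) := by
    refine chart_bijective R hN W₀ hch (bV U v) _ (hgen.rs (X.basicOpen_le v)) _ _ _ hX hY hW₀ hpre
      ?_ (isUnit_natCast_of_field f N hNk _)
    rw [hfu, map_mul, map_pow]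
    exact ((u.isUnit).map _).mul ((X.toRingedSpace.isUnit_res_basicOpen v).pow _)
  -- apply the ring theorem
  letI algB : Algebra Γ(X, U.1) Γ(Y, π ⁻¹ᵁ U.1) := (π.app U.1).hom.toAlgebra
  letI algkB : Algebra Γ(Spec (CommRingCat.of k), ⊤) Γ(Y, π ⁻¹ᵁ U.1) :=
    ((π.app U.1).hom.comp (f.appLE ⊤ U.1 (fun _ _ => trivial)).hom).toAlgebra
  haveI : IsScalarTower Γ(Spec (CommRingCat.of k), ⊤) Γ(X, U.1) Γ(Y, π ⁻¹ᵁ U.1) :=
    IsScalarTower.of_algebraMap_eq (fun _ => rfl)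
  haveI : Algebra.FinitePresentation Γ(Spec (CommRingCat.of k), ⊤) Γ(X, U.1) :=
    HasRingHomProperty.appLE (P := @LocallyOfFinitePresentation) f inferInstance
      ⟨⊤, isAffineOpen_top _⟩ U (fun _ _ => trivial)
  have a1 : (R.t U e heC) ^ (g * N') =
      algebraMap Γ(X, U.1) Γ(Y, π ⁻¹ᵁ U.1) ((u : Γ(X, U.1)) * v ^ (g * α')) := by
    have := R.pow_eq U e heC f' hf'
    rw [← hNeq, this, hfu]
    rfl
  have a2 : ∀ (𝔪 : Ideal Γ(Y, π ⁻¹ᵁ U.1)) [𝔪.IsMaximal],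
      IsDomain (Localization.AtPrime 𝔪) ∧ IsIntegrallyClosed (Localization.AtPrime 𝔪) := by
    intro 𝔪 _
    exact (Groth.Agent.Lib.helper13.Normal.iff_affineOpens Y).mp hY _ hU' 𝔪
  have a3 : ∀ x : Γ(Y, π ⁻¹ᵁ U.1), algebraMap Γ(X, U.1) Γ(Y, π ⁻¹ᵁ U.1) v * x = 0 → x = 0 := by
    intro b hb
    exact nonzerodiv R hN W₀ hch U e hgen f' hf' hpre v hv0 b hb
  have a4 : (algebraMap Γ(X, U.1) Γ(Y, π ⁻¹ᵁ U.1)).IsIntegral :=
    (IsFinite.finite_app π U.1 U.2).to_isIntegral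
  have a5 : ∀ x : Γ(Y, π ⁻¹ᵁ U.1), ∃ (n : ℕ) (p : Γ(X, U.1)[X]),
      algebraMap Γ(X, U.1) Γ(Y, π ⁻¹ᵁ U.1) v ^ n * x =
        eval₂ (algebraMap Γ(X, U.1) Γ(Y, π ⁻¹ᵁ U.1)) (R.t U e heC) p := by
    intro b
    obtain ⟨n, c, hc⟩ := exists_pow_mul_eq_chart' R U e hgen heC f' hf' hU' v hbijv b
    obtain ⟨p, rfl⟩ := AdjoinRoot.mk_surjective c
    exact ⟨n, p, hc.trans (chart_mk R U e heC f' hf' p)⟩
  have a6 : ∀ p : Γ(X, U.1)[X], p.degree < ((g * N' : ℕ) : WithBot ℕ) →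
      eval₂ (algebraMap Γ(X, U.1) Γ(Y, π ⁻¹ᵁ U.1)) (R.t U e heC) p = 0 → p = 0 := by
    intro p hp hp0
    have h1 : CycCov.chart R U e heC f' hf' (AdjoinRoot.mk _ p) = 0 := by
      rw [chart_mk]
      exact hp0
    have h2 := hinjC (h1.trans (map_zero _).symm)
    refine eq_zero_of_mk_eq_zero _ (monic_X_pow_sub_C _ hN.ne') p ?_ h2
    rw [degree_X_pow_sub_C hN, hNeq]
    exact hp
  have key : Algebra.Smooth Γ(Spec (CommRingCat.of k), ⊤) Γ(Y, π ⁻¹ᵁ U.1) :=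
    smooth_of_cyclic_normal (fun p _ => normal_of_isField hfield p)
      (fun j => LogNCD.sectOn W₁ hUW (vv j)) hFS j₀ (u : Γ(X, U.1)) u.isUnit g N' α' a b hg hN' hab
      hgu hN'u (R.t U e heC) a1 a2 hv0 a3 a4 a5 a6
  obtain ⟨hB, z₀, cB, c₁, d₁, hcB, hc₁, hhB, hvz, hchart⟩ :=
    exists_chart_of_cyclic_normal (fun p _ => normal_of_isField hfield p)
      (fun j => LogNCD.sectOn W₁ hUW (vv j)) hFE j₀ (u : Γ(X, U.1)) u.isUnit g N' α' a b hg hN' hab
      hgu hN'u (R.t U e heC) a1 a2 hv0 a3 a4 a5 a6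
  -- the affine open upstairs
  have hWY : Y.basicOpen hB ≤ π ⁻¹ᵁ U.1 := Y.basicOpen_le hB
  have hyW : y ∈ Y.basicOpen hB := by
    rw [hhB]
    exact mem_basicOpen_unit_add _ y hyU c₁ _ d₁ hc₁ hyv
  letI algkB' : Algebra Γ(Spec (CommRingCat.of k), ⊤) Γ(Y, Y.basicOpen hB) :=
    ((π ≫ f).appLE ⊤ (Y.basicOpen hB) (fun _ _ => trivial)).hom.toAlgebra
  have hres : ∀ b : Γ(Y, π ⁻¹ᵁ U.1), algebraMap Γ(Y, π ⁻¹ᵁ U.1) Γ(Y, Y.basicOpen hB) b =
      (Y.presheaf.map (homOfLE hWY).op).hom b := fun b => rfl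
  have happ : ∀ a : Γ(X, U.1), (π.appLE U.1 (Y.basicOpen hB) hWY).hom a =
      algebraMap Γ(Y, π ⁻¹ᵁ U.1) Γ(Y, Y.basicOpen hB) ((π.app U.1).hom a) := fun a => rfl
  haveI : IsScalarTower Γ(Spec (CommRingCat.of k), ⊤) Γ(Y, π ⁻¹ᵁ U.1) Γ(Y, Y.basicOpen hB) :=
    IsScalarTower.of_algebraMap_eq (fun a => by
      change ((π ≫ f).appLE ⊤ (Y.basicOpen hB) (fun _ _ => trivial)).hom a =
        (Y.presheaf.map (homOfLE hWY).op).hom ((π.app U.1).hom
          ((f.appLE ⊤ U.1 (fun _ _ => trivial)).hom a))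
      rw [← Scheme.Hom.appLE_comp_appLE π f ⊤ U.1 (Y.basicOpen hB) (fun _ _ => trivial) hWY]
      rfl)
  haveI : IsLocalization.Away hB Γ(Y, Y.basicOpen hB) := hU'.isLocalization_basicOpen hB
  have hFE' := hchart Γ(Y, Y.basicOpen hB)
  refine ⟨⟨Y.basicOpen hB, hU'.basicOpen hB⟩, hyW, hWY,
    algebraMap Γ(Y, π ⁻¹ᵁ U.1) Γ(Y, Y.basicOpen hB) z₀,
    algebraMap Γ(Y, π ⁻¹ᵁ U.1) Γ(Y, Y.basicOpen hB) cB, N', hN', hcB.map _, ?_, ?_⟩
  · rw [happ]
    change algebraMap Γ(Y, π ⁻¹ᵁ U.1) Γ(Y, Y.basicOpen hB)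
      (algebraMap Γ(X, U.1) Γ(Y, π ⁻¹ᵁ U.1) v) = _
    rw [hvz, map_mul, map_pow]
  · have hfun : (fun j' => algebraMap Γ(Y, π ⁻¹ᵁ U.1) Γ(Y, Y.basicOpen hB)
        (if j' = j₀ then z₀ else algebraMap Γ(X, U.1) Γ(Y, π ⁻¹ᵁ U.1)
          (LogNCD.sectOn W₁ hUW (vv j')))) =
        (fun j' => if j' = j₀ then algebraMap Γ(Y, π ⁻¹ᵁ U.1) Γ(Y, Y.basicOpen hB) z₀ else
          (π.appLE U.1 (Y.basicOpen hB) hWY).hom (LogNCD.sectOn W₁ hUW (vv j'))) := by
      funext j'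
      split_ifs
      · rfl
      · rfl
    rw [hfun] at hFE'
    letI algPB' : Algebra (MvPolynomial J Γ(Spec (CommRingCat.of k), ⊤)) Γ(Y, Y.basicOpen hB) :=
      (MvPolynomial.aeval (R := Γ(Spec (CommRingCat.of k), ⊤))
        (fun j' => if j' = j₀ then algebraMap Γ(Y, π ⁻¹ᵁ U.1) Γ(Y, Y.basicOpen hB) z₀ else
          (π.appLE U.1 (Y.basicOpen hB) hWY).hom
            (LogNCD.sectOn W₁ hUW (vv j')))).toRingHom.toAlgebra
    haveI : IsScalarTower Γ(Spec (CommRingCat.of k), ⊤)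
        (MvPolynomial J Γ(Spec (CommRingCat.of k), ⊤)) Γ(Y, Y.basicOpen hB) :=
      IsScalarTower.of_algebraMap_eq (fun a => by
        change algebraMap _ _ a = MvPolynomial.aeval (R := Γ(Spec (CommRingCat.of k), ⊤)) _
          (algebraMap _ _ a)
        rw [MvPolynomial.algebraMap_eq, MvPolynomial.aeval_C])
    haveI : Algebra.FinitePresentation Γ(Spec (CommRingCat.of k), ⊤) Γ(Y, π ⁻¹ᵁ U.1) := key.2
    haveI : Algebra.FinitePresentation Γ(Y, π ⁻¹ᵁ U.1) Γ(Y, Y.basicOpen hB) :=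
      IsLocalization.Away.finitePresentation hB
    haveI : Algebra.FinitePresentation Γ(Spec (CommRingCat.of k), ⊤) Γ(Y, Y.basicOpen hB) :=
      Algebra.FinitePresentation.trans Γ(Spec (CommRingCat.of k), ⊤) Γ(Y, π ⁻¹ᵁ U.1)
        Γ(Y, Y.basicOpen hB)
    haveI : Algebra.FinitePresentation (MvPolynomial J Γ(Spec (CommRingCat.of k), ⊤))
        Γ(Y, Y.basicOpen hB) :=
      Algebra.FinitePresentation.of_restrict_scalars_finitePresentation
        Γ(Spec (CommRingCat.of k), ⊤) _ _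
    haveI : Algebra.FormallyEtale (MvPolynomial J Γ(Spec (CommRingCat.of k), ⊤))
        Γ(Y, Y.basicOpen hB) := hFE'
    exact ⟨inferInstance, inferInstance⟩

include hL hN hNk hs hR in
/-- over a small affine open on which the branch divisor is trivial, the pulled-back coordinates
form an étale chart on the preimage -/
theorem zero_component_chart (W₁ : X.Opens) (J : Type u) [Finite J] (vv : J → Γ(W₁, ⊤))
    [Etale (AffineSpace.homOfVector (W₁.ι ≫ f) vv)] (U : X.affineOpens) (hUW : U.1 ≤ W₁)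
    [Nonempty U.1] (hI : (CycCov.divIdeal D α).ideal U = ⊤)
    (e : L.val.obj (op U.1)) (hgen : IsGen L U.1 e) :
    letI : Algebra Γ(Spec (CommRingCat.of k), ⊤) Γ(Y, π ⁻¹ᵁ U.1) :=
      ((π ≫ f).appLE ⊤ (π ⁻¹ᵁ U.1) (fun _ _ => trivial)).hom.toAlgebra
    @Algebra.Etale (MvPolynomial J Γ(Spec (CommRingCat.of k), ⊤)) Γ(Y, π ⁻¹ᵁ U.1) _ _
      (MvPolynomial.aeval (R := Γ(Spec (CommRingCat.of k), ⊤))
        (fun j' => (π.appLE U.1 (π ⁻¹ᵁ U.1) le_rfl).hom
          (LogNCD.sectOn W₁ hUW (vv j')))).toRingHom.toAlgebra := by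
  obtain ⟨hfin, hY, W₀, hW₀, hpre, hch⟩ := hR
  haveI := hfin
  have hX := isNormal_of_smooth_field f
  have he : Function.Bijective (fun a : Γ(X, U.1) => a • e) := by
    have := hgen U.1 le_rfl
    rw [rs_self] at this
    exact this
  obtain ⟨f', hfu, hf'⟩ := exists_isUnit_of_isZeroDiv hL s _ hs U e he hI
  have hetale : (π.app U.1).hom.Etale :=
    etale_app R hN W₀ hch U e hgen he f' hf' hX hY hW₀ hpre hfu
      (isUnit_natCast_of_field f N hNk U.1)
  letI algA : Algebra Γ(Spec (CommRingCat.of k), ⊤) Γ(X, U.1) :=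
    (f.appLE ⊤ U.1 (fun _ _ => trivial)).hom.toAlgebra
  have hEt := etale_of_chart f W₁ J vv U.1 U.2 hUW
  letI algB : Algebra Γ(X, U.1) Γ(Y, π ⁻¹ᵁ U.1) := (π.app U.1).hom.toAlgebra
  letI algkB : Algebra Γ(Spec (CommRingCat.of k), ⊤) Γ(Y, π ⁻¹ᵁ U.1) :=
    ((π ≫ f).appLE ⊤ (π ⁻¹ᵁ U.1) (fun _ _ => trivial)).hom.toAlgebra
  haveI : IsScalarTower Γ(Spec (CommRingCat.of k), ⊤) Γ(X, U.1) Γ(Y, π ⁻¹ᵁ U.1) :=
    IsScalarTower.of_algebraMap_eq (fun a => by
      change ((π ≫ f).appLE ⊤ (π ⁻¹ᵁ U.1) (fun _ _ => trivial)).hom a =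
        (π.app U.1).hom ((f.appLE ⊤ U.1 (fun _ _ => trivial)).hom a)
      rw [← Scheme.Hom.appLE_comp_appLE π f ⊤ U.1 (π ⁻¹ᵁ U.1) (fun _ _ => trivial) le_rfl,
        Scheme.Hom.appLE_eq_app]
      rfl)
  haveI : Algebra.Etale Γ(X, U.1) Γ(Y, π ⁻¹ᵁ U.1) := hetale
  letI algPA : Algebra (MvPolynomial J Γ(Spec (CommRingCat.of k), ⊤)) Γ(X, U.1) :=
    (MvPolynomial.aeval (R := Γ(Spec (CommRingCat.of k), ⊤))
      (fun j => LogNCD.sectOn W₁ hUW (vv j))).toRingHom.toAlgebra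
  letI algPB : Algebra (MvPolynomial J Γ(Spec (CommRingCat.of k), ⊤)) Γ(Y, π ⁻¹ᵁ U.1) :=
    ((algebraMap Γ(X, U.1) Γ(Y, π ⁻¹ᵁ U.1)).comp
      (MvPolynomial.aeval (R := Γ(Spec (CommRingCat.of k), ⊤))
        (fun j => LogNCD.sectOn W₁ hUW (vv j))).toRingHom).toAlgebra
  haveI : IsScalarTower (MvPolynomial J Γ(Spec (CommRingCat.of k), ⊤)) Γ(X, U.1)
      Γ(Y, π ⁻¹ᵁ U.1) := IsScalarTower.of_algebraMap_eq (fun _ => rfl)
  haveI : Algebra.Etale (MvPolynomial J Γ(Spec (CommRingCat.of k), ⊤)) Γ(X, U.1) := hEt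
  have h₀ : Algebra.Etale (MvPolynomial J Γ(Spec (CommRingCat.of k), ⊤)) Γ(Y, π ⁻¹ᵁ U.1) :=
    Algebra.Etale.comp (MvPolynomial J Γ(Spec (CommRingCat.of k), ⊤)) Γ(X, U.1) Γ(Y, π ⁻¹ᵁ U.1)
  have h1 : (algebraMap Γ(X, U.1) Γ(Y, π ⁻¹ᵁ U.1)).comp
      (MvPolynomial.aeval (R := Γ(Spec (CommRingCat.of k), ⊤))
        (fun j => LogNCD.sectOn W₁ hUW (vv j))).toRingHom =
      (MvPolynomial.aeval (R := Γ(Spec (CommRingCat.of k), ⊤))
        (fun j' => (π.appLE U.1 (π ⁻¹ᵁ U.1) le_rfl).hom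
          (LogNCD.sectOn W₁ hUW (vv j')))).toRingHom := by
    apply MvPolynomial.ringHom_ext
    · intro a
      simp only [RingHom.comp_apply, AlgHom.toRingHom_eq_coe, RingHom.coe_coe,
        MvPolynomial.aeval_C]
      exact (IsScalarTower.algebraMap_apply Γ(Spec (CommRingCat.of k), ⊤) Γ(X, U.1)
        Γ(Y, π ⁻¹ᵁ U.1) a).symm
    · intro j
      simp only [RingHom.comp_apply, AlgHom.toRingHom_eq_coe, RingHom.coe_coe,
        MvPolynomial.aeval_X]
      rw [Scheme.Hom.appLE_eq_app]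
      rfl
  have heq : algPB =
      (MvPolynomial.aeval (R := Γ(Spec (CommRingCat.of k), ⊤))
        (fun j' => (π.appLE U.1 (π ⁻¹ᵁ U.1) le_rfl).hom
          (LogNCD.sectOn W₁ hUW (vv j')))).toRingHom.toAlgebra :=
    Algebra.algebra_ext _ _ (fun p => RingHom.congr_fun h1 p)
  rw [← heq]
  exact h₀

end Local

theorem ideal_divIdeal_eq_top' {X : Scheme.{u}} {r : ℕ} (D : Fin r → X.IdealSheafData)
    (α : Fin r → ℕ) (U : X.affineOpens)
    (hU : ∀ j, 0 < α j → (D j).ideal U = ⊤) :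
    (CycCov.divIdeal D α).ideal U = ⊤ := by
  unfold CycCov.divIdeal
  refine Finset.prod_induction (fun j => D j ^ α j) (fun I : X.IdealSheafData => I.ideal U = ⊤)
    ?_ ?_ ?_
  · intro a b ha hb
    change a.ideal U * b.ideal U = ⊤
    rw [ha, hb, Ideal.mul_top]
  · rfl
  · intro j _
    change (D j).ideal U ^ α j = ⊤
    rcases Nat.eq_zero_or_pos (α j) with h0 | h0
    · rw [h0, pow_zero, Ideal.one_eq_top]
    · rw [hU j h0, Ideal.top_pow]

end Groth.Agent.Lib.helper8.CycNcd
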