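import Groth.Agent.Lib.Helper8.CycCover
import Groth.Agent.Lib.Helper28.SecEpi
import Groth.Agent.Lib.Helper12.InvDual2
import Groth.Agent.Lib.Helper11.InvMod

/-!
# The pullback of `L` to the cyclic cover is trivial (helper8)
-/

set_option autoImplicit false
set_option linter.style.haveILetI false
universe u
open CategoryTheory CategoryTheory.Limits AlgebraicGeometry TopologicalSpace Opposite

namespace Groth.Agent.Lib.helper8.CycCover

open Groth.Agent.Lib.helper28.SymLinePow Groth.Agent.Lib.helper28.SpecColim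
  Groth.Agent.Lib.helper8.CycRing

variable {X : Scheme.{u}} {L : X.Modules} [L.IsQuasicoherent]
  {𝒮L : RelProj.QCGrAlg X} (j : L ⟶ 𝒮L.toModule) {d : ℕ}
  (φ : CohB1.tensorPow L d ≅ Coh.structureModule X)

/-- the ring map `𝒮L(U) → O_{X'}(g⁻¹ U)` -/
noncomputable def symToCyc (U : X.Opens) :
    𝒮L.presheaf.obj (op U) →+* Γ(cyc j φ, cycπ j φ ⁻¹ᵁ U) :=
  ((cycι j φ).app (pV 𝒮L ⁻¹ᵁ U)).hom.comp ((gammaInv 𝒮L).app (op U)).hom

theorem symToCyc_apply (U : X.Opens) (s : 𝒮L.presheaf.obj (op U)) :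
    symToCyc j φ U s =
      ((cycι j φ).app (pV 𝒮L ⁻¹ᵁ U)).hom (((gammaInv 𝒮L).app (op U)).hom s) := rfl

theorem symToCyc_res {U W : X.Opens} (i : W ≤ U) (s : 𝒮L.presheaf.obj (op U)) :
    symToCyc j φ W ((𝒮L.presheaf.map (homOfLE i).op).hom s) =
      ((cyc j φ).presheaf.map (homOfLE ((cycπ j φ).preimage_mono i)).op).hom
        (symToCyc j φ U s) := by
  unfold symToCyc
  have h := (gammaInv 𝒮L).naturality (homOfLE i).op
  have h2 := congrArg (fun k => k.hom s) h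
  simp only [CommRingCat.hom_comp, RingHom.comp_apply] at h2
  change ((cycι j φ).app (pV 𝒮L ⁻¹ᵁ W)).hom (((gammaInv 𝒮L).app (op W)).hom
      ((𝒮L.presheaf.map (homOfLE i).op).hom s)) =
    ((cyc j φ).presheaf.map
      (homOfLE ((cycι j φ).preimage_mono ((pV 𝒮L).preimage_mono i))).op).hom
      (((cycι j φ).app (pV 𝒮L ⁻¹ᵁ U)).hom (((gammaInv 𝒮L).app (op U)).hom s))
  rw [h2]
  have h3 := (cycι j φ).naturality (homOfLE ((pV 𝒮L).preimage_mono i)).op
  have h4 := congrArg (fun k => k.hom (((gammaInv 𝒮L).app (op U)).hom s)) h3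
  simp only [CommRingCat.hom_comp, RingHom.comp_apply] at h4
  exact h4

theorem symToCyc_str (U : X.Opens) (r : Γ(X, U)) :
    symToCyc j φ U ((𝒮L.str.app (op U)).hom r) = ((cycπ j φ).app U).hom r := by
  have h1 : 𝒮L.str ≫ gammaInv 𝒮L = (pV 𝒮L).c := by
    haveI := Groth.Agent.S8255.result 𝒮L.toQCAlg
    unfold gammaInv
    rw [← 𝒮L.toQCAlg.π_c_gammaMap, Category.assoc, IsIso.hom_inv_id, Category.comp_id]
  have h2 := congrArg (fun k => (k.app (op U)).hom r) h1
  change ((cycι j φ).app (pV 𝒮L ⁻¹ᵁ U)).hom (((gammaInv 𝒮L).app (op U)).hom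
      ((𝒮L.str.app (op U)).hom r)) = _
  have h3 : ((gammaInv 𝒮L).app (op U)).hom ((𝒮L.str.app (op U)).hom r) =
      ((pV 𝒮L).app U).hom r := h2
  rw [h3]
  rfl

/-- the module `g_* O_{X'}` -/
noncomputable abbrev pushO : X.Modules :=
  (Scheme.Modules.pushforward (cycπ j φ)).obj (Coh.structureModule (cyc j φ))

/-- the additive map `L(U) → O_{X'}(g⁻¹U)` -/
noncomputable def JApp (U : X.Opens) : Γ(L, U) →+ Γ(pushO j φ, U) :=
  AddMonoidHom.comp (M := Γ(L, U)) (N := 𝒮L.presheaf.obj (op U)) (P := Γ(pushO j φ, U))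
    (symToCyc j φ U).toAddMonoidHom (j.app U).hom

theorem JApp_apply (U : X.Opens) (s : Γ(L, U)) :
    JApp j φ U s = symToCyc j φ U ((j.app U).hom s) := rfl

theorem JApp_res {U W : X.Opens} (i : W ⟶ U) (s : Γ(L, U)) :
    JApp j φ W (L.presheaf.map i.op s) = (pushO j φ).presheaf.map i.op (JApp j φ U s) := by
  rw [JApp_apply, JApp_apply]
  have h1 := Groth.Agent.Lib.helper2.ModSec.map_app_apply j i s
  have h2 : (j.app W).hom (L.presheaf.map i.op s) =
      (𝒮L.presheaf.map (homOfLE (leOfHom i)).op).hom ((j.app U).hom s) := h1.symm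
  rw [h2, symToCyc_res]
  rfl

theorem JApp_smul (U : X.Opens) (r : Γ(X, U)) (s : Γ(L, U)) :
    JApp j φ U (r • s) = r • JApp j φ U s := by
  rw [JApp_apply, JApp_apply]
  have h1 : (id ((j.app U).hom (r • s)) : 𝒮L.presheaf.obj (op U)) =
      (𝒮L.str.app (op U)).hom r * (id ((j.app U).hom s) : 𝒮L.presheaf.obj (op U)) :=
    Scheme.Modules.Hom.app_smul j r s
  simp only [id] at h1
  rw [h1, map_mul, symToCyc_str]
  rfl

/-- the map of presheaves of abelian groups underlying `J` -/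
noncomputable def JPre : L.presheaf ⟶ (pushO j φ).presheaf where
  app U := AddCommGrpCat.ofHom (JApp j φ U.unop)
  naturality := by
    intro U V f
    ext s
    exact JApp_res j φ f.unop s

/-- the map `J : L ⟶ g_* O_{X'}` adjoint to the trivialization of `g^* L` -/
noncomputable def JHom : L ⟶ pushO j φ :=
  ⟨PresheafOfModules.homMk (JPre j φ) (fun W r s => JApp_smul j φ W.unop r s)⟩

theorem JHom_app (U : X.Opens) (s : Γ(L, U)) :
    (JHom j φ).app U s = symToCyc j φ U ((j.app U).hom s) := rfl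

/-- the map `ψ : g^* L ⟶ O_{X'}` -/
noncomputable def ψHom :
    (Scheme.Modules.pullback (cycπ j φ)).obj L ⟶ Coh.structureModule (cyc j φ) :=
  ((Scheme.Modules.pullbackPushforwardAdjunction (cycπ j φ)).homEquiv L
    (Coh.structureModule (cyc j φ))).symm (JHom j φ)

theorem unit_ψHom :
    (Scheme.Modules.pullbackPushforwardAdjunction (cycπ j φ)).unit.app L ≫
      (Scheme.Modules.pushforward (cycπ j φ)).map (ψHom j φ) = JHom j φ := by
  unfold ψHom
  exact (Adjunction.homEquiv_unit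
    (Scheme.Modules.pullbackPushforwardAdjunction (cycπ j φ)) _ _ _).symm.trans
    (Equiv.apply_symm_apply _ _)

/-- the pulled back section `g^* s` -/
noncomputable def pullSec (U : X.Opens) (s : Γ(L, U)) :
    Γ((Scheme.Modules.pullback (cycπ j φ)).obj L, cycπ j φ ⁻¹ᵁ U) :=
  ((Scheme.Modules.pullbackPushforwardAdjunction (cycπ j φ)).unit.app L).app U s

theorem ψHom_pullSec (U : X.Opens) (s : Γ(L, U)) :
    (ψHom j φ).app (cycπ j φ ⁻¹ᵁ U) (pullSec j φ U s) =
      symToCyc j φ U ((j.app U).hom s) := by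
  have h := congrArg (fun k => k.app U s) (unit_ψHom j φ)
  exact h

section Pull

variable (hL : PicF.IsInvertible L)

include hL in
theorem isUnit_symToCyc_z (hd : 0 < d) {U : X.Opens} (D : GenData L 𝒮L j U) :
    IsUnit (symToCyc j φ U D.z) := by
  obtain ⟨c, hcu, hc⟩ := exists_unit_θ j φ hL D
  have h1 : symToCyc j φ U D.z = ((cycι j φ).app (pV 𝒮L ⁻¹ᵁ U)).hom (zV j D) := by
    rw [symToCyc_apply, gammaInv_app U D.hV]
    rfl
  rw [h1]
  exact isUnit_gen ((pV 𝒮L).app U).hom (zV j D) d hd c hcu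
    ((cycι j φ).app (pV 𝒮L ⁻¹ᵁ U)).hom
    ((idealV j φ).subschemeι_app_surjective (WU 𝒮L U D.hV))
    (((idealV j φ).ker_subschemeι_app (WU 𝒮L U D.hV)).trans (idealV_ideal_gen j φ D c hc))

variable (hj : RelProj.IsGrSymAlg L 𝒮L j)

include hj hL in
theorem epi_ψHom (hd : 0 < d) : Epi (ψHom j φ) := by
  refine Groth.Agent.Lib.helper28.SecEpi.epi_of_locally_surjective (ψHom j φ) ?_
  intro V s y hyV
  obtain ⟨U, hyU, -, ⟨D⟩⟩ := exists_genData hj hL (cycπ j φ y) ⊤ trivial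
  have hWV : V ⊓ cycπ j φ ⁻¹ᵁ U ≤ V := inf_le_left
  have hWU : V ⊓ cycπ j φ ⁻¹ᵁ U ≤ cycπ j φ ⁻¹ᵁ U := inf_le_right
  refine ⟨V ⊓ cycπ j φ ⁻¹ᵁ U, hWV, ⟨hyV, hyU⟩, ?_⟩
  obtain ⟨v, hv⟩ := (isUnit_symToCyc_z j φ hL hd D).exists_left_inv
  let s' : Γ(cyc j φ, V) := s
  let a : Γ(cyc j φ, V ⊓ cycπ j φ ⁻¹ᵁ U) :=
    ((cyc j φ).presheaf.map (homOfLE hWV).op).hom s' *
      ((cyc j φ).presheaf.map (homOfLE hWU).op).hom v
  refine ⟨a • (((Scheme.Modules.pullback (cycπ j φ)).obj L).presheaf.map (homOfLE hWU).op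
    (pullSec j φ U D.g)), ?_⟩
  rw [Scheme.Modules.Hom.app_smul, ← Groth.Agent.Lib.helper2.ModSec.map_app_apply, ψHom_pullSec]
  change a * ((cyc j φ).presheaf.map (homOfLE hWU).op).hom (symToCyc j φ U D.z) =
    ((cyc j φ).presheaf.map (homOfLE hWV).op).hom s'
  rw [mul_assoc, ← map_mul, hv, map_one, mul_one]

include hj hL in
/-- `g^* L ≅ O_{X'}` on the cyclic cover -/
theorem nonempty_pullback_iso (hd : 0 < d) :
    Nonempty ((Scheme.Modules.pullback (cycπ j φ)).obj L ≅ Coh.structureModule (cyc j φ)) := by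
  haveI := epi_ψHom j φ hL hj hd
  haveI := Groth.Agent.Lib.helper12.InvDual.isIso_of_epi_of_isInvertible
    (Groth.Agent.Lib.helper11.InvMod.isInvertible_pullback (cycπ j φ) hL) (ψHom j φ)
  exact ⟨asIso (ψHom j φ)⟩

end Pull

end Groth.Agent.Lib.helper8.CycCover
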