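import Groth.Agent.Lib.Helper8.CycSm3
import Groth.Agent.Lib.Helper7.IdealComap

/-!
# Ramification of the normalised cyclic cover along the branch divisor (helper8)

* `isRadical_span_of_etale`: a coordinate of a formally smooth chart generates a radical ideal in
  any étale algebra.
* `ideal_eq_of_locally_eq`: two ideal sheaves agree on an affine open if they agree on affine
  neighbourhoods of all its points.
* `local_ramification`: near a point through which at most one component `D_j` passes, the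
  pulled-back ideal of `D_j` is the `N / gcd(N, α_j)`-th power of its radical.
* `ramification`: the same on every affine open of `Y` over such points.
-/

set_option autoImplicit false
universe u
open CategoryTheory AlgebraicGeometry Opposite TopologicalSpace Polynomial

namespace Groth.Agent.Lib.helper8.CycEt

open Groth.Agent.Lib.Helper12.NormSec

/-- a coordinate of a formally smooth chart generates a radical ideal in any étale algebra -/
theorem isRadical_span_of_etale {R₀ A B : Type u} [CommRing R₀] [CommRing A] [CommRing B]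
    [Algebra R₀ A] [Algebra A B] [Algebra R₀ B] [IsScalarTower R₀ A B]
    [Algebra.FinitePresentation R₀ A] [Algebra.Etale A B]
    (hR₀ : ∀ (p : Ideal R₀) [p.IsPrime],
      IsDomain (Localization.AtPrime p) ∧ IsIntegrallyClosed (Localization.AtPrime p))
    {J : Type u} (tJ : J → A)
    (hFS : @Algebra.FormallySmooth (MvPolynomial J R₀) A _ _
      (MvPolynomial.aeval (R := R₀) tJ).toRingHom.toAlgebra) (j₀ : J) :
    (Ideal.span {algebraMap A B (tJ j₀)}).IsRadical := by
  have hFS' : @Algebra.FormallySmooth (MvPolynomial J R₀) B _ _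
      (MvPolynomial.aeval (R := R₀) (fun j => algebraMap A B (tJ j))).toRingHom.toAlgebra := by
    letI algPA : Algebra (MvPolynomial J R₀) A :=
      (MvPolynomial.aeval (R := R₀) tJ).toRingHom.toAlgebra
    letI algPB : Algebra (MvPolynomial J R₀) B :=
      ((algebraMap A B).comp (MvPolynomial.aeval (R := R₀) tJ).toRingHom).toAlgebra
    haveI : IsScalarTower (MvPolynomial J R₀) A B := IsScalarTower.of_algebraMap_eq (fun _ => rfl)
    haveI : Algebra.FormallySmooth (MvPolynomial J R₀) A := hFS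
    have h₀ : Algebra.FormallySmooth (MvPolynomial J R₀) B :=
      Algebra.FormallySmooth.comp (MvPolynomial J R₀) A B
    have h1 : (algebraMap A B).comp (MvPolynomial.aeval (R := R₀) tJ).toRingHom =
        (MvPolynomial.aeval (R := R₀) (fun j => algebraMap A B (tJ j))).toRingHom := by
      apply MvPolynomial.ringHom_ext
      · intro r
        simp only [RingHom.comp_apply, AlgHom.toRingHom_eq_coe, RingHom.coe_coe,
          MvPolynomial.aeval_C]
        exact (IsScalarTower.algebraMap_apply R₀ A B r).symm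
      · intro j
        simp only [RingHom.comp_apply, AlgHom.toRingHom_eq_coe, RingHom.coe_coe,
          MvPolynomial.aeval_X]
    have heq : algPB =
        (MvPolynomial.aeval (R := R₀) (fun j => algebraMap A B (tJ j))).toRingHom.toAlgebra :=
      Algebra.algebra_ext _ _ (fun p => RingHom.congr_fun h1 p)
    rw [← heq]
    exact h₀
  haveI : Algebra.FinitePresentation R₀ B := Algebra.FinitePresentation.trans R₀ A B
  have hred := isReduced_quotient_coord hR₀ (fun j => algebraMap A B (tJ j)) hFS' j₀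
  exact (Ideal.isRadical_iff_quotient_reduced _).mpr hred

/-- two ideal sheaves agree on an affine open if they agree on affine neighbourhoods of all its
points -/
theorem ideal_eq_of_locally_eq {Y : Scheme.{u}} (I J : Y.IdealSheafData) (V : Y.affineOpens)
    (H : ∀ y ∈ V.1, ∃ V' : Y.affineOpens, y ∈ V'.1 ∧ V'.1 ≤ V.1 ∧ I.ideal V' = J.ideal V') :
    I.ideal V = J.ideal V := by
  rw [V.2.ideal_ext_iff]
  intro y hy
  obtain ⟨V', hyV', hle, heq⟩ := H y hy
  have hg : Y.presheaf.germ V.1 y hy =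
      Y.presheaf.map (homOfLE hle).op ≫ Y.presheaf.germ V'.1 y hyV' :=
    (Y.presheaf.germ_res (homOfLE hle) y hyV').symm
  have hle' : V' ≤ V := hle
  have h1 : (I.ideal V).map (Y.presheaf.map (homOfLE hle).op).hom = I.ideal V' :=
    I.map_ideal hle'
  have h2 : (J.ideal V).map (Y.presheaf.map (homOfLE hle).op).hom = J.ideal V' :=
    J.map_ideal hle'
  rw [hg, CommRingCat.hom_comp, ← Ideal.map_map, ← Ideal.map_map, h1, h2, heq]

section Ram

variable {k : Type u} [Field k] {X Y : Scheme.{u}}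
  (f : X ⟶ Spec (CommRingCat.of k)) [Smooth f] [IsIntegral X]
  {L : X.Modules} (hL : PicF.IsInvertible L) {N : ℕ} (hN : 0 < N) (hNk : (N : k) ≠ 0)
  {r : ℕ} (D : Fin r → X.IdealSheafData) (α : Fin r → ℕ)
  {s : Coh.structureModule X ⟶ CohB1.tensorPow L N}
  (hs : CycCov.IsZeroDiv (CohB1.tensorPow L N) s (CycCov.divIdeal D α))
  {π : Y ⟶ X} (R : CycCov.Root L N s π) (hR : CycCov.IsCover R)

include hL hN hNk hs hR in
/-- over a small affine open meeting a single component `D_j` of multiplicity zero, cut out by an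
étale coordinate, the pulled-back equation of `D_j` generates a radical ideal -/
theorem isRadical_of_one_component_zero (W₁ : X.Opens) (J : Type u) [Finite J] (vv : J → Γ(W₁, ⊤))
    [Etale (AffineSpace.homOfVector (W₁.ι ≫ f) vv)] (U : X.affineOpens) (hUW : U.1 ≤ W₁)
    [Nonempty U.1] (j : Fin r) (j₀ : J) (hαj : α j = 0)
    (hj : (D j).ideal U = Ideal.span {LogNCD.sectOn W₁ hUW (vv j₀)})
    (hi : ∀ i, i ≠ j → 0 < α i → (D i).ideal U = ⊤)
    (e : L.val.obj (op U.1)) (hgen : IsGen L U.1 e) :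
    (Ideal.span {(π.app U.1).hom (LogNCD.sectOn W₁ hUW (vv j₀))}).IsRadical := by
  obtain ⟨hfin, hY, W₀, hW₀, hpre, hch⟩ := hR
  haveI := hfin
  have hX := isNormal_of_smooth_field f
  have he : Function.Bijective (fun a : Γ(X, U.1) => a • e) := by
    have := hgen U.1 le_rfl
    rw [rs_self] at this
    exact this
  have hI : (CycCov.divIdeal D α).ideal U = ⊤ := by
    rw [ideal_divIdeal_eq_span_pow D α U j _ hj hi, hαj, pow_zero, Ideal.span_singleton_one]
  obtain ⟨f', hfu, hf'⟩ := exists_isUnit_of_isZeroDiv hL s _ hs U e he hI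
  have hetale : (π.app U.1).hom.Etale :=
    etale_app R hN W₀ hch U e hgen he f' hf' hX hY hW₀ hpre hfu
      (isUnit_natCast_of_field f N hNk U.1)
  letI algA : Algebra Γ(Spec (CommRingCat.of k), ⊤) Γ(X, U.1) :=
    (f.appLE ⊤ U.1 (fun _ _ => trivial)).hom.toAlgebra
  have hEt := etale_of_chart f W₁ J vv U.1 U.2 hUW
  have hfield := isField_ΓSpec_field k
  have hFS : @Algebra.FormallySmooth (MvPolynomial J Γ(Spec (CommRingCat.of k), ⊤)) Γ(X, U.1) _ _
      (MvPolynomial.aeval (R := Γ(Spec (CommRingCat.of k), ⊤))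
        (fun j => LogNCD.sectOn W₁ hUW (vv j))).toRingHom.toAlgebra := by
    letI algPA : Algebra (MvPolynomial J Γ(Spec (CommRingCat.of k), ⊤)) Γ(X, U.1) :=
      (MvPolynomial.aeval (R := Γ(Spec (CommRingCat.of k), ⊤))
        (fun j => LogNCD.sectOn W₁ hUW (vv j))).toRingHom.toAlgebra
    haveI : Algebra.Etale (MvPolynomial J Γ(Spec (CommRingCat.of k), ⊤)) Γ(X, U.1) := hEt
    infer_instance
  letI algB : Algebra Γ(X, U.1) Γ(Y, π ⁻¹ᵁ U.1) := (π.app U.1).hom.toAlgebra
  letI algkB : Algebra Γ(Spec (CommRingCat.of k), ⊤) Γ(Y, π ⁻¹ᵁ U.1) :=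
    ((π.app U.1).hom.comp (f.appLE ⊤ U.1 (fun _ _ => trivial)).hom).toAlgebra
  haveI : IsScalarTower Γ(Spec (CommRingCat.of k), ⊤) Γ(X, U.1) Γ(Y, π ⁻¹ᵁ U.1) :=
    IsScalarTower.of_algebraMap_eq (fun _ => rfl)
  haveI : Algebra.FinitePresentation Γ(Spec (CommRingCat.of k), ⊤) Γ(X, U.1) :=
    HasRingHomProperty.appLE (P := @LocallyOfFinitePresentation) f inferInstance
      ⟨⊤, isAffineOpen_top _⟩ U (fun _ _ => trivial)
  haveI : Algebra.Etale Γ(X, U.1) Γ(Y, π ⁻¹ᵁ U.1) := hetale
  exact isRadical_span_of_etale (fun p _ => normal_of_isField hfield p)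
    (fun j => LogNCD.sectOn W₁ hUW (vv j)) hFS j₀

include hL hN hNk hs hR in
/-- near a point through which at most one component of the branch divisor passes, the pulled-back
ideal of `D_j` is the `N / gcd(N, α_j)`-th power of its radical -/
theorem local_ramification (hD : LogNCD.IsNCD D f) (x : X)
    (hx1 : ∀ j j' : Fin r, x ∈ (D j).support → x ∈ (D j').support → j = j') (j : Fin r) :
    ∃ (U : X.Opens) (hU : IsAffineOpen U), x ∈ U ∧
      Ideal.map (π.app U).hom ((D j).ideal ⟨U, hU⟩) =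
        (Ideal.map (π.app U).hom ((D j).ideal ⟨U, hU⟩)).radical ^ (N / Nat.gcd N (α j)) := by
  by_cases hxj : x ∈ (D j).support
  · obtain ⟨W₁, hxW₁, n, v, e', hinj, hEt, hDi, hDo⟩ := hD x ⟨⟨j, hxj⟩⟩
    obtain ⟨U₀, hxU₀, hT⟩ := hL x
    obtain ⟨U, hU, hxU, hUle⟩ := exists_isAffineOpen_mem_and_subset (x := x)
      (U := U₀ ⊓ W₁) ⟨hxU₀, hxW₁⟩
    obtain ⟨e, hgen⟩ := exists_isGen_of_isTrivOn hT (hUle.trans inf_le_left)
    haveI : Nonempty U := ⟨⟨x, hxU⟩⟩
    haveI := hEt
    have hUW₁ : U ≤ W₁ := hUle.trans inf_le_right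
    have hj := hDi ⟨j, hxj⟩ ⟨U, hU⟩ hUW₁
    have hi : ∀ i, i ≠ j → (D i).ideal ⟨U, hU⟩ = ⊤ := fun i hij =>
      hDo i (fun hxi => hij (hx1 i j hxi hxj)) ⟨U, hU⟩ hUW₁
    refine ⟨U, hU, hxU, ?_⟩
    rw [hj, Ideal.map_span, Set.image_singleton]
    by_cases hα : 0 < α j
    · exact (one_component_core f hL hN hNk D α hs R hR W₁ (ULift (Fin n)) v ⟨U, hU⟩ hUW₁ j
        (ULift.up (e' ⟨j, hxj⟩)) hα hj (fun i hij _ => hi i hij) e hgen).2
    · have hα0 : α j = 0 := by omega
      rw [hα0, Nat.gcd_zero_right, Nat.div_self hN, pow_one]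
      exact (isRadical_of_one_component_zero f hL hN hNk D α hs R hR W₁ (ULift (Fin n)) v
        ⟨U, hU⟩ hUW₁ j (ULift.up (e' ⟨j, hxj⟩)) hα0 hj (fun i hij _ => hi i hij) e hgen).radical.symm
  · obtain ⟨U, hU, hxU, hUle⟩ := exists_isAffineOpen_mem_and_subset (x := x)
      (U := ⟨((D j).support : Set X)ᶜ, (D j).support.isClosed.isOpen_compl⟩) hxj
    refine ⟨U, hU, hxU, ?_⟩
    have htop : (D j).ideal ⟨U, hU⟩ = ⊤ := by
      apply ideal_eq_top_of_disjoint
      rw [Set.disjoint_left]
      intro z hz hzs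
      exact hUle hz hzs
    rw [htop, Ideal.map_top, Ideal.radical_top, Ideal.top_pow]

include hL hN hNk hs hR in
/-- **ramification of the normalised cyclic cover**: over an open through each point of which at
most one component passes, the pulled-back ideal of `D_j` is the `N / gcd(N, α_j)`-th power of its
radical -/
theorem ramification (hD : LogNCD.IsNCD D f) (W : X.Opens)
    (hW : ∀ x ∈ W, ∀ j j' : Fin r, x ∈ (D j).support → x ∈ (D j').support → j = j')
    (j : Fin r) (V : Y.affineOpens) (hV : V.1 ≤ π ⁻¹ᵁ W) :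
    ((D j).comap π).ideal V =
      (((D j).comap π).radical ^ (N / Nat.gcd N (α j))).ideal V := by
  haveI : IsFinite π := hR.1
  apply ideal_eq_of_locally_eq
  intro y hy
  obtain ⟨U, hU, hxU, hloc⟩ := local_ramification f hL hN hNk D α hs R hR hD (π y)
    (hW (π y) (hV hy)) j
  obtain ⟨V', hV', hyV', hV'le⟩ := exists_isAffineOpen_mem_and_subset (x := y)
    (U := V.1 ⊓ π ⁻¹ᵁ U) ⟨hy, hxU⟩
  refine ⟨⟨V', hV'⟩, hyV', hV'le.trans inf_le_left, ?_⟩
  have hle : (⟨V', hV'⟩ : Y.affineOpens) ≤ ⟨π ⁻¹ᵁ U, hU.preimage π⟩ := hV'le.trans inf_le_right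
  rw [← Scheme.IdealSheafData.map_ideal _ hle, ← Scheme.IdealSheafData.map_ideal _ hle]
  congr 1
  have h1 : ((D j).comap π).ideal ⟨π ⁻¹ᵁ U, hU.preimage π⟩ =
      Ideal.map (π.app U).hom ((D j).ideal ⟨U, hU⟩) := by
    rw [Groth.Agent.Lib.helper7.IdealComap.ideal_comap π (D j) hU (hU.preimage π) le_rfl,
      Scheme.Hom.appLE_eq_app]
  change _ = ((((D j).comap π).radical.ideal ⟨π ⁻¹ᵁ U, hU.preimage π⟩)) ^ (N / Nat.gcd N (α j))
  rw [Scheme.IdealSheafData.radical_ideal, h1]
  exact hloc

end Ram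

end Groth.Agent.Lib.helper8.CycEt
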