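import Groth.Agent.Lib.Helper8.CycSm1
import Groth.Agent.Lib.Helper24.SmoothNormal

/-!
# Normalised cyclic covers along a smooth divisor are smooth: ring form (helper8)

`A` a domain over `R₀` with an étale chart `R₀[t_j] → A`, `v = t_{j₀}`, `u` a unit, `N = g N'`,
`α = g α'`, `b α' = 1 + a N'`, `N` invertible.  If `B` is an integral `A`-algebra whose local rings
are normal domains, `v` is a nonzerodivisor of `B`, `t ∈ B` satisfies `t^N = u v^α`, and
`A[T]/(T^N - u v^α) → B` is injective and an isomorphism after inverting `v`, then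
`B ≅ A[W, Z]/(W^g - u, Z^N' - W^b v)` (`B1`) and `B` is smooth over `R₀`
(`smooth_of_cyclic_normal`).
-/

set_option autoImplicit false
universe u
open Polynomial

namespace Groth.Agent.Lib.helper8.CycEt

/-- identities for `τ = Z^α' * winv^a` -/
theorem tau_identities {S : Type*} [CommRing S] (W Z winv v u : S) (g N' α' a b : ℕ)
    (hab : b * α' = 1 + a * N') (hW : W ^ g = u) (hWi : W * winv = 1)
    (hZ : Z ^ N' = W ^ b * v) :
    (Z ^ α' * winv ^ a) ^ N' = W * v ^ α' ∧ (Z ^ α' * winv ^ a) ^ b = Z * v ^ a ∧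
      (Z ^ α' * winv ^ a) ^ (g * N') = u * v ^ (g * α') := by
  have h1 : (Z ^ α' * winv ^ a) ^ N' = W * v ^ α' := by
    calc (Z ^ α' * winv ^ a) ^ N' = (Z ^ N') ^ α' * winv ^ (a * N') := by ring
      _ = W ^ (b * α') * v ^ α' * winv ^ (a * N') := by rw [hZ]; ring
      _ = W * (W * winv) ^ (a * N') * v ^ α' := by rw [hab]; ring
      _ = W * v ^ α' := by rw [hWi, one_pow, mul_one]
  have h2 : (Z ^ α' * winv ^ a) ^ b = Z * v ^ a := by
    calc (Z ^ α' * winv ^ a) ^ b = Z ^ (b * α') * winv ^ (a * b) := by ring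
      _ = Z * (Z ^ N') ^ a * winv ^ (a * b) := by rw [hab]; ring
      _ = Z * v ^ a * (W * winv) ^ (a * b) := by rw [hZ]; ring
      _ = Z * v ^ a := by rw [hWi, one_pow, mul_one]
  refine ⟨h1, h2, ?_⟩
  calc (Z ^ α' * winv ^ a) ^ (g * N') = ((Z ^ α' * winv ^ a) ^ N') ^ g := by ring
    _ = W ^ g * v ^ (g * α') := by rw [h1]; ring
    _ = u * v ^ (g * α') := by rw [hW]

/-- construction of `w` and `z` in a normal ring -/
theorem exists_w_z {B : Type*} [CommRing B] (vB uB t : B) (g N' α' a b : ℕ)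
    (hab : b * α' = 1 + a * N') (hg : 0 < g) (hN' : 0 < N')
    (ht : t ^ (g * N') = uB * vB ^ (g * α'))
    (hBn : ∀ (𝔪 : Ideal B) [𝔪.IsMaximal],
      IsDomain (Localization.AtPrime 𝔪) ∧ IsIntegrallyClosed (Localization.AtPrime 𝔪))
    (hv : ∀ b : B, vB * b = 0 → b = 0) :
    ∃ w z : B, w ^ g = uB ∧ w * vB ^ α' = t ^ N' ∧ z ^ N' = w ^ b * vB ∧ z * vB ^ a = t ^ b := by
  let Bv := Localization.Away vB
  let ι : B →+* Bv := algebraMap B Bv
  have hι : Function.Injective ι := by
    apply IsLocalization.injective Bv (M := Submonoid.powers vB)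
    rintro _ ⟨n, rfl⟩
    rw [mem_nonZeroDivisors_iff_right]
    intro x hx
    change x * vB ^ n = 0 at hx
    induction n with
    | zero => simpa using hx
    | succ n ih =>
      apply ih
      apply hv
      rw [← hx, pow_succ]
      ring
  set vi : Bv := IsLocalization.Away.invSelf vB with hvi
  have hvvi : ι vB * vi = 1 := IsLocalization.Away.mul_invSelf vB
  -- `w`
  have hwv : (ι t ^ N' * vi ^ α') ^ g = ι uB := by
    calc (ι t ^ N' * vi ^ α') ^ g = ι (t ^ (g * N')) * vi ^ (g * α') := by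
          rw [map_pow]; ring
      _ = ι uB * (ι vB * vi) ^ (g * α') := by rw [ht, map_mul, map_pow]; ring
      _ = ι uB := by rw [hvvi, one_pow, mul_one]
  have hwint : IsIntegral B (ι t ^ N' * vi ^ α') := by
    refine ⟨X ^ g - C uB, monic_X_pow_sub_C _ hg.ne', ?_⟩
    rw [eval₂_sub, eval₂_pow, eval₂_X, eval₂_C, hwv]
    exact sub_self _
  obtain ⟨w, hw⟩ := exists_of_isIntegral_away vB hBn hv _ hwint
  have hw' : ι w = ι t ^ N' * vi ^ α' := hw
  have hw1 : w ^ g = uB := by
    apply hι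
    rw [map_pow, hw', hwv]
  have hw2 : w * vB ^ α' = t ^ N' := by
    apply hι
    rw [map_mul, map_pow, map_pow, hw']
    calc ι t ^ N' * vi ^ α' * ι vB ^ α' = ι t ^ N' * (ι vB * vi) ^ α' := by ring
      _ = ι t ^ N' := by rw [hvvi, one_pow, mul_one]
  -- `z`
  have hzv : (ι t ^ b * vi ^ a) ^ N' = ι (w ^ b * vB) := by
    calc (ι t ^ b * vi ^ a) ^ N' = (ι t ^ N') ^ b * vi ^ (a * N') := by ring
      _ = ι w ^ b * ι vB ^ (b * α') * vi ^ (a * N') := by
          rw [← map_pow, ← hw2, map_mul, map_pow]; ring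
      _ = ι w ^ b * ι vB * (ι vB * vi) ^ (a * N') := by rw [hab]; ring
      _ = ι (w ^ b * vB) := by rw [hvvi, one_pow, mul_one, map_mul, map_pow]
  have hzint : IsIntegral B (ι t ^ b * vi ^ a) := by
    refine ⟨X ^ N' - C (w ^ b * vB), monic_X_pow_sub_C _ hN'.ne', ?_⟩
    rw [eval₂_sub, eval₂_pow, eval₂_X, eval₂_C, hzv]
    exact sub_self _
  obtain ⟨z, hz⟩ := exists_of_isIntegral_away vB hBn hv _ hzint
  have hz' : ι z = ι t ^ b * vi ^ a := hz
  refine ⟨w, z, hw1, hw2, ?_, ?_⟩
  · apply hι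
    rw [map_pow, hz', hzv]
  · apply hι
    rw [map_mul, map_pow, map_pow, hz']
    calc ι t ^ b * vi ^ a * ι vB ^ a = ι t ^ b * (ι vB * vi) ^ a := by ring
      _ = ι t ^ b := by rw [hvvi, one_pow, mul_one]


section Model

variable {A : Type u} [CommRing A] (u v : A) (g N' b : ℕ)

/-- the étale algebra `A[W]/(W^g - u)` -/
abbrev A1 : Type u := AdjoinRoot (X ^ g - C u : A[X])

/-- the class of `W` -/
noncomputable abbrev W1 : A1 u g := AdjoinRoot.root (X ^ g - C u : A[X])

/-- the polynomial `Z^N' - W^b v` -/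
noncomputable abbrev pol1 : (A1 u g)[X] :=
  X ^ N' - C (W1 u g ^ b * AdjoinRoot.of (X ^ g - C u : A[X]) v)

/-- the model algebra `A[W, Z]/(W^g - u, Z^N' - W^b v)` -/
abbrev B1 : Type u := AdjoinRoot (pol1 u v g N' b)

/-- the class of `Z` -/
noncomputable abbrev Z1 : B1 u v g N' b := AdjoinRoot.root (pol1 u v g N' b)

theorem W1_pow : W1 u g ^ g = AdjoinRoot.of (X ^ g - C u : A[X]) u := by
  have := AdjoinRoot.eval₂_root (X ^ g - C u : A[X])
  rw [eval₂_sub, eval₂_pow, eval₂_X, eval₂_C, sub_eq_zero] at this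
  exact this

theorem Z1_pow : Z1 u v g N' b ^ N' =
    AdjoinRoot.of (pol1 u v g N' b) (W1 u g ^ b * AdjoinRoot.of (X ^ g - C u : A[X]) v) := by
  have := AdjoinRoot.eval₂_root (pol1 u v g N' b)
  rw [pol1, eval₂_sub, eval₂_pow, eval₂_X, eval₂_C, sub_eq_zero] at this
  exact this

/-- a subalgebra of the model containing `W` and `Z` is everything -/
theorem mem_of_W_Z_mem (S : Subalgebra A (B1 u v g N' b))
    (hW : AdjoinRoot.of (pol1 u v g N' b) (W1 u g) ∈ S) (hZ : Z1 u v g N' b ∈ S)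
    (c : B1 u v g N' b) : c ∈ S := by
  have hA1 : ∀ x : A1 u g, AdjoinRoot.of (pol1 u v g N' b) x ∈ S := by
    intro x
    induction x using AdjoinRoot.induction_on with
    | ih q =>
      induction q using Polynomial.induction_on with
      | C r => exact S.algebraMap_mem r
      | add p q hp hq =>
        rw [map_add, map_add]
        exact S.add_mem hp hq
      | monomial n r _ =>
        rw [map_mul, map_pow, AdjoinRoot.mk_X, map_mul, map_pow]
        exact S.mul_mem (S.algebraMap_mem r) (S.pow_mem hW _)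
  induction c using AdjoinRoot.induction_on with
  | ih q =>
    induction q using Polynomial.induction_on with
    | C x => exact hA1 x
    | add p q hp hq =>
      rw [map_add]
      exact S.add_mem hp hq
    | monomial n x _ =>
      rw [map_mul, map_pow, AdjoinRoot.mk_X]
      exact S.mul_mem (hA1 x) (S.pow_mem hZ _)

variable (uinv : A) (hu : u * uinv = 1) (hg : 0 < g) (α' a : ℕ) (hab : b * α' = 1 + a * N')

/-- the inverse of `W` -/
noncomputable abbrev winv1 : A1 u g := W1 u g ^ (g - 1) * AdjoinRoot.of (X ^ g - C u : A[X]) uinv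

include hu hg in
theorem W1_mul_winv1 : W1 u g * winv1 u g uinv = 1 := by
  have h1 : W1 u g * W1 u g ^ (g - 1) = W1 u g ^ g := by
    rw [← pow_succ']
    congr 1
    omega
  rw [winv1, ← mul_assoc, h1, W1_pow, ← map_mul, hu, map_one]

/-- the element `τ = Z^α' W^(-a)` of the model, an `N`-th root of `u v^α` -/
noncomputable abbrev tau1 : B1 u v g N' b :=
  Z1 u v g N' b ^ α' * (AdjoinRoot.of (pol1 u v g N' b) (winv1 u g uinv)) ^ a

include hu hg hab in
theorem tau1_identities :
    tau1 u v g N' b uinv α' a ^ N' = AdjoinRoot.of (pol1 u v g N' b) (W1 u g) *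
        (algebraMap A (B1 u v g N' b) v) ^ α' ∧
      tau1 u v g N' b uinv α' a ^ b = Z1 u v g N' b * (algebraMap A (B1 u v g N' b) v) ^ a ∧
      tau1 u v g N' b uinv α' a ^ (g * N') =
        algebraMap A (B1 u v g N' b) u * (algebraMap A (B1 u v g N' b) v) ^ (g * α') := by
  refine tau_identities (AdjoinRoot.of (pol1 u v g N' b) (W1 u g)) (Z1 u v g N' b)
    (AdjoinRoot.of (pol1 u v g N' b) (winv1 u g uinv)) (algebraMap A (B1 u v g N' b) v)
    (algebraMap A (B1 u v g N' b) u) g N' α' a b hab ?_ ?_ ?_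
  · rw [← map_pow, W1_pow]
    rfl
  · rw [← map_mul, W1_mul_winv1 u g uinv hu hg, map_one]
  · rw [Z1_pow, map_mul, map_pow]
    rfl

include hu hg hab in
/-- after multiplying by a power of `v`, every element of the model is a polynomial in `τ` -/
theorem exists_pow_mul_eq_eval₂_tau1 (c : B1 u v g N' b) :
    ∃ (n : ℕ) (p : A[X]), (algebraMap A (B1 u v g N' b) v) ^ n * c =
      eval₂ (algebraMap A (B1 u v g N' b)) (tau1 u v g N' b uinv α' a) p := by
  obtain ⟨h1, h2, -⟩ := tau1_identities u v g N' b uinv hu hg α' a hab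
  let S : Subalgebra A (B1 u v g N' b) :=
    { carrier := {c | ∃ (n : ℕ) (p : A[X]), (algebraMap A (B1 u v g N' b) v) ^ n * c =
        eval₂ (algebraMap A (B1 u v g N' b)) (tau1 u v g N' b uinv α' a) p}
      mul_mem' := by
        rintro x y ⟨n, p, hp⟩ ⟨n', p', hp'⟩
        refine ⟨n + n', p * p', ?_⟩
        rw [eval₂_mul, ← hp, ← hp', pow_add]
        ring
      add_mem' := by
        rintro x y ⟨n, p, hp⟩ ⟨n', p', hp'⟩
        refine ⟨n + n', C (v ^ n') * p + C (v ^ n) * p', ?_⟩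
        rw [eval₂_add, eval₂_mul, eval₂_mul, eval₂_C, eval₂_C, ← hp, ← hp', pow_add, map_pow,
          map_pow]
        ring
      algebraMap_mem' := fun r => ⟨0, C r, by rw [pow_zero, one_mul, eval₂_C]⟩ }
  refine mem_of_W_Z_mem u v g N' b S ?_ ?_ c
  · exact ⟨α', X ^ N', by rw [eval₂_pow, eval₂_X, h1]; ring⟩
  · exact ⟨a, X ^ b, by rw [eval₂_pow, eval₂_X, h2]; ring⟩

end Model


section Smooth

variable {R₀ A : Type u} [CommRing R₀] [CommRing A] [Algebra R₀ A]

/-- the model algebra is smooth over the base of an étale chart -/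
theorem smooth_B1 [Algebra.FinitePresentation R₀ A] {J : Type u} (tJ : J → A)
    (hFS : @Algebra.FormallySmooth (MvPolynomial J R₀) A _ _
      (MvPolynomial.aeval (R := R₀) tJ).toRingHom.toAlgebra) (j₀ : J)
    (u : A) (hu : IsUnit u) (g N' b : ℕ) (hg : 0 < g) (hN' : 0 < N')
    (hgu : IsUnit ((g : ℕ) : A)) (hN'u : IsUnit ((N' : ℕ) : A)) :
    Algebra.Smooth R₀ (B1 u (tJ j₀) g N' b) := by
  haveI hEt : Algebra.Etale A (A1 u g) := etale_adjoinRoot g hg u hu hgu
  let t₁ : J → A1 u g := fun j => AdjoinRoot.of (X ^ g - C u : A[X]) (tJ j)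
  have hFS₁ : @Algebra.FormallySmooth (MvPolynomial J R₀) (A1 u g) _ _
      (MvPolynomial.aeval (R := R₀) t₁).toRingHom.toAlgebra := by
    letI algPA : Algebra (MvPolynomial J R₀) A :=
      (MvPolynomial.aeval (R := R₀) tJ).toRingHom.toAlgebra
    haveI : Algebra.FormallySmooth (MvPolynomial J R₀) A := hFS
    have h₀ : Algebra.FormallySmooth (MvPolynomial J R₀) (A1 u g) :=
      Algebra.FormallySmooth.comp (MvPolynomial J R₀) A (A1 u g)
    have h1 : (AdjoinRoot.of (X ^ g - C u : A[X])).comp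
        (MvPolynomial.aeval (R := R₀) tJ).toRingHom =
        (MvPolynomial.aeval (R := R₀) t₁).toRingHom := by
      apply MvPolynomial.ringHom_ext
      · intro r
        simp only [RingHom.comp_apply, AlgHom.toRingHom_eq_coe, RingHom.coe_coe,
          MvPolynomial.aeval_C]
        rfl
      · intro j
        simp only [RingHom.comp_apply, AlgHom.toRingHom_eq_coe, RingHom.coe_coe,
          MvPolynomial.aeval_X]
        rfl
    have heq : (inferInstance : Algebra (MvPolynomial J R₀) (A1 u g)) =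
        (MvPolynomial.aeval (R := R₀) t₁).toRingHom.toAlgebra :=
      Algebra.algebra_ext _ _ (fun p => RingHom.congr_fun h1 p)
    rw [← heq]
    exact h₀
  have hW : IsUnit (W1 u g) := by
    obtain ⟨uinv, huinv⟩ := hu.exists_right_inv
    exact IsUnit.of_mul_eq_one _ (W1_mul_winv1 u g uinv huinv hg)
  obtain ⟨m, rfl⟩ : ∃ m, N' = m + 1 := ⟨N' - 1, by omega⟩
  have hm : IsUnit (((m + 1 : ℕ) : A1 u g)) := by
    have := hN'u.map (AdjoinRoot.of (X ^ g - C u : A[X]))
    rwa [map_natCast] at this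
  haveI : Algebra.FormallySmooth R₀ (B1 u (tJ j₀) g (m + 1) b) :=
    formallySmooth_twistedKummer t₁ hFS₁ j₀ (W1 u g ^ b) (hW.pow b) m hm _ rfl
  exact ⟨inferInstance, inferInstance⟩

/-- the localisations of the model at its maximal ideals are normal domains -/
theorem normal_B1 [Algebra.FinitePresentation R₀ A]
    (hR₀ : ∀ (p : Ideal R₀) [p.IsPrime],
      IsDomain (Localization.AtPrime p) ∧ IsIntegrallyClosed (Localization.AtPrime p))
    {J : Type u} (tJ : J → A)
    (hFS : @Algebra.FormallySmooth (MvPolynomial J R₀) A _ _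
      (MvPolynomial.aeval (R := R₀) tJ).toRingHom.toAlgebra) (j₀ : J)
    (u : A) (hu : IsUnit u) (g N' b : ℕ) (hg : 0 < g) (hN' : 0 < N')
    (hgu : IsUnit ((g : ℕ) : A)) (hN'u : IsUnit ((N' : ℕ) : A))
    (𝔪 : Ideal (B1 u (tJ j₀) g N' b)) [𝔪.IsMaximal] :
    IsDomain (Localization.AtPrime 𝔪) ∧ IsIntegrallyClosed (Localization.AtPrime 𝔪) := by
  haveI := smooth_B1 tJ hFS j₀ u hu g N' b hg hN' hgu hN'u
  have h := hR₀ (𝔪.comap (algebraMap R₀ (B1 u (tJ j₀) g N' b)))
  exact Groth.Agent.Lib.Helper24.SmoothNormal.isDomain_isIntegrallyClosed_atPrime_of_smooth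
    R₀ (B1 u (tJ j₀) g N' b) 𝔪 h.1 h.2

end Smooth


section Main

variable {R₀ A B : Type u} [CommRing R₀] [CommRing A] [CommRing B] [Algebra R₀ A] [Algebra A B]
  [Algebra R₀ B] [IsScalarTower R₀ A B]

/-- the normalised cyclic cover along a smooth divisor is isomorphic to the model algebra -/
theorem exists_model_equiv [IsDomain A] [Algebra.FinitePresentation R₀ A]
    (hR₀ : ∀ (p : Ideal R₀) [p.IsPrime],
      IsDomain (Localization.AtPrime p) ∧ IsIntegrallyClosed (Localization.AtPrime p))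
    {J : Type u} (tJ : J → A)
    (hFS : @Algebra.FormallySmooth (MvPolynomial J R₀) A _ _
      (MvPolynomial.aeval (R := R₀) tJ).toRingHom.toAlgebra) (j₀ : J)
    (u : A) (hu : IsUnit u) (g N' α' a b : ℕ) (hg : 0 < g) (hN' : 0 < N')
    (hab : b * α' = 1 + a * N')
    (hgu : IsUnit ((g : ℕ) : A)) (hN'u : IsUnit ((N' : ℕ) : A))
    (t : B) (ht : t ^ (g * N') = algebraMap A B (u * tJ j₀ ^ (g * α')))
    (hBn : ∀ (𝔪 : Ideal B) [𝔪.IsMaximal],
      IsDomain (Localization.AtPrime 𝔪) ∧ IsIntegrallyClosed (Localization.AtPrime 𝔪))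
    (hv0 : tJ j₀ ≠ 0)
    (hv : ∀ x : B, algebraMap A B (tJ j₀) * x = 0 → x = 0)
    (hint : (algebraMap A B).IsIntegral)
    (hsurj : ∀ x : B, ∃ (n : ℕ) (p : A[X]),
      algebraMap A B (tJ j₀) ^ n * x = eval₂ (algebraMap A B) t p)
    (hinj : ∀ p : A[X], p.degree < ((g * N' : ℕ) : WithBot ℕ) →
      eval₂ (algebraMap A B) t p = 0 → p = 0) :
    ∃ ψ : B1 u (tJ j₀) g N' b →+* B, Function.Bijective ψ ∧
      ∀ x : A, ψ (algebraMap A (B1 u (tJ j₀) g N' b) x) = algebraMap A B x := by
  set v : A := tJ j₀ with hvdef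
  obtain ⟨uinv, huinv⟩ := hu.exists_right_inv
  -- the elements `w`, `z` of `B`
  have ht' : t ^ (g * N') = algebraMap A B u * algebraMap A B v ^ (g * α') := by
    rw [ht, map_mul, map_pow]
  obtain ⟨w, z, hw1, hw2, hz1, hz2⟩ :=
    exists_w_z (algebraMap A B v) (algebraMap A B u) t g N' α' a b hab hg hN' ht' hBn hv
  -- the map from the model
  let ψ₁ : A1 u g →+* B := AdjoinRoot.lift (algebraMap A B) w (by
    rw [eval₂_sub, eval₂_pow, eval₂_X, eval₂_C, hw1, sub_self])
  have hψ₁of : ∀ x : A, ψ₁ (AdjoinRoot.of _ x) = algebraMap A B x := fun x => AdjoinRoot.lift_of _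
  have hψ₁W : ψ₁ (W1 u g) = w := AdjoinRoot.lift_root _
  let ψ : B1 u v g N' b →+* B := AdjoinRoot.lift ψ₁ z (by
    rw [pol1, eval₂_sub, eval₂_pow, eval₂_X, eval₂_C, map_mul, map_pow, hψ₁W, hψ₁of, hz1,
      sub_self])
  have hψof : ∀ x : A1 u g, ψ (AdjoinRoot.of _ x) = ψ₁ x := fun x => AdjoinRoot.lift_of _
  have hψZ : ψ (Z1 u v g N' b) = z := AdjoinRoot.lift_root _
  have hψA : ∀ x : A, ψ (algebraMap A (B1 u v g N' b) x) = algebraMap A B x := by
    intro x
    change ψ (AdjoinRoot.of _ (AdjoinRoot.of _ x)) = _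
    rw [hψof, hψ₁of]
  have hψcomp : ψ.comp (algebraMap A (B1 u v g N' b)) = algebraMap A B := RingHom.ext hψA
  -- `t` is the image of `τ`
  have hwinv : w * ψ₁ (winv1 u g uinv) = 1 := by
    rw [← hψ₁W, ← map_mul, W1_mul_winv1 u g uinv huinv hg, map_one]
  have hzt : z ^ α' = t * w ^ a := by
    have h1 : (z ^ α' - t * w ^ a) * algebraMap A B v ^ (a * α') = 0 := by
      have e1 : z ^ α' * algebraMap A B v ^ (a * α') = t ^ (b * α') := by
        calc z ^ α' * algebraMap A B v ^ (a * α') = (z * algebraMap A B v ^ a) ^ α' := by ring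
          _ = t ^ (b * α') := by rw [hz2]; ring
      have e2 : t * w ^ a * algebraMap A B v ^ (a * α') = t ^ (b * α') := by
        calc t * w ^ a * algebraMap A B v ^ (a * α') = t * (w * algebraMap A B v ^ α') ^ a := by
              ring
          _ = t ^ (b * α') := by rw [hw2, hab]; ring
      rw [sub_mul, e1, e2, sub_self]
    have h2 : ∀ (n : ℕ) (x : B), x * algebraMap A B v ^ n = 0 → x = 0 := by
      intro n
      induction n with
      | zero => intro x hx; simpa using hx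
      | succ n ih =>
        intro x hx
        apply ih
        apply hv
        rw [← hx, pow_succ]
        ring
    exact sub_eq_zero.mp (h2 _ _ h1)
  have hψτ : ψ (tau1 u v g N' b uinv α' a) = t := by
    rw [tau1, map_mul, map_pow, map_pow, hψZ, hψof, hzt]
    calc t * w ^ a * ψ₁ (winv1 u g uinv) ^ a = t * (w * ψ₁ (winv1 u g uinv)) ^ a := by ring
      _ = t := by rw [hwinv, one_pow, mul_one]
  have hψeval : ∀ p : A[X],
      ψ (eval₂ (algebraMap A (B1 u v g N' b)) (tau1 u v g N' b uinv α' a) p) =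
        eval₂ (algebraMap A B) t p := by
    intro p
    rw [Polynomial.hom_eval₂, hψcomp, hψτ]
  -- freeness of the model
  have hmon1 : (X ^ g - C u : A[X]).Monic := monic_X_pow_sub_C _ hg.ne'
  have hmon2 : (pol1 u v g N' b).Monic := monic_X_pow_sub_C _ hN'.ne'
  haveI : Module.Free A (A1 u g) := hmon1.free_adjoinRoot
  haveI : Module.Free (A1 u g) (B1 u v g N' b) := hmon2.free_adjoinRoot
  haveI : Module.Free A (B1 u v g N' b) := Module.Free.trans (S := A1 u g)
  have hvB1 : ∀ (n : ℕ) (x : B1 u v g N' b),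
      algebraMap A (B1 u v g N' b) v ^ n * x = 0 → x = 0 := by
    intro n x hx
    have h1 : (v ^ n) • x = 0 := by
      rw [Algebra.smul_def, map_pow]
      exact hx
    rcases smul_eq_zero.mp h1 with h2 | h2
    · exact absurd h2 (pow_ne_zero n hv0)
    · exact h2
  obtain ⟨-, -, hτN⟩ := tau1_identities u v g N' b uinv huinv hg α' a hab
  -- injectivity
  have hψinj : Function.Injective ψ := by
    rw [injective_iff_map_eq_zero]
    intro c hc
    obtain ⟨n, p, hp⟩ := exists_pow_mul_eq_eval₂_tau1 u v g N' b uinv huinv hg α' a hab c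
    set F : A[X] := X ^ (g * N') - C (u * v ^ (g * α')) with hF
    have hFm : F.Monic := monic_X_pow_sub_C _ (Nat.mul_ne_zero hg.ne' hN'.ne')
    have hFτ : eval₂ (algebraMap A (B1 u v g N' b)) (tau1 u v g N' b uinv α' a) F = 0 := by
      rw [hF, eval₂_sub, eval₂_pow, eval₂_X, eval₂_C, hτN, map_mul, map_pow, sub_self]
    have hpr : eval₂ (algebraMap A (B1 u v g N' b)) (tau1 u v g N' b uinv α' a) p =
        eval₂ (algebraMap A (B1 u v g N' b)) (tau1 u v g N' b uinv α' a) (p %ₘ F) := by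
      conv_lhs => rw [← modByMonic_add_div p F]
      rw [eval₂_add, eval₂_mul, hFτ, zero_mul, add_zero]
    have h1 : eval₂ (algebraMap A B) t (p %ₘ F) = 0 := by
      rw [← hψeval, ← hpr, ← hp, map_mul, hc, mul_zero]
    have h2 : p %ₘ F = 0 := by
      apply hinj _ _ h1
      have := degree_modByMonic_lt p hFm
      rwa [hF, degree_X_pow_sub_C (Nat.mul_pos hg hN')] at this
    rw [hpr, h2, eval₂_zero] at hp
    exact hvB1 n c hp
  -- surjectivity
  have hψsurj : Function.Surjective ψ := by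
    refine surjective_of_normal_of_away ψ hψinj ?_
      (fun 𝔪 _ => normal_B1 hR₀ tJ hFS j₀ u hu g N' b hg hN' hgu hN'u 𝔪)
      (algebraMap A (B1 u v g N' b) v) ?_ ?_
    · refine RingHom.IsIntegral.tower_top (algebraMap A (B1 u v g N' b)) ψ ?_
      rw [hψcomp]
      exact hint
    · intro x hx
      rw [hψA] at hx
      exact hv x hx
    · intro x
      obtain ⟨n, p, hp⟩ := hsurj x
      exact ⟨n, eval₂ (algebraMap A (B1 u v g N' b)) (tau1 u v g N' b uinv α' a) p, by
        rw [hψA, hψeval, hp]⟩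
  exact ⟨ψ, ⟨hψinj, hψsurj⟩, hψA⟩

/-- **normalised cyclic covers along a smooth divisor are smooth** (ring form) -/
theorem smooth_of_cyclic_normal [IsDomain A] [Algebra.FinitePresentation R₀ A]
    (hR₀ : ∀ (p : Ideal R₀) [p.IsPrime],
      IsDomain (Localization.AtPrime p) ∧ IsIntegrallyClosed (Localization.AtPrime p))
    {J : Type u} (tJ : J → A)
    (hFS : @Algebra.FormallySmooth (MvPolynomial J R₀) A _ _
      (MvPolynomial.aeval (R := R₀) tJ).toRingHom.toAlgebra) (j₀ : J)
    (u : A) (hu : IsUnit u) (g N' α' a b : ℕ) (hg : 0 < g) (hN' : 0 < N')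
    (hab : b * α' = 1 + a * N')
    (hgu : IsUnit ((g : ℕ) : A)) (hN'u : IsUnit ((N' : ℕ) : A))
    (t : B) (ht : t ^ (g * N') = algebraMap A B (u * tJ j₀ ^ (g * α')))
    (hBn : ∀ (𝔪 : Ideal B) [𝔪.IsMaximal],
      IsDomain (Localization.AtPrime 𝔪) ∧ IsIntegrallyClosed (Localization.AtPrime 𝔪))
    (hv0 : tJ j₀ ≠ 0)
    (hv : ∀ x : B, algebraMap A B (tJ j₀) * x = 0 → x = 0)
    (hint : (algebraMap A B).IsIntegral)
    (hsurj : ∀ x : B, ∃ (n : ℕ) (p : A[X]),
      algebraMap A B (tJ j₀) ^ n * x = eval₂ (algebraMap A B) t p)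
    (hinj : ∀ p : A[X], p.degree < ((g * N' : ℕ) : WithBot ℕ) →
      eval₂ (algebraMap A B) t p = 0 → p = 0) :
    Algebra.Smooth R₀ B := by
  obtain ⟨ψ, hψb, hψA⟩ := exists_model_equiv hR₀ tJ hFS j₀ u hu g N' α' a b hg hN' hab hgu hN'u
    t ht hBn hv0 hv hint hsurj hinj
  haveI := smooth_B1 tJ hFS j₀ u hu g N' b hg hN' hgu hN'u
  let e : B1 u (tJ j₀) g N' b ≃ₐ[R₀] B :=
    AlgEquiv.ofBijective
      { toRingHom := ψ
        commutes' := fun r => by
          have : algebraMap R₀ (B1 u (tJ j₀) g N' b) r =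
            algebraMap A (B1 u (tJ j₀) g N' b) (algebraMap R₀ A r) := rfl
          simp only [RingHom.toMonoidHom_eq_coe, OneHom.toFun_eq_coe, MonoidHom.toOneHom_coe,
            MonoidHom.coe_coe]
          rw [this, hψA, ← IsScalarTower.algebraMap_apply] }
      hψb
  exact Algebra.Smooth.of_equiv e

end Main

end Groth.Agent.Lib.helper8.CycEt
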