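import Groth.Agent.Lib.Helper8.CycEt3
import Groth.Agent.Lib.Helper8.CycSm2
import Groth.Agent.Lib.Helper8.CycRad1
import Groth.Agent.Lib.Helper17.KummerSmooth3
import Groth.Prelude.Def_LogNCD

set_option autoImplicit false
universe u
open CategoryTheory AlgebraicGeometry Opposite TopologicalSpace Polynomial

namespace Groth.Agent.Lib.helper8.CycEt

open Groth.Agent.Lib.Helper12.NormSec

/-- a principal submodule of a free module of rank one determines its coefficient ideal -/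
theorem ideal_span_eq_of_span_smul_eq {R M : Type*} [CommRing R] [AddCommGroup M] [Module R M]
    (E : M) (hE : Function.Bijective (fun a : R => a • E)) (f : R) (I : Ideal R)
    (h : Submodule.span R {f • E} = I • (⊤ : Submodule R M)) : Ideal.span {f} = I := by
  have htop : (⊤ : Submodule R M) = Submodule.span R {E} := by
    rw [eq_comm, eq_top_iff]
    intro m _
    obtain ⟨a, rfl⟩ := hE.2 m
    exact Submodule.smul_mem _ _ (Submodule.subset_span rfl)
  rw [htop] at h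
  apply le_antisymm
  · rw [Ideal.span_le, Set.singleton_subset_iff]
    have h1 : f • E ∈ I • Submodule.span R {E} := by
      rw [← h]
      exact Submodule.subset_span rfl
    obtain ⟨y, hy, hyE⟩ := Submodule.mem_smul_span_singleton.mp h1
    have : y = f := hE.1 hyE
    exact this ▸ hy
  · intro y hy
    have h1 : y • E ∈ Submodule.span R {f • E} := by
      rw [h]
      exact Submodule.smul_mem_smul hy (Submodule.subset_span rfl)
    obtain ⟨c, hc⟩ := Submodule.mem_span_singleton.mp h1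
    have : c * f = y := hE.1 (by change (c * f) • E = y • E; rw [mul_smul, hc])
    rw [← this]
    exact Ideal.mul_mem_left _ _ (Ideal.subset_span rfl)

variable {X : Scheme.{u}}

/-- evaluation of ideal sheaves on an affine open, as a monoid homomorphism -/
def idealHom (U : X.affineOpens) : X.IdealSheafData →* Ideal Γ(X, U.1) where
  toFun I := I.ideal U
  map_one' := by
    change (⊤ : Ideal Γ(X, U.1)) = 1
    exact Ideal.one_eq_top.symm
  map_mul' _ _ := rfl

theorem ideal_divIdeal_eq_span_pow {r : ℕ} (D : Fin r → X.IdealSheafData) (α : Fin r → ℕ)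
    (U : X.affineOpens) (j : Fin r) (v : Γ(X, U.1)) (hj : (D j).ideal U = Ideal.span {v})
    (hi : ∀ i, i ≠ j → 0 < α i → (D i).ideal U = ⊤) :
    (CycCov.divIdeal D α).ideal U = Ideal.span {v ^ α j} := by
  unfold CycCov.divIdeal
  change idealHom U (∏ i, D i ^ α i) = _
  rw [map_prod, Finset.prod_eq_single j]
  · rw [map_pow]
    change (D j).ideal U ^ α j = _
    rw [hj, Ideal.span_singleton_pow]
  · intro i _ hij
    rw [map_pow]
    change (D i).ideal U ^ α i = 1
    rcases Nat.eq_zero_or_pos (α i) with h0 | h0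
    · rw [h0, pow_zero]
    · rw [hi i hij h0, Ideal.top_pow, Ideal.one_eq_top]
  · intro h
    exact absurd (Finset.mem_univ j) h


open Groth.Agent.Lib.helper17.KummerSmooth in
/-- an étale chart gives an étale algebra structure over the polynomial ring on sections over an
affine open inside the chart domain -/
theorem etale_of_chart {S : Scheme.{u}} [IsAffine S] (f : X ⟶ S) (W₁ : X.Opens)
    (J : Type u) [Finite J] (vv : J → Γ(W₁, ⊤)) [Etale (AffineSpace.homOfVector (W₁.ι ≫ f) vv)]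
    (U : X.Opens) (hU : IsAffineOpen U) (hUW : U ≤ W₁) :
    letI : Algebra Γ(S, ⊤) Γ(X, U) := (f.appLE ⊤ U (fun _ _ => trivial)).hom.toAlgebra
    @Algebra.Etale (MvPolynomial J Γ(S, ⊤)) Γ(X, U) _ _
      (MvPolynomial.aeval (R := Γ(S, ⊤)) (fun j => LogNCD.sectOn W₁ hUW (vv j))).toRingHom.toAlgebra := by
  letI : Algebra Γ(S, ⊤) Γ(X, U) := (f.appLE ⊤ U (fun _ _ => trivial)).hom.toAlgebra
  have het := etale_chart_ringHom f W₁ J vv ⊤ (isAffineOpen_top S) U hU hUW (fun _ _ => trivial)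
  let e₁ : Γ(S, ⊤) ≃+* Γ((⊤ : S.Opens).toScheme, ⊤) :=
    ((⊤ : S.Opens).topIso.symm).commRingCatIsoToRingEquiv
  let e₂ : Γ(U.toScheme, ⊤) ≃+* Γ(X, U) := U.topIso.commRingCatIsoToRingEquiv
  have h1 := RingHom.Etale.respectsIso.2 _ (MvPolynomial.mapEquiv J e₁) het
  have h2 := RingHom.Etale.respectsIso.1 _ e₂ h1
  have heq : e₂.toRingHom.comp ((MvPolynomial.eval₂Hom
      (f.resLE ⊤ U (fun _ _ => trivial)).appTop.hom
      (fun j => (X.homOfLE hUW).appTop.hom (vv j))).comp (MvPolynomial.mapEquiv J e₁).toRingHom) =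
      (MvPolynomial.aeval (R := Γ(S, ⊤)) (fun j => LogNCD.sectOn W₁ hUW (vv j))).toRingHom := by
    apply MvPolynomial.ringHom_ext
    · intro r
      simp only [RingHom.comp_apply, AlgHom.toRingHom_eq_coe, RingHom.coe_coe,
        MvPolynomial.aeval_C, RingEquiv.toRingHom_eq_coe, MvPolynomial.mapEquiv_apply,
        MvPolynomial.map_C, MvPolynomial.coe_eval₂Hom, MvPolynomial.eval₂_C]
      change U.topIso.hom.hom ((f.resLE ⊤ U _).appTop.hom ((⊤ : S.Opens).topIso.inv.hom r)) =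
        (f.appLE ⊤ U _).hom r
      have h3 : (f.resLE ⊤ U (fun _ _ => trivial)).appTop =
          (⊤ : S.Opens).topIso.hom ≫ f.appLE ⊤ U (fun _ _ => trivial) ≫ U.topIso.inv :=
        Scheme.Hom.resLE_app_top f _
      have e3 : ∀ y, U.topIso.hom.hom (U.topIso.inv.hom y) = y := fun y => by
        rw [← CommRingCat.comp_apply, Iso.inv_hom_id]
        rfl
      have e4 : ∀ y, (⊤ : S.Opens).topIso.hom.hom ((⊤ : S.Opens).topIso.inv.hom y) = y :=
        fun y => by
          rw [← CommRingCat.comp_apply, Iso.inv_hom_id]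
          rfl
      rw [h3]
      change U.topIso.hom.hom (U.topIso.inv.hom ((f.appLE ⊤ U _).hom
        ((⊤ : S.Opens).topIso.hom.hom ((⊤ : S.Opens).topIso.inv.hom r)))) = _
      rw [e3, e4]
    · intro j
      simp only [RingHom.comp_apply, AlgHom.toRingHom_eq_coe, RingHom.coe_coe,
        MvPolynomial.aeval_X, RingEquiv.toRingHom_eq_coe, MvPolynomial.mapEquiv_apply,
        MvPolynomial.map_X, MvPolynomial.coe_eval₂Hom, MvPolynomial.eval₂_X]
      change U.topIso.hom.hom ((X.homOfLE hUW).appTop.hom (vv j)) =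
        (X.presheaf.map (homOfLE hUW).op).hom (W₁.topIso.hom.hom (vv j))
      rw [Scheme.homOfLE_appTop]
      simp only [Scheme.Opens.topIso_hom]
      rw [← CommRingCat.comp_apply, ← CommRingCat.comp_apply]
      erw [← Functor.map_comp, ← Functor.map_comp]
      rfl
  rw [heq] at h2
  exact h2


theorem exists_bezout_nat (N' α' : ℕ) (hN' : 0 < N') (hα' : 0 < α') (hc : Nat.Coprime α' N') :
    ∃ a b : ℕ, b * α' = 1 + a * N' := by
  rcases Nat.lt_or_ge 1 N' with h1 | h1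
  · obtain ⟨m, -, hm⟩ := Nat.exists_mul_mod_eq_one_of_coprime hc h1
    refine ⟨α' * m / N', m, ?_⟩
    have := Nat.div_add_mod (α' * m) N'
    rw [hm] at this
    rw [mul_comm m α']
    linarith
  · have : N' = 1 := by omega
    subst this
    exact ⟨α' - 1, 1, by omega⟩

theorem exists_gcd_decomp (N α : ℕ) (hN : 0 < N) (hα : 0 < α) :
    ∃ g N' α' a b : ℕ, 0 < g ∧ 0 < N' ∧ N = g * N' ∧ α = g * α' ∧ b * α' = 1 + a * N' ∧
      g = Nat.gcd N α := by
  have hg : 0 < Nat.gcd N α := Nat.gcd_pos_of_pos_left _ hN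
  have h1 : N = Nat.gcd N α * (N / Nat.gcd N α) := (Nat.mul_div_cancel' (Nat.gcd_dvd_left N α)).symm
  have h2 : α = Nat.gcd N α * (α / Nat.gcd N α) := (Nat.mul_div_cancel' (Nat.gcd_dvd_right N α)).symm
  have hN' : 0 < N / Nat.gcd N α := Nat.div_pos (Nat.le_of_dvd hN (Nat.gcd_dvd_left N α)) hg
  have hα' : 0 < α / Nat.gcd N α := Nat.div_pos (Nat.le_of_dvd hα (Nat.gcd_dvd_right N α)) hg
  have hc : Nat.Coprime (α / Nat.gcd N α) (N / Nat.gcd N α) :=
    (Nat.coprime_div_gcd_div_gcd hg).symm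
  obtain ⟨a, b, hab⟩ := exists_bezout_nat _ _ hN' hα' hc
  exact ⟨_, _, _, a, b, hg, hN', h1, h2, hab, rfl⟩

theorem isField_ΓSpec_field (k : Type u) [Field k] : IsField Γ(Spec (CommRingCat.of k), ⊤) :=
  MulEquiv.isField (Field.toIsField k)
    (Scheme.ΓSpecIso (CommRingCat.of k)).commRingCatIsoToRingEquiv.toMulEquiv

theorem normal_of_isField {R₀ : Type*} [CommRing R₀] (h : IsField R₀) (p : Ideal R₀) [p.IsPrime] :
    IsDomain (Localization.AtPrime p) ∧ IsIntegrallyClosed (Localization.AtPrime p) := by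
  letI := h.toField
  exact Groth.Agent.Lib.helper13.Normal.IsNormalDomain.localization_atPrime
    ⟨inferInstance, inferInstance⟩ p _


section LocalSmooth

variable {k : Type u} [Field k] {Y : Scheme.{u}}
  (f : X ⟶ Spec (CommRingCat.of k)) [Smooth f] [IsIntegral X]
  {L : X.Modules} (hL : PicF.IsInvertible L) {N : ℕ} (hN : 0 < N) (hNk : (N : k) ≠ 0)
  {r : ℕ} (D : Fin r → X.IdealSheafData) (α : Fin r → ℕ)
  {s : Coh.structureModule X ⟶ CohB1.tensorPow L N}
  (hs : CycCov.IsZeroDiv (CohB1.tensorPow L N) s (CycCov.divIdeal D α))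
  {π : Y ⟶ X} (R : CycCov.Root L N s π) (hR : CycCov.IsCover R)

include hL hN hNk hs hR in
/-- over a small affine open meeting a single component of the branch divisor, cut out by an étale
coordinate, the functions on the normalised cyclic cover form a smooth algebra -/
theorem one_component_core (W₁ : X.Opens) (J : Type u) [Finite J] (vv : J → Γ(W₁, ⊤))
    [Etale (AffineSpace.homOfVector (W₁.ι ≫ f) vv)] (U : X.affineOpens) (hUW : U.1 ≤ W₁)
    [Nonempty U.1] (j : Fin r) (j₀ : J) (hαj : 0 < α j)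
    (hj : (D j).ideal U = Ideal.span {LogNCD.sectOn W₁ hUW (vv j₀)})
    (hi : ∀ i, i ≠ j → 0 < α i → (D i).ideal U = ⊤)
    (e : L.val.obj (op U.1)) (hgen : IsGen L U.1 e) :
    ((π.app U.1).hom.comp (f.appLE ⊤ U.1 (fun _ _ => trivial)).hom).Smooth ∧
      Ideal.span {(π.app U.1).hom (LogNCD.sectOn W₁ hUW (vv j₀))} =
        (Ideal.span {(π.app U.1).hom (LogNCD.sectOn W₁ hUW (vv j₀))}).radical ^
          (N / Nat.gcd N (α j)) := by
  obtain ⟨hfin, hY, W₀, hW₀, hpre, hch⟩ := hR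
  haveI := hfin
  haveI : IsReduced Y := Groth.Agent.Lib.helper13.Normal.isReduced hY
  have hX := isNormal_of_smooth_field f
  have hU' : IsAffineOpen (π ⁻¹ᵁ U.1) := U.2.preimage π
  have he : Function.Bijective (fun a : Γ(X, U.1) => a • e) := by
    have := hgen U.1 le_rfl
    rw [rs_self] at this
    exact this
  -- the equation of `s`
  have hb := bijective_smul_lpow hL U.2 e he N
  obtain ⟨f', hf'0⟩ := hb.2 (SecTwist.val s U.1)
  have hf' : SecTwist.val s U.1 = f' • CycCov.lpow L U.1 e N := by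
    rw [lpow_eq]
    exact hf'0.symm
  set v : Γ(X, U.1) := LogNCD.sectOn W₁ hUW (vv j₀) with hvdef
  have hI := ideal_divIdeal_eq_span_pow D α U j v hj hi
  have hspan : Ideal.span {f'} = Ideal.span {v ^ α j} := by
    have h1 := hs U
    rw [hI, hf', lpow_eq] at h1
    exact ideal_span_eq_of_span_smul_eq _ hb f' _ h1
  obtain ⟨u, hu⟩ := (Ideal.span_singleton_eq_span_singleton.mp hspan).symm
  -- the chart
  letI algA : Algebra Γ(Spec (CommRingCat.of k), ⊤) Γ(X, U.1) :=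
    (f.appLE ⊤ U.1 (fun _ _ => trivial)).hom.toAlgebra
  have hEt := etale_of_chart f W₁ J vv U.1 U.2 hUW
  have hfield := isField_ΓSpec_field k
  have hFS : @Algebra.FormallySmooth (MvPolynomial J Γ(Spec (CommRingCat.of k), ⊤)) Γ(X, U.1) _ _
      (MvPolynomial.aeval (R := Γ(Spec (CommRingCat.of k), ⊤))
        (fun j => LogNCD.sectOn W₁ hUW (vv j))).toRingHom.toAlgebra := by
    letI algPA : Algebra (MvPolynomial J Γ(Spec (CommRingCat.of k), ⊤)) Γ(X, U.1) :=
      (MvPolynomial.aeval (R := Γ(Spec (CommRingCat.of k), ⊤))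
        (fun j => LogNCD.sectOn W₁ hUW (vv j))).toRingHom.toAlgebra
    haveI : Algebra.Etale (MvPolynomial J Γ(Spec (CommRingCat.of k), ⊤)) Γ(X, U.1) := hEt
    infer_instance
  -- `v ≠ 0`
  have hv0 : v ≠ 0 := by
    letI := hfield.toField
    letI algPA : Algebra (MvPolynomial J Γ(Spec (CommRingCat.of k), ⊤)) Γ(X, U.1) :=
      (MvPolynomial.aeval (R := Γ(Spec (CommRingCat.of k), ⊤))
        (fun j => LogNCD.sectOn W₁ hUW (vv j))).toRingHom.toAlgebra
    haveI : Algebra.Etale (MvPolynomial J Γ(Spec (CommRingCat.of k), ⊤)) Γ(X, U.1) := hEt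
    have hreg : IsSMulRegular (MvPolynomial J Γ(Spec (CommRingCat.of k), ⊤))
        (MvPolynomial.X j₀ : MvPolynomial J Γ(Spec (CommRingCat.of k), ⊤)) :=
      (IsRegular.of_ne_zero (MvPolynomial.X_ne_zero j₀)).left.isSMulRegular
    have h1 := IsSMulRegular.of_flat (S := Γ(X, U.1)) hreg
    have h2 : algebraMap (MvPolynomial J Γ(Spec (CommRingCat.of k), ⊤)) Γ(X, U.1)
        (MvPolynomial.X j₀) = v := by
      change MvPolynomial.aeval (R := Γ(Spec (CommRingCat.of k), ⊤))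
        (fun j => LogNCD.sectOn W₁ hUW (vv j)) (MvPolynomial.X j₀) = v
      rw [MvPolynomial.aeval_X]
    rw [h2] at h1
    intro h0
    rw [h0] at h1
    have := h1 (show (0 : Γ(X, U.1)) • (1 : Γ(X, U.1)) = (0 : Γ(X, U.1)) • 0 by simp)
    exact one_ne_zero this
  -- arithmetic
  obtain ⟨g, N', α', a, b, hg, hN', hNeq, hαeq, hab, hgcd⟩ := exists_gcd_decomp N (α j) hN hαj
  have hNu : IsUnit ((N : ℕ) : Γ(X, U.1)) := isUnit_natCast_of_field f N hNk U.1
  have hgu : IsUnit ((g : ℕ) : Γ(X, U.1)) := by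
    rw [hNeq, Nat.cast_mul] at hNu
    exact isUnit_of_mul_isUnit_left hNu
  have hN'u : IsUnit ((N' : ℕ) : Γ(X, U.1)) := by
    rw [hNeq, Nat.cast_mul] at hNu
    exact isUnit_of_mul_isUnit_right hNu
  have hfu : f' = (u : Γ(X, U.1)) * v ^ (g * α') := by
    rw [← hαeq, ← hu, mul_comm]
  -- small basic open inside `W₀`
  obtain ⟨x, hxU, hxW⟩ := hW₀.inter_open_nonempty U.1.1 U.1.2 ⟨_, (Classical.arbitrary U.1).2⟩
  obtain ⟨h', hle, hx⟩ := U.2.exists_basicOpen_le ⟨x, hxW⟩ hxU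
  have heC : CycCov.IsGen L U.1 e := he
  have hinjC := chart_injective R hN W₀ hch U e hgen heC f' hf' h' hle x hx
  -- the chart over `D(v)` is bijective
  have hvne : ((X.basicOpen v : X.Opens) : Set X).Nonempty := by
    rw [Set.nonempty_iff_ne_empty]
    intro h0
    apply hv0
    rw [← basicOpen_eq_bot_iff]
    ext1
    exact h0
  haveI : Nonempty (bV U v).1 := ⟨⟨hvne.some, hvne.some_mem⟩⟩
  have hbijv : Function.Bijective (CycCov.chart R (bV U v) _
      (isGen_res (X.basicOpen_le v) e hgen) _ (hf_res (X.basicOpen_le v) e f' hf')) := by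
    refine chart_bijective R hN W₀ hch (bV U v) _ (hgen.rs (X.basicOpen_le v)) _ _ _ hX hY hW₀ hpre
      ?_ (isUnit_natCast_of_field f N hNk _)
    rw [hfu, map_mul, map_pow]
    exact ((u.isUnit).map _).mul ((X.toRingedSpace.isUnit_res_basicOpen v).pow _)
  -- apply the ring theorem
  letI algB : Algebra Γ(X, U.1) Γ(Y, π ⁻¹ᵁ U.1) := (π.app U.1).hom.toAlgebra
  letI algkB : Algebra Γ(Spec (CommRingCat.of k), ⊤) Γ(Y, π ⁻¹ᵁ U.1) :=
    ((π.app U.1).hom.comp (f.appLE ⊤ U.1 (fun _ _ => trivial)).hom).toAlgebra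
  haveI : IsScalarTower Γ(Spec (CommRingCat.of k), ⊤) Γ(X, U.1) Γ(Y, π ⁻¹ᵁ U.1) :=
    IsScalarTower.of_algebraMap_eq (fun _ => rfl)
  haveI : Algebra.FinitePresentation Γ(Spec (CommRingCat.of k), ⊤) Γ(X, U.1) :=
    HasRingHomProperty.appLE (P := @LocallyOfFinitePresentation) f inferInstance
      ⟨⊤, isAffineOpen_top _⟩ U (fun _ _ => trivial)
  have a1 : (R.t U e heC) ^ (g * N') =
      algebraMap Γ(X, U.1) Γ(Y, π ⁻¹ᵁ U.1) ((u : Γ(X, U.1)) * v ^ (g * α')) := by
    have := R.pow_eq U e heC f' hf'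
    rw [← hNeq, this, hfu]
    rfl
  have a2 : ∀ (𝔪 : Ideal Γ(Y, π ⁻¹ᵁ U.1)) [𝔪.IsMaximal],
      IsDomain (Localization.AtPrime 𝔪) ∧ IsIntegrallyClosed (Localization.AtPrime 𝔪) := by
    intro 𝔪 _
    exact (Groth.Agent.Lib.helper13.Normal.iff_affineOpens Y).mp hY _ hU' 𝔪
  have a3 : ∀ x : Γ(Y, π ⁻¹ᵁ U.1), algebraMap Γ(X, U.1) Γ(Y, π ⁻¹ᵁ U.1) v * x = 0 → x = 0 := by
    intro b hb
    exact nonzerodiv R hN W₀ hch U e hgen f' hf' hpre v hv0 b hb
  have a4 : (algebraMap Γ(X, U.1) Γ(Y, π ⁻¹ᵁ U.1)).IsIntegral :=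
    (IsFinite.finite_app π U.1 U.2).to_isIntegral
  have a5 : ∀ x : Γ(Y, π ⁻¹ᵁ U.1), ∃ (n : ℕ) (p : Γ(X, U.1)[X]),
      algebraMap Γ(X, U.1) Γ(Y, π ⁻¹ᵁ U.1) v ^ n * x =
        eval₂ (algebraMap Γ(X, U.1) Γ(Y, π ⁻¹ᵁ U.1)) (R.t U e heC) p := by
    intro b
    obtain ⟨n, c, hc⟩ := exists_pow_mul_eq_chart' R U e hgen heC f' hf' hU' v hbijv b
    obtain ⟨p, rfl⟩ := AdjoinRoot.mk_surjective c
    exact ⟨n, p, hc.trans (chart_mk R U e heC f' hf' p)⟩
  have a6 : ∀ p : Γ(X, U.1)[X], p.degree < ((g * N' : ℕ) : WithBot ℕ) →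
      eval₂ (algebraMap Γ(X, U.1) Γ(Y, π ⁻¹ᵁ U.1)) (R.t U e heC) p = 0 → p = 0 := by
    intro p hp hp0
    have h1 : CycCov.chart R U e heC f' hf' (AdjoinRoot.mk _ p) = 0 := by
      rw [chart_mk]
      exact hp0
    have h2 := hinjC (h1.trans (map_zero _).symm)
    refine eq_zero_of_mk_eq_zero _ (monic_X_pow_sub_C _ hN.ne') p ?_ h2
    rw [degree_X_pow_sub_C hN, hNeq]
    exact hp
  have key : Algebra.Smooth Γ(Spec (CommRingCat.of k), ⊤) Γ(Y, π ⁻¹ᵁ U.1) :=
    smooth_of_cyclic_normal (fun p _ => normal_of_isField hfield p)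
      (fun j => LogNCD.sectOn W₁ hUW (vv j)) hFS j₀ (u : Γ(X, U.1)) u.isUnit g N' α' a b hg hN' hab
      hgu hN'u (R.t U e heC) a1 a2 hv0 a3 a4 a5 a6
  have key2 := span_eq_radical_pow_of_cyclic_normal (fun p _ => normal_of_isField hfield p)
      (fun j => LogNCD.sectOn W₁ hUW (vv j)) hFS j₀ (u : Γ(X, U.1)) u.isUnit g N' α' a b hg hN' hab
      hgu hN'u (R.t U e heC) a1 a2 hv0 a3 a4 a5 a6
  have hdiv : N / Nat.gcd N (α j) = N' := by
    rw [← hgcd, hNeq]
    exact Nat.mul_div_cancel_left N' hg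
  rw [hdiv]
  exact ⟨key, key2⟩

include hL hN hNk hs hR in
/-- over a small affine open meeting a single component of the branch divisor, cut out by an étale
coordinate, the functions on the normalised cyclic cover form a smooth algebra -/
theorem smooth_app_of_one_component (W₁ : X.Opens) (J : Type u) [Finite J] (vv : J → Γ(W₁, ⊤))
    [Etale (AffineSpace.homOfVector (W₁.ι ≫ f) vv)] (U : X.affineOpens) (hUW : U.1 ≤ W₁)
    [Nonempty U.1] (j : Fin r) (j₀ : J) (hαj : 0 < α j)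
    (hj : (D j).ideal U = Ideal.span {LogNCD.sectOn W₁ hUW (vv j₀)})
    (hi : ∀ i, i ≠ j → 0 < α i → (D i).ideal U = ⊤)
    (e : L.val.obj (op U.1)) (hgen : IsGen L U.1 e) :
    ((π.app U.1).hom.comp (f.appLE ⊤ U.1 (fun _ _ => trivial)).hom).Smooth :=
  (one_component_core f hL hN hNk D α hs R hR W₁ J vv U hUW j j₀ hαj hj hi e hgen).1

end LocalSmooth



theorem smooth_ι_comp_of_appLE {Y S : Scheme.{u}} [IsAffine S] (G : Y ⟶ S) (V : Y.Opens)
    (hV : IsAffineOpen V) (e : V ≤ G ⁻¹ᵁ ⊤) (H : (G.appLE ⊤ V e).hom.Smooth) :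
    Smooth (V.ι ≫ G) := by
  haveI : IsAffine (⊤ : S.Opens).toScheme := isAffineOpen_top S
  haveI : IsAffine V.toScheme := hV
  haveI h1 : Smooth (G.resLE ⊤ V e) := by
    rw [HasRingHomProperty.iff_of_isAffine (P := @Smooth)]
    exact (RingHom.Smooth.propertyIsLocal.respectsIso.arrow_mk_iso_iff
      (arrowResLEAppIso G ⊤ V e)).mpr H
  rw [← Scheme.Hom.resLE_comp_ι G e]
  infer_instance

theorem smooth_ι_comp_of_cover {Y S : Scheme.{u}} (G : Y ⟶ S) (V₀ : Y.Opens)
    (H : ∀ y ∈ V₀, ∃ V' : Y.Opens, y ∈ V' ∧ V' ≤ V₀ ∧ Smooth (V'.ι ≫ G)) :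
    Smooth (V₀.ι ≫ G) := by
  choose V' hyV' hV'le hV'sm using H
  let 𝒰 : V₀.toScheme.OpenCover :=
    { I₀ := V₀
      X := fun y => (V' y.1 y.2).toScheme
      f := fun y => Y.homOfLE (hV'le y.1 y.2)
      mem₀ := by
        rw [Scheme.presieve₀_mem_precoverage_iff]
        refine ⟨fun z => ⟨z, ⟨⟨z.1, hyV' z.1 z.2⟩, ?_⟩⟩, fun j => inferInstance⟩
        apply Subtype.ext
        rw [Scheme.homOfLE_apply] }
  refine IsZariskiLocalAtSource.of_openCover (P := @Smooth) 𝒰 (fun y => ?_)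
  change Smooth (Y.homOfLE (hV'le y.1 y.2) ≫ V₀.ι ≫ G)
  rw [← Category.assoc, Scheme.homOfLE_ι]
  exact hV'sm y.1 y.2

end Groth.Agent.Lib.helper8.CycEt
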