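import Mathlib
import Groth.Prelude.Def_Curv2

/-!
# The δ-invariant of a localization via a localized module (helper8)

`length_quot_eq_deltaInv`: `A` a domain with fraction field `K`, `p` a prime, `R = A_p`, `B ≃ₗ[A]` the
integral closure of `A` in `K` with `b₁ ↦ 1`, `γ : B → N` a localization of the `A`-module `B` at `p`
(with `N` an `R`-module). Then `ℓ_R(N / R·γ(b₁)) = δ(R)`.
-/

set_option autoImplicit false
universe u

namespace Groth.Agent.Lib.helper8.DeltaAlg

open Polynomial

/-- the integral closure of `R = A_p` in `K` is the localization of the integral closure of `A`. -/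
theorem exists_linearEquiv
    {A : Type u} [CommRing A] [IsDomain A] {K : Type u} [Field K] [Algebra A K]
    [IsFractionRing A K] (p : Ideal A) [p.IsPrime] {R : Type u} [CommRing R] [IsDomain R]
    [Algebra A R] [IsLocalization.AtPrime R p] [Algebra R K] [IsScalarTower A R K]
    {B : Type u} [AddCommGroup B] [Module A B] (e : B ≃ₗ[A] integralClosure A K)
    (b₁ : B) (hb₁ : e b₁ = 1)
    {N : Type u} [AddCommGroup N] [Module A N] [Module R N] [IsScalarTower A R N]
    (γ : B →ₗ[A] N) [IsLocalizedModule p.primeCompl γ] :
    ∃ Φ : N ≃ₗ[R] integralClosure R K, Φ (γ b₁) = 1 := by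
  classical
  let M := p.primeCompl
  let ι : integralClosure A K →+* integralClosure R K :=
    (algebraMap (integralClosure A K) K).codRestrict (integralClosure R K)
      (fun x => IsIntegral.tower_top (R := A) (A := R) x.2)
  letI algι : Algebra (integralClosure A K) (integralClosure R K) := ι.toAlgebra
  haveI st1 : IsScalarTower (integralClosure A K) (integralClosure R K) K :=
    IsScalarTower.of_algebraMap_eq (fun x => rfl)
  haveI st2 : IsScalarTower A (integralClosure A K) (integralClosure R K) :=
    IsScalarTower.of_algebraMap_eq (fun x => by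
      apply Subtype.ext
      change algebraMap A K x = algebraMap A K x
      rfl)
  haveI locK : IsLocalization (Algebra.algebraMapSubmonoid K M) K := by
    apply IsLocalization.of_le_isUnit
    rintro _ ⟨m, hm, rfl⟩
    have hm0 : m ≠ 0 := fun h => hm (h ▸ p.zero_mem)
    exact (IsUnit.mk0 _ ((map_ne_zero_iff _ (IsFractionRing.injective A K)).mpr hm0))
  haveI locT : IsLocalization (Algebra.algebraMapSubmonoid (integralClosure A K) M)
      (integralClosure R K) :=
    IsLocalization.integralClosure (R := A) (S := K) (Rf := R) (Sf := K) M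
  haveI lm : IsLocalizedModule M
      (IsScalarTower.toAlgHom A (integralClosure A K) (integralClosure R K)).toLinearMap :=
    isLocalizedModule_iff_isLocalization.mpr locT
  let γ' : B →ₗ[A] integralClosure R K :=
    (IsScalarTower.toAlgHom A (integralClosure A K) (integralClosure R K)).toLinearMap ∘ₗ
      e.toLinearMap
  haveI lm' : IsLocalizedModule M γ' := IsLocalizedModule.of_linearEquiv_right M _ e
  let Φ₀ : N ≃ₗ[A] integralClosure R K := IsLocalizedModule.linearEquiv M γ γ'
  let Φ : N ≃ₗ[R] integralClosure R K :=
    LinearEquiv.extendScalarsOfIsLocalization (R := A) M R (M := N) (N := integralClosure R K) Φ₀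
  refine ⟨Φ, ?_⟩
  change Φ₀ (γ b₁) = 1
  rw [IsLocalizedModule.linearEquiv_apply]
  change (IsScalarTower.toAlgHom A (integralClosure A K) (integralClosure R K)) (e b₁) = 1
  rw [hb₁, map_one]

theorem length_quot_eq_deltaInv
    {A : Type u} [CommRing A] [IsDomain A] {K : Type u} [Field K] [Algebra A K]
    [IsFractionRing A K] (p : Ideal A) [p.IsPrime] {R : Type u} [CommRing R] [IsDomain R]
    [Algebra A R] [IsLocalization.AtPrime R p] [Algebra R K] [IsScalarTower A R K]
    [IsFractionRing R K]
    {B : Type u} [AddCommGroup B] [Module A B] (e : B ≃ₗ[A] integralClosure A K)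
    (b₁ : B) (hb₁ : e b₁ = 1)
    {N : Type u} [AddCommGroup N] [Module A N] [Module R N] [IsScalarTower A R N]
    (γ : B →ₗ[A] N) [IsLocalizedModule p.primeCompl γ] :
    Module.length R (N ⧸ Submodule.span R {γ b₁}) = Curv2.deltaInv R := by
  obtain ⟨Φ, hΦ⟩ := exists_linearEquiv (R := R) p e b₁ hb₁ γ
  -- transport to `FractionRing R`
  let eF : K ≃ₐ[R] FractionRing R := IsLocalization.algEquiv (nonZeroDivisors R) K (FractionRing R)
  let E : integralClosure R K ≃ₐ[R] integralClosure R (FractionRing R) := eF.mapIntegralClosure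
  let Ψ : N ≃ₗ[R] integralClosure R (FractionRing R) := Φ.trans E.toLinearEquiv
  have hΨ : Ψ (γ b₁) = 1 := by
    change E (Φ (γ b₁)) = 1
    rw [hΦ, map_one]
  have hmap : (Submodule.span R {γ b₁}).map (Ψ : N →ₗ[R] integralClosure R (FractionRing R)) =
      LinearMap.range (Algebra.linearMap R (integralClosure R (FractionRing R))) := by
    rw [Submodule.map_span, Set.image_singleton]
    change Submodule.span R {Ψ (γ b₁)} = _
    rw [hΨ, ← Submodule.one_eq_span, Submodule.one_eq_range]
  unfold Curv2.deltaInv
  exact (Submodule.Quotient.equiv _ _ Ψ hmap).length_eq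

/-- the δ-invariant of a field is zero -/
theorem deltaInv_eq_zero_of_isField {R : Type u} [CommRing R] (hR : IsField R) :
    Curv2.deltaInv R = 0 := by
  letI := hR.toField
  unfold Curv2.deltaInv
  rw [Module.length_eq_zero_iff]
  refine ⟨fun a b => ?_⟩
  obtain ⟨a, rfl⟩ := Submodule.Quotient.mk_surjective _ a
  obtain ⟨b, rfl⟩ := Submodule.Quotient.mk_surjective _ b
  have hsurj : ∀ x : integralClosure R (FractionRing R),
      x ∈ LinearMap.range (Algebra.linearMap R (integralClosure R (FractionRing R))) := by
    intro x
    obtain ⟨r, hr⟩ := (IsFractionRing.surjective_iff_isField (R := R) (K := FractionRing R)).mpr hR x.1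
    exact ⟨r, Subtype.ext hr⟩
  rw [Submodule.Quotient.eq]
  exact hsurj _

end Groth.Agent.Lib.helper8.DeltaAlg
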