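import Mathlib

/-!
# A dimension-one local ring that is integrally closed in an overring where a parameter becomes
invertible is a discrete valuation ring (helper8)

* `exists_notMem_mul_eq_zero`: in a reduced ring an element of a minimal prime `q` is killed by an
  element outside `q`.
* `mem_range_of_isIntegral_localization`: "integrally closed in" passes to localizations.
* `isDVR_of_local`: `R` Noetherian local of dimension `≤ 1`, `ψ : R → S` injective with integrally
  closed image, `S` reduced, `t ∈ 𝔪` with `ψ t` a unit. Then `R` is a DVR.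
* `isDVR_localization`: the global version used for the relative normalization (Stacks 0BAK-style).
-/

set_option autoImplicit false

namespace Groth.Agent.Lib.helper8.DvrNorm

open Polynomial IsLocalRing

/-- In a reduced ring, an element of a minimal prime `q` is killed by some element outside `q`. -/
theorem exists_notMem_mul_eq_zero {R : Type*} [CommRing R] [IsReduced R] {q : Ideal R}
    (hq : q ∈ minimalPrimes R) {a : R} (ha : a ∈ q) : ∃ s, s ∉ q ∧ s * a = 0 := by
  by_contra hcon
  push Not at hcon
  haveI : q.IsPrime := hq.1.1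
  let N : Submonoid R := q.primeCompl ⊔ Submonoid.powers a
  have hN : Disjoint (((⊥ : Ideal R) : Set R)) (N : Set R) := by
    rw [Set.disjoint_left]
    intro x hx hxN
    have hx0 : x = 0 := hx
    subst hx0
    obtain ⟨s, hs, z, ⟨n, rfl⟩, hsz⟩ := Submonoid.mem_sup.mp hxN
    have h1 : (s * a) ^ (n + 1) = 0 := by
      calc (s * a) ^ (n + 1) = s ^ n * a * (s * a ^ n) := by ring
        _ = 0 := by rw [hsz, mul_zero]
    exact hcon s hs (IsNilpotent.eq_zero ⟨n + 1, h1⟩)
  obtain ⟨q', hq'prime, -, hq'N⟩ := Ideal.exists_le_prime_disjoint ⊥ N hN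
  have hq'q : q' ≤ q := by
    intro x hx
    by_contra hxq
    exact Set.disjoint_left.mp hq'N hx (Submonoid.mem_sup_left (show x ∈ q.primeCompl from hxq))
  have hqq' : q ≤ q' := hq.2 ⟨hq'prime, bot_le⟩ hq'q
  exact Set.disjoint_left.mp hq'N (hqq' ha) (Submonoid.mem_sup_right (Submonoid.mem_powers a))

/-- "Integrally closed in" passes to localizations at an arbitrary submonoid. -/
theorem mem_range_of_isIntegral_localization {R S R' S' : Type*} [CommRing R] [CommRing S]
    [CommRing R'] [CommRing S'] [Algebra R S] [Algebra R R'] [Algebra S S'] [Algebra R' S']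
    [Algebra R S'] [IsScalarTower R S S'] [IsScalarTower R R' S'] (M : Submonoid R)
    [IsLocalization M R'] [IsLocalization (Algebra.algebraMapSubmonoid S M) S']
    (hcl : ∀ s : S, IsIntegral R s → s ∈ (algebraMap R S).range) (s' : S')
    (hs' : IsIntegral R' s') : s' ∈ (algebraMap R' S').range := by
  obtain ⟨⟨x, _, m₁, hm₁, rfl⟩, e⟩ := IsLocalization.surj (Algebra.algebraMapSubmonoid S M) s'
  simp only [← IsScalarTower.algebraMap_apply] at e
  obtain ⟨⟨m₂, hm₂⟩, hm₂s⟩ := IsIntegral.exists_multiple_integral_of_isLocalization M _ hs'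
  simp only [Submonoid.smul_def, Algebra.smul_def] at hm₂s
  obtain ⟨m₃, hm₃, hm₃s⟩ := IsLocalization.exists_isIntegral_smul_of_isIntegral_map (Sₘ := S')
    M (x := m₂ • x) <| by
      simp only [Algebra.smul_def, map_mul, ← IsScalarTower.algebraMap_apply, ← e, ← mul_assoc]
      exact hm₂s.mul (.algebraMap (Algebra.IsIntegral.isIntegral (R := R) (A := R) _))
  obtain ⟨r, hr⟩ := hcl _ hm₃s
  have hunit : IsUnit (algebraMap R R' (m₁ * m₂ * m₃)) :=
    IsLocalization.map_units R' (⟨m₁ * m₂ * m₃, mul_mem (mul_mem hm₁ hm₂) hm₃⟩ : M)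
  obtain ⟨u, hu⟩ := hunit
  refine ⟨algebraMap R R' r * ↑u⁻¹, ?_⟩
  have hu' : algebraMap R' S' (↑u) = algebraMap R S' (m₁ * m₂ * m₃) := by
    rw [hu, ← IsScalarTower.algebraMap_apply]
  have hunit' : IsUnit (algebraMap R S' (m₁ * m₂ * m₃)) := by
    rw [← hu']; exact (Units.isUnit u).map _
  apply hunit'.mul_right_cancel
  rw [map_mul, mul_assoc, ← hu', ← map_mul, Units.inv_mul, map_one, mul_one,
    ← IsScalarTower.algebraMap_apply, IsScalarTower.algebraMap_apply R S S', hr, hu']
  simp only [Algebra.smul_def, map_mul, ← IsScalarTower.algebraMap_apply, ← e]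
  ring

/-- The local case. -/
theorem isDVR_of_local {R S : Type*} [CommRing R] [CommRing S] [IsNoetherianRing R] [IsLocalRing R]
    [IsReduced S] (ψ : R →+* S) (hinj : Function.Injective ψ)
    (hcl : ∀ s, ψ.IsIntegralElem s → s ∈ ψ.range)
    [hdim : Ring.KrullDimLE 1 R] (t : R) (ht : t ∈ maximalIdeal R) (hu : IsUnit (ψ t)) :
    ∃ _ : IsDomain R, IsDiscreteValuationRing R := by
  classical
  haveI : Nontrivial S := hinj.nontrivial
  haveI : IsReduced R := isReduced_of_injective ψ hinj
  have htz : ∀ n a, t ^ n * a = 0 → a = 0 := by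
    intro n a ha
    apply hinj
    rw [map_zero]
    have h1 : ψ t ^ n * ψ a = 0 := by rw [← map_pow, ← map_mul, ha, map_zero]
    exact ((hu.pow n).mul_right_eq_zero).mp h1
  have ht0 : t ≠ 0 := by
    intro h
    have := htz 1 1 (by simp [h])
    exact one_ne_zero this
  have hidem : ∀ e : R, IsIdempotentElem e → e = 0 ∨ e = 1 := by
    intro e he
    rcases IsLocalRing.isUnit_or_isUnit_one_sub_self e with h | h
    · right
      exact h.mul_left_cancel (by rw [he.eq, mul_one])
    · left
      have h0 : (1 - e) * e = 0 := by rw [sub_mul, one_mul, he.eq, sub_self]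
      exact (h.mul_right_eq_zero).mp h0
  have hclidem : ∀ e : S, IsIdempotentElem e → e = 0 ∨ e = 1 := by
    intro e he
    have hint : ψ.IsIntegralElem e := by
      refine ⟨X ^ 2 - X, monic_X_pow_sub (lt_of_le_of_lt degree_X_le (by norm_num)), ?_⟩
      simp only [eval₂_sub, eval₂_pow, eval₂_X]
      rw [pow_two, he.eq, sub_self]
    obtain ⟨e', rfl⟩ := hcl e hint
    have he' : IsIdempotentElem e' := by
      apply hinj
      rw [map_mul]
      exact he
    rcases hidem e' he' with h | h
    · left; rw [h, map_zero]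
    · right; rw [h, map_one]
  have key : ∀ a : R, a = 0 ∨ ∃ n c, t ^ n = a * c := by
    intro a
    by_cases ha0 : a = 0
    · exact Or.inl ha0
    right
    let J : Ideal R := Ideal.span {a} ⊔ LinearMap.ker (LinearMap.mulLeft R a)
    have hJ : ¬ Disjoint (J : Set R) (Submonoid.powers t : Set R) := by
      intro hdis
      obtain ⟨q, hqp, hJq, hqt⟩ := Ideal.exists_le_prime_disjoint J (Submonoid.powers t) hdis
      have htq : t ∉ q := fun h => Set.disjoint_left.mp hqt h (Submonoid.mem_powers t)
      have haq : a ∈ q := hJq (Ideal.mem_sup_left (Ideal.mem_span_singleton_self a))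
      rcases Ring.krullDimLE_one_iff.mp hdim q hqp with hmin | hmax
      · obtain ⟨s, hsq, hsa⟩ := exists_notMem_mul_eq_zero hmin haq
        apply hsq
        apply hJq
        apply Ideal.mem_sup_right
        rw [LinearMap.mem_ker, LinearMap.mulLeft_apply, mul_comm]
        exact hsa
      · rw [IsLocalRing.eq_maximalIdeal hmax] at htq
        exact htq ht
    rw [Set.not_disjoint_iff] at hJ
    obtain ⟨x, hxJ, n, hn⟩ := hJ
    have hn' : t ^ n = x := hn
    subst hn'
    obtain ⟨y, hy, b, hb, hyb⟩ := Submodule.mem_sup.mp hxJ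
    obtain ⟨c, rfl⟩ := Ideal.mem_span_singleton'.mp hy
    have hab : a * b = 0 := by
      have := LinearMap.mem_ker.mp hb
      rwa [LinearMap.mulLeft_apply] at this
    obtain ⟨w, hw⟩ := (hu.pow n).exists_right_inv
    have hsq : ψ (c * a) * ψ (c * a) = ψ (c * a) * ψ t ^ n := by
      rw [← map_pow, ← map_mul, ← map_mul]
      congr 1
      rw [← hyb]
      have : c * a * (c * a + b) = c * a * (c * a) + c * (a * b) := by ring
      rw [this, hab, mul_zero, add_zero]
    have he_idem : IsIdempotentElem (ψ (c * a) * w) := by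
      change ψ (c * a) * w * (ψ (c * a) * w) = ψ (c * a) * w
      calc ψ (c * a) * w * (ψ (c * a) * w) = (ψ (c * a) * ψ (c * a)) * w * w := by ring
        _ = ψ (c * a) * (ψ t ^ n * w) * w := by rw [hsq]; ring
        _ = ψ (c * a) * w := by rw [hw, mul_one]
    have hback : ψ (c * a) * w * ψ t ^ n = ψ (c * a) := by
      calc ψ (c * a) * w * ψ t ^ n = ψ (c * a) * (ψ t ^ n * w) := by ring
        _ = ψ (c * a) := by rw [hw, mul_one]
    rcases hclidem _ he_idem with h0 | h1
    · exfalso
      have h2 : ψ (c * a) = 0 := by rw [← hback, h0, zero_mul]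
      have hca : c * a = 0 := hinj (by rw [h2, map_zero])
      have h3 : t ^ n * a = 0 := by
        rw [← hyb, hca, zero_add, mul_comm]
        exact hab
      exact ha0 (htz n a h3)
    · refine ⟨n, c, ?_⟩
      have h2 : ψ (c * a) = ψ (t ^ n) := by rw [← hback, h1, one_mul, map_pow]
      rw [mul_comm]
      exact (hinj h2).symm
  have hnzd : NoZeroDivisors R := by
    refine ⟨fun {a b} hab => ?_⟩
    rcases key a with ha | ⟨n, c, hn⟩
    · exact Or.inl ha
    rcases key b with hb | ⟨m, d, hm⟩
    · exact Or.inr hb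
    exfalso
    have h1 : t ^ (n + m) * 1 = 0 := by
      rw [mul_one, pow_add, hn, hm]
      calc a * c * (b * d) = (a * b) * (c * d) := by ring
        _ = 0 := by rw [hab, zero_mul]
    exact one_ne_zero (htz _ _ h1)
  have hdom : IsDomain R := NoZeroDivisors.to_isDomain R
  haveI := hdom
  have hunit : ∀ a : R, a ≠ 0 → IsUnit (ψ a) := by
    intro a ha
    rcases key a with h | ⟨n, c, h⟩
    · exact absurd h ha
    · have h1 : IsUnit (ψ a * ψ c) := by
        rw [← map_mul, ← h, map_pow]
        exact hu.pow n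
      exact isUnit_of_mul_isUnit_left h1
  let K := FractionRing R
  let σ : K →+* S := IsLocalization.lift (M := nonZeroDivisors R) (g := ψ)
    (fun y => hunit y (nonZeroDivisors.ne_zero y.2))
  have hσ : ∀ r, σ (algebraMap R K r) = ψ r := fun r => IsLocalization.lift_eq _ r
  have hσinj : Function.Injective σ := σ.injective
  have hic : IsIntegrallyClosed R := by
    refine (isIntegrallyClosed_iff K).mpr ?_
    intro x hx
    have h1 : ψ.IsIntegralElem (σ x) := by
      obtain ⟨p, hp, hpx⟩ := hx
      refine ⟨p, hp, ?_⟩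
      have h2 : ψ = σ.comp (algebraMap R K) := by
        ext r
        exact (hσ r).symm
      rw [h2, ← Polynomial.hom_eval₂, hpx, map_zero]
    obtain ⟨r, hr⟩ := hcl _ h1
    exact ⟨r, hσinj (by rw [hσ, hr])⟩
  have hmax0 : maximalIdeal R ≠ ⊥ := by
    intro h
    rw [h] at ht
    exact ht0 ht
  have hnf : ¬ IsField R := fun hf => hmax0 (IsLocalRing.isField_iff_maximalIdeal_eq.mp hf)
  refine ⟨hdom, ?_⟩
  have h4 : IsIntegrallyClosed R ∧ ∃! P : Ideal R, P ≠ ⊥ ∧ P.IsPrime := by
    refine ⟨hic, maximalIdeal R, ⟨hmax0, inferInstance⟩, ?_⟩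
    rintro P ⟨hP0, hPp⟩
    rcases Ring.krullDimLE_one_iff.mp hdim P hPp with hmin | hmax
    · exfalso
      have h1 : P ≤ ⊥ := hmin.2 ⟨Ideal.isPrime_bot, le_rfl⟩ bot_le
      exact hP0 (le_bot_iff.mp h1)
    · exact IsLocalRing.eq_maximalIdeal hmax
  exact ((IsDiscreteValuationRing.TFAE R hnf).out 3 0).mp h4


/-- The global version: `A` Noetherian, `ψ : A → B` injective with integrally closed image, `B` reduced,
`p` a prime of `A` with `dim A_p = 1`, such that for every `t` for which `p` is the only prime below `p`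
containing `t`, there is `s ∉ p` with `ψ s ∈ ψ t • B` ("the fibre over `p` is empty"). Then `A_p` is a
discrete valuation ring. -/
theorem isDVR_localization {A B R : Type*} [CommRing A] [CommRing B] [CommRing R]
    [IsNoetherianRing A] [IsReduced B]
    (ψ : A →+* B) (hinj : Function.Injective ψ) (hcl : ∀ s, ψ.IsIntegralElem s → s ∈ ψ.range)
    (p : Ideal A) [hp : p.IsPrime] [Algebra A R] [IsLocalization.AtPrime R p]
    (hdim : ringKrullDim R = 1)
    (hfib : ∀ t : A, (∀ q : Ideal A, q.IsPrime → q ≤ p → t ∈ q → q = p) →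
      ∃ s, s ∉ p ∧ ∃ b, ψ t * b = ψ s) :
    ∃ _ : IsDomain R, IsDiscreteValuationRing R := by
  classical
  haveI hloc : IsLocalRing R := IsLocalization.AtPrime.isLocalRing R p
  haveI : IsNoetherianRing R := IsLocalization.isNoetherianRing p.primeCompl R inferInstance
  haveI hdimle : Ring.KrullDimLE 1 R := Ring.krullDimLE_iff.mpr (by rw [hdim]; exact le_rfl)
  -- `p` is not a minimal prime
  have hpmin : p ∉ minimalPrimes A := by
    intro hmin
    haveI := IsLocalization.subsingleton_primeSpectrum_of_mem_minimalPrimes p hmin R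
    have h1 : ringKrullDim R ≤ 0 := Order.krullDim_nonpos_of_subsingleton
    rw [hdim] at h1
    exact absurd h1 (by decide)
  -- prime avoidance
  have hfin : (minimalPrimes A).Finite := minimalPrimes.finite_of_isNoetherianRing A
  have havoid : ¬ ((p : Set A) ⊆ ⋃ q ∈ (hfin.toFinset : Set (Ideal A)), (q : Set A)) := by
    intro hsub
    have h1 := (Ideal.subset_union_prime (s := hfin.toFinset) (f := fun q : Ideal A => q) ⊥ ⊥
      (fun q hq _ _ => ((hfin.mem_toFinset).mp hq).1.1)).mp hsub
    obtain ⟨q, hq, hpq⟩ := h1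
    have hq' : q ∈ minimalPrimes A := (hfin.mem_toFinset).mp hq
    have hqp : q ≤ p := hq'.2 ⟨hp, bot_le⟩ hpq
    exact hpmin ((le_antisymm hpq hqp) ▸ hq')
  rw [Set.not_subset] at havoid
  obtain ⟨t, htp, htmin⟩ := havoid
  have htmin' : ∀ q ∈ minimalPrimes A, t ∉ q := by
    intro q hq htq
    apply htmin
    simp only [Set.mem_iUnion]
    exact ⟨q, by simpa using hq, htq⟩
  -- the hypothesis of `hfib` for `t`
  have htfib : ∀ q : Ideal A, q.IsPrime → q ≤ p → t ∈ q → q = p := by
    intro q hqprime hqp htq
    by_contra hne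
    haveI := hqprime
    have hQprime : (q.map (algebraMap A R)).IsPrime := Ideal.isPrime_map_of_isLocalizationAtPrime p hqp
    have hQunder : (q.map (algebraMap A R)).under A = q :=
      Ideal.under_map_of_isLocalizationAtPrime p hqp
    rcases Ring.krullDimLE_one_iff.mp hdimle _ hQprime with hmin | hmax
    · -- then `q` is a minimal prime of `A`
      apply htmin' q _ htq
      refine ⟨⟨hqprime, bot_le⟩, ?_⟩
      rintro q' ⟨hq'prime, -⟩ hq'q
      haveI := hq'prime
      have hq'p : q' ≤ p := hq'q.trans hqp
      have hQ'prime : (q'.map (algebraMap A R)).IsPrime :=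
        Ideal.isPrime_map_of_isLocalizationAtPrime p hq'p
      have hQ'under : (q'.map (algebraMap A R)).under A = q' :=
        Ideal.under_map_of_isLocalizationAtPrime p hq'p
      have h1 : q.map (algebraMap A R) ≤ q'.map (algebraMap A R) :=
        hmin.2 ⟨hQ'prime, bot_le⟩ (Ideal.map_mono hq'q)
      rw [← hQunder, ← hQ'under]
      exact Ideal.comap_mono h1
    · apply hne
      rw [← hQunder, IsLocalRing.eq_maximalIdeal hmax]
      exact IsLocalization.AtPrime.under_maximalIdeal R p
  obtain ⟨s, hsp, b, hb⟩ := hfib t htfib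
  -- localize `B`
  letI algAB : Algebra A B := ψ.toAlgebra
  let S' := Localization (Algebra.algebraMapSubmonoid B p.primeCompl)
  letI algRS : Algebra R S' := localizationAlgebra p.primeCompl B
  haveI : IsScalarTower A R S' := isScalarTower_localizationAlgebra p.primeCompl B
  have hinj' : Function.Injective (algebraMap R S') :=
    localizationAlgebra_injective R S' hinj
  have hcl' : ∀ s' : S', (algebraMap R S').IsIntegralElem s' → s' ∈ (algebraMap R S').range := by
    intro s' hs'
    exact mem_range_of_isIntegral_localization (R := A) (S := B) (R' := R) (S' := S')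
      p.primeCompl (fun x hx => hcl x hx) s' hs'
  have htmax : algebraMap A R t ∈ maximalIdeal R :=
    (IsLocalization.AtPrime.to_map_mem_maximal_iff R p t).mpr htp
  have hunit : IsUnit (algebraMap R S' (algebraMap A R t)) := by
    rw [← IsScalarTower.algebraMap_apply, IsScalarTower.algebraMap_apply A B S']
    have h1 : IsUnit (algebraMap B S' (ψ s)) :=
      IsLocalization.map_units S' (⟨ψ s, ⟨s, hsp, rfl⟩⟩ : Algebra.algebraMapSubmonoid B p.primeCompl)
    have h2 : algebraMap B S' (algebraMap A B t) * algebraMap B S' b = algebraMap B S' (ψ s) := by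
      rw [← map_mul]
      congr 1
    rw [← h2] at h1
    exact isUnit_of_mul_isUnit_left h1
  exact isDVR_of_local (algebraMap R S') hinj' hcl' (algebraMap A R t) htmax hunit

end Groth.Agent.Lib.helper8.DvrNorm
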