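import Mathlib

/-!
# Surjective morphisms with `O_Y → f_* O_X` injective are epimorphisms of schemes (helper8)
-/

set_option autoImplicit false
universe u
open CategoryTheory CategoryTheory.Limits AlgebraicGeometry Opposite TopologicalSpace

namespace Groth.Agent.Lib.helper8.EpiFib

variable {X Y : Scheme.{u}}

lemma map_map_self {V W : (Opens X)ᵒᵖ} (p : V ⟶ W) (q : W ⟶ V) (t : X.presheaf.obj V) :
    (X.presheaf.map q).hom ((X.presheaf.map p).hom t) = t := by
  rw [← CommRingCat.comp_apply, ← CategoryTheory.Functor.map_comp,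
    Subsingleton.elim (p ≫ q) (𝟙 V), CategoryTheory.Functor.map_id]
  rfl

theorem epi_of_surjective_of_injective (f : X ⟶ Y) (hs : Function.Surjective f)
    (hinj : ∀ U : Y.Opens, Function.Injective (f.app U).hom) : Epi f := by
  constructor
  intro Z a b hab
  have hbase : a.base = b.base := by
    ext y
    obtain ⟨x, rfl⟩ := hs y
    have : (f ≫ a) x = (f ≫ b) x := by rw [hab]
    exact this
  refine Scheme.Hom.ext hbase (fun U => ?_)
  ext s
  apply hinj (b ⁻¹ᵁ U)
  have h1 := Scheme.Hom.congr_app hab U
  rw [Scheme.Hom.comp_app, Scheme.Hom.comp_app] at h1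
  have h1' := congr($(h1).hom s)
  have h2 := f.naturality (eqToHom congr((Opens.map $hbase.symm).obj U)).op
  have h2' := congr($(h2).hom ((a.app U).hom s))
  simp only [CommRingCat.comp_apply] at h1' h2' ⊢
  rw [h2', h1']
  exact map_map_self _ _ _

end Groth.Agent.Lib.helper8.EpiFib
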