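import Mathlib
import Groth.Agent.Lib.Helper8.EtaleEuler
import Groth.Agent.Lib.Helper18.DegCalc
import Groth.Agent.Lib.Helper18.ProjFormulaLF
import Groth.Agent.Lib.Helper8.FiniteGeneric
import Groth.Agent.Lib.Lead.GrothVanish
import Groth.Agent.Lib.Helper18.HHEuler
import Groth.Agent.S10865

/-!
# Euler characteristic of a finite étale cover of a proper scheme, any dimension (helper8)

* `exists_splitting_finSucc`: `⨁_{Fin (d+1)} f` is split by `f 0` and `⨁_{Fin d} f ∘ succ`.
* `additive_biproduct`: an additive invariant `Ψ` of coherent modules has `Ψ(F^{⊕ d}) = d Ψ(F)`.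
* `shortExact_tensorLeft_of_splitting`: `A ⊗ −` of a split short complex is short exact.
* `euler_tensor_pushO`: for `f : X ⟶ Y` finite étale of constant rank `n ≥ 1` onto a nonempty proper
  `k`-scheme and `F` coherent on `Y`: **`χ(Y, F ⊗ f_* O_X) = n χ(Y, F)`** (Mumford's argument: induction on
  `n` through `X ×_Y X = Δ ⊔ D'`, and dévissage `S10865` on `Y`).
* `euler_of_finite_etale`: **`χ(O_X) = n χ(O_Y)`**.
-/

set_option autoImplicit false
set_option linter.style.haveILetI false
universe u
open CategoryTheory CategoryTheory.Limits AlgebraicGeometry TopologicalSpace Opposite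
open Groth.Agent.Lib.helper2.ModSec
open Groth.Agent.Lib.Lead.ModTensor Groth.Agent.Lib.Helper21.TensorAdj
open Groth.Agent.Lib.Helper21.TensorMon

namespace Groth.Agent.Lib.helper8.EtaleEulerN

attribute [local instance] Abelian.hasFiniteBiproducts

section FinSucc

variable {C : Type*} [Category C] [Preadditive C] [HasFiniteBiproducts C]

/-- `⨁_{Fin (d+1)} f` is split by `f 0` and `⨁_{Fin d} f ∘ succ` -/
theorem exists_splitting_finSucc {d : ℕ} (f : Fin (d + 1) → C) :
    ∃ (p : ⨁ f ⟶ ⨁ (fun k : Fin d => f k.succ)) (w : biproduct.ι f 0 ≫ p = 0),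
      Nonempty (ShortComplex.mk (biproduct.ι f 0) p w).Splitting := by
  classical
  let g : Fin d → C := fun k => f k.succ
  let p : ⨁ f ⟶ ⨁ g := biproduct.lift (fun k => biproduct.π f k.succ)
  let s : ⨁ g ⟶ ⨁ f := biproduct.desc (fun k => biproduct.ι f k.succ)
  have hsp : s ≫ p = 𝟙 _ := by
    apply biproduct.hom_ext
    intro l
    apply biproduct.hom_ext'
    intro k
    simp only [s, p, Category.assoc, biproduct.lift_π, biproduct.ι_desc_assoc, Category.id_comp]
    rw [biproduct.ι_π, biproduct.ι_π]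
    by_cases h : k = l
    · subst h
      simp only [dif_pos]
    · have h' : k.succ ≠ l.succ := fun e => h (Fin.succ_injective _ e)
      simp [h, h']
  have h0p : biproduct.ι f 0 ≫ p = 0 := by
    apply biproduct.hom_ext
    intro l
    simp only [p, Category.assoc, biproduct.lift_π, zero_comp]
    rw [biproduct.ι_π_ne]
    exact (Fin.succ_ne_zero l).symm
  have hid : biproduct.π f 0 ≫ biproduct.ι f 0 + p ≫ s = 𝟙 _ := by
    apply biproduct.hom_ext'
    intro m
    apply biproduct.hom_ext
    intro n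
    simp only [Preadditive.comp_add, Preadditive.add_comp, Category.assoc, Category.comp_id]
    refine Fin.cases ?_ (fun m' => ?_) m
    · rw [biproduct.ι_π_self_assoc, ← Category.assoc (biproduct.ι f 0) p, h0p]
      simp
    · rw [biproduct.ι_π_ne_assoc _ (Fin.succ_ne_zero m')]
      simp only [zero_comp, zero_add, p, s]
      rw [← Category.assoc, ← Category.assoc]
      have : (biproduct.ι f m'.succ ≫ biproduct.lift fun k : Fin d => biproduct.π f k.succ) =
          biproduct.ι g m' := by
        apply biproduct.hom_ext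
        intro l
        simp only [Category.assoc, biproduct.lift_π]
        rw [biproduct.ι_π, biproduct.ι_π]
        by_cases h : m' = l
        · subst h
          simp only [dif_pos]
        · have h' : m'.succ ≠ l.succ := fun e => h (Fin.succ_injective _ e)
          simp [h, h']
      rw [this, biproduct.ι_desc]
  exact ⟨p, h0p, ⟨{ r := biproduct.π f 0
                    s := s
                    f_r := biproduct.ι_π_self f 0
                    s_g := hsp
                    id := hid }⟩⟩

end FinSucc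

section Additive

variable {X : Scheme.{u}}

/-- an additive invariant of coherent modules is multiplicative on `F^{⊕ d}` -/
theorem additive_biproduct (Ψ : X.Modules → ℤ)
    (hΨ : ∀ S : ShortComplex X.Modules, S.ShortExact → Coh.IsCoh S.X₁ → Coh.IsCoh S.X₃ →
      Ψ S.X₂ = Ψ S.X₁ + Ψ S.X₃) (F : X.Modules) (hF : Coh.IsCoh F) (d : ℕ) :
    Ψ (⨁ fun _ : Fin d => F) = d * Ψ F := by
  induction d with
  | zero =>
    have hz : IsZero (⨁ fun _ : Fin 0 => F) := by
      rw [IsZero.iff_id_eq_zero]
      apply biproduct.hom_ext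
      intro k
      exact k.elim0
    generalize (⨁ fun _ : Fin 0 => F) = N at hz
    let T : ShortComplex X.Modules := ShortComplex.mk (𝟙 N) (𝟙 N) (hz.eq_of_src _ _)
    have hsplit : T.Splitting :=
      { r := 𝟙 N
        s := 𝟙 N
        f_r := Category.comp_id _
        s_g := Category.comp_id _
        id := hz.eq_of_src _ _ }
    have hc := Groth.Agent.Lib.helper7.CohKer.isCoh_of_isZero hz
    have h := hΨ T hsplit.shortExact hc hc
    change Ψ N = Ψ N + Ψ N at h
    simp only [Nat.cast_zero, zero_mul]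
    linarith
  | succ d ih =>
    obtain ⟨p, w, ⟨spl⟩⟩ := exists_splitting_finSucc (fun _ : Fin (d + 1) => F)
    have h := hΨ _ spl.shortExact hF
      (Groth.Agent.Lib.helper8.Dev.isCoh_biproduct _ (fun _ => hF))
    change Ψ (⨁ fun _ : Fin (d + 1) => F) = Ψ F + Ψ (⨁ fun _ : Fin d => F) at h
    rw [h, ih]
    push_cast
    ring

/-- `A ⊗ −` of a split short complex is short exact -/
theorem shortExact_tensorLeft_of_splitting (A : X.Modules)
    (S : ShortComplex X.Modules) (spl : S.Splitting) :
    ∃ w, (ShortComplex.mk (tensorMap (𝟙 A) S.f) (tensorMap (𝟙 A) S.g) w).ShortExact := by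
  haveI := Groth.Agent.Lib.Helper21.FlatSES.additive_tensL (O := X.sheaf) A
  let S' : ShortComplex (ModSite.Mod X.sheaf) := S
  have spl' : S'.Splitting := spl
  exact ⟨(S'.map (tensL X.sheaf A)).zero, (spl'.map (tensL X.sheaf A)).shortExact⟩

end Additive

section Key

variable (k : Type u) [Field k]

open Groth.Agent.Lib.helper8.EtaleEuler

/-- the statement `χ(Y, F ⊗ f_* O_X) = (n + 1) χ(Y, F)` for all finite étale `f` of rank `n + 1` -/
def Stmt (n : ℕ) : Prop :=
  ∀ {X Y : Scheme.{u}} [X.Over (Spec (CommRingCat.of k))] [Y.Over (Spec (CommRingCat.of k))]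
    [IsProper (Y ↘ Spec (CommRingCat.of k))] [Nonempty Y] (f : X ⟶ Y) [IsFinite f] [Etale f]
    (_ : f ≫ (Y ↘ Spec (CommRingCat.of k)) = X ↘ Spec (CommRingCat.of k))
    (_ : ∀ y, f.finrank y = n + 1) (F : Y.Modules) (_ : Coh.IsCoh F),
    Curv2.euler k Y (CohB1.tensorMod F
      ((Scheme.Modules.pushforward f).obj (Coh.structureModule X))) =
      ((n : ℤ) + 1) * Curv2.euler k Y F

theorem isIso_unitToPush_of_isIso {A B : Scheme.{u}} (e : A ⟶ B) [IsIso e] :
    IsIso (ClSub.unitToPush e) := by
  rw [isIso_iff_bijective_app]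
  intro U
  exact ConcreteCategory.bijective_of_isIso (e.app U)

/-- the split short complex `0 → (D.ι)_* O_D → O_W → (D'.ι)_* O_D' → 0` -/
theorem exists_splitting_of_isCompl {W : Scheme.{u}} (D D' : W.Opens) (hc : IsCompl D D') :
    ∃ (a : pO D ⟶ Coh.structureModule W) (b : Coh.structureModule W ⟶ pO D') (w : a ≫ b = 0),
      Nonempty (ShortComplex.mk a b w).Splitting := by
  haveI hiso := isIso_decomp D D' hc
  let e3 : Coh.structureModule W ≅ pO D ⊞ pO D' := asIso (decomp D D')
  refine ⟨(biprod.inl : pO D ⟶ pO D ⊞ pO D') ≫ e3.inv,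
    e3.hom ≫ (biprod.snd : pO D ⊞ pO D' ⟶ pO D'),
    by rw [Category.assoc, Iso.inv_hom_id_assoc, biprod.inl_snd], ⟨?_⟩⟩
  exact
    { r := e3.hom ≫ biprod.fst
      s := biprod.inr ≫ e3.inv
      f_r := by
        change (biprod.inl ≫ e3.inv) ≫ e3.hom ≫ biprod.fst = 𝟙 _
        rw [Category.assoc, Iso.inv_hom_id_assoc, biprod.inl_fst]
      s_g := by
        change (biprod.inr ≫ e3.inv) ≫ e3.hom ≫ biprod.snd = 𝟙 _
        rw [Category.assoc, Iso.inv_hom_id_assoc, biprod.inr_snd]
      id := by
        change (e3.hom ≫ biprod.fst) ≫ biprod.inl ≫ e3.inv +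
          (e3.hom ≫ biprod.snd) ≫ biprod.inr ≫ e3.inv = 𝟙 _
        have : (e3.hom ≫ biprod.fst) ≫ biprod.inl ≫ e3.inv +
            (e3.hom ≫ biprod.snd) ≫ biprod.inr ≫ e3.inv =
            e3.hom ≫ (biprod.fst ≫ biprod.inl + biprod.snd ≫ biprod.inr) ≫ e3.inv := by
          simp only [Preadditive.comp_add, Preadditive.add_comp, Category.assoc]
        rw [this, biprod.total, Category.id_comp, Iso.hom_inv_id] }

/-- `χ(X, A ⊗ q_* O_W) = χ(X, A ⊗ (D.ι ≫ q)_* O_D) + χ(X, A ⊗ (D'.ι ≫ q)_* O_D')` -/
theorem euler_tensor_push_of_isCompl {X W : Scheme.{u}} [X.Over (Spec (CommRingCat.of k))]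
    [IsProper (X ↘ Spec (CommRingCat.of k))] (q : W ⟶ X) [IsFinite q]
    (D D' : W.Opens) (hc : IsCompl D D') (A : X.Modules) (hA : Coh.IsCoh A) :
    Curv2.euler k X (CohB1.tensorMod A
        ((Scheme.Modules.pushforward q).obj (Coh.structureModule W))) =
      Curv2.euler k X (CohB1.tensorMod A
        ((Scheme.Modules.pushforward (D.ι ≫ q)).obj (Coh.structureModule ↑D))) +
      Curv2.euler k X (CohB1.tensorMod A
        ((Scheme.Modules.pushforward (D'.ι ≫ q)).obj (Coh.structureModule ↑D'))) := by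
  haveI : IsClosedImmersion D.ι :=
    Groth.Agent.H1.FibRank.isClosedImmersion_ι_of_isCompl D D' hc
  haveI : IsClosedImmersion D'.ι :=
    Groth.Agent.H1.FibRank.isClosedImmersion_ι_of_isCompl D' D hc.symm
  obtain ⟨a, b, w₀, ⟨spl₀⟩⟩ := exists_splitting_of_isCompl D D' hc
  have spl₁ := spl₀.map (Scheme.Modules.pushforward q)
  obtain ⟨w, hw⟩ := shortExact_tensorLeft_of_splitting A _ spl₁
  have hcD : Coh.IsCoh ((Scheme.Modules.pushforward q).obj (pO D)) :=
    Groth.Agent.Lib.helper16.FinPushCoh.isCoh_push_of_isFinite q _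
      (Groth.Agent.Lib.helper16.FinPushCoh.isCoh_push_of_isFinite D.ι _
        (Groth.Agent.Lib.helper8.Dev.isCoh_structureModule _))
  have hcD' : Coh.IsCoh ((Scheme.Modules.pushforward q).obj (pO D')) :=
    Groth.Agent.Lib.helper16.FinPushCoh.isCoh_push_of_isFinite q _
      (Groth.Agent.Lib.helper16.FinPushCoh.isCoh_push_of_isFinite D'.ι _
        (Groth.Agent.Lib.helper8.Dev.isCoh_structureModule _))
  have hadd : Curv2.euler k X (CohB1.tensorMod A
        ((Scheme.Modules.pushforward q).obj (Coh.structureModule W))) =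
      Curv2.euler k X (CohB1.tensorMod A ((Scheme.Modules.pushforward q).obj (pO D))) +
        Curv2.euler k X (CohB1.tensorMod A ((Scheme.Modules.pushforward q).obj (pO D'))) := by
    have hc1 := Groth.Agent.Lib.Helper18.DegCalc.isCoh_tensorMod hA hcD
    have hc2 := Groth.Agent.Lib.Helper18.DegCalc.isCoh_tensorMod hA hcD'
    have := Groth.Agent.Lib.Lead.ProperEuler.euler_additive k hw hc1 hc2
    exact this
  have h3 := Groth.Agent.Lib.Lead.CurveEuler.euler_eq_of_iso k X (tensorIso (Iso.refl A)
    ((Scheme.Modules.pushforwardComp D.ι q).app (Coh.structureModule ↑D)))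
  have h4 := Groth.Agent.Lib.Lead.CurveEuler.euler_eq_of_iso k X (tensorIso (Iso.refl A)
    ((Scheme.Modules.pushforwardComp D'.ι q).app (Coh.structureModule ↑D')))
  rw [hadd]
  exact congrArg₂ (· + ·) h3 h4

/-- `χ(X, A ⊗ e_* O_D) = χ(X, A)` for an isomorphism `e : D ⟶ X` -/
theorem euler_tensor_push_of_isIso {X D : Scheme.{u}} [X.Over (Spec (CommRingCat.of k))]
    (e : D ⟶ X) [IsIso e] (A : X.Modules) :
    Curv2.euler k X (CohB1.tensorMod A
        ((Scheme.Modules.pushforward e).obj (Coh.structureModule D))) = Curv2.euler k X A := by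
  haveI := isIso_unitToPush_of_isIso e
  exact Groth.Agent.Lib.Lead.CurveEuler.euler_eq_of_iso k X
    (tensorIso (Iso.refl A) (asIso (ClSub.unitToPush e)).symm ≪≫ rightUnitor A)

/-- the key computation: `χ(Y, f_* A ⊗ f_* O_X) = (n + 2) χ(X, A)` -/
theorem key_step (n : ℕ) (ih : Stmt k n)
    {X Y : Scheme.{u}} [X.Over (Spec (CommRingCat.of k))] [Y.Over (Spec (CommRingCat.of k))]
    [IsProper (Y ↘ Spec (CommRingCat.of k))] [Nonempty Y] (f : X ⟶ Y) [IsFinite f] [Etale f]
    (hf : f ≫ (Y ↘ Spec (CommRingCat.of k)) = X ↘ Spec (CommRingCat.of k))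
    (hn : ∀ y, f.finrank y = n + 1 + 1) (A : X.Modules) (hA : Coh.IsCoh A) :
    Curv2.euler k Y (CohB1.tensorMod ((Scheme.Modules.pushforward f).obj A)
      ((Scheme.Modules.pushforward f).obj (Coh.structureModule X))) =
      ((n : ℤ) + 1 + 1) * Curv2.euler k X A := by
  haveI := Groth.Agent.Lib.Lead.CurveEuler.isNoetherian k Y
  haveI hXp : IsProper (X ↘ Spec (CommRingCat.of k)) := by
    rw [← hf]; infer_instance
  have hsurj : Surjective f := (Scheme.Hom.one_le_finrank_iff_surjective f).mp (fun y => by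
    change 1 ≤ f.finrank y
    rw [hn y]
    omega)
  haveI : Nonempty X := by
    obtain ⟨y⟩ := (inferInstance : Nonempty Y)
    obtain ⟨x, -⟩ := hsurj.surj y
    exact ⟨x⟩
  have hE : FlatMod.IsFinLocFreeOfRank (n + 1 + 1)
      ((Scheme.Modules.pushforward f).obj (Coh.structureModule X)) :=
    isFinLocFreeOfRank_pushO f (n + 1 + 1) hn
  have hEf := Groth.Agent.Lib.helper16.FLF.isFinLocFree_of_isFinLocFreeOfRank hE
  haveI : A.IsQuasicoherent := hA.1
  haveI hq : ((Scheme.Modules.pullback f).obj
      ((Scheme.Modules.pushforward f).obj (Coh.structureModule X))).IsQuasicoherent :=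
    Groth.Agent.Lib.helper16.FLF.isQuasicoherent_of_isFinLocFree _
      (Groth.Agent.Lib.helper16.FLF.isFinLocFree_pullback f hEf)
  haveI : (CohB1.tensorMod A ((Scheme.Modules.pullback f).obj
      ((Scheme.Modules.pushforward f).obj (Coh.structureModule X)))).IsQuasicoherent :=
    Groth.Agent.Lib.helper2.TensorQCoh.isQuasicoherent_tensorMod _ _
  have h1 : Curv2.euler k Y (CohB1.tensorMod ((Scheme.Modules.pushforward f).obj A)
      ((Scheme.Modules.pushforward f).obj (Coh.structureModule X))) =
      Curv2.euler k X (CohB1.tensorMod A ((Scheme.Modules.pullback f).obj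
        ((Scheme.Modules.pushforward f).obj (Coh.structureModule X)))) := by
    rw [Groth.Agent.Lib.Lead.CurveEuler.euler_eq_of_iso k Y
      (Groth.Agent.Lib.Helper18.ProjFormulaLF.projIso f A _ hEf),
      Groth.Agent.Lib.Helper18.PullEuler.euler_push k f hf]
  -- the fibre square
  let q : pullback f f ⟶ X := pullback.snd f f
  let p : pullback f f ⟶ X := pullback.fst f f
  have sq : IsPullback p q f f := IsPullback.of_hasPullback f f
  haveI : IsAffineHom q := MorphismProperty.of_isPullback sq inferInstance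
  obtain ⟨e1⟩ := nonempty_baseChange_iso f f p q sq (Coh.structureModule X)
  let e2 : (Scheme.Modules.pullback f).obj
      ((Scheme.Modules.pushforward f).obj (Coh.structureModule X)) ≅
      (Scheme.Modules.pushforward q).obj (Coh.structureModule (pullback f f)) :=
    e1 ≪≫ (Scheme.Modules.pushforward q).mapIso
      (Groth.Agent.Lib.helper11.InvMod.pullbackUnitIso p)
  have h2 := Groth.Agent.Lib.Lead.CurveEuler.euler_eq_of_iso k X (tensorIso (Iso.refl A) e2)
  -- the diagonal decomposition
  let Δ : X ⟶ pullback f f := pullback.diagonal f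
  haveI : IsOpenImmersion Δ := inferInstance
  haveI : IsClosedImmersion Δ := inferInstance
  let D : (pullback f f).Opens := Δ.opensRange
  let D' : (pullback f f).Opens :=
    ⟨(Set.range Δ)ᶜ, Δ.isClosedEmbedding.isClosed_range.isOpen_compl⟩
  have hc : IsCompl D D' := by
    refine IsCompl.of_eq ?_ ?_
    · ext x
      simp only [D, D', Opens.coe_inf, Scheme.Hom.coe_opensRange, Opens.coe_mk, Opens.coe_bot,
        Set.inter_compl_self]
    · ext x
      simp only [D, D', Opens.coe_sup, Scheme.Hom.coe_opensRange, Opens.coe_mk, Opens.coe_top,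
        Set.union_compl_self]
  have hqf : Groth.Agent.H1.FibRank.FinFib q := Groth.Agent.H1.FibRank.finFib_of_isFinite q
  have hdq : ∀ u', Groth.Agent.H1.FibRank.deg q u' = n + 1 + 1 := fun u' => by
    rw [Groth.Agent.H1.FibRank.deg_eq_finrank, Scheme.Hom.finrank_pullback_snd, hn]
  have hΔq : Δ ≫ q = 𝟙 _ := pullback.diagonal_snd f
  have hDq : D.ι ≫ q = Δ.isoOpensRange.inv := by
    rw [← cancel_epi Δ.isoOpensRange.hom, Iso.hom_inv_id, ← Category.assoc,
      Scheme.Hom.isoOpensRange_hom_ι, hΔq]
  haveI : IsIso (D.ι ≫ q) := by rw [hDq]; infer_instance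
  have hd1 : ∀ u', Groth.Agent.H1.FibRank.deg (D.ι ≫ q) u' = 1 := by
    intro u'
    rw [Groth.Agent.H1.FibRank.deg_eq_finrank, Scheme.Hom.finrank_eq_one_of_isIso]
    rfl
  haveI : IsClosedImmersion D'.ι :=
    Groth.Agent.H1.FibRank.isClosedImmersion_ι_of_isCompl D' D hc.symm
  haveI : IsFinite (D'.ι ≫ q) := inferInstance
  have hd' : ∀ u', (D'.ι ≫ q).finrank u' = n + 1 := by
    intro u'
    have := Groth.Agent.H1.FibRank.deg_add_of_isCompl q hqf D D' hc u'
    rw [hdq, hd1, Groth.Agent.H1.FibRank.deg_eq_finrank] at this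
    omega
  have h3 := euler_tensor_push_of_isCompl k q D D' hc A hA
  have h4 := euler_tensor_push_of_isIso k (D.ι ≫ q) A
  letI instD' : (↑D' : Scheme.{u}).Over (Spec (CommRingCat.of k)) :=
    ⟨(D'.ι ≫ q) ≫ (X ↘ Spec (CommRingCat.of k))⟩
  have h5 := ih (D'.ι ≫ q) rfl hd' A hA
  rw [h1, h2, h3, h4, h5]
  ring

/-- the inductive step -/
theorem stmt_succ (n : ℕ) (ih : Stmt k n) : Stmt k (n + 1) := by
  intro X Y _ _ _ _ f _ _ hf hn F hF
  haveI := Groth.Agent.Lib.Lead.CurveEuler.isNoetherian k Y
  haveI hXp : IsProper (X ↘ Spec (CommRingCat.of k)) := by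
    rw [← hf]; infer_instance
  have hE : FlatMod.IsFinLocFreeOfRank (n + 1 + 1)
      ((Scheme.Modules.pushforward f).obj (Coh.structureModule X)) :=
    isFinLocFreeOfRank_pushO f (n + 1 + 1) hn
  let Ψ : Y.Modules → ℤ := fun G =>
    Curv2.euler k Y (CohB1.tensorMod G
      ((Scheme.Modules.pushforward f).obj (Coh.structureModule X))) -
      ((n : ℤ) + 1 + 1) * Curv2.euler k Y G
  have hΨ : ∀ S : ShortComplex Y.Modules, S.ShortExact → Coh.IsCoh S.X₁ → Coh.IsCoh S.X₃ →
      Ψ S.X₂ = Ψ S.X₁ + Ψ S.X₃ := by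
    intro S hS h1 h3
    have e1 := Groth.Agent.Lib.Helper18.DegCalc.euler_tensor_additive k Y S hS h1 h3 hE
    have e3 := Groth.Agent.Lib.Lead.ProperEuler.euler_additive k hS h1 h3
    simp only [Ψ]
    rw [e1, e3]
    ring
  have hΨiso : ∀ {G G' : Y.Modules}, (G ≅ G') → Ψ G = Ψ G' := by
    intro G G' e
    simp only [Ψ]
    rw [Groth.Agent.Lib.Lead.CurveEuler.euler_eq_of_iso k Y (tensorIso e (Iso.refl _)),
      Groth.Agent.Lib.Lead.CurveEuler.euler_eq_of_iso k Y e]
  let K : ObjectProperty Y.Modules := fun G => Ψ G = 0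
  haveI : K.IsClosedUnderIsomorphisms := ⟨fun {G G'} e hG => by
    change Ψ G' = 0
    rw [← hΨiso e]
    exact hG⟩
  have hK : K F := by
    refine Groth.Agent.S10865.result Y K ?_ ?_ ?_ F hF
    · intro S hS h1 h2 h3
      have := hΨ S hS h1 h3
      constructor
      · intro a b
        change Ψ S.X₂ = 0 at a
        change Ψ S.X₃ = 0 at b
        change Ψ S.X₁ = 0
        linarith
      · intro a b
        change Ψ S.X₁ = 0 at a
        change Ψ S.X₃ = 0 at b
        change Ψ S.X₂ = 0
        linarith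
    · intro G d hd hG hKd
      change Ψ _ = 0 at hKd
      rw [← hΨiso (biproduct.isoCoproduct (fun _ : Fin d => G)),
        additive_biproduct Ψ hΨ G hG d] at hKd
      change Ψ G = 0
      have hd' : (d : ℤ) ≠ 0 := by
        have : d ≠ 0 := by omega
        exact_mod_cast this
      exact (mul_eq_zero.mp hKd).resolve_left hd'
    · intro Z i _ _
      haveI : IsLocallyNoetherian Z := LocallyOfFiniteType.isLocallyNoetherian i
      let i' : pullback f i ⟶ X := pullback.fst f i
      let fZ : pullback f i ⟶ Z := pullback.snd f i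
      haveI : IsFinite fZ := inferInstance
      haveI : Flat fZ := inferInstance
      haveI : IsClosedImmersion i' := inferInstance
      have hHr : FlatMod.IsFinLocFreeOfRank (n + 1 + 1)
          ((Scheme.Modules.pushforward fZ).obj (Coh.structureModule (pullback f i))) :=
        isFinLocFreeOfRank_pushO fZ (n + 1 + 1) (fun z => by
          rw [Scheme.Hom.finrank_pullback_snd]
          exact hn _)
      refine ⟨(Scheme.Modules.pushforward fZ).obj (Coh.structureModule (pullback f i)),
        Groth.Agent.Lib.helper16.FinPushCoh.isCoh_push_of_isFinite fZ _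
          (Groth.Agent.Lib.helper8.Dev.isCoh_structureModule _), ?_, ?_⟩
      · have hr := Groth.Agent.Lib.helper16.FLF.finrank_stalk_of_isFinLocFreeOfRank _ hHr
          (genericPoint Z)
        exact Module.nontrivial_of_finrank_pos (lt_of_lt_of_eq (Nat.succ_pos _) hr.symm)
      · have hA : Coh.IsCoh ((Scheme.Modules.pushforward i').obj
            (Coh.structureModule (pullback f i))) :=
          Groth.Agent.Lib.helper16.FinPushCoh.isCoh_push_of_isFinite i' _
            (Groth.Agent.Lib.helper8.Dev.isCoh_structureModule _)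
        have eA : (Scheme.Modules.pushforward i).obj
            ((Scheme.Modules.pushforward fZ).obj (Coh.structureModule (pullback f i))) ≅
            (Scheme.Modules.pushforward f).obj ((Scheme.Modules.pushforward i').obj
              (Coh.structureModule (pullback f i))) :=
          (Scheme.Modules.pushforwardComp fZ i).app _ ≪≫
            (Scheme.Modules.pushforwardCongr (pullback.condition (f := f) (g := i)).symm).app _ ≪≫
            ((Scheme.Modules.pushforwardComp i' f).app _).symm
        change Ψ _ = 0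
        rw [hΨiso eA]
        simp only [Ψ]
        haveI : ((Scheme.Modules.pushforward i').obj
            (Coh.structureModule (pullback f i))).IsQuasicoherent := hA.1
        rw [key_step k n ih f hf hn _ hA, Groth.Agent.Lib.Helper18.PullEuler.euler_push k f hf]
        ring
  change Ψ F = 0 at hK
  simp only [Ψ] at hK
  push_cast
  linarith

/-- the base case: an isomorphism -/
theorem stmt_zero : Stmt k 0 := by
  intro X Y _ _ _ _ f _ _ hf hn F hF
  haveI : IsIso f := (Scheme.Hom.isIso_iff_finrank_eq f).mpr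
    (funext fun y => by simpa using hn y)
  rw [euler_tensor_push_of_isIso k f F]
  simp

theorem stmt_all (n : ℕ) : Stmt k n := by
  induction n with
  | zero => exact stmt_zero k
  | succ n ih => exact stmt_succ k n ih

/-- **`χ(Y, F ⊗ f_* O_X) = n χ(Y, F)`** for `f : X ⟶ Y` finite étale of constant rank `n ≥ 1` onto a
nonempty proper `k`-scheme and `F` coherent on `Y` -/
theorem euler_tensor_pushO {X Y : Scheme.{u}}
    [X.Over (Spec (CommRingCat.of k))] [Y.Over (Spec (CommRingCat.of k))]
    [IsProper (Y ↘ Spec (CommRingCat.of k))] [Nonempty Y] (f : X ⟶ Y) [IsFinite f] [Etale f]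
    (hf : f ≫ (Y ↘ Spec (CommRingCat.of k)) = X ↘ Spec (CommRingCat.of k))
    (n : ℕ) (hn1 : 1 ≤ n) (hn : ∀ y, f.finrank y = n) (F : Y.Modules) (hF : Coh.IsCoh F) :
    Curv2.euler k Y (CohB1.tensorMod F
      ((Scheme.Modules.pushforward f).obj (Coh.structureModule X))) =
      (n : ℤ) * Curv2.euler k Y F := by
  obtain ⟨m, rfl⟩ : ∃ m, n = m + 1 := ⟨n - 1, by omega⟩
  have := stmt_all k m f hf hn F hF
  push_cast
  exact this

/-- **`χ(O_X) = n χ(O_Y)`** for `f : X ⟶ Y` finite étale of constant rank `n ≥ 1` onto a nonempty proper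
`k`-scheme (any dimension) -/
theorem euler_of_finite_etale {X Y : Scheme.{u}}
    [X.Over (Spec (CommRingCat.of k))] [Y.Over (Spec (CommRingCat.of k))]
    [IsProper (Y ↘ Spec (CommRingCat.of k))] [Nonempty Y] (f : X ⟶ Y) [IsFinite f] [Etale f]
    (hf : f ≫ (Y ↘ Spec (CommRingCat.of k)) = X ↘ Spec (CommRingCat.of k))
    (n : ℕ) (hn1 : 1 ≤ n) (hn : ∀ y, f.finrank y = n) :
    Curv2.euler k X (Coh.structureModule X) =
      (n : ℤ) * Curv2.euler k Y (Coh.structureModule Y) := by
  have h := euler_tensor_pushO k f hf n hn1 hn (Coh.structureModule Y)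
    (Groth.Agent.Lib.helper8.Dev.isCoh_structureModule Y)
  rw [Groth.Agent.Lib.Lead.CurveEuler.euler_eq_of_iso k Y (leftUnitor _),
    Groth.Agent.Lib.Helper18.PullEuler.euler_push k f hf] at h
  exact h

end Key

end Groth.Agent.Lib.helper8.EtaleEulerN
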