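import Mathlib
import Groth.Agent.Lib.Helper8.ZConn6

/-!
# `O_Y ≅ f_* O_X` is stable under flat base change (helper8)

* `isIso_app_of_basis`: `O_Y → g_* O_X` is an isomorphism as soon as it is bijective on a basis;
* `isIso_app_of_isPullback_of_flat`: for `f` qcqs with `O_Y(U) ≅ O_X(f⁻¹U)` for all `U`, and a
  pullback square along a flat `g : Y' ⟶ Y`, the base change `f'` has the same property;
* `connectedSpace_of_isProper`: total space of a proper "fibration" over a connected locally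
  Noetherian base is connected.
-/

set_option autoImplicit false
universe u
open CategoryTheory CategoryTheory.Limits AlgebraicGeometry Opposite TopologicalSpace

namespace Groth.Agent.Lib.helper8.ZConn

section BC

variable {X Y : Scheme.{u}}

theorem isIso_app_of_basis (g : X ⟶ Y)
    (hloc : ∀ (U : Y.Opens) (x : Y), x ∈ U →
      ∃ B : Y.Opens, x ∈ B ∧ B ≤ U ∧ Function.Bijective (g.app B).hom)
    (V : Y.Opens) : IsIso (g.app V) := by
  refine Groth.Agent.Lib.Lead.SteinUC.isIso_app_of_locally_surjective g ?_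
    (fun U x hx => by
      obtain ⟨B, hxB, hBU, hB⟩ := hloc U x hx
      exact ⟨B, hxB, hBU, hB.2⟩) V
  intro U
  rw [injective_iff_map_eq_zero]
  intro s hs
  choose W hxW hWU hW using fun x : U => hloc U x.1 x.2
  refine Y.sheaf.eq_of_locally_eq' W U (fun x => homOfLE (hWU x)) ?_ _ _ ?_
  · intro y hy
    exact Opens.mem_iSup.mpr ⟨⟨y, hy⟩, hxW _⟩
  · intro x
    apply (hW x).1
    have n1 := g.naturality (homOfLE (hWU x)).op
    have l1 : (g.app (W x)).hom ((Y.presheaf.map (homOfLE (hWU x)).op).hom s) =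
        (X.presheaf.map ((Opens.map g.base).map (homOfLE (hWU x))).op).hom
          ((g.app U).hom s) := by
      have := congrArg (fun k => k.hom s) n1
      exact this
    refine l1.trans ?_
    rw [hs, map_zero]
    exact (map_zero _).symm.trans (congrArg _ (map_zero _).symm)

end BC

section Flat

variable {X Y X' Y' : Scheme.{u}}

theorem isIso_app_of_isPullback_of_flat_of_affine (f : X ⟶ Y) [QuasiCompact f] [QuasiSeparated f]
    (g : Y' ⟶ Y) [Flat g] (g' : X' ⟶ X) (f' : X' ⟶ Y') (H : IsPullback g' f' f g)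
    (U' : Y'.Opens) (hU' : IsAffineOpen U') (V : Y.Opens) (hV : IsAffineOpen V)
    (hUV : U' ≤ g ⁻¹ᵁ V) (hfV : IsIso (f.app V)) : IsIso (f'.app U') := by
  haveI : IsAffine U'.toScheme := hU'
  have Hp : IsPullback ((f' ⁻¹ᵁ U').ι ≫ g') (f' ∣_ U') f (U'.ι ≫ g) :=
    (isPullback_morphismRestrict f' U').flip.paste_horiz H
  have hτ : ∀ t, (U'.ι ≫ g) t ∈ V := fun t => hUV t.2
  have h1 : IsIso (f' ∣_ U').appTop :=
    isIso_appTop_of_flat f (U'.ι ≫ g) _ _ Hp V hV hτ hfV
  have h2 : f'.app U' = U'.topIso.inv ≫ (f' ∣_ U').appTop ≫ (f' ⁻¹ᵁ U').topIso.hom := by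
    rw [Groth.Agent.Lib.Lead.SteinUC.restrict_appTop_eq]
    simp only [Category.assoc, Iso.inv_hom_id, Category.comp_id, Iso.inv_hom_id_assoc]
  rw [h2]
  infer_instance

theorem isIso_app_of_isPullback_of_flat (f : X ⟶ Y) [QuasiCompact f] [QuasiSeparated f]
    (g : Y' ⟶ Y) [Flat g] (g' : X' ⟶ X) (f' : X' ⟶ Y') (H : IsPullback g' f' f g)
    (hf : ∀ U : Y.Opens, IsIso (f.app U)) (U' : Y'.Opens) : IsIso (f'.app U') := by
  refine isIso_app_of_basis f' (fun U x hx => ?_) U'
  obtain ⟨V, hV, hgx⟩ : ∃ V : Y.Opens, IsAffineOpen V ∧ g x ∈ V := by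
    obtain ⟨_, ⟨V, hV : IsAffineOpen V, rfl⟩, hy, -⟩ :=
      Y.isBasis_affineOpens.exists_subset_of_mem_open (Set.mem_univ (g x)) isOpen_univ
    exact ⟨V, hV, hy⟩
  obtain ⟨_, ⟨B, hB : IsAffineOpen B, rfl⟩, hxB, hBle⟩ :=
    Y'.isBasis_affineOpens.exists_subset_of_mem_open
      (show x ∈ ((U ⊓ g ⁻¹ᵁ V : Y'.Opens) : Set Y') from ⟨hx, hgx⟩) (U ⊓ g ⁻¹ᵁ V).isOpen
  refine ⟨B, hxB, fun z hz => (hBle hz).1, ?_⟩
  haveI := isIso_app_of_isPullback_of_flat_of_affine f g g' f' H B hB V hV
    (fun z hz => (hBle hz).2) (hf V)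
  exact (ConcreteCategory.isIso_iff_bijective (f'.app B)).mp inferInstance

end Flat

section Conn

variable {X Y : Scheme.{u}}

theorem connectedSpace_of_isProper (f : X ⟶ Y) [IsProper f] [IsLocallyNoetherian Y]
    (hf : ∀ U : Y.Opens, IsIso (f.app U)) [ConnectedSpace Y] : ConnectedSpace X := by
  haveI := geometricallyConnected f hf
  have hq : Topology.IsQuotientMap f :=
    f.isClosedMap.isQuotientMap f.continuous f.surjective
  have := hq.isCoinducing.isConnected_preimage_of_isClosed f.isConnected_preimage_singleton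
    isClosed_univ isConnected_univ
  rw [Set.preimage_univ] at this
  exact connectedSpace_iff_univ.mpr this

end Conn

end Groth.Agent.Lib.helper8.ZConn
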