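import Mathlib

/-!
# Criteria for finiteness of a restriction `f ∣_ V` (helper8)
-/

set_option autoImplicit false
universe u
open CategoryTheory CategoryTheory.Limits AlgebraicGeometry TopologicalSpace

namespace Groth.Agent.Lib.helper8.FD

variable {X Y : Scheme.{u}}

/-- `f ∣_ W` is finite for `W` affine when `f⁻¹ W` is affine and `Γ(W) → Γ(f⁻¹ W)` is finite. -/
theorem isFinite_morphismRestrict_of_affine (f : Y ⟶ X) (W : X.Opens) (hW : IsAffineOpen W)
    (h1 : IsAffineOpen (f ⁻¹ᵁ W)) (h2 : (f.app W).hom.Finite) : IsFinite (f ∣_ W) := by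
  haveI : IsAffine W.toScheme := hW
  rw [HasAffineProperty.iff_of_isAffine (P := @IsFinite)]
  refine ⟨h1, ?_⟩
  rw [Scheme.Hom.appTop, Scheme.Hom.app_eq_appLE, morphismRestrict_appLE]
  rw [Scheme.Hom.app_eq_appLE] at h2
  refine (Scheme.Hom.appLE_congr f _ (by simp) (by
    rw [image_morphismRestrict_preimage]
    simp) (fun φ => φ.hom.Finite)).mp h2

/-- finiteness of `f ∣_ V` can be checked locally on `V`. -/
theorem isFinite_morphismRestrict_of_forall (f : Y ⟶ X) (V : X.Opens)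
    (H : ∀ x ∈ V, ∃ W : X.Opens, W ≤ V ∧ x ∈ W ∧ IsFinite (f ∣_ W)) : IsFinite (f ∣_ V) := by
  apply IsZariskiLocalAtTarget.of_forall_exists_morphismRestrict (P := @IsFinite)
  rintro ⟨x, hx⟩
  obtain ⟨W, hWV, hxW, hfin⟩ := H x hx
  refine ⟨V.ι ⁻¹ᵁ W, hxW, ?_⟩
  have e1 := morphismRestrictRestrict f V (V.ι ⁻¹ᵁ W)
  have e2 : V.ι ''ᵁ (V.ι ⁻¹ᵁ W) = W := by
    rw [Scheme.Hom.image_preimage_eq_opensRange_inf, Scheme.Opens.opensRange_ι]
    exact inf_eq_right.mpr hWV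
  have e3 := morphismRestrictEq f e2
  exact ((MorphismProperty.arrow_mk_iso_iff @IsFinite (e1 ≪≫ e3))).mpr hfin

/-- a relatively clopen subset of an affine open is affine -/
theorem isAffineOpen_of_clopen {U Z : Y.Opens} (hU : IsAffineOpen U) (hZU : Z ≤ U)
    (hcl : IsOpen ((U : Set Y) \ (Z : Set Y))) : IsAffineOpen Z := by
  haveI : IsAffine U.toScheme := hU
  have hrange : IsClosed (Set.range (Y.homOfLE hZU)) := by
    rw [← isOpen_compl_iff]
    have : (Set.range (Y.homOfLE hZU))ᶜ = U.ι ⁻¹' ((U : Set Y) \ (Z : Set Y)) := by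
      ext x
      simp only [Set.mem_compl_iff, Set.mem_range, Set.mem_preimage, Set.mem_sdiff]
      constructor
      · intro h
        refine ⟨x.2, fun hxZ => h ⟨⟨x.1, hxZ⟩, ?_⟩⟩
        apply U.ι.isOpenEmbedding.injective
        rw [← Scheme.Hom.comp_apply, Scheme.homOfLE_ι]
        rfl
      · rintro ⟨-, hxZ⟩ ⟨z, rfl⟩
        apply hxZ
        have : (U.ι (Y.homOfLE hZU z)) = Z.ι z := by
          rw [← Scheme.Hom.comp_apply, Scheme.homOfLE_ι]
        rw [this]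
        exact z.2
    rw [this]
    exact hcl.preimage U.ι.continuous
  haveI : IsClosedImmersion (Y.homOfLE hZU) := IsClosedImmersion.of_isPreimmersion _ hrange
  exact isAffine_of_isAffineHom (Y.homOfLE hZU)

/-- **Gluing over an affine open.**  If `f⁻¹ W` is covered by finitely many opens `Q k` such that the
pieces `P k = Q k ⊓ f⁻¹ W` are affine, finite over `W`, and have relatively closed pairwise
intersections, then `f⁻¹ W` is affine and finite over `W`. -/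
theorem isAffineOpen_and_finite_of_pieces (f : Y ⟶ X) [LocallyOfFiniteType f] (W : X.Opens)
    (hW : IsAffineOpen W) {m : ℕ} (Q : Fin m → Y.Opens)
    (hcov : f ⁻¹ᵁ W ≤ ⨆ k, Q k)
    (haff : ∀ k, IsAffineOpen (Q k ⊓ f ⁻¹ᵁ W))
    (hfin : ∀ k, (f.appLE W (Q k ⊓ f ⁻¹ᵁ W) inf_le_right).hom.Finite)
    (hcl : ∀ j k, closure (((Q j ⊓ f ⁻¹ᵁ W : Y.Opens) : Set Y) ∩ (Q k ⊓ f ⁻¹ᵁ W : Y.Opens)) ∩
      ((Q k ⊓ f ⁻¹ᵁ W : Y.Opens) : Set Y) ⊆ (Q j : Set Y)) :
    IsAffineOpen (f ⁻¹ᵁ W) ∧ (f.app W).hom.Finite := by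
  classical
  set P : Fin m → Y.Opens := fun k => Q k ⊓ f ⁻¹ᵁ W with hP
  -- the disjoint pieces
  let Z : Fin m → Y.Opens := fun k =>
    ⟨(P k : Set Y) ∩ ⋂ j ∈ (Finset.univ.filter (· < k) : Finset (Fin m)),
        (closure ((P j : Set Y) ∩ P k))ᶜ,
      (P k).2.inter (isOpen_biInter_finset fun j _ => isClosed_closure.isOpen_compl)⟩
  have hZmem : ∀ k (y : Y), y ∈ Z k ↔ y ∈ P k ∧ ∀ j, j < k → y ∉ P j := by
    intro k y
    constructor
    · rintro ⟨h1, h2⟩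
      refine ⟨h1, fun j hjk hyj => ?_⟩
      have := Set.mem_iInter₂.mp h2 j (by simpa using hjk)
      exact this (subset_closure ⟨hyj, h1⟩)
    · rintro ⟨h1, h2⟩
      refine ⟨h1, Set.mem_iInter₂.mpr fun j hj hy => ?_⟩
      have hjk : j < k := by simpa using hj
      exact h2 j hjk ⟨hcl j k ⟨hy, h1⟩, h1.2⟩
  have hZP : ∀ k, Z k ≤ P k := fun k y hy => ((hZmem k y).mp hy).1
  -- each `Z k` is affine
  have hZaff : ∀ k, IsAffineOpen (Z k) := by
    intro k
    refine isAffineOpen_of_clopen (haff k) (hZP k) ?_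
    have : ((P k : Set Y) \ (Z k : Set Y)) =
        (P k : Set Y) ∩ ⋃ j ∈ (Finset.univ.filter (· < k) : Finset (Fin m)), (P j : Set Y) := by
      ext y
      simp only [Set.mem_sdiff, SetLike.mem_coe, Set.mem_inter_iff, Set.mem_iUnion, hZmem]
      constructor
      · rintro ⟨h1, h2⟩
        refine ⟨h1, ?_⟩
        by_contra hcon
        push Not at hcon
        exact h2 ⟨h1, fun j hjk hyj => hcon j (by simpa using hjk) hyj⟩
      · rintro ⟨h1, j, hj, hyj⟩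
        exact ⟨h1, fun h => h.2 j (by simpa using hj) hyj⟩
    rw [this]
    exact (P k).2.inter (isOpen_biUnion fun j _ => (P j).2)
  -- pairwise disjoint
  have hdisj : Pairwise (Function.onFun Disjoint Z) := by
    intro j k hjk
    rw [Function.onFun, disjoint_iff, eq_bot_iff]
    intro y hy
    have hyj := (hZmem j y).mp hy.1
    have hyk := (hZmem k y).mp hy.2
    rcases lt_or_gt_of_ne hjk with h | h
    · exact (hyk.2 j h hyj.1).elim
    · exact (hyj.2 k h hyk.1).elim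
  -- they cover `f⁻¹ W`
  have hsup : ⨆ k, Z k = f ⁻¹ᵁ W := by
    apply le_antisymm
    · exact iSup_le fun k => (hZP k).trans inf_le_right
    · intro y hy
      have hy' := hcov hy
      rw [Opens.mem_iSup] at hy'
      have hex : ∃ k, y ∈ P k := by
        obtain ⟨k, hk⟩ := hy'
        exact ⟨k, hk, hy⟩
      let k₀ := Nat.find (p := fun n => ∃ h : n < m, y ∈ P ⟨n, h⟩)
        (by obtain ⟨k, hk⟩ := hex; exact ⟨k.1, k.2, hk⟩)
      obtain ⟨hk₀, hyk₀⟩ := Nat.find_spec (p := fun n => ∃ h : n < m, y ∈ P ⟨n, h⟩)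
        (by obtain ⟨k, hk⟩ := hex; exact ⟨k.1, k.2, hk⟩)
      rw [Opens.mem_iSup]
      refine ⟨⟨_, hk₀⟩, (hZmem _ y).mpr ⟨hyk₀, fun j hj hyj => ?_⟩⟩
      exact Nat.find_min (p := fun n => ∃ h : n < m, y ∈ P ⟨n, h⟩)
        (by obtain ⟨k, hk⟩ := hex; exact ⟨k.1, k.2, hk⟩) hj ⟨j.2, hyj⟩
  have haffW : IsAffineOpen (f ⁻¹ᵁ W) := by
    rw [← hsup]
    exact IsAffineOpen.iSup_of_disjoint hZaff hdisj
  refine ⟨haffW, ?_⟩
  -- finiteness: integral and of finite type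
  have hft : (f.app W).hom.FiniteType := by
    rw [Scheme.Hom.app_eq_appLE]
    exact HasRingHomProperty.appLE @LocallyOfFiniteType f inferInstance ⟨W, hW⟩ ⟨_, haffW⟩ le_rfl
  refine RingHom.IsIntegral.to_finite ?_ hft
  intro s
  -- monic polynomials killing `s` on each piece
  have hk : ∀ k, ∃ p : Polynomial Γ(X, W), p.Monic ∧
      Y.presheaf.map (homOfLE (inf_le_right : P k ≤ f ⁻¹ᵁ W)).op
        (Polynomial.eval₂ (f.app W).hom s p) = 0 := by
    intro k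
    have hint := (hfin k).to_isIntegral
      (Y.presheaf.map (homOfLE (inf_le_right : P k ≤ f ⁻¹ᵁ W)).op s)
    obtain ⟨p, hp, hp0⟩ := hint
    refine ⟨p, hp, ?_⟩
    rw [← hp0]
    have : (f.appLE W (P k) inf_le_right).hom =
        (Y.presheaf.map (homOfLE (inf_le_right : P k ≤ f ⁻¹ᵁ W)).op).hom.comp (f.app W).hom := by
      rw [Scheme.Hom.appLE]
      rfl
    rw [this, ← Polynomial.hom_eval₂]
  choose p hpm hp0 using hk
  refine ⟨∏ k, p k, Polynomial.monic_prod_of_monic _ _ (fun k _ => hpm k), ?_⟩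
  apply Y.sheaf.eq_of_locally_eq' (fun k => P k) (f ⁻¹ᵁ W)
    (fun k => homOfLE (inf_le_right : P k ≤ f ⁻¹ᵁ W))
  · intro y hy
    have hy' := hcov hy
    rw [Opens.mem_iSup] at hy' ⊢
    obtain ⟨k, hk⟩ := hy'
    exact ⟨k, hk, hy⟩
  · intro k
    have h0 : Y.presheaf.map (homOfLE (inf_le_right : P k ≤ f ⁻¹ᵁ W)).op
        (Polynomial.eval₂ (f.app W).hom s (∏ k, p k)) = 0 := by
      rw [Polynomial.eval₂_finsetProd, ← Finset.mul_prod_erase _ _ (Finset.mem_univ k), map_mul,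
        hp0 k, zero_mul]
    exact h0.trans (map_zero _).symm

/-- from finiteness of `(Q.ι ≫ f) ∣_ W` to the piece data over the affine open `W`. -/
theorem piece_of_isFinite (f : Y ⟶ X) (Q : Y.Opens) (W : X.Opens) (hW : IsAffineOpen W)
    (hfin : IsFinite ((Q.ι ≫ f) ∣_ W)) :
    IsAffineOpen (Q ⊓ f ⁻¹ᵁ W) ∧ (f.appLE W (Q ⊓ f ⁻¹ᵁ W) inf_le_right).hom.Finite := by
  haveI : IsAffine W.toScheme := hW
  rw [HasAffineProperty.iff_of_isAffine (P := @IsFinite)] at hfin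
  obtain ⟨h1, h2⟩ := hfin
  have himg : Q.ι ''ᵁ ((Q.ι ≫ f) ⁻¹ᵁ W) = Q ⊓ f ⁻¹ᵁ W := by
    rw [Scheme.Hom.comp_preimage, Scheme.Hom.image_preimage_eq_opensRange_inf,
      Scheme.Opens.opensRange_ι]
  have h1' : IsAffineOpen ((Q.ι ≫ f) ⁻¹ᵁ W) := h1
  refine ⟨himg ▸ h1'.image_of_isOpenImmersion Q.ι, ?_⟩
  rw [Scheme.Hom.appTop, Scheme.Hom.app_eq_appLE, morphismRestrict_appLE] at h2
  have h3 : ((Q.ι ≫ f).appLE W ((Q.ι ≫ f) ⁻¹ᵁ W) le_rfl).hom.Finite := by
    refine (Scheme.Hom.appLE_congr (Q.ι ≫ f) _ (by simp) (by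
      rw [image_morphismRestrict_preimage]
      simp) (fun φ => φ.hom.Finite)).mp h2
  rw [Scheme.Hom.comp_appLE, Scheme.Opens.ι_appLE] at h3
  have h4 : (f.appLE W (Q.ι ''ᵁ ((Q.ι ≫ f) ⁻¹ᵁ W)) (by rw [himg]; exact inf_le_right)).hom.Finite :=
    h3
  exact (Scheme.Hom.appLE_congr f _ rfl himg (fun φ => φ.hom.Finite)).mp h4

end Groth.Agent.Lib.helper8.FD
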