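import Mathlib

/-!
# Finite free ring maps send closed nowhere dense sets to nowhere dense sets (helper8)

Core algebraic input for "quasi-finite morphisms map closed nowhere dense sets to nowhere dense
sets" without Noetherian hypotheses.  The invariant is the multiplicity of `0` as a root of the
characteristic polynomial of multiplication by an element in the fibres.
-/

set_option autoImplicit false
universe u
open Polynomial TensorProduct PrimeSpectrum

namespace Groth.Agent.Lib.helper8.ND

section Field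

variable {K B : Type*} [Field K] [CommRing B] [Algebra K B]

/-- the generalized kernel of multiplication by `b` -/
noncomputable def G (K : Type*) {B : Type*} [Field K] [CommRing B] [Algebra K B] (b : B) :
    Submodule K B :=
  (Algebra.lmul K B b).maxGenEigenspace 0

theorem mem_G (b x : B) : x ∈ G K b ↔ ∃ k : ℕ, b ^ k * x = 0 := by
  unfold G
  rw [Module.End.mem_maxGenEigenspace]
  simp only [zero_smul, sub_zero]
  constructor
  · rintro ⟨k, hk⟩
    refine ⟨k, ?_⟩
    rw [← map_pow] at hk
    simpa using hk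
  · rintro ⟨k, hk⟩
    refine ⟨k, ?_⟩
    rw [← map_pow]
    simpa using hk

/-- the key strict inequality -/
theorem finrank_G_lt [Module.Finite K B] {L : Type*} [CommRing L] [IsDomain L]
    (ψ : B →+* L) (b b₂ h : B) (m : ℕ)
    (hbh : b ^ m * h = 0) (hh : ψ h ≠ 0) (hb₂ : ψ b₂ ≠ 0) :
    Module.finrank K (G K (b + b₂ * h)) < Module.finrank K (G K b) := by
  have hψb : ψ b = 0 := by
    have h1 : ψ b ^ m * ψ h = 0 := by rw [← map_pow, ← map_mul, hbh, map_zero]
    rcases mul_eq_zero.mp h1 with h2 | h2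
    · exact eq_zero_of_pow_eq_zero h2
    · exact absurd h2 hh
  have hkey : ∀ k : ℕ, (b + b₂ * h) ^ k * b ^ m = b ^ (m + k) := by
    intro k
    induction k with
    | zero => simp
    | succ k ih =>
      rw [pow_succ, mul_assoc, mul_comm (b + b₂ * h) (b ^ m), ← mul_assoc, ih]
      rw [mul_add, ← pow_succ, ← mul_assoc, mul_comm (b ^ (m + k)) b₂, mul_assoc,
        show b ^ (m + k) * h = b ^ k * (b ^ m * h) by rw [pow_add]; ring, hbh]
      simp [add_assoc]
  apply Submodule.finrank_lt_finrank_of_lt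
  refine lt_of_le_of_ne ?_ ?_
  · intro x hx
    rw [mem_G] at hx ⊢
    obtain ⟨k, hk⟩ := hx
    refine ⟨m + k, ?_⟩
    rw [← hkey k, mul_comm _ (b ^ m), mul_assoc, hk, mul_zero]
  · intro heq
    have hmem : h ∈ G K b := (mem_G b h).mpr ⟨m, hbh⟩
    rw [← heq, mem_G] at hmem
    obtain ⟨k, hk⟩ := hmem
    have h1 : ψ (b + b₂ * h) ^ k * ψ h = 0 := by rw [← map_pow, ← map_mul, hk, map_zero]
    rw [map_add, hψb, zero_add, map_mul] at h1
    rcases mul_eq_zero.mp h1 with h2 | h2
    · exact (mul_ne_zero hb₂ hh) (eq_zero_of_pow_eq_zero h2)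
    · exact hh h2

end Field

section Core

variable {R A : Type u} [CommRing R] [CommRing A] [Algebra R A] [Module.Free R A]
  [Module.Finite R A]

/-- the characteristic polynomial of multiplication by `f` -/
noncomputable abbrev chi (R : Type u) {A : Type u} [CommRing R] [CommRing A] [Algebra R A]
    [Module.Free R A] [Module.Finite R A] (f : A) : R[X] :=
  (Algebra.lmul R A f).charpoly

/-- multiplicity of `0` in the characteristic polynomial of multiplication by `f` on the fibre
at `p`. -/
noncomputable def mu (f : A) (p : PrimeSpectrum R) : ℕ :=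
  ((chi R f).map (algebraMap R p.asIdeal.ResidueField)).natTrailingDegree

theorem mu_eq_finrank (f : A) (p : PrimeSpectrum R) :
    mu f p = Module.finrank p.asIdeal.ResidueField
      (G p.asIdeal.ResidueField ((1 : p.asIdeal.ResidueField) ⊗ₜ[R] f)) := by
  unfold mu G chi
  rw [← LinearMap.charpoly_baseChange, Algebra.baseChange_lmul,
    LinearMap.finrank_maxGenEigenspace_zero_eq]

theorem aeval_chi (f : A) : aeval f (chi R f) = 0 := by
  have h := LinearMap.aeval_self_charpoly (Algebra.lmul R A f)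
  rw [Polynomial.aeval_algHom_apply] at h
  exact Algebra.lmul_injective (R := R) (by rw [h, map_zero])

/-- the low part of `χ_f(f)` -/
noncomputable def lo (R : Type u) {A : Type u} [CommRing R] [CommRing A] [Algebra R A]
    [Module.Free R A] [Module.Finite R A] (f : A) (m : ℕ) : A :=
  ∑ j ∈ Finset.range m, (chi R f).coeff j • f ^ j

/-- the high part of `χ_f(f)`, divided by `f ^ m` -/
noncomputable def hi (R : Type u) {A : Type u} [CommRing R] [CommRing A] [Algebra R A]
    [Module.Free R A] [Module.Finite R A] (f : A) (m : ℕ) : A :=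
  ∑ j ∈ Finset.range ((chi R f).natDegree + 1 - m), (chi R f).coeff (m + j) • f ^ j

theorem lo_add_hi (f : A) (m : ℕ) (hm : m ≤ (chi R f).natDegree) :
    lo R f m + f ^ m * hi R f m = 0 := by
  have h := aeval_chi (R := R) f
  rw [Polynomial.aeval_eq_sum_range,
    show (chi R f).natDegree + 1 = m + ((chi R f).natDegree + 1 - m) by omega,
    Finset.sum_range_add] at h
  rw [← h, lo, hi, Finset.mul_sum]
  congr 1
  apply Finset.sum_congr rfl
  intro j _
  rw [pow_add, mul_smul_comm]

theorem hi_sub_mem (f : A) (m : ℕ) (hm : m ≤ (chi R f).natDegree) (q : Ideal A) (hf : f ∈ q) :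
    hi R f m - algebraMap R A ((chi R f).coeff m) ∈ q := by
  obtain ⟨k, hk⟩ : ∃ k, (chi R f).natDegree + 1 - m = k + 1 := ⟨(chi R f).natDegree - m, by omega⟩
  rw [hi, hk, Finset.sum_range_succ']
  simp only [add_zero, pow_zero, Algebra.algebraMap_eq_smul_one, add_sub_cancel_right]
  apply Ideal.sum_mem
  intro j _
  rw [pow_succ, ← smul_mul_assoc]
  exact Ideal.mul_mem_left _ _ hf

/-- in the fibre at `p`, `f ^ m * hi = 0` when `m ≤ mu f p`. -/
theorem tmul_pow_mul_hi (f : A) (p : PrimeSpectrum R) (m : ℕ) (hm : m ≤ mu f p) :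
    ((1 : p.asIdeal.ResidueField) ⊗ₜ[R] f) ^ m * ((1 : p.asIdeal.ResidueField) ⊗ₜ[R] hi R f m)
      = 0 := by
  have hmd : m ≤ (chi R f).natDegree :=
    hm.trans ((natTrailingDegree_le_natDegree _).trans (natDegree_map_le))
  have h1 : f ^ m * hi R f m = - lo R f m := by
    rw [eq_neg_iff_add_eq_zero, add_comm]
    exact lo_add_hi f m hmd
  rw [Algebra.TensorProduct.tmul_pow, one_pow, Algebra.TensorProduct.tmul_mul_tmul, one_mul, h1,
    TensorProduct.tmul_neg, neg_eq_zero, lo, TensorProduct.tmul_sum]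
  apply Finset.sum_eq_zero
  intro j hj
  rw [TensorProduct.tmul_smul, TensorProduct.smul_tmul', Algebra.smul_def, mul_one]
  have : algebraMap R p.asIdeal.ResidueField ((chi R f).coeff j) = 0 := by
    rw [← Polynomial.coeff_map]
    exact coeff_eq_zero_of_lt_natTrailingDegree ((Finset.mem_range.mp hj).trans_le hm)
  rw [this, TensorProduct.zero_tmul]

theorem mu_lt_of_notMem (f f₂ : A) (q : PrimeSpectrum A) (m : ℕ)
    (hm : m ≤ mu f (comap (algebraMap R A) q))
    (hhi : hi R f m ∉ q.asIdeal) (hf₂ : f₂ ∉ q.asIdeal) :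
    mu (f + f₂ * hi R f m) (comap (algebraMap R A) q) < mu f (comap (algebraMap R A) q) := by
  set p := comap (algebraMap R A) q with hp
  let K := p.asIdeal.ResidueField
  let L := q.asIdeal.ResidueField
  let ψ : K ⊗[R] A →ₐ[R] L :=
    Algebra.TensorProduct.productMap
      (Ideal.ResidueField.mapₐ p.asIdeal q.asIdeal (Algebra.ofId R A) rfl)
      (IsScalarTower.toAlgHom R A L)
  have hψ : ∀ a : A, ψ ((1 : K) ⊗ₜ[R] a) = algebraMap A L a := by
    intro a
    simp [ψ]
  rw [mu_eq_finrank, mu_eq_finrank]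
  have hsplit : ((1 : K) ⊗ₜ[R] (f + f₂ * hi R f m)) =
      (1 : K) ⊗ₜ[R] f + ((1 : K) ⊗ₜ[R] f₂) * ((1 : K) ⊗ₜ[R] hi R f m) := by
    rw [TensorProduct.tmul_add, Algebra.TensorProduct.tmul_mul_tmul, one_mul]
  rw [hsplit]
  refine finrank_G_lt (ψ : K ⊗[R] A →+* L) _ _ _ m (tmul_pow_mul_hi f p m hm) ?_ ?_
  · show ψ _ ≠ 0
    rw [hψ, Ne, Ideal.algebraMap_residueField_eq_zero]
    exact hhi
  · show ψ _ ≠ 0
    rw [hψ, Ne, Ideal.algebraMap_residueField_eq_zero]
    exact hf₂

/-- **Finite free ring maps send closed nowhere dense sets to nowhere dense sets.** -/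
theorem isNowhereDense_image_comap_of_free (T : Set (PrimeSpectrum A)) (hT : IsClosed T)
    (hT' : IsNowhereDense T) : IsNowhereDense (comap (algebraMap R A) '' T) := by
  classical
  have hclosed : IsClosed (comap (algebraMap R A) '' T) :=
    PrimeSpectrum.isClosedMap_comap_of_isIntegral _ (algebraMap_isIntegral_iff.mpr inferInstance)
      _ hT
  rw [hclosed.isNowhereDense_iff]
  by_contra hne
  obtain ⟨p₀, hp₀⟩ := Set.nonempty_iff_ne_empty.mpr hne
  obtain ⟨I, rfl⟩ := (isClosed_iff_zeroLocus_ideal T).mp hT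
  -- a minimal pair
  let S : Set ℕ := {k | ∃ f ∈ I, ∃ p ∈ interior (comap (algebraMap R A) '' zeroLocus (I : Set A)),
    mu f p = k}
  have hS : S.Nonempty := ⟨mu (0 : A) p₀, 0, I.zero_mem, p₀, hp₀, rfl⟩
  obtain ⟨f, hfI, p, hpW, hmin⟩ : ∃ f ∈ I,
      ∃ p ∈ interior (comap (algebraMap R A) '' zeroLocus (I : Set A)),
      ∀ f' ∈ I, ∀ p' ∈ interior (comap (algebraMap R A) '' zeroLocus (I : Set A)),
        mu f p ≤ mu f' p' := by
    obtain ⟨f, hfI, p, hpW, hfp⟩ := Nat.sInf_mem hS
    refine ⟨f, hfI, p, hpW, fun f' hf' p' hp' => ?_⟩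
    rw [hfp]
    exact Nat.sInf_le ⟨f', hf', p', hp', rfl⟩
  set m := mu f p with hm
  have hmd : m ≤ (chi R f).natDegree :=
    (natTrailingDegree_le_natDegree _).trans (natDegree_map_le)
  -- the trailing coefficient
  have hcm : (chi R f).coeff m ∉ p.asIdeal := by
    intro h
    have h1 : ((chi R f).map (algebraMap R p.asIdeal.ResidueField)).coeff m = 0 := by
      rw [Polynomial.coeff_map, Ideal.algebraMap_residueField_eq_zero]
      exact h
    rw [hm, mu, coeff_natTrailingDegree_eq_zero] at h1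
    exact ((LinearMap.charpoly_monic _).map _).ne_zero h1
  -- a point of `T` above `p`
  obtain ⟨q₀, hq₀T, hq₀p⟩ := interior_subset hpW
  have hfq₀ : f ∈ q₀.asIdeal := (mem_zeroLocus _ _).mp hq₀T hfI
  have hhiq₀ : hi R f m ∉ q₀.asIdeal := by
    intro h
    have h1 := hi_sub_mem (R := R) f m hmd q₀.asIdeal hfq₀
    have h2 : algebraMap R A ((chi R f).coeff m) ∈ q₀.asIdeal := by
      have := Ideal.sub_mem _ h h1
      simpa using this
    apply hcm
    rw [← hq₀p]
    exact h2
  -- the open set
  let O : Set (PrimeSpectrum A) := comap (algebraMap R A) ⁻¹'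
      (interior (comap (algebraMap R A) '' zeroLocus (I : Set A)) ∩
        (basicOpen ((chi R f).coeff m) : Set (PrimeSpectrum R))) ∩
      (basicOpen (hi R f m) : Set (PrimeSpectrum A))
  have hO : IsOpen O :=
    ((isOpen_interior.inter (basicOpen _).2).preimage (PrimeSpectrum.continuous_comap _)).inter (basicOpen _).2
  have hq₀O : q₀ ∈ O := by
    refine ⟨⟨?_, ?_⟩, hhiq₀⟩
    · show comap (algebraMap R A) q₀ ∈ _
      rw [hq₀p]; exact hpW
    · show comap (algebraMap R A) q₀ ∈ _
      rw [hq₀p]; exact hcm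
  have hOT : O ⊆ zeroLocus (I : Set A) := by
    rintro q ⟨⟨hq1, hq2⟩, hq3⟩
    by_contra hqT
    obtain ⟨f₂, hf₂I, hf₂q⟩ : ∃ f₂ ∈ I, f₂ ∉ q.asIdeal := by
      by_contra hcon
      push Not at hcon
      exact hqT ((mem_zeroLocus _ _).mpr hcon)
    have hmu : mu f (comap (algebraMap R A) q) = m := by
      apply le_antisymm
      · apply natTrailingDegree_le_of_ne_zero
        rw [Polynomial.coeff_map, Ne, Ideal.algebraMap_residueField_eq_zero]
        exact hq2
      · exact hmin f hfI _ hq1
    have hlt := mu_lt_of_notMem (R := R) f f₂ q m hmu.ge hq3 hf₂q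
    have hge := hmin (f + f₂ * hi R f m) (I.add_mem hfI (I.mul_mem_right _ hf₂I)) _ hq1
    rw [hmu] at hlt
    exact absurd hge (not_le.mpr hlt)
  have hint : q₀ ∈ interior (zeroLocus (I : Set A)) :=
    interior_maximal hOT hO hq₀O
  rw [hT.isNowhereDense_iff] at hT'
  rw [hT'] at hint
  exact hint

end Core

end Groth.Agent.Lib.helper8.ND
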