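import Mathlib
import Groth.Agent.Lib.Helper8.NowhereDense1

/-!
# Finite ring maps send closed nowhere dense sets to nowhere dense sets (helper8)

Every finite algebra is a quotient of a finite free algebra (a tensor product of `AdjoinRoot`s).
-/

set_option autoImplicit false
universe u
open Polynomial TensorProduct PrimeSpectrum

namespace Groth.Agent.Lib.helper8.ND

/-- a finite algebra is a quotient of a finite free algebra -/
theorem exists_free_cover (R C : Type u) [CommRing R] [CommRing C] [Algebra R C]
    [Module.Finite R C] :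
    ∃ (C' : Type u) (_ : CommRing C') (_ : Algebra R C') (_ : Module.Free R C')
      (_ : Module.Finite R C') (φ : C' →ₐ[R] C), Function.Surjective φ := by
  classical
  obtain ⟨n, c, hc⟩ := Module.Finite.exists_fin (R := R) (M := C)
  have hint : ∀ i, IsIntegral R (c i) := fun i => Algebra.IsIntegral.isIntegral (c i)
  let P : Fin n → R[X] := fun i => minpoly R (c i)
  have hP : ∀ i, (P i).Monic := fun i => minpoly.monic (hint i)
  let A : Fin n → Type u := fun i => AdjoinRoot (P i)
  letI : ∀ i, CommRing (A i) := fun i => inferInstanceAs (CommRing (AdjoinRoot (P i)))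
  letI : ∀ i, Algebra R (A i) := fun i => inferInstanceAs (Algebra R (AdjoinRoot (P i)))
  let b : ∀ i, Module.Basis (Fin (P i).natDegree) R (A i) :=
    fun i => (AdjoinRoot.powerBasis' (hP i)).basis
  haveI : ∀ i, Module.Finite R (A i) := fun i => Module.Finite.of_basis (b i)
  let ψ : ∀ i, A i →ₐ[R] C := fun i =>
    AdjoinRoot.liftAlgHom (P i) (Algebra.ofId R C) (c i) (by
      show eval₂ (algebraMap R C) (c i) (minpoly R (c i)) = 0
      rw [← Polynomial.aeval_def]
      exact minpoly.aeval R (c i))
  let M : MultilinearMap R A C :=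
    (MultilinearMap.mkPiAlgebra R (Fin n) C).compLinearMap (fun i => (ψ i).toLinearMap)
  have hM : ∀ x : ∀ i, A i, M x = ∏ i, ψ i (x i) := by
    intro x
    simp [M]
  let φ : (⨂[R] i, A i) →ₐ[R] C := PiTensorProduct.liftAlgHom M
    (by rw [hM]; simp)
    (by
      intro x y
      rw [hM, hM, hM, ← Finset.prod_mul_distrib]
      apply Finset.prod_congr rfl
      intro i _
      simp)
  refine ⟨⨂[R] i, A i, inferInstance, inferInstance,
    Module.Free.of_basis (Basis.piTensorProduct b), inferInstance, φ, ?_⟩
  -- surjectivity
  have hφ : ∀ i, φ (PiTensorProduct.singleAlgHom i (AdjoinRoot.root (P i))) = c i := by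
    intro i
    simp only [φ, PiTensorProduct.singleAlgHom_apply, PiTensorProduct.liftAlgHom_apply,
      PiTensorProduct.lift.tprod, hM]
    rw [Finset.prod_eq_single i]
    · simp only [MonoidHom.mulSingle_apply, Pi.mulSingle_eq_same]
      exact AdjoinRoot.liftAlgHom_root _ _ _ _
    · intro j _ hji
      simp [MonoidHom.mulSingle_apply, Pi.mulSingle_eq_of_ne hji]
    · intro h
      exact absurd (Finset.mem_univ i) h
  rw [← AlgHom.range_eq_top, ← Algebra.toSubmodule_eq_top, eq_top_iff, ← hc, Submodule.span_le]
  rintro _ ⟨i, rfl⟩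
  exact ⟨_, hφ i⟩

/-- **Finite ring maps send closed nowhere dense sets to nowhere dense sets.** -/
theorem isNowhereDense_image_comap_of_finite {R C : Type u} [CommRing R] [CommRing C]
    [Algebra R C] [Module.Finite R C] (T : Set (PrimeSpectrum C)) (hT : IsClosed T)
    (hT' : IsNowhereDense T) : IsNowhereDense (comap (algebraMap R C) '' T) := by
  obtain ⟨C', _, _, _, _, φ, hφ⟩ := exists_free_cover R C
  have hφ' : Function.Surjective (φ : C' →+* C) := hφ
  have hemb := PrimeSpectrum.isClosedEmbedding_comap_of_surjective C (φ : C' →+* C) hφ'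
  have h1 : IsNowhereDense (comap (φ : C' →+* C) '' T) :=
    hemb.isInducing.isNowhereDense_image hT'
  have h2 : IsClosed (comap (φ : C' →+* C) '' T) := hemb.isClosedMap _ hT
  have h3 := isNowhereDense_image_comap_of_free (R := R) _ h2 h1
  rw [Set.image_image] at h3
  convert h3 using 2
  rename_i x hx
  rw [← comap_comp_apply]
  congr 1
  ext r
  simp

end Groth.Agent.Lib.helper8.ND
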