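import Mathlib
import Groth.Agent.Lib.Helper8.NowhereDense2

/-!
# Quasi-finite ring maps send nowhere dense sets to nowhere dense sets (helper8)

Uses the local form of Zariski's main theorem from Mathlib.
-/

set_option autoImplicit false
universe u
open Polynomial TensorProduct PrimeSpectrum

namespace Groth.Agent.Lib.helper8.ND

section Top

variable {X Y : Type*} [TopologicalSpace X] [TopologicalSpace Y]

theorem isNowhereDense_preimage {f : X → Y} (hf : Continuous f) (ho : IsOpenMap f) {s : Set Y}
    (hs : IsNowhereDense s) : IsNowhereDense (f ⁻¹' s) := by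
  unfold IsNowhereDense at hs ⊢
  apply Set.eq_empty_of_subset_empty
  calc interior (closure (f ⁻¹' s)) ⊆ interior (f ⁻¹' closure s) :=
        interior_mono (hf.closure_preimage_subset s)
    _ ⊆ f ⁻¹' interior (closure s) := ho.interior_preimage_subset_preimage_interior
    _ = ∅ := by rw [hs, Set.preimage_empty]

theorem isNowhereDense_union {s t : Set X} (hs : IsNowhereDense s) (ht : IsNowhereDense t) :
    IsNowhereDense (s ∪ t) := by
  unfold IsNowhereDense at hs ht ⊢
  rw [closure_union, interior_union_isClosed_of_interior_empty isClosed_closure ht, hs]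

theorem isNowhereDense_biUnion_finset {ι : Type*} (t : Finset ι) (s : ι → Set X)
    (hs : ∀ i ∈ t, IsNowhereDense (s i)) : IsNowhereDense (⋃ i ∈ t, s i) := by
  classical
  induction t using Finset.induction_on with
  | empty => simp
  | insert a t ha ih =>
    rw [Finset.set_biUnion_insert]
    exact isNowhereDense_union (hs a (Finset.mem_insert_self a t))
      (ih fun i hi => hs i (Finset.mem_insert_of_mem hi))

/-- nowhere density can be checked on an open cover -/
theorem isNowhereDense_of_forall_inter {ι : Type*} (U : ι → Set X) (hU : ∀ i, IsOpen (U i))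
    (hcov : ∀ x, ∃ i, x ∈ U i) (s : Set X) (hs : ∀ i, IsNowhereDense (s ∩ U i)) :
    IsNowhereDense s := by
  unfold IsNowhereDense
  apply Set.eq_empty_of_forall_notMem
  intro x hx
  obtain ⟨i, hi⟩ := hcov x
  have h1 : interior (closure s) ∩ U i ⊆ interior (closure (s ∩ U i)) := by
    apply interior_maximal _ (isOpen_interior.inter (hU i))
    rintro y ⟨hy1, hy2⟩
    have := (hU i).inter_closure (t := s) ⟨hy2, interior_subset hy1⟩
    rwa [Set.inter_comm] at this
  have h2 := h1 ⟨hx, hi⟩
  rw [hs i] at h2
  exact h2

end Top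

/-- the local piece: `S' ⊆ S` a finite subalgebra with `S'[1/r] = S[1/r]`. -/
theorem isNowhereDense_image_inter_basicOpen {R S : Type u} [CommRing R] [CommRing S]
    [Algebra R S] (S' : Subalgebra R S) (hfg : S'.toSubmodule.FG) (r : S')
    (hbij : Function.Bijective (Localization.awayMap S'.val.toRingHom r))
    (T : Set (PrimeSpectrum S)) (hT' : IsNowhereDense T) :
    IsNowhereDense (comap (algebraMap R S) ''
      (T ∩ (basicOpen (S'.val.toRingHom r) : Set (PrimeSpectrum S)))) := by
  haveI : Module.Finite R S' := (Module.Finite.iff_fg (N := Subalgebra.toSubmodule S')).mpr hfg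
  let Sr := Localization.Away (S'.val.toRingHom r)
  let S'r := Localization.Away r
  have hj := localization_away_isOpenEmbedding Sr (S'.val.toRingHom r)
  have hjr := localization_away_comap_range Sr (S'.val.toRingHom r)
  -- the preimage of `T`
  have h1 : IsNowhereDense (comap (algebraMap S Sr) ⁻¹' T) :=
    isNowhereDense_preimage hj.continuous hj.isOpenMap hT'
  -- the map to `Spec S'`
  let ρ : S' →+* Sr := (algebraMap S Sr).comp S'.val.toRingHom
  have hρ : ρ = (Localization.awayMap S'.val.toRingHom r).comp (algebraMap S' S'r) :=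
    (IsLocalization.map_comp _).symm
  have hk : Topology.IsInducing (comap ρ) := by
    have h2 : comap ρ = comap (algebraMap S' S'r) ∘
        comap (Localization.awayMap S'.val.toRingHom r) := by
      rw [hρ]
      ext1 x
      rw [comap_comp_apply]
      rfl
    rw [h2]
    exact (localization_away_isOpenEmbedding S'r r).isInducing.comp
      (isHomeomorph_comap_of_bijective hbij).isInducing
  have h3 : IsNowhereDense (comap ρ '' (comap (algebraMap S Sr) ⁻¹' T)) :=
    hk.isNowhereDense_image h1
  have h4 := isNowhereDense_image_comap_of_finite (R := R) _ isClosed_closure h3.closure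
  refine h4.mono ?_
  rintro _ ⟨y, ⟨hyT, hyr⟩, rfl⟩
  rw [← hjr] at hyr
  obtain ⟨z, rfl⟩ := hyr
  refine ⟨comap ρ z, subset_closure ⟨z, hyT, rfl⟩, ?_⟩
  rw [← comap_comp_apply, ← comap_comp_apply]
  rfl

/-- **Quasi-finite ring maps of finite type send nowhere dense sets to nowhere dense sets.** -/
theorem isNowhereDense_image_comap_of_quasiFinite {R S : Type u} [CommRing R] [CommRing S]
    [Algebra R S] [Algebra.FiniteType R S] [Algebra.QuasiFinite R S]
    (T : Set (PrimeSpectrum S)) (hT' : IsNowhereDense T) :
    IsNowhereDense (comap (algebraMap R S) '' T) := by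
  classical
  have key : ∀ y : PrimeSpectrum S, ∃ S' : Subalgebra R S, S'.toSubmodule.FG ∧ ∃ r : S',
      r.1 ∉ y.asIdeal ∧ Function.Bijective (Localization.awayMap S'.val.toRingHom r) := fun y =>
    Algebra.QuasiFiniteAt.exists_fg_and_exists_notMem_and_awayMap_bijective y.asIdeal
  choose S' hfg r hr hbij using key
  obtain ⟨t, ht⟩ := isCompact_univ.elim_finite_subcover
    (fun y : PrimeSpectrum S => (basicOpen ((S' y).val.toRingHom (r y)) : Set (PrimeSpectrum S)))
    (fun y => (basicOpen _).2) (fun y _ => Set.mem_iUnion.mpr ⟨y, hr y⟩)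
  have hT : T = ⋃ y ∈ t, T ∩ (basicOpen ((S' y).val.toRingHom (r y)) : Set (PrimeSpectrum S)) := by
    rw [← Set.inter_iUnion₂]
    exact (Set.inter_eq_left.mpr (fun x _ => ht (Set.mem_univ x))).symm
  rw [hT, Set.image_iUnion₂]
  apply isNowhereDense_biUnion_finset
  intro y _
  exact isNowhereDense_image_inter_basicOpen (S' y) (hfg y) (r y) (hbij y) T hT'

end Groth.Agent.Lib.helper8.ND
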