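import Mathlib
import Groth.Agent.Lib.Helper8.NowhereDense3
import Groth.Agent.S0439
import Groth.Agent.Lib.Helper8.FiniteDense1

/-!
# Quasi-finite morphisms are finite over a dense open (helper8)
-/

set_option autoImplicit false
universe u
open CategoryTheory CategoryTheory.Limits AlgebraicGeometry TopologicalSpace

namespace Groth.Agent.Lib.helper8.FD

open Groth.Agent.Lib.helper8.ND

variable {X Y : Scheme.{u}}

theorem isNowhereDense_closure_diff_of_isOpen {T : Type*} [TopologicalSpace T] {s : Set T}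
    (hs : IsOpen s) : IsNowhereDense (closure s \ s) := by
  have : closure s \ s = frontier s := by
    rw [frontier, hs.interior_eq]
  rw [this, isClosed_frontier.isNowhereDense_iff, ← frontier_compl,
    interior_frontier hs.isClosed_compl]

/-- **Lemma A.** an open immersion followed by a finite morphism is finite away from the image of
the boundary. -/
theorem isFinite_restrict_of_factor {Q Z : Scheme.{u}} (j : Q ⟶ Z) [IsOpenImmersion j] (g : Z ⟶ X)
    [IsFinite g] (V : X.Opens)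
    (hV : Disjoint (V : Set X) (g '' (closure (Set.range j) \ Set.range j))) :
    IsFinite ((j ≫ g) ∣_ V) := by
  rw [morphismRestrict_comp]
  haveI : IsClosedImmersion (j ∣_ (g ⁻¹ᵁ V)) := by
    apply IsClosedImmersion.of_isPreimmersion
    have h1 : Set.range (j ∣_ (g ⁻¹ᵁ V)) = (g ⁻¹ᵁ V).ι ⁻¹' (closure (Set.range j)) := by
      rw [morphismRestrict_base]
      refine (Set.range_restrictPreimage (f := ⇑j) (t := (g ⁻¹ᵁ V).carrier)).trans ?_
      ext z
      constructor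
      · intro hz
        exact subset_closure hz
      · intro hz
        by_contra hcon
        exact Set.disjoint_left.mp hV z.2 ⟨z.1, ⟨hz, hcon⟩, rfl⟩
    rw [h1]
    exact isClosed_closure.preimage (g ⁻¹ᵁ V).ι.continuous
  haveI h1 : IsFinite (j ∣_ (g ⁻¹ᵁ V)) := inferInstance
  haveI h2 : IsFinite (g ∣_ V) := inferInstance
  exact MorphismProperty.comp_mem _ _ _ h1 h2

/-- **Lemma B.** the image of the boundary is closed and nowhere dense. -/
theorem isClosed_and_isNowhereDense_image_boundary {Q Z : Scheme.{u}} (j : Q ⟶ Z)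
    [IsOpenImmersion j] (g : Z ⟶ X) [IsFinite g] :
    IsClosed (g '' (closure (Set.range j) \ Set.range j)) ∧
      IsNowhereDense (g '' (closure (Set.range j) \ Set.range j)) := by
  have hcl : IsClosed (closure (Set.range j) \ Set.range j) :=
    isClosed_closure.sdiff j.isOpenEmbedding.isOpen_range
  refine ⟨g.isClosedMap _ hcl, ?_⟩
  exact Groth.Agent.S0439.main g _ hcl
    (isNowhereDense_closure_diff_of_isOpen j.isOpenEmbedding.isOpen_range)

/-- **Lemma C.** local form of Zariski's main theorem over an affine base: every point has an affine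
open neighbourhood which is an open subscheme of a finite `X`-scheme. -/
theorem exists_local_factor [IsAffine X] (f : Y ⟶ X) [LocallyQuasiFinite f] [LocallyOfFiniteType f]
    (y : Y) :
    ∃ Q : Y.Opens, y ∈ Q ∧ IsAffineOpen Q ∧ ∃ (Z : Scheme.{u}) (j : Q.toScheme ⟶ Z) (g : Z ⟶ X),
      IsOpenImmersion j ∧ IsFinite g ∧ j ≫ g = Q.ι ≫ f := by
  obtain ⟨_, ⟨Y₀, hY₀, rfl⟩, hyY₀, -⟩ := Y.isBasis_affineOpens.exists_subset_of_mem_open
    (Set.mem_univ y) isOpen_univ
  have hqf : (f.appLE ⊤ Y₀ le_top).hom.QuasiFinite :=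
    HasRingHomProperty.appLE @LocallyQuasiFinite f inferInstance ⟨⊤, isAffineOpen_top X⟩
      ⟨Y₀, hY₀⟩ le_top
  have hft : (f.appLE ⊤ Y₀ le_top).hom.FiniteType :=
    HasRingHomProperty.appLE @LocallyOfFiniteType f inferInstance ⟨⊤, isAffineOpen_top X⟩
      ⟨Y₀, hY₀⟩ le_top
  letI := (f.appLE ⊤ Y₀ le_top).hom.toAlgebra
  haveI : Algebra.QuasiFinite Γ(X, ⊤) Γ(Y, Y₀) := hqf
  haveI : Algebra.FiniteType Γ(X, ⊤) Γ(Y, Y₀) := hft
  obtain ⟨S', hfg, r, hrp, hbij⟩ :=
    Algebra.QuasiFiniteAt.exists_fg_and_exists_notMem_and_awayMap_bijective (R := Γ(X, ⊤))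
      (hY₀.primeIdealOf ⟨y, hyY₀⟩).asIdeal
  haveI : Module.Finite Γ(X, ⊤) S' := (Module.Finite.iff_fg (N := Subalgebra.toSubmodule S')).mpr hfg
  have hQ : IsAffineOpen (Y.basicOpen r.1) := hY₀.basicOpen r.1
  have hyQ : y ∈ Y.basicOpen r.1 := by
    have h1 : hY₀.fromSpec (hY₀.primeIdealOf ⟨y, hyY₀⟩) = y := hY₀.fromSpec_primeIdealOf ⟨y, hyY₀⟩
    have h2 : hY₀.primeIdealOf ⟨y, hyY₀⟩ ∈ hY₀.fromSpec ⁻¹ᵁ (Y.basicOpen r.1) := by
      rw [hY₀.fromSpec_preimage_basicOpen]
      exact hrp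
    rw [← h1]
    exact h2
  -- the localisation
  haveI hloc : IsLocalization.Away (S'.val.toRingHom r) Γ(Y, Y.basicOpen r.1) :=
    hY₀.isLocalization_basicOpen r.1
  let e : Localization.Away r ≃+* Γ(Y, Y.basicOpen r.1) :=
    (RingEquiv.ofBijective (Localization.awayMap S'.val.toRingHom r) hbij).trans
      (IsLocalization.algEquiv (.powers (S'.val.toRingHom r))
        (Localization.Away (S'.val.toRingHom r)) Γ(Y, Y.basicOpen r.1)).toRingEquiv
  let κ : S' →+* Γ(Y, Y.basicOpen r.1) :=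
    (algebraMap Γ(Y, Y₀) Γ(Y, Y.basicOpen r.1)).comp S'.val.toRingHom
  have hκ : κ = e.toRingHom.comp (algebraMap S' (Localization.Away r)) := by
    ext s
    simp only [κ, e, RingHom.comp_apply, RingEquiv.toRingHom_eq_coe, RingEquiv.coe_toRingHom,
      RingEquiv.trans_apply, RingEquiv.ofBijective_apply]
    have h1 : (Localization.awayMap S'.val.toRingHom r) ((algebraMap (↥S') (Localization.Away r)) s)
        = algebraMap Γ(Y, Y₀) (Localization.Away (S'.val.toRingHom r)) (S'.val.toRingHom s) :=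
      IsLocalization.map_eq _ _
    rw [h1]
    exact ((IsLocalization.algEquiv (.powers (S'.val.toRingHom r))
        (Localization.Away (S'.val.toRingHom r)) Γ(Y, Y.basicOpen r.1)).commutes _).symm
  -- the open immersion `Spec Γ(Q) ⟶ Spec S'`
  haveI hopen : IsOpenImmersion (Spec.map (CommRingCat.ofHom κ)) := by
    rw [hκ, CommRingCat.ofHom_comp, Spec.map_comp]
    haveI : IsIso (CommRingCat.ofHom e.toRingHom) :=
      inferInstanceAs (IsIso e.toCommRingCatIso.hom)
    infer_instance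
  -- the finite morphism `Spec S' ⟶ X`
  haveI hfinite : IsFinite (Spec.map (CommRingCat.ofHom (algebraMap Γ(X, ⊤) S')) ≫ X.isoSpec.inv) := by
    haveI : IsFinite (Spec.map (CommRingCat.ofHom (algebraMap Γ(X, ⊤) S'))) := by
      rw [IsFinite.SpecMap_iff]
      exact RingHom.finite_algebraMap.mpr inferInstance
    infer_instance
  refine ⟨Y.basicOpen r.1, hyQ, hQ, Spec (CommRingCat.of S'),
    hQ.isoSpec.hom ≫ Spec.map (CommRingCat.ofHom κ),
    Spec.map (CommRingCat.ofHom (algebraMap Γ(X, ⊤) S')) ≫ X.isoSpec.inv, inferInstance, hfinite, ?_⟩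
  have hcomp : CommRingCat.ofHom (algebraMap Γ(X, ⊤) S') ≫ CommRingCat.ofHom κ =
      f.appLE ⊤ (Y.basicOpen r.1) le_top := by
    rw [← Scheme.Hom.appLE_map f (le_top : Y₀ ≤ f ⁻¹ᵁ ⊤) (homOfLE (Y.basicOpen_le r.1)).op]
    rfl
  have hsq := IsAffineOpen.SpecMap_appLE_fromSpec f (isAffineOpen_top X) hQ le_top
  rw [IsAffineOpen.fromSpec_top] at hsq
  rw [Category.assoc, ← Category.assoc (Spec.map _), ← Spec.map_comp, hcomp, hsq]
  rw [IsAffineOpen.fromSpec]
  simp

/-- the pieces: affine opens of `Y` which are finite over `X` away from a closed nowhere dense set -/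
theorem exists_piece [IsAffine X] (f : Y ⟶ X) [LocallyQuasiFinite f] [LocallyOfFiniteType f]
    (y : Y) :
    ∃ (Q : Y.Opens) (N : Set X), y ∈ Q ∧ IsAffineOpen Q ∧ IsClosed N ∧ IsNowhereDense N ∧
      ∀ V : X.Opens, Disjoint (V : Set X) N → IsFinite ((Q.ι ≫ f) ∣_ V) := by
  obtain ⟨Q, hyQ, hQ, Z, j, g, hj, hg, hcomm⟩ := exists_local_factor f y
  obtain ⟨hN1, hN2⟩ := isClosed_and_isNowhereDense_image_boundary j g
  refine ⟨Q, _, hyQ, hQ, hN1, hN2, fun V hV => ?_⟩
  rw [← hcomm]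
  exact isFinite_restrict_of_factor j g V hV

/-- the overlap condition -/
theorem overlap_closed (f : Y ⟶ X) (Q₁ Q₂ : Y.Opens) (W : X.Opens)
    (hW : Disjoint (W : Set X)
      (closure (f '' (frontier ((Q₁ ⊓ Q₂ : Y.Opens) : Set Y) ∩ (Q₂ : Set Y))))) :
    closure (((Q₁ ⊓ f ⁻¹ᵁ W : Y.Opens) : Set Y) ∩ (Q₂ ⊓ f ⁻¹ᵁ W : Y.Opens)) ∩
      ((Q₂ ⊓ f ⁻¹ᵁ W : Y.Opens) : Set Y) ⊆ (Q₁ : Set Y) := by
  rintro z ⟨hz1, hz2, hz3⟩
  by_contra hcon
  have hz4 : z ∈ closure ((Q₁ ⊓ Q₂ : Y.Opens) : Set Y) := by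
    refine closure_mono ?_ hz1
    rintro w ⟨⟨hw1, -⟩, ⟨hw2, -⟩⟩
    exact ⟨hw1, hw2⟩
  have hz5 : z ∈ frontier ((Q₁ ⊓ Q₂ : Y.Opens) : Set Y) := by
    rw [frontier, (Q₁ ⊓ Q₂).isOpen.interior_eq]
    exact ⟨hz4, fun h => hcon h.1⟩
  exact Set.disjoint_left.mp hW hz3 (subset_closure ⟨z, ⟨hz5, hz2⟩, rfl⟩)

theorem overlap_nowhereDense [IsAffine X] (f : Y ⟶ X) [LocallyQuasiFinite f]
    [LocallyOfFiniteType f] (Q₁ Q₂ : Y.Opens) (hQ₂ : IsAffineOpen Q₂) :
    IsNowhereDense (closure (f '' (frontier ((Q₁ ⊓ Q₂ : Y.Opens) : Set Y) ∩ (Q₂ : Set Y)))) := by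
  apply IsNowhereDense.closure
  apply Groth.Agent.S0439.piece f ⊤ (isAffineOpen_top X) Q₂ hQ₂ le_top
  rw [isClosed_frontier.isNowhereDense_iff, ← frontier_compl,
    interior_frontier (Q₁ ⊓ Q₂).isOpen.isClosed_compl]

theorem isNowhereDense_iUnion_of_finite {T : Type*} [TopologicalSpace T] {ι : Type*} [Finite ι]
    (s : ι → Set T) (hs : ∀ i, IsNowhereDense (s i)) : IsNowhereDense (⋃ i, s i) := by
  cases nonempty_fintype ι
  have := isNowhereDense_biUnion_finset Finset.univ s (fun i _ => hs i)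
  simpa using this

/-- **The affine case.** -/
theorem exists_dense_finite_of_isAffine [IsAffine X] (f : Y ⟶ X) [LocallyQuasiFinite f]
    [LocallyOfFiniteType f] [QuasiCompact f] :
    ∃ U : X.Opens, Dense (U : Set X) ∧ IsFinite (f ∣_ U) := by
  classical
  choose Q N hyQ hQ hNcl hNnd hfin using exists_piece f
  haveI : CompactSpace Y := QuasiCompact.compactSpace_of_compactSpace f
  obtain ⟨t, ht⟩ := isCompact_univ.elim_finite_subcover (fun y : Y => (Q y : Set Y))
    (fun y => (Q y).isOpen) (fun y _ => Set.mem_iUnion.mpr ⟨y, hyQ y⟩)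
  let e : Fin t.card ≃ t := t.equivFin.symm
  let Q' : Fin t.card → Y.Opens := fun k => Q (e k).1
  let M : Set X := (⋃ k, N (e k).1) ∪ ⋃ j, ⋃ k,
    closure (f '' (frontier ((Q' j ⊓ Q' k : Y.Opens) : Set Y) ∩ (Q' k : Set Y)))
  have hMcl : IsClosed M :=
    (isClosed_iUnion_of_finite fun k => hNcl _).union
      (isClosed_iUnion_of_finite fun j => isClosed_iUnion_of_finite fun k => isClosed_closure)
  have hMnd : IsNowhereDense M :=
    isNowhereDense_union (isNowhereDense_iUnion_of_finite _ fun k => hNnd _)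
      (isNowhereDense_iUnion_of_finite _ fun j => isNowhereDense_iUnion_of_finite _ fun k =>
        overlap_nowhereDense f (Q' j) (Q' k) (hQ _))
  let V : X.Opens := ⟨Mᶜ, hMcl.isOpen_compl⟩
  refine ⟨V, (isClosed_isNowhereDense_iff_compl.mp ⟨hMcl, hMnd⟩).2, ?_⟩
  apply isFinite_morphismRestrict_of_forall
  intro x hx
  obtain ⟨_, ⟨W, hW, rfl⟩, hxW, hWV⟩ := X.isBasis_affineOpens.exists_subset_of_mem_open hx V.2
  refine ⟨W, hWV, hxW, ?_⟩
  have hWM : Disjoint (W : Set X) M := Set.disjoint_left.mpr fun z hz hzM => hWV hz hzM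
  have hpiece : ∀ k, IsAffineOpen (Q' k ⊓ f ⁻¹ᵁ W) ∧
      (f.appLE W (Q' k ⊓ f ⁻¹ᵁ W) inf_le_right).hom.Finite := fun k =>
    piece_of_isFinite f (Q' k) W hW (hfin _ W (hWM.mono_right
      (Set.subset_union_of_subset_left (Set.subset_iUnion (fun k => N (e k).1) k) _)))
  have hcov : f ⁻¹ᵁ W ≤ ⨆ k, Q' k := by
    intro z _
    obtain ⟨y', hy't, hzy'⟩ := Set.mem_iUnion₂.mp (ht (Set.mem_univ z))
    rw [Opens.mem_iSup]
    refine ⟨e.symm ⟨y', hy't⟩, ?_⟩
    show z ∈ Q (e (e.symm ⟨y', hy't⟩)).1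
    rw [Equiv.apply_symm_apply]
    exact hzy'
  obtain ⟨h1, h2⟩ := isAffineOpen_and_finite_of_pieces f W hW Q' hcov
     (fun k => (hpiece k).1) (fun k => (hpiece k).2)
     (fun j k => overlap_closed f (Q' j) (Q' k) W (hWM.mono_right
      (Set.subset_union_of_subset_right (Set.subset_iUnion_of_subset j
        (Set.subset_iUnion (fun k => closure (f '' (frontier ((Q' j ⊓ Q' k : Y.Opens) : Set Y) ∩
          (Q' k : Set Y)))) k)) _)))
  exact isFinite_morphismRestrict_of_affine f W hW h1 h2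

/-- **Quasi-finite morphisms are finite over a dense open subset of the target.** -/
theorem exists_dense_finite (f : Y ⟶ X) [LocallyQuasiFinite f] [LocallyOfFiniteType f]
    [QuasiCompact f] : ∃ U : X.Opens, Dense (U : Set X) ∧ IsFinite (f ∣_ U) := by
  have key : ∀ α : X.affineOpens, ∃ V' : α.1.toScheme.Opens,
      Dense (V' : Set α.1.toScheme) ∧ IsFinite ((f ∣_ α.1) ∣_ V') := by
    intro α
    haveI : IsAffine α.1.toScheme := α.2
    haveI : LocallyQuasiFinite (f ∣_ α.1) := inferInstance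
    haveI : LocallyOfFiniteType (f ∣_ α.1) := inferInstance
    haveI : QuasiCompact (f ∣_ α.1) := inferInstance
    exact exists_dense_finite_of_isAffine (f ∣_ α.1)
  choose V' hV'd hV'f using key
  let V : X.affineOpens → X.Opens := fun α => α.1.ι ''ᵁ V' α
  have hVf : ∀ α, IsFinite (f ∣_ V α) := fun α =>
    (MorphismProperty.arrow_mk_iso_iff @IsFinite (morphismRestrictRestrict f α.1 (V' α))).mp
      (hV'f α)
  refine ⟨⨆ α, V α, ?_, ?_⟩
  · rw [dense_iff_inter_open]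
    rintro O hO ⟨x, hxO⟩
    obtain ⟨_, ⟨U, hU, rfl⟩, hxU, -⟩ := X.isBasis_affineOpens.exists_subset_of_mem_open
      (Set.mem_univ x) isOpen_univ
    obtain ⟨z, hzO, hzV⟩ := (hV'd ⟨U, hU⟩).inter_open_nonempty ((Scheme.Opens.ι U) ⁻¹' O)
      (hO.preimage (Scheme.Opens.ι U).continuous) ⟨⟨x, hxU⟩, hxO⟩
    refine ⟨(Scheme.Opens.ι U) z, hzO, ?_⟩
    rw [Opens.coe_iSup]
    exact Set.mem_iUnion.mpr ⟨⟨U, hU⟩, ⟨z, hzV, rfl⟩⟩
  · apply isFinite_morphismRestrict_of_forall
    intro x hx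
    rw [Opens.mem_iSup] at hx
    obtain ⟨α, hxα⟩ := hx
    exact ⟨V α, le_iSup V α, hxα, hVf α⟩

end Groth.Agent.Lib.helper8.FD
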