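import Mathlib
import Groth.Agent.Lib.Helper8.FiniteGeneric

/-!
# A free module mapping generically isomorphically to a finite pushforward (helper8)

Hartshorne III Ex. 4.2 (a): `f : X ⟶ Y` finite surjective between integral noetherian schemes.
There are `r > 0`, a coherent `O_X`-module `M` and `α : O_Y^r ⟶ f_* M` bijective on the generic
stalk (`exists_free_to_push_generic`).

Construction: `V ⊆ Y` nonempty affine, `U = f⁻¹ V`, `s_1, …, s_r ∈ Γ(X, U)` a generic basis of
`Γ(X, U)` over `Γ(Y, V)`; `M` is the image of `O_X^r ⟶ j_* O_U` (`j : U ⟶ X`), `e_k ↦ s_k`.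

* `SI_of_subsingleton_kernel_cokernel`: a morphism of quasi-coherent modules whose kernel and
  cokernel have zero stalk at `x` is bijective on the stalk at `x`.
-/

set_option autoImplicit false
set_option linter.style.haveILetI false
universe u
open CategoryTheory CategoryTheory.Limits AlgebraicGeometry TopologicalSpace Opposite

namespace Groth.Agent.Lib.helper8.Dev

open Groth.Agent.Lib.helper8.PullbackUnit Scheme.Modules
open Groth.Agent.Lib.helper17.FlatOver7 Groth.Agent.Lib.helper8.StalkLen

attribute [local instance] Abelian.hasFiniteBiproducts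

section SIgen

variable {X : Scheme.{u}}

theorem SI_of_subsingleton_kernel_cokernel {A F : X.Modules} [A.IsQuasicoherent]
    [F.IsQuasicoherent] (φ : A ⟶ F) (x : X)
    (hk : Subsingleton ↑((kernel φ).presheaf.stalk x))
    (hc : Subsingleton ↑((cokernel φ).presheaf.stalk x)) : SI φ x := by
  haveI : (cokernel φ).IsQuasicoherent :=
    Groth.Agent.Lib.helper7.CohKer.isQuasicoherent_cokernel φ
  haveI : (Abelian.image φ).IsQuasicoherent :=
    Groth.Agent.Lib.helper7.CohKer.isQuasicoherent_kernel (cokernel.π φ)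
  constructor
  · have hex := stalkAdd_exact (kernel.ι φ) φ (kernel.condition φ)
      (ShortComplex.exact_of_f_is_kernel _ (kernelIsKernel φ)) x
    rw [injective_iff_map_eq_zero]
    intro m hm
    obtain ⟨m', rfl⟩ := (hex m).mp hm
    rw [Subsingleton.elim m' 0, map_zero]
  · have hex := stalkAdd_exact (Abelian.image.ι φ) (cokernel.π φ) (kernel.condition _)
      (ShortComplex.exact_of_f_is_kernel _ (kernelIsKernel (cokernel.π φ))) x
    intro y
    have h0 : stalkAdd (cokernel.π φ) x y = 0 := Subsingleton.elim _ _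
    obtain ⟨z, rfl⟩ := (hex y).mp h0
    obtain ⟨w, rfl⟩ := stalkAdd_surjective_of_epi (Abelian.factorThruImage φ) x z
    refine ⟨w, ?_⟩
    rw [← stalkAdd_comp, Abelian.image.fac]

end SIgen

section Main

variable {X Y : Scheme.{u}} [IsIntegral X] [IsNoetherian X] [IsIntegral Y] [IsNoetherian Y]
  (f : X ⟶ Y) [IsFinite f] [Surjective f]

/-- **Hartshorne III Ex. 4.2 (a)** -/
theorem exists_free_to_push_generic :
    ∃ (r : ℕ) (M : X.Modules)
      (α : (⨁ fun _ : Fin r => Coh.structureModule Y) ⟶ (pushforward f).obj M),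
      0 < r ∧ Coh.IsCoh M ∧ SI α (genericPoint Y) := by
  classical
  obtain ⟨_, ⟨V, hV : IsAffineOpen V, rfl⟩, hηV, -⟩ :=
    Y.isBasis_affineOpens.exists_subset_of_mem_open
      (show genericPoint Y ∈ (⊤ : Y.Opens) from trivial) (⊤ : Y.Opens).2
  have hVne : (V : Set Y).Nonempty := ⟨_, hηV⟩
  haveI : Nonempty V := ⟨⟨_, hηV⟩⟩
  haveI : IsDomain Γ(Y, V) := IsIntegral.component_integral V
  haveI : IsNoetherianRing Γ(Y, V) := IsLocallyNoetherian.component_noetherian ⟨V, hV⟩
  set U : X.Opens := f ⁻¹ᵁ V with hUdef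
  have hU : IsAffineOpen U := hV.preimage f
  letI alg : Algebra Γ(Y, V) Γ(X, U) := (f.app V).hom.toAlgebra
  haveI : Module.Finite Γ(Y, V) Γ(X, U) := IsFinite.finite_app f V hV
  obtain ⟨d, s, hs, b, hb, hgen⟩ := exists_generic_basis (B := Γ(Y, V)) (N := Γ(X, U))
  -- `Γ(Y, V) → Γ(X, U)` is injective
  have hinj : ∀ a : Γ(Y, V), a • (1 : Γ(X, U)) = 0 → a = 0 := by
    intro a ha
    by_contra hne
    have h1 : genericPoint Y ∈ Y.basicOpen a := (genericPoint_mem_basicOpen_iff (Z := Y) a).mpr hne
    obtain ⟨x₀, hx₀⟩ := f.surjective (genericPoint Y)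
    have h2 : x₀ ∈ f ⁻¹ᵁ Y.basicOpen a := by
      show f x₀ ∈ Y.basicOpen a
      rw [hx₀]
      exact h1
    have h3 : (f.app V).hom a = 0 := by
      have := ha
      rw [Algebra.smul_def, mul_one] at this
      exact this
    rw [Scheme.preimage_basicOpen] at h2
    have h4 : (ConcreteCategory.hom (Scheme.Hom.app f V)) a = 0 := h3
    rw [h4, Scheme.basicOpen_zero] at h2
    exact h2
  have hd : 0 < d := pos_of_linearIndependent_of_generic (1 : Γ(X, U)) hinj s b hb hgen
  obtain ⟨x₁, hx₁⟩ := f.surjective (genericPoint Y)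
  have hUne : (U : Set X).Nonempty := ⟨x₁, by
    show f x₁ ∈ V
    rw [hx₁]
    exact hηV⟩
  -- the modules on `X`
  let H : X.Modules := Coh.structureModule X
  haveI : (jj H U).IsQuasicoherent :=
    Groth.Agent.Lib.helper7.QCohPushQC.isQuasicoherent_pushforward U.ι (H.restrict U.ι)
  have hHd : Coh.IsCoh (⨁ fun _ : Fin d => H) :=
    isCoh_biproduct _ (fun _ => isCoh_structureModule X)
  haveI : (⨁ fun _ : Fin d => H).IsQuasicoherent := hHd.1
  let σ : (⨁ fun _ : Fin d => H) ⟶ jj H U := biproduct.desc (fun k => aOf H U (s k))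
  let M : X.Modules := Abelian.image σ
  let e : (⨁ fun _ : Fin d => H) ⟶ M := Abelian.factorThruImage σ
  let m : M ⟶ jj H U := Abelian.image.ι σ
  have hem : e ≫ m = σ := Abelian.image.fac σ
  haveI : (cokernel σ).IsQuasicoherent :=
    Groth.Agent.Lib.helper7.CohKer.isQuasicoherent_cokernel σ
  haveI hMq : M.IsQuasicoherent :=
    Groth.Agent.Lib.helper7.CohKer.isQuasicoherent_kernel (cokernel.π σ)
  have hM : Coh.IsCoh M := by
    haveI : (kernel σ).IsQuasicoherent := Groth.Agent.Lib.helper7.CohKer.isQuasicoherent_kernel σ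
    have hK : Coh.IsCoh (kernel σ) := Groth.Agent.S0046.result X _ _ (kernel.ι σ) hHd ‹_›
    have hC : Coh.IsCoh (cokernel (kernel.ι σ)) :=
      Groth.Agent.Lib.helper7.CohKer.isCoh_cokernel hK hHd _
    exact Groth.Agent.Lib.helper7.CohKer.isCoh_of_iso (Abelian.coimageIsoImage σ) hC
  -- the pushforward and the map `α`
  let P : Y.Modules := (pushforward f).obj M
  haveI : P.IsQuasicoherent := Groth.Agent.Lib.helper16.QCohAffinePush.isQuasicoherent_push f M
  let q : Fin d → Γ(P, ⊤) := fun k =>
    ((biproduct.ι (fun _ : Fin d => H) k ≫ e).app (f ⁻¹ᵁ ⊤)).hom (1 : Γ(X, f ⁻¹ᵁ ⊤))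
  let α : (⨁ fun _ : Fin d => Coh.structureModule Y) ⟶ P :=
    biproduct.desc (fun k => smulSec P (q k))
  haveI : (⨁ fun _ : Fin d => Coh.structureModule Y).IsQuasicoherent :=
    isQuasicoherent_biproduct _ (fun _ => inferInstance)
  have hU' : U.ι ''ᵁ U.ι ⁻¹ᵁ U ≤ U := U.ι.image_preimage_le U
  let res : Γ(X, U) →+* Γ(X, U.ι ''ᵁ U.ι ⁻¹ᵁ U) := (X.presheaf.map (homOfLE hU').op).hom
  have hres_inj : Function.Injective res := by
    haveI : Nonempty (U.ι ''ᵁ U.ι ⁻¹ᵁ U) := by
      have hx₁U : x₁ ∈ U := by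
        show f x₁ ∈ V
        rw [hx₁]
        exact hηV
      refine ⟨⟨x₁, ?_⟩⟩
      rw [Scheme.Hom.image_preimage_eq_opensRange_inf, Scheme.Opens.opensRange_ι]
      exact ⟨hx₁U, hx₁U⟩
    exact map_injective_of_isIntegral X (homOfLE hU')
  -- `m (q_k|_V) = s_k`
  have hq : ∀ k, (show Γ(X, U.ι ''ᵁ U.ι ⁻¹ᵁ U) from
      (m.app U).hom (P.presheaf.map (homOfLE (le_top : V ≤ ⊤)).op (q k))) = res (s k) := by
    intro k
    have h1 : P.presheaf.map (homOfLE (le_top : V ≤ ⊤)).op (q k) =
        ((biproduct.ι (fun _ : Fin d => H) k ≫ e).app U).hom (1 : Γ(X, U)) := by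
      have h2 := Groth.Agent.Lib.helper16.QCohEpi.app_map
        (biproduct.ι (fun _ : Fin d => H) k ≫ e)
        (show U ≤ f ⁻¹ᵁ ⊤ from fun _ _ => trivial) (1 : Γ(X, f ⁻¹ᵁ ⊤))
      refine Eq.trans ?_ (h2.symm.trans ?_)
      · rfl
      · congr 1
        exact map_one (X.presheaf.map (homOfLE (show U ≤ f ⁻¹ᵁ ⊤ from fun _ _ => trivial)).op).hom
    rw [h1, ← ConcreteCategory.comp_apply, ← Hom.comp_app, Category.assoc, hem, biproduct.ι_desc,
      aOf_app]
    show (res 1 : Γ(X, U.ι ''ᵁ U.ι ⁻¹ᵁ U)) * res (s k) = res (s k)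
    rw [map_one, one_mul]
  -- the section formula over `V`
  have hstar : ∀ x : Γ(⨁ fun _ : Fin d => Coh.structureModule Y, V),
      (show Γ(X, U.ι ''ᵁ U.ι ⁻¹ᵁ U) from (m.app U).hom ((α.app V).hom x)) =
        res (∑ k, (show Γ(Y, V) from
          ((biproduct.π (fun _ : Fin d => Coh.structureModule Y) k).app V).hom x) • s k) := by
    intro x
    have h0 : (α.app V).hom x = ∑ k, ((smulSec P (q k)).app V).hom
        (((biproduct.π (fun _ : Fin d => Coh.structureModule Y) k).app V).hom x) :=
      biproduct_desc_app _ _ V x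
    rw [h0]
    have h0' : (m.app U).hom (∑ k, ((smulSec P (q k)).app V).hom
        (((biproduct.π (fun _ : Fin d => Coh.structureModule Y) k).app V).hom x)) =
        ∑ k, (m.app U).hom (((smulSec P (q k)).app V).hom
        (((biproduct.π (fun _ : Fin d => Coh.structureModule Y) k).app V).hom x)) :=
      map_sum (m.app U).hom _ _
    refine (h0'.trans ?_).trans (map_sum res _ _).symm
    refine Finset.sum_congr rfl (fun k _ => ?_)
    set xk : Γ(Y, V) := ((biproduct.π (fun _ : Fin d => Coh.structureModule Y) k).app V).hom x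
      with hxk
    have h1 : ((smulSec P (q k)).app V).hom xk =
        ((f.app V).hom xk • (show Γ(M, U) from
          P.presheaf.map (homOfLE (le_top : V ≤ ⊤)).op (q k)) : Γ(M, U)) := rfl
    have h2 : (m.app U).hom ((f.app V).hom xk • (show Γ(M, U) from
          P.presheaf.map (homOfLE (le_top : V ≤ ⊤)).op (q k)) : Γ(M, U)) =
        ((f.app V).hom xk • (m.app U).hom (show Γ(M, U) from
          P.presheaf.map (homOfLE (le_top : V ≤ ⊤)).op (q k)) : Γ(jj H U, U)) :=
      Hom.app_smul m _ _
    rw [h1, h2, jj_smul]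
    show res ((f.app V).hom xk) * (show Γ(X, U.ι ''ᵁ U.ι ⁻¹ᵁ U) from
      (m.app U).hom (P.presheaf.map (homOfLE (le_top : V ≤ ⊤)).op (q k))) = res (xk • s k)
    rw [hq k, Algebra.smul_def, map_mul]
    rfl
  -- the kernel of `α` has no sections over `V`
  have hker : ∀ y : Γ(kernel α, V), (1 : Γ(Y, V)) • y = 0 := by
    intro y
    rw [one_smul]
    apply Groth.Agent.S2542.injective_app_of_mono (kernel.ι α) V
    rw [map_zero]
    set x := ((kernel.ι α).app V).hom y with hx
    have hαx : (α.app V).hom x = 0 := by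
      rw [hx, ← ConcreteCategory.comp_apply, ← Hom.comp_app, kernel.condition]
      rfl
    have h1 := hstar x
    rw [hαx] at h1
    have h1' : res (∑ k, (show Γ(Y, V) from
        ((biproduct.π (fun _ : Fin d => Coh.structureModule Y) k).app V).hom x) • s k) = res 0 :=
      h1.symm.trans ((map_zero (m.app U).hom).trans (map_zero res).symm)
    have h2 := hres_inj h1'
    have h3 := Fintype.linearIndependent_iff.mp hs _ h2
    rw [biproduct_section_eq _ V x]
    refine Finset.sum_eq_zero (fun k _ => ?_)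
    have h4 : ((biproduct.π (fun _ : Fin d => Coh.structureModule Y) k).app V).hom x = 0 := h3 k
    rw [h4, map_zero]
  -- the cokernel of `α` is killed by `b` over `V`
  have hcok : ∀ c : Γ(cokernel α, V), b • c = 0 := by
    intro c
    haveI : (cokernel α).IsQuasicoherent :=
      Groth.Agent.Lib.helper7.CohKer.isQuasicoherent_cokernel α
    obtain ⟨t, rfl⟩ := Groth.Agent.Lib.helper16.QCohEpi.surjective_app_of_epi (cokernel.π α) hV c
    obtain ⟨z, hz⟩ := Groth.Agent.Lib.helper16.QCohEpi.surjective_app_of_epi e hU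
      (show Γ(M, U) from t)
    let n : Γ(X, U) := ∑ k, (show Γ(X, U) from
      ((biproduct.π (fun _ : Fin d => H) k).app U).hom z) * s k
    have hmt : (show Γ(X, U.ι ''ᵁ U.ι ⁻¹ᵁ U) from (m.app U).hom (show Γ(M, U) from t)) =
        res n := by
      rw [← hz, ← ConcreteCategory.comp_apply, ← Hom.comp_app, hem]
      have h0 : (σ.app U).hom z = ∑ k, ((aOf H U (s k)).app U).hom
          (((biproduct.π (fun _ : Fin d => H) k).app U).hom z) := biproduct_desc_app _ _ U z
      rw [h0]
      refine Eq.trans ?_ (map_sum res _ _).symm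
      refine Finset.sum_congr rfl (fun k _ => ?_)
      rw [aOf_app, map_mul]
      rfl
    obtain ⟨c', hc'⟩ := hgen n
    let x : Γ(⨁ fun _ : Fin d => Coh.structureModule Y, V) :=
      ∑ k, ((biproduct.ι (fun _ : Fin d => Coh.structureModule Y) k).app V).hom (c' k)
    have hxk : ∀ k, (show Γ(Y, V) from
        ((biproduct.π (fun _ : Fin d => Coh.structureModule Y) k).app V).hom x) = c' k := by
      intro k
      show ((biproduct.π (fun _ : Fin d => Coh.structureModule Y) k).app V).hom
        (∑ j, ((biproduct.ι (fun _ : Fin d => Coh.structureModule Y) j).app V).hom (c' j)) = c' k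
      rw [map_sum, Finset.sum_eq_single k]
      · rw [← ConcreteCategory.comp_apply, ← Hom.comp_app, biproduct.ι_π_self]
        rfl
      · intro j _ hjk
        rw [← ConcreteCategory.comp_apply, ← Hom.comp_app, biproduct.ι_π_ne _ hjk]
        rfl
      · intro hk
        exact absurd (Finset.mem_univ k) hk
    have hαx : (α.app V).hom x = (b • t : Γ(P, V)) := by
      apply Groth.Agent.S2542.injective_app_of_mono m U
      have h1 := hstar x
      have h1' : (∑ k, (show Γ(Y, V) from
          ((biproduct.π (fun _ : Fin d => Coh.structureModule Y) k).app V).hom x) • s k) =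
          ∑ k, c' k • s k := Finset.sum_congr rfl (fun k _ => by rw [hxk k])
      rw [h1', ← hc'] at h1
      refine h1.trans ?_
      have h2 : (m.app U).hom ((f.app V).hom b • (show Γ(M, U) from t) : Γ(M, U)) =
          ((f.app V).hom b • (m.app U).hom (show Γ(M, U) from t) : Γ(jj H U, U)) :=
        Hom.app_smul m _ _
      refine Eq.trans ?_ h2.symm
      rw [jj_smul]
      show res (b • n) = res ((f.app V).hom b) * (show Γ(X, U.ι ''ᵁ U.ι ⁻¹ᵁ U) from
        (m.app U).hom (show Γ(M, U) from t))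
      rw [hmt, Algebra.smul_def, map_mul]
      rfl
    have h5 : (b • ((cokernel.π α).app V).hom t : Γ(cokernel α, V)) =
        ((cokernel.π α).app V).hom (b • t : Γ(P, V)) := (Hom.app_smul (cokernel.π α) b t).symm
    rw [h5, ← hαx, ← ConcreteCategory.comp_apply, ← Hom.comp_app, cokernel.condition]
    rfl
  haveI : (kernel α).IsQuasicoherent := Groth.Agent.Lib.helper7.CohKer.isQuasicoherent_kernel α
  haveI : (cokernel α).IsQuasicoherent :=
    Groth.Agent.Lib.helper7.CohKer.isQuasicoherent_cokernel α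
  exact ⟨d, M, α, hd, hM, SI_of_subsingleton_kernel_cokernel α _
    (subsingleton_stalk_genericPoint_of_killed (kernel α) hV hVne 1 one_ne_zero hker)
    (subsingleton_stalk_genericPoint_of_killed (cokernel α) hV hVne b hb hcok)⟩

end Main

end Groth.Agent.Lib.helper8.Dev
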