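import Mathlib
import Groth.Prelude.Def_DerSch
import Groth.Agent.Lib.Helper25.StalkPull
import Groth.Agent.Lib.Helper25.StalkExact
import Groth.Agent.Lib.Helper25.PullMonoFlat

/-!
# Faithfully flat descent of monomorphisms of `O`-modules (helper8)

No quasi-coherence needed (everything is stalkwise, via helper25's `stalkPullbackIso`).

* `mono_stalk_of_mono_pullback`: `h : X' ⟶ X` flat, `v` a morphism of `O_X`-modules with `h^* v` mono
  ⇒ `v` is injective on the stalk at `h y` for every `y : X'`.
* `mono_of_mono_pullback_family`: a jointly surjective family of flat morphisms `h i : X' i ⟶ X` with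
  all `(h i)^* v` mono ⇒ `v` mono.
* `mono_pullback_iff_of_family`: `Mono v ↔ ∀ i, Mono ((h i)^* v)` for such a family.
* `mono_iff_of_fpqc_basechange`: the fpqc-local-on-the-base form (Mathlib `Scheme.fpqcPrecoverage`).
-/

set_option autoImplicit false
universe u
open TensorProduct CategoryTheory CategoryTheory.Limits AlgebraicGeometry Opposite TopologicalSpace

namespace Groth.Agent.Lib.helper8.FlatMonoDescent

open Groth.Agent.Lib.Helper25.StalkSky Groth.Agent.Lib.Helper25.StalkExact
open Groth.Agent.Lib.Helper25.PullMonoFlat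

theorem injective_of_extendScalars_map_injective {R S : Type u} [CommRing R] [CommRing S]
    (φ : R →+* S) (hφ : φ.FaithfullyFlat) {A B : ModuleCat.{u} R} (i : A ⟶ B)
    (hi : Function.Injective ((ModuleCat.extendScalars.{u, u, u} φ).map i).hom) :
    Function.Injective i.hom := by
  algebraize [φ]
  haveI : Module.FaithfullyFlat R S := hφ
  exact (Module.FaithfullyFlat.lTensor_injective_iff_injective (R := R) (M := S) i.hom).mp hi

variable {X' X : Scheme.{u}}

/-- descent of injectivity on stalks along a flat morphism -/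
theorem mono_stalk_of_mono_pullback (h : X' ⟶ X) [Flat h] {A B : X.Modules} (v : A ⟶ B)
    [Mono ((Scheme.Modules.pullback h).map v)] (y : X') :
    Mono ((DerSch.stalkFunctor X (h y)).map v) := by
  have hnat := (stalkPullbackIso h y).hom.naturality v
  have h1 : Mono ((Scheme.Modules.pullback h ⋙ DerSch.stalkFunctor X' y).map v) :=
    (DerSch.stalkFunctor X' y).map_mono ((Scheme.Modules.pullback h).map v)
  have hB : Mono ((stalkPullbackIso h y).hom.app B) := IsIso.mono_of_iso _
  have h2 : Mono ((Scheme.Modules.pullback h ⋙ DerSch.stalkFunctor X' y).map v ≫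
      (stalkPullbackIso h y).hom.app B) :=
    mono_comp ((Scheme.Modules.pullback h ⋙ DerSch.stalkFunctor X' y).map v)
      ((stalkPullbackIso h y).hom.app B)
  rw [hnat] at h2
  have h3 : Mono ((DerSch.stalkFunctor X (h y) ⋙
      ModuleCat.extendScalars.{u, u, u} (h.stalkMap y).hom).map v) := by
    have hA : Mono ((stalkPullbackIso h y).inv.app A) := IsIso.mono_of_iso _
    have h4 := mono_comp ((stalkPullbackIso h y).inv.app A) ((stalkPullbackIso h y).hom.app A ≫
      (DerSch.stalkFunctor X (h y) ⋙
        ModuleCat.extendScalars.{u, u, u} (h.stalkMap y).hom).map v)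
    rwa [← Category.assoc, ← NatTrans.comp_app, Iso.inv_hom_id, NatTrans.id_app,
      Category.id_comp] at h4
  rw [ModuleCat.mono_iff_injective] at h3 ⊢
  have hflat : (h.stalkMap y).hom.Flat := Flat.stalkMap h y
  have hff : (h.stalkMap y).hom.FaithfullyFlat := by
    letI : Algebra (X.presheaf.stalk (h y)) (X'.presheaf.stalk y) := (h.stalkMap y).hom.toAlgebra
    haveI : Module.Flat (X.presheaf.stalk (h y)) (X'.presheaf.stalk y) := hflat
    haveI : IsLocalHom (algebraMap (X.presheaf.stalk (h y)) (X'.presheaf.stalk y)) :=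
      inferInstanceAs (IsLocalHom (h.stalkMap y).hom)
    exact (Module.FaithfullyFlat.of_flat_of_isLocalHom :
      Module.FaithfullyFlat (X.presheaf.stalk (h y)) (X'.presheaf.stalk y))
  exact injective_of_extendScalars_map_injective _ hff _ h3

/-- a morphism of `O_X`-modules is a monomorphism as soon as its pullbacks along a jointly surjective
family of flat morphisms are. -/
theorem mono_of_mono_pullback_family {ι : Type*} {Xi : ι → Scheme.{u}} (h : ∀ i, Xi i ⟶ X)
    [∀ i, Flat (h i)] (hsurj : ∀ x : X, ∃ i, x ∈ Set.range (h i))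
    {A B : X.Modules} (v : A ⟶ B)
    (hv : ∀ i, Mono ((Scheme.Modules.pullback (h i)).map v)) : Mono v := by
  apply mono_of_forall_stalk
  intro x
  obtain ⟨i, y, rfl⟩ := hsurj x
  haveI := hv i
  exact mono_stalk_of_mono_pullback (h i) v y

theorem mono_pullback_iff_of_family {ι : Type*} {Xi : ι → Scheme.{u}} (h : ∀ i, Xi i ⟶ X)
    [∀ i, Flat (h i)] (hsurj : ∀ x : X, ∃ i, x ∈ Set.range (h i))
    {A B : X.Modules} (v : A ⟶ B) :
    Mono v ↔ ∀ i, Mono ((Scheme.Modules.pullback (h i)).map v) :=
  ⟨fun _ i => mono_pullback_map (h i) v, mono_of_mono_pullback_family h hsurj v⟩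

/-- `Mono ((p ≫ q)^* u) ↔ Mono (p^* (q^* u))` -/
theorem mono_pullback_comp_iff {X'' : Scheme.{u}} (p : X'' ⟶ X') (q : X' ⟶ X) (r : X'' ⟶ X)
    (hr : p ≫ q = r) {A B : X.Modules} (u : A ⟶ B) :
    Mono ((Scheme.Modules.pullback r).map u) ↔
      Mono ((Scheme.Modules.pullback p).map ((Scheme.Modules.pullback q).map u)) := by
  subst hr
  let N := Scheme.Modules.pullbackComp p q
  have hnat := N.hom.naturality u
  constructor
  · intro hm
    have : Mono ((Scheme.Modules.pullback q ⋙ Scheme.Modules.pullback p).map u ≫ N.hom.app B) := by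
      rw [hnat]; exact mono_comp _ _
    haveI := this
    exact mono_of_mono ((Scheme.Modules.pullback q ⋙ Scheme.Modules.pullback p).map u) (N.hom.app B)
  · intro hm
    have h1 : Mono ((Scheme.Modules.pullback q ⋙ Scheme.Modules.pullback p).map u) := hm
    have : Mono (N.inv.app A ≫ ((Scheme.Modules.pullback q ⋙ Scheme.Modules.pullback p).map u ≫
        N.hom.app B)) := mono_comp _ _
    rw [hnat] at this
    simpa using this

/-- **Injectivity of a base-changed morphism of modules is fpqc-local on the base.** -/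
theorem mono_iff_of_fpqc_basechange {X S : Scheme.{u}} (f : X ⟶ S) {F G : X.Modules} (u : F ⟶ G)
    (T : Over S) {ι : Type u} (Ti : ι → Over S) (g : ∀ i, Ti i ⟶ T)
    (hcov : Presieve.ofArrows (fun i => (Ti i).left) (fun i => (g i).left) ∈
      Scheme.fpqcPrecoverage T.left) :
    Mono ((Scheme.Modules.pullback (pullback.fst f T.hom)).map u) ↔
      ∀ i, Mono ((Scheme.Modules.pullback (pullback.fst f (Ti i).hom)).map u) := by
  obtain ⟨hsurj, hflat⟩ := (Scheme.ofArrows_mem_precoverage_iff (P := @Flat)).1 hcov.2
  let h : ∀ i, pullback f (Ti i).hom ⟶ pullback f T.hom := fun i =>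
    pullback.map f (Ti i).hom f T.hom (𝟙 X) (g i).left (𝟙 S) (by simp) (by simp)
  have hfst : ∀ i, h i ≫ pullback.fst f T.hom = pullback.fst f (Ti i).hom := fun i => by
    dsimp only [h, pullback.map]
    rw [pullback.lift_fst, Category.comp_id]
  have hsnd : ∀ i, h i ≫ pullback.snd f T.hom = pullback.snd f (Ti i).hom ≫ (g i).left := fun i => by
    dsimp only [h, pullback.map]
    rw [pullback.lift_snd]
  have hpb : ∀ i, IsPullback (h i) (pullback.snd f (Ti i).hom) (pullback.snd f T.hom) (g i).left := by
    intro i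
    refine IsPullback.of_right ?_ (hsnd i) (IsPullback.of_hasPullback f T.hom)
    rw [hfst i]
    have : (g i).left ≫ T.hom = (Ti i).hom := Over.w (g i)
    rw [this]
    exact IsPullback.of_hasPullback f (Ti i).hom
  haveI : ∀ i, Flat (h i) := fun i =>
    haveI := hflat i
    MorphismProperty.of_isPullback (P := @Flat) (hpb i).flip inferInstance
  have hsurj' : ∀ x : ↥(pullback f T.hom), ∃ i, x ∈ Set.range (h i) := by
    intro x
    obtain ⟨i, t, ht⟩ := hsurj ((pullback.snd f T.hom) x)
    obtain ⟨y, hy, -⟩ := Scheme.exists_preimage_of_isPullback (hpb i) x t ht.symm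
    exact ⟨i, y, hy⟩
  rw [mono_pullback_iff_of_family h hsurj']
  refine forall_congr' fun i => ?_
  exact (mono_pullback_comp_iff (h i) (pullback.fst f T.hom) _ (hfst i) u).symm

end Groth.Agent.Lib.helper8.FlatMonoDescent
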