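import Mathlib
import Groth.Agent.Lib.Helper8.GEPullEquiv
import Groth.Agent.Lib.Helper8.RingChange
import Groth.Agent.Lib.Helper8.CanonExtBC
import Groth.Agent.Lib.Helper8.AffineExistence
import Groth.Agent.Lib.Helper16.Satur5
import Groth.Agent.S0542

/-!
# Extension of formal modules on an open of `Spec A` and completion of `A` (helper8)

* `killedBy_comap`, `isCok_comap`, `isCohFormal_comap`: converse of `RingChange.isCohFormal_map`.
* `bijective_includeRight`: `R/J → S ⊗_R R/J` is bijective when `S → R/J` is onto with kernel `J S`.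
* `isIso_fn_zero_completion`: `Spec Â ×_A A/I ⟶ Spec A ×_A A/I` is an isomorphism.
* `isPullback_fn_of_isPullback`, `isIso_fn_of_isPullback`: base change of `fn`.
* `nonempty_iso_of_whisker`: lifting isomorphisms through a fully faithful whiskering.
* `extends_iff_completion`: S9539 for an arbitrary open `U` of `Spec A`.
-/

set_option autoImplicit false
set_option linter.style.haveILetI false
set_option linter.unusedSectionVars false
universe u

namespace Groth.Agent.Lib.helper8.GEComplExt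

open CategoryTheory CategoryTheory.Limits AlgebraicGeometry Opposite TopologicalSpace Formal
open Groth.Agent.Lib.helper8.FF Groth.Agent.Lib.helper8.Rees Groth.Agent.Lib.helper8.FTors
open Groth.Agent.Lib.helper8.FCompl Groth.Agent.Lib.helper8.FPull
open Groth.Agent.Lib.helper8.GENilIso Groth.Agent.Lib.helper8.RingChange

section Comap

variable {A A' : Type u} [CommRing A] [CommRing A'] (ψ : A →+* A') {X : Scheme.{u}}
  (iA : X.Over (Spec (CommRingCat.of A))) (iA' : X.Over (Spec (CommRingCat.of A')))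
  (h : iA.hom = iA'.hom ≫ Spec.map (CommRingCat.ofHom ψ))

include h in
lemma killedBy_comap {J : Ideal A} {M : X.Modules} (hM : @KilledBy A' _ X iA' (J.map ψ) M) :
    @KilledBy A _ X iA J M := by
  intro a ha
  rw [smulMod_map ψ iA iA' h]
  exact hM _ (Ideal.mem_map_of_mem ψ ha)

include h in
lemma smulMod_comp_eq_zero_of_map {J : Ideal A} {P Z : X.Modules} (k : P ⟶ Z)
    (hk : ∀ a ∈ J, @smulMod A _ X iA P a ≫ k = 0) :
    ∀ b ∈ J.map ψ, @smulMod A' _ X iA' P b ≫ k = 0 := by
  intro b hb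
  refine Submodule.span_induction (p := fun x _ => @smulMod A' _ X iA' P x ≫ k = 0) ?_ ?_ ?_ ?_ hb
  · rintro _ ⟨a, ha, rfl⟩
    rw [← smulMod_map ψ iA iA' h]
    exact hk a ha
  · rw [@smulMod_zero A' _ X iA' P, zero_comp]
  · intro x y _ _ hx hy
    rw [@smulMod_add A' _ X iA' P, Preadditive.add_comp, hx, hy, add_zero]
  · intro c x _ hx
    rw [smul_eq_mul, @smulMod_mul' A' _ X iA' P, Category.assoc, hx, comp_zero]

include h in
lemma isCok_comap {J : Ideal A} {P R : X.Modules} {g : P ⟶ R}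
    (hg : @IsCok A' _ X iA' (J.map ψ) P R g) : @IsCok A _ X iA J P R g := by
  have h0 : @smulFamily A _ X iA J P ≫ g = 0 :=
    @smulFamily_comp_eq_zero A _ X iA _ _ _ g (fun a ha => by
      rw [smulMod_map ψ iA iA' h]
      exact @IsCok.smulMod_comp A' _ X iA' (J.map ψ) P R g hg (ψ a) (Ideal.mem_map_of_mem ψ ha))
  refine @isCok_of_isColimit A _ X iA _ _ _ g h0 ?_
  have hc := @IsCok.isColimit A' _ X iA' (J.map ψ) P R g hg
  have hepi : Epi g := @IsCok.epi A' _ X iA' (J.map ψ) P R g hg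
  have key : ∀ {Z : X.Modules} (k : P ⟶ Z), @smulFamily A _ X iA J P ≫ k = 0 →
      @smulFamily A' _ X iA' (J.map ψ) P ≫ k = 0 := by
    intro Z k hk
    refine @smulFamily_comp_eq_zero A' _ X iA' _ _ _ k
      (smulMod_comp_eq_zero_of_map ψ iA iA' h k (fun a ha => ?_))
    rw [← @ι_smulFamily A _ X iA J P ⟨a, ha⟩, Category.assoc, hk, comp_zero]
  exact CokernelCofork.IsColimit.ofπ _ _
    (fun {Z} k hk => (CokernelCofork.IsColimit.desc' hc k (key k hk)).1)
    (fun {Z} k hk => (CokernelCofork.IsColimit.desc' hc k (key k hk)).2)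
    (fun {Z} k hk m hm => by
      rw [← cancel_epi g, hm]
      exact ((CokernelCofork.IsColimit.desc' hc k (key k hk)).2).symm)

include h in
/-- a coherent formal module for `I.map ψ` (over `A'`) is one for `I` (over `A`) -/
theorem isCohFormal_comap (I : Ideal A) (G : ℕᵒᵖ ⥤ X.Modules)
    (hG : @Formal.IsCohFormal A' _ X iA' (I.map ψ) G) : @Formal.IsCohFormal A _ X iA I G := by
  obtain ⟨h1, h2, h3⟩ := hG
  refine ⟨h1, fun n => ?_, fun n => ?_⟩
  · apply killedBy_comap ψ iA iA' h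
    rw [Ideal.map_pow]
    exact h2 n
  · have hc : @IsCok A' _ X iA' ((I.map ψ) ^ (n + 1)) _ _ (G.map (homOfLE (Nat.le_succ n)).op) :=
      h3 n
    rw [← Ideal.map_pow] at hc
    exact isCok_comap ψ iA iA' h hc

end Comap

section RingLemma

open TensorProduct

variable {R S : Type u} [CommRing R] [CommRing S] [Algebra R S] (J : Ideal R)
  (π : S →ₐ[R] R ⧸ J) (hπ : Function.Surjective π)
  (hker : RingHom.ker π = J.map (algebraMap R S))

include hker in
lemma tmul_eq_zero_of_mem {w : S} (hw : w ∈ J.map (algebraMap R S)) (y : R ⧸ J) :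
    w ⊗ₜ[R] y = 0 := by
  refine Submodule.span_induction (p := fun w _ => w ⊗ₜ[R] y = 0) ?_ ?_ ?_ ?_ hw
  · rintro _ ⟨i, hi, rfl⟩
    have h1 : algebraMap R S i = i • (1 : S) := Algebra.algebraMap_eq_smul_one i
    have h2 : i • y = 0 := by
      obtain ⟨b, rfl⟩ := Ideal.Quotient.mk_surjective y
      rw [Algebra.smul_def, Ideal.Quotient.algebraMap_eq, ← map_mul, Ideal.Quotient.eq_zero_iff_mem]
      exact J.mul_mem_right b hi
    rw [h1, TensorProduct.smul_tmul, h2, TensorProduct.tmul_zero]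
  · exact TensorProduct.zero_tmul _ _
  · intro x z _ _ hx hz
    rw [TensorProduct.add_tmul, hx, hz, add_zero]
  · intro c x _ hx
    have h1 : (c • x) ⊗ₜ[R] y = (c ⊗ₜ[R] (1 : R ⧸ J)) * (x ⊗ₜ[R] y) := by
      rw [Algebra.TensorProduct.tmul_mul_tmul, one_mul, smul_eq_mul]
    rw [h1, hx, mul_zero]

include hπ hker in
theorem bijective_includeRight :
    Function.Bijective (Algebra.TensorProduct.includeRight : R ⧸ J →ₐ[R] S ⊗[R] (R ⧸ J)) := by
  constructor
  · let l : S ⊗[R] (R ⧸ J) →ₐ[R] R ⧸ J :=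
      Algebra.TensorProduct.lift π (AlgHom.id R (R ⧸ J)) (fun _ _ => Commute.all _ _)
    intro y y' hy
    have h1 := congrArg l hy
    simpa [l] using h1
  · have key : ∀ (x : S) (y : R ⧸ J), ∃ z : R ⧸ J, (1 : S) ⊗ₜ[R] z = x ⊗ₜ[R] y := by
      intro x y
      obtain ⟨a, ha⟩ := Ideal.Quotient.mk_surjective (π x)
      refine ⟨a • y, ?_⟩
      have hx : x - algebraMap R S a ∈ J.map (algebraMap R S) := by
        rw [← hker, RingHom.mem_ker, map_sub, AlgHom.commutes, ← ha]
        exact sub_self _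
      have h2 := tmul_eq_zero_of_mem J π hker hx y
      rw [TensorProduct.sub_tmul, sub_eq_zero] at h2
      rw [h2, Algebra.algebraMap_eq_smul_one, TensorProduct.smul_tmul]
    intro t
    induction t using TensorProduct.induction_on with
    | zero => exact ⟨0, map_zero _⟩
    | tmul x y =>
      obtain ⟨z, hz⟩ := key x y
      exact ⟨z, hz⟩
    | add x y hx hy =>
      obtain ⟨a, ha⟩ := hx
      obtain ⟨b, hb⟩ := hy
      exact ⟨a + b, by rw [map_add, ha, hb]⟩

end RingLemma

section FnZero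

open TensorProduct

variable (A : Type u) [CommRing A] (I : Ideal A)

/-- `Spec Â ⟶ Spec A` -/
noncomputable abbrev fC : Spec (CommRingCat.of (AdicCompletion I A)) ⟶ Spec (CommRingCat.of A) :=
  Spec.map (CommRingCat.ofHom (algebraMap A (AdicCompletion I A)))

lemma eq_pow_zero_add : I = I ^ (0 + 1) := by rw [zero_add, pow_one]

/-- `Â → A/I^(0+1)` -/
noncomputable def evalZero : AdicCompletion I A →ₐ[A] A ⧸ I ^ (0 + 1) :=
  (Ideal.quotientEquivAlgOfEq A (eq_pow_zero_add A I)).toAlgHom.comp (AdicCompletion.evalOneₐ I)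

lemma evalZero_apply (x : AdicCompletion I A) :
    evalZero A I x = Ideal.quotientEquivAlgOfEq A (eq_pow_zero_add A I)
      (AdicCompletion.evalOneₐ I x) := rfl

lemma evalZero_surjective : Function.Surjective (evalZero A I) :=
  (Ideal.quotientEquivAlgOfEq A (eq_pow_zero_add A I)).surjective.comp
    (AdicCompletion.evalOneₐ_surjective I)

lemma ker_evalZero (hI : I.FG) :
    RingHom.ker (evalZero A I) = (I ^ (0 + 1)).map (algebraMap A (AdicCompletion I A)) := by
  have h1 := AdicCompletion.ker_evalOneₐ_eq_map I hI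
  have h2 : (I ^ (0 + 1)).map (algebraMap A (AdicCompletion I A)) =
      I.map (algebraMap A (AdicCompletion I A)) := by
    congr 1
    exact (eq_pow_zero_add A I).symm
  rw [h2, ← h1]
  ext x
  rw [RingHom.mem_ker, RingHom.mem_ker, evalZero_apply]
  exact EmbeddingLike.map_eq_zero_iff

lemma isIso_specMap_of_bijective {R S : Type u} [CommRing R] [CommRing S] (ρ : R →+* S)
    (hρ : Function.Bijective ρ) : IsIso (Spec.map (CommRingCat.ofHom ρ)) := by
  haveI : IsIso (CommRingCat.ofHom ρ) :=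
    (ConcreteCategory.isIso_iff_bijective (CommRingCat.ofHom ρ)).mpr hρ
  infer_instance

/-- `Spec Â ×_A A/I ⟶ Spec A ×_A A/I` is an isomorphism -/
theorem isIso_fn_zero_completion (hI : I.FG) :
    IsIso (@fn A _ I (Spec (CommRingCat.of A)) (Spec (CommRingCat.of (AdicCompletion I A)))
      ⟨𝟙 _⟩ ⟨fC A I⟩ (fC A I) (Category.comp_id _) 0) := by
  letI iS : (Spec (CommRingCat.of A)).Over (Spec (CommRingCat.of A)) := ⟨𝟙 _⟩
  letI iX' : (Spec (CommRingCat.of (AdicCompletion I A))).Over (Spec (CommRingCat.of A)) :=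
    ⟨fC A I⟩
  have hf : fC A I ≫ (Spec (CommRingCat.of A) ↘ Spec (CommRingCat.of A)) =
      Spec (CommRingCat.of (AdicCompletion I A)) ↘ Spec (CommRingCat.of A) := Category.comp_id _
  show IsIso (fn I (fC A I) hf 0)
  have h1 := fn_toBase I (fC A I) hf 0
  haveI i1 : IsIso (CohB1.thickToBase
      (Spec (CommRingCat.of A) ↘ Spec (CommRingCat.of A)) I 0) := by
    show IsIso (pullback.snd (𝟙 _) (CohB1.specQuot I 0))
    infer_instance
  haveI i2 : IsIso (CohB1.thickToBase
      (Spec (CommRingCat.of (AdicCompletion I A)) ↘ Spec (CommRingCat.of A)) I 0) := by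
    show IsIso (pullback.snd (Spec.map (CommRingCat.ofHom (algebraMap A (AdicCompletion I A))))
      (Spec.map (CommRingCat.ofHom (algebraMap A (A ⧸ I ^ (0 + 1))))))
    rw [← pullbackSpecIso_hom_snd]
    have hb := bijective_includeRight (I ^ (0 + 1)) (evalZero A I) (evalZero_surjective A I)
      (ker_evalZero A I hI)
    haveI := isIso_specMap_of_bijective
      (RingHomClass.toRingHom (Algebra.TensorProduct.includeRight :
        A ⧸ I ^ (0 + 1) →ₐ[A] (AdicCompletion I A) ⊗[A] (A ⧸ I ^ (0 + 1)))) hb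
    infer_instance
  haveI i3 : IsIso (fn I (fC A I) hf 0 ≫ CohB1.thickToBase
      (Spec (CommRingCat.of A) ↘ Spec (CommRingCat.of A)) I 0) := by
    rw [h1]
    infer_instance
  exact IsIso.of_isIso_comp_right (fn I (fC A I) hf 0)
    (CohB1.thickToBase (Spec (CommRingCat.of A) ↘ Spec (CommRingCat.of A)) I 0)

end FnZero

section FnBC

variable {A : Type u} [CommRing A] (I : Ideal A) {X X' U U' : Scheme.{u}}
  [X.Over (Spec (CommRingCat.of A))] [X'.Over (Spec (CommRingCat.of A))]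
  [U.Over (Spec (CommRingCat.of A))] [U'.Over (Spec (CommRingCat.of A))]
  (f : X' ⟶ X) (hf : f ≫ (X ↘ Spec (CommRingCat.of A)) = X' ↘ Spec (CommRingCat.of A))
  (g : U ⟶ X) (hg : g ≫ (X ↘ Spec (CommRingCat.of A)) = U ↘ Spec (CommRingCat.of A))
  (g' : U' ⟶ X') (hg' : g' ≫ (X' ↘ Spec (CommRingCat.of A)) = U' ↘ Spec (CommRingCat.of A))
  (fU : U' ⟶ U) (hfU : fU ≫ (U ↘ Spec (CommRingCat.of A)) = U' ↘ Spec (CommRingCat.of A))

lemma fn_comp_comm (w : g' ≫ f = fU ≫ g) (n : ℕ) :
    fn I fU hfU n ≫ fn I g hg n = fn I g' hg' n ≫ fn I f hf n := by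
  refine pullback.hom_ext (f := X ↘ Spec (CommRingCat.of A)) (g := CohB1.specQuot I n) ?_ ?_
  · calc (fn I fU hfU n ≫ fn I g hg n) ≫ CohB1.thickι (X ↘ Spec (CommRingCat.of A)) I n
        = fn I fU hfU n ≫ CohB1.thickι (U ↘ Spec (CommRingCat.of A)) I n ≫ g := by
          rw [Category.assoc, fn_ι]
      _ = CohB1.thickι (U' ↘ Spec (CommRingCat.of A)) I n ≫ fU ≫ g := by
          rw [← Category.assoc, fn_ι, Category.assoc]
      _ = CohB1.thickι (U' ↘ Spec (CommRingCat.of A)) I n ≫ g' ≫ f := by rw [w]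
      _ = fn I g' hg' n ≫ CohB1.thickι (X' ↘ Spec (CommRingCat.of A)) I n ≫ f := by
          rw [← Category.assoc, ← fn_ι, Category.assoc]
      _ = (fn I g' hg' n ≫ fn I f hf n) ≫ CohB1.thickι (X ↘ Spec (CommRingCat.of A)) I n := by
          rw [Category.assoc, fn_ι]
  · calc (fn I fU hfU n ≫ fn I g hg n) ≫ CohB1.thickToBase (X ↘ Spec (CommRingCat.of A)) I n
        = CohB1.thickToBase (U' ↘ Spec (CommRingCat.of A)) I n := by
          rw [Category.assoc, fn_toBase, fn_toBase]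
      _ = (fn I g' hg' n ≫ fn I f hf n) ≫
            CohB1.thickToBase (X ↘ Spec (CommRingCat.of A)) I n := by
          rw [Category.assoc, fn_toBase, fn_toBase]

/-- `fn` of a base change is the base change of `fn` -/
theorem isPullback_fn_of_isPullback (sq : IsPullback g' fU f g) (n : ℕ) :
    IsPullback (fn I fU hfU n) (fn I g' hg' n) (fn I g hg n) (fn I f hf n) := by
  have big := (isPullback_fn I fU hfU n).paste_vert sq.flip
  rw [← fn_ι I g' hg' n, ← fn_ι I g hg n] at big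
  exact IsPullback.of_bot big (fn_comp_comm I f hf g hg g' hg' fU hfU sq.w n)
    (isPullback_fn I f hf n)

include hg hg' in
theorem isIso_fn_of_isPullback (sq : IsPullback g' fU f g) (n : ℕ) (h : IsIso (fn I f hf n)) :
    IsIso (fn I fU hfU n) := by
  have h1 : MorphismProperty.isomorphisms Scheme.{u} (fn I f hf n) :=
    (MorphismProperty.isomorphisms.iff _).mpr h
  exact (MorphismProperty.isomorphisms.iff _).mp
    (MorphismProperty.of_isPullback (P := MorphismProperty.isomorphisms Scheme.{u})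
      (isPullback_fn_of_isPullback I f hf g hg g' hg' fU hfU sq n).flip h1)

end FnBC

section Whisker

variable {J C D : Type*} [Category J] [Category C] [Category D]

lemma nonempty_iso_of_whisker {H₁ H₂ : J ⥤ C} (F : C ⥤ D)
    (h12 : Function.Surjective (fun φ : H₁ ⟶ H₂ => Functor.whiskerRight φ F))
    (h21 : Function.Surjective (fun φ : H₂ ⟶ H₁ => Functor.whiskerRight φ F))
    (h11 : Function.Injective (fun φ : H₁ ⟶ H₁ => Functor.whiskerRight φ F))
    (h22 : Function.Injective (fun φ : H₂ ⟶ H₂ => Functor.whiskerRight φ F))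
    (E : H₁ ⋙ F ≅ H₂ ⋙ F) : Nonempty (H₁ ≅ H₂) := by
  obtain ⟨φ, hφ⟩ := h12 E.hom
  obtain ⟨ψ, hψ⟩ := h21 E.inv
  have hφ' : Functor.whiskerRight φ F = E.hom := hφ
  have hψ' : Functor.whiskerRight ψ F = E.inv := hψ
  refine ⟨⟨φ, ψ, h11 ?_, h22 ?_⟩⟩
  · show Functor.whiskerRight (φ ≫ ψ) F = Functor.whiskerRight (𝟙 H₁) F
    rw [Functor.whiskerRight_comp, hφ', hψ', E.hom_inv_id, Functor.whiskerRight_id']
  · show Functor.whiskerRight (ψ ≫ φ) F = Functor.whiskerRight (𝟙 H₂) F
    rw [Functor.whiskerRight_comp, hφ', hψ', E.inv_hom_id, Functor.whiskerRight_id']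

end Whisker

section Main

open Scheme.Modules

variable (A : Type u) [CommRing A] [IsNoetherianRing A] (I : Ideal A)

lemma isNoetherian_opens {X : Scheme.{u}} [AlgebraicGeometry.IsNoetherian X] (U : X.Opens) :
    AlgebraicGeometry.IsNoetherian (↑U : Scheme.{u}) := by
  haveI : CompactSpace (↑U : Scheme.{u}) :=
    isCompact_iff_compactSpace.mp (TopologicalSpace.NoetherianSpace.isCompact (U : Set X))
  exact {}

/-- **S9539** for an arbitrary open `U` of `Spec A`: a coherent formal module on `U` extends to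
`Spec A` iff its pullback to the preimage of `U` in `Spec Â` is the completion of a coherent module -/
theorem extends_iff_completion (U : (Spec (CommRingCat.of A)).Opens)
    (G : ℕᵒᵖ ⥤ (↑U : Scheme.{u}).Modules) (hG : Formal.IsCohFormal I G) :
    @Algz.Extends A _ (Spec (CommRingCat.of A)) ⟨𝟙 (Spec (CommRingCat.of A))⟩ I U G ↔
      ∃ F' : (↑(fC A I ⁻¹ᵁ U) : Scheme.{u}).Modules, Coh.IsCoh F' ∧
        Nonempty (Formal.completion (I.map (algebraMap A (AdicCompletion I A))) F' ≅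
          G ⋙ Scheme.Modules.pullback (fC A I ∣_ U)) := by
  classical
  letI iS : (Spec (CommRingCat.of A)).Over (Spec (CommRingCat.of A)) := ⟨𝟙 _⟩
  letI iX' : (Spec (CommRingCat.of (AdicCompletion I A))).Over (Spec (CommRingCat.of A)) :=
    ⟨fC A I⟩
  let jX' : (Spec (CommRingCat.of (AdicCompletion I A))).Over
      (Spec (CommRingCat.of (AdicCompletion I A))) := ⟨𝟙 _⟩
  have hf : fC A I ≫ (Spec (CommRingCat.of A) ↘ Spec (CommRingCat.of A)) =
      Spec (CommRingCat.of (AdicCompletion I A)) ↘ Spec (CommRingCat.of A) := Category.comp_id _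
  have hfg : I.FG := (isNoetherianRing_iff_ideal_fg A).mp inferInstance I
  haveI : IsNoetherianRing (AdicCompletion I A) := Groth.Agent.S0542.result A I hfg
  haveI : IsAdicComplete (I.map (algebraMap A (AdicCompletion I A))) (AdicCompletion I A) :=
    AdicCompletion.isAdicComplete_self I hfg
  haveI : Flat (fC A I) := Groth.Agent.Lib.helper8.CanonExtBC.flat_φ A (AdicCompletion I A)
  have hX' : iX'.hom = jX'.hom ≫ Spec.map (CommRingCat.ofHom (algebraMap A (AdicCompletion I A))) :=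
    (Category.id_comp _).symm
  have h0 : IsIso (fn I (fC A I) hf 0) := isIso_fn_zero_completion A I hfg
  haveI : AlgebraicGeometry.IsNoetherian (↑U : Scheme.{u}) := isNoetherian_opens U
  haveI : AlgebraicGeometry.IsNoetherian (↑(fC A I ⁻¹ᵁ U) : Scheme.{u}) :=
    isNoetherian_opens (fC A I ⁻¹ᵁ U)
  have hUι : U.ι ≫ (Spec (CommRingCat.of A) ↘ Spec (CommRingCat.of A)) =
      (↑U : Scheme.{u}) ↘ Spec (CommRingCat.of A) := rfl
  have hU'ι : (fC A I ⁻¹ᵁ U).ι ≫
      (Spec (CommRingCat.of (AdicCompletion I A)) ↘ Spec (CommRingCat.of A)) =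
      (↑(fC A I ⁻¹ᵁ U) : Scheme.{u}) ↘ Spec (CommRingCat.of A) := rfl
  have hU'ι' : (fC A I ⁻¹ᵁ U).ι ≫
      (Spec (CommRingCat.of (AdicCompletion I A)) ↘ Spec (CommRingCat.of (AdicCompletion I A))) =
      (↑(fC A I ⁻¹ᵁ U) : Scheme.{u}) ↘ Spec (CommRingCat.of (AdicCompletion I A)) := rfl
  have hfU : (fC A I ∣_ U) ≫ ((↑U : Scheme.{u}) ↘ Spec (CommRingCat.of A)) =
      (↑(fC A I ⁻¹ᵁ U) : Scheme.{u}) ↘ Spec (CommRingCat.of A) := by
    show (fC A I ∣_ U) ≫ U.ι ≫ 𝟙 _ = (fC A I ⁻¹ᵁ U).ι ≫ fC A I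
    rw [Category.comp_id, morphismRestrict_ι]
  have h0U : IsIso (fn I (fC A I ∣_ U) hfU 0) :=
    isIso_fn_of_isPullback I (fC A I) hf U.ι hUι (fC A I ⁻¹ᵁ U).ι hU'ι (fC A I ∣_ U) hfU
      (isPullback_morphismRestrict (fC A I) U).flip 0 h0
  let sqIso : Scheme.Modules.pullback (fC A I) ⋙ Scheme.Modules.pullback (fC A I ⁻¹ᵁ U).ι ≅
      Scheme.Modules.pullback U.ι ⋙ Scheme.Modules.pullback (fC A I ∣_ U) :=
    Scheme.Modules.pullbackComp (fC A I ⁻¹ᵁ U).ι (fC A I) ≪≫
      Scheme.Modules.pullbackCongr (morphismRestrict_ι (fC A I) U).symm ≪≫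
      (Scheme.Modules.pullbackComp (fC A I ∣_ U) U.ι).symm
  constructor
  · rintro ⟨G₁, hG₁, ⟨e⟩⟩
    have h3 : @IsCohFormal A _ _ iX' I (G₁ ⋙ Scheme.Modules.pullback (fC A I)) :=
      Groth.Agent.Lib.helper8.FPull.isCohFormal_pullback (fC A I) hf I G₁ hG₁
    have h4 : @IsCohFormal (AdicCompletion I A) _ _ jX'
        (I.map (algebraMap A (AdicCompletion I A))) (G₁ ⋙ Scheme.Modules.pullback (fC A I)) :=
      Groth.Agent.Lib.helper8.RingChange.isCohFormal_map (algebraMap A (AdicCompletion I A))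
        iX' jX' hX' I _ h3
    obtain ⟨N, hN, ⟨e'⟩⟩ := Groth.Agent.Lib.helper8.AffEx.exists_completion_iso_of_complete
      (I.map (algebraMap A (AdicCompletion I A))) (G₁ ⋙ Scheme.Modules.pullback (fC A I)) h4
    haveI : N.IsQuasicoherent := hN.1
    refine ⟨(Scheme.Modules.pullback (fC A I ⁻¹ᵁ U).ι).obj N,
      ⟨Groth.Agent.Lib.helper16.QCohPullback.isQuasicoherent_pullback _ N,
        Groth.Agent.Lib.helper16.QCohPullback2.isFiniteType_pullback _ N hN.2⟩, ⟨?_⟩⟩
    exact Groth.Agent.Lib.helper8.FCompl.completionPullbackIso (fC A I ⁻¹ᵁ U).ι hU'ι'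
        (I.map (algebraMap A (AdicCompletion I A))) N ≪≫
      Functor.isoWhiskerRight e' (Scheme.Modules.pullback (fC A I ⁻¹ᵁ U).ι) ≪≫
      Functor.associator _ _ _ ≪≫ Functor.isoWhiskerLeft G₁ sqIso ≪≫
      (Functor.associator _ _ _).symm ≪≫
      Functor.isoWhiskerRight
        ((Functor.isoWhiskerLeft G₁ (Scheme.Modules.restrictFunctorIsoPullback U.ι)).symm ≪≫ e)
        (Scheme.Modules.pullback (fC A I ∣_ U))
  · rintro ⟨F', hF', ⟨e⟩⟩
    haveI : F'.IsQuasicoherent := hF'.1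
    have hU'c : IsCompact ((fC A I ⁻¹ᵁ U : (Spec (CommRingCat.of (AdicCompletion I A))).Opens) :
        Set (Spec (CommRingCat.of (AdicCompletion I A)))) :=
      TopologicalSpace.NoetherianSpace.isCompact _
    obtain ⟨F'', hq, hft, ⟨e0⟩⟩ :=
      Groth.Agent.Lib.helper16.Satur.exists_ft_extension_module (fC A I ⁻¹ᵁ U) hU'c F' hF'.2
    have hF'' : Coh.IsCoh F'' := ⟨hq, hft⟩
    have hc : @IsCohFormal (AdicCompletion I A) _ _ jX' (I.map (algebraMap A (AdicCompletion I A)))
        (Formal.completion (I.map (algebraMap A (AdicCompletion I A))) F'') :=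
      Groth.Agent.Lib.helper8.FCompl.isCohFormal_completion _ F'' hF''
    have hc' : @IsCohFormal A _ _ iX' I
        (Formal.completion (I.map (algebraMap A (AdicCompletion I A))) F'') :=
      isCohFormal_comap (algebraMap A (AdicCompletion I A)) iX' jX' hX' I _ hc
    obtain ⟨G₁, hG₁, ⟨e₂⟩⟩ :=
      (Groth.Agent.Lib.helper8.GEPullEquiv.main I (fC A I) hf h0).2 _ hc'
    have hH : IsCohFormal I (G₁ ⋙ Scheme.Modules.pullback U.ι) :=
      Groth.Agent.Lib.helper8.FPull.isCohFormal_pullback U.ι hUι I G₁ hG₁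
    have e1 : (Scheme.Modules.pullback (fC A I ⁻¹ᵁ U).ι).obj F'' ≅ F' :=
      ((Scheme.Modules.restrictFunctorIsoPullback (fC A I ⁻¹ᵁ U).ι).app F'').symm ≪≫ e0
    let E : (G₁ ⋙ Scheme.Modules.pullback U.ι) ⋙ Scheme.Modules.pullback (fC A I ∣_ U) ≅
        G ⋙ Scheme.Modules.pullback (fC A I ∣_ U) :=
      Functor.associator _ _ _ ≪≫ (Functor.isoWhiskerLeft G₁ sqIso).symm ≪≫
        (Functor.associator _ _ _).symm ≪≫
        Functor.isoWhiskerRight e₂ (Scheme.Modules.pullback (fC A I ⁻¹ᵁ U).ι) ≪≫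
        (Groth.Agent.Lib.helper8.FCompl.completionPullbackIso (fC A I ⁻¹ᵁ U).ι hU'ι'
          (I.map (algebraMap A (AdicCompletion I A))) F'').symm ≪≫
        Groth.Agent.Lib.helper8.FCompl.completionIso
          (I.map (algebraMap A (AdicCompletion I A))) e1 ≪≫ e
    have hb := (Groth.Agent.Lib.helper8.GEPullEquiv.main I (fC A I ∣_ U) hfU h0U).1
    obtain ⟨θ⟩ := nonempty_iso_of_whisker (Scheme.Modules.pullback (fC A I ∣_ U))
      (hb _ _ hH hG).2 (hb _ _ hG hH).2 (hb _ _ hH hH).1 (hb _ _ hG hG).1 E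
    exact ⟨G₁, hG₁,
      ⟨Functor.isoWhiskerLeft G₁ (Scheme.Modules.restrictFunctorIsoPullback U.ι) ≪≫ θ⟩⟩

end Main

end Groth.Agent.Lib.helper8.GEComplExt
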