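import Mathlib
import Groth.Agent.Lib.Helper8.GEMid
import Groth.Agent.Lib.Helper8.FiniteGeneric
import Groth.Prelude.Def_Formal2

/-!
# Tools for the "right-hand" easy existence statement (helper8)

* additivity of `Qmap`, `Qmap` of a multiplication, joint monicity of the `Qmap (π_k)` on a biproduct;
* `comp_smulMod_eq_zero_of_generators`: a morphism killed by elements `c k` generating (on an affine
  cover) the extension of an ideal `𝔟` is killed by `𝔟`;
* `rhoInv`: for `α : G^ ⟶ F` and `b`, `b'` killing the kernels resp. cokernels of the `α_n`, the map of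
  systems "`b α⁻¹ b'`" `: F ⟶ G^`.
-/

set_option autoImplicit false
set_option backward.isDefEq.respectTransparency false
set_option linter.style.haveILetI false
set_option linter.unusedSectionVars false
universe u

namespace Groth.Agent.Lib.helper8.GEFamily

open CategoryTheory CategoryTheory.Limits AlgebraicGeometry Opposite TopologicalSpace Formal
open Groth.Agent.Lib.helper8.FF Groth.Agent.Lib.helper8.Rees Groth.Agent.Lib.helper8.FTors
open Groth.Agent.Lib.Lead.GE Groth.Agent.Lib.helper8.GETower Groth.Agent.Lib.helper8.GEGlue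
open Groth.Agent.Lib.helper8.FCompl Groth.Agent.Lib.helper8.GEMid
open Scheme.Modules

attribute [local instance] Abelian.hasFiniteBiproducts

variable {A : Type u} [CommRing A] {X : Scheme.{u}} [X.Over (Spec (CommRingCat.of A))]

section QmapAdd

variable (𝔞 : Ideal A) {M N : X.Modules}

lemma Qmap_zero : Qmap 𝔞 (0 : M ⟶ N) = 0 := by
  rw [← cancel_epi (qπ 𝔞 M), qπ_Qmap, zero_comp, comp_zero]

lemma Qmap_add (f g : M ⟶ N) : Qmap 𝔞 (f + g) = Qmap 𝔞 f + Qmap 𝔞 g := by
  rw [← cancel_epi (qπ 𝔞 M), qπ_Qmap, Preadditive.comp_add, qπ_Qmap, qπ_Qmap,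
    Preadditive.add_comp]

lemma Qmap_sub (f g : M ⟶ N) : Qmap 𝔞 (f - g) = Qmap 𝔞 f - Qmap 𝔞 g := by
  rw [← cancel_epi (qπ 𝔞 M), qπ_Qmap, Preadditive.comp_sub, qπ_Qmap, qπ_Qmap,
    Preadditive.sub_comp]

lemma Qmap_sum {ι : Type*} (s : Finset ι) (f : ι → (M ⟶ N)) :
    Qmap 𝔞 (∑ k ∈ s, f k) = ∑ k ∈ s, Qmap 𝔞 (f k) := by
  classical
  induction s using Finset.induction_on with
  | empty => rw [Finset.sum_empty, Finset.sum_empty, Qmap_zero]
  | insert a s ha ih => rw [Finset.sum_insert ha, Finset.sum_insert ha, Qmap_add, ih]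

lemma Qmap_smulMod (M : X.Modules) (a : A) :
    Qmap 𝔞 (smulMod A M a) = smulMod A (Q 𝔞 M) a := by
  rw [← cancel_epi (qπ 𝔞 M), qπ_Qmap, smulMod_naturality]

/-- the `Qmap (π_k)` are jointly monic on `Q (⨁ f)` -/
lemma Q_hom_ext {d : ℕ} (f : Fin d → X.Modules) {Z : X.Modules} (h₁ h₂ : Z ⟶ Q 𝔞 (⨁ f))
    (h : ∀ k, h₁ ≫ Qmap 𝔞 (biproduct.π f k) = h₂ ≫ Qmap 𝔞 (biproduct.π f k)) : h₁ = h₂ := by
  have key : ∀ h' : Z ⟶ Q 𝔞 (⨁ f),
      h' = ∑ k, (h' ≫ Qmap 𝔞 (biproduct.π f k)) ≫ Qmap 𝔞 (biproduct.ι f k) := by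
    intro h'
    have e1 : ∑ k, (h' ≫ Qmap 𝔞 (biproduct.π f k)) ≫ Qmap 𝔞 (biproduct.ι f k) =
        h' ≫ Qmap 𝔞 (∑ k, biproduct.π f k ≫ biproduct.ι f k) := by
      rw [Qmap_sum, Preadditive.comp_sum]
      refine Finset.sum_congr rfl (fun k _ => ?_)
      rw [Category.assoc, ← Qmap_comp]
    rw [e1, biproduct.total, Qmap_id, Category.comp_id]
  rw [key h₁, key h₂]
  refine Finset.sum_congr rfl (fun k _ => ?_)
  rw [h k]

end QmapAdd

section Generators

lemma comp3_smulMod {M₁ M₂ M₃ M₄ : X.Modules} (f : M₁ ⟶ M₂) (g : M₂ ⟶ M₃) (h : M₃ ⟶ M₄) (a : A) :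
    (f ≫ g ≫ h) ≫ smulMod A M₄ a = (f ≫ smulMod A M₂ a ≫ g) ≫ h := by
  simp only [Category.assoc]
  rw [← smulMod_naturality h, ← Category.assoc g, ← smulMod_naturality g, Category.assoc]


/-- a morphism killed by elements generating (on an affine cover) the extension of `𝔟` is killed by `𝔟` -/
lemma comp_smulMod_eq_zero_of_generators {M N : X.Modules} [M.IsQuasicoherent] (f : M ⟶ N)
    {d : ℕ} (c : Fin d → A) (hc : ∀ k, f ≫ smulMod A N (c k) = 0) (𝔟 : Ideal A)
    {ι : Type*} (W : ι → X.Opens) (hW : ∀ i, IsAffineOpen (W i)) (hcov : ∀ x : X, ∃ i, x ∈ W i)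
    (hgen : ∀ i, 𝔟.map (resA A (W i)) ≤ Ideal.span (Set.range (fun k => resA A (W i) (c k))))
    (a : A) (ha : a ∈ 𝔟) : f ≫ smulMod A N a = 0 := by
  refine hom_eq_zero_of_cover _ W hW hcov (fun i z => ?_)
  rw [appLin_comp_apply, appLin_smulMod]
  have h1 : resA A (W i) a ∈ Ideal.span (Set.range (fun k => resA A (W i) (c k))) :=
    hgen i (Ideal.mem_map_of_mem _ ha)
  obtain ⟨r, hr⟩ := (Submodule.mem_span_range_iff_exists_fun _).1 h1
  rw [← hr, Finset.sum_smul]
  refine Finset.sum_eq_zero (fun k _ => ?_)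
  have h2 : resA A (W i) (c k) • appLin f (W i) z = 0 := by
    rw [← appLin_smulMod, ← appLin_comp_apply, hc k]
    rfl
  rw [smul_eq_mul, mul_smul, h2, smul_zero]

end Generators

section RhoInv

variable (I : Ideal A) (G : X.Modules) (F : ℕᵒᵖ ⥤ X.Modules) (α : Formal.completion I G ⟶ F)

/-- level `n` of the map "`b α⁻¹ b'`" -/
noncomputable def rhoInvApp (b b' : A) (n : ℕ)
    (hb : kernel.ι (α.app (op n)) ≫ smulMod A ((Formal.completion I G).obj (op n)) b = 0)
    (hb' : smulMod A (F.obj (op n)) b' ≫ cokernel.π (α.app (op n)) = 0) :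
    F.obj (op n) ⟶ (Formal.completion I G).obj (op n) :=
  glueMap (α.app (op n)) (smulMod A (F.obj (op n)) b')
    (smulMod A ((Formal.completion I G).obj (op n)) b) hb' hb

lemma rhoInvApp_apply (b b' : A) (n : ℕ)
    (hb : kernel.ι (α.app (op n)) ≫ smulMod A ((Formal.completion I G).obj (op n)) b = 0)
    (hb' : smulMod A (F.obj (op n)) b' ≫ cokernel.π (α.app (op n)) = 0) (U : X.Opens)
    (y : Γ(F.obj (op n), U)) (x : Γ((Formal.completion I G).obj (op n), U))
    (hxy : appLin (α.app (op n)) U x = resA A U b' • y) :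
    appLin (rhoInvApp I G F α b b' n hb hb') U y = resA A U b • x := by
  have h1 := glueMap_apply (α.app (op n)) (smulMod A (F.obj (op n)) b')
    (smulMod A ((Formal.completion I G).obj (op n)) b) hb' hb U y x
    (by rw [hxy, appLin_smulMod])
  rw [appLin_smulMod] at h1
  exact h1

variable [IsNoetherian X] (hG : Coh.IsCoh G) (hF : IsCohFormal I F)

include hG hF in
/-- every section of `b' F_n` over an affine open comes from `G_n` -/
lemma exists_preimage (b' : A) (n : ℕ)
    (hb' : smulMod A (F.obj (op n)) b' ≫ cokernel.π (α.app (op n)) = 0) {U : X.Opens}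
    (hU : IsAffineOpen U) (y : Γ(F.obj (op n), U)) :
    ∃ x : Γ((Formal.completion I G).obj (op n), U),
      appLin (α.app (op n)) U x = resA A U b' • y := by
  haveI : G.IsQuasicoherent := hG.1
  haveI : ((Formal.completion I G).obj (op n)).IsQuasicoherent := isQuasicoherent_Q _ G
  haveI : (F.obj (op n)).IsQuasicoherent := (hF.1 n).1
  apply exists_of_cokernel_π_eq_zero (α.app (op n)) hU
  rw [← appLin_smulMod, ← appLin_comp_apply, hb']
  rfl

lemma smul_eq_zero_of_kernel (b : A) (n : ℕ)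
    (hb : kernel.ι (α.app (op n)) ≫ smulMod A ((Formal.completion I G).obj (op n)) b = 0)
    (U : X.Opens) (z : Γ((Formal.completion I G).obj (op n), U))
    (hz : appLin (α.app (op n)) U z = 0) : resA A U b • z = 0 := by
  have h1 : z ∈ LinearMap.range (appLin (kernel.ι (α.app (op n))) U) := by
    rw [range_appLin_kernel_ι]; exact hz
  obtain ⟨w, rfl⟩ := h1
  rw [← appLin_smulMod, ← appLin_comp_apply, hb]
  rfl

lemma affine_cover (x : X) : ∃ U : X.affineOpens, x ∈ U.1 := by
  obtain ⟨_, ⟨U, hU, rfl⟩, hxU, -⟩ :=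
    X.isBasis_affineOpens.exists_subset_of_mem_open (Set.mem_univ x) isOpen_univ
  exact ⟨⟨U, hU⟩, hxU⟩

/-- the map of systems "`b α⁻¹ b'`" -/
noncomputable def rhoInv (b b' : A)
    (hb : ∀ n, kernel.ι (α.app (op n)) ≫ smulMod A ((Formal.completion I G).obj (op n)) b = 0)
    (hb' : ∀ n, smulMod A (F.obj (op n)) b' ≫ cokernel.π (α.app (op n)) = 0) :
    F ⟶ Formal.completion I G where
  app n := rhoInvApp I G F α b b' n.unop (hb n.unop) (hb' n.unop)
  naturality := by
    intro n k g
    induction n using Opposite.rec with | _ n => ?_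
    induction k using Opposite.rec with | _ k => ?_
    haveI : (F.obj (op n)).IsQuasicoherent := (hF.1 n).1
    refine hom_ext_of_cover _ _ (fun U : X.affineOpens => U.1) (fun U => U.2) affine_cover
      (fun U y => ?_)
    obtain ⟨x, hx⟩ := exists_preimage I G F α hG hF b' n (hb' n) U.2 y
    rw [appLin_comp_apply, appLin_comp_apply]
    have h1 : appLin (rhoInvApp I G F α b b' n (hb n) (hb' n)) U.1 y = resA A U.1 b • x :=
      rhoInvApp_apply I G F α b b' n (hb n) (hb' n) U.1 y x hx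
    have h2 : appLin (α.app (op k)) U.1 (appLin ((Formal.completion I G).map g) U.1 x) =
        resA A U.1 b' • appLin (F.map g) U.1 y := by
      rw [← appLin_comp_apply, α.naturality, appLin_comp_apply, hx, LinearMap.map_smul]
    have h3 := rhoInvApp_apply I G F α b b' k (hb k) (hb' k) U.1 _ _ h2
    exact h3.trans (by rw [h1, LinearMap.map_smul])

lemma rhoInv_app (b b' : A)
    (hb : ∀ n, kernel.ι (α.app (op n)) ≫ smulMod A ((Formal.completion I G).obj (op n)) b = 0)
    (hb' : ∀ n, smulMod A (F.obj (op n)) b' ≫ cokernel.π (α.app (op n)) = 0) (n : ℕ) :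
    (rhoInv I G F α hG hF b b' hb hb').app (op n) = rhoInvApp I G F α b b' n (hb n) (hb' n) := rfl

/-- (R1) `α ≫ ρ = b b'` -/
lemma comp_rhoInv (b b' : A)
    (hb : ∀ n, kernel.ι (α.app (op n)) ≫ smulMod A ((Formal.completion I G).obj (op n)) b = 0)
    (hb' : ∀ n, smulMod A (F.obj (op n)) b' ≫ cokernel.π (α.app (op n)) = 0) (n : ℕ) :
    α.app (op n) ≫ (rhoInv I G F α hG hF b b' hb hb').app (op n) =
      smulMod A ((Formal.completion I G).obj (op n)) (b * b') := by
  haveI : G.IsQuasicoherent := hG.1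
  haveI : ((Formal.completion I G).obj (op n)).IsQuasicoherent := isQuasicoherent_Q _ G
  refine hom_ext_of_cover _ _ (fun U : X.affineOpens => U.1) (fun U => U.2) affine_cover
    (fun U g => ?_)
  rw [appLin_comp_apply, rhoInv_app, appLin_smulMod]
  have h1 := rhoInvApp_apply I G F α b b' n (hb n) (hb' n) U.1
    (appLin (α.app (op n)) U.1 g) (resA A U.1 b' • g) (by rw [LinearMap.map_smul])
  rw [h1, map_mul, mul_smul]

/-- (R2) `ρ ≫ α = b b'` -/
lemma rhoInv_comp (b b' : A)
    (hb : ∀ n, kernel.ι (α.app (op n)) ≫ smulMod A ((Formal.completion I G).obj (op n)) b = 0)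
    (hb' : ∀ n, smulMod A (F.obj (op n)) b' ≫ cokernel.π (α.app (op n)) = 0) (n : ℕ) :
    (rhoInv I G F α hG hF b b' hb hb').app (op n) ≫ α.app (op n) =
      smulMod A (F.obj (op n)) (b * b') := by
  haveI : (F.obj (op n)).IsQuasicoherent := (hF.1 n).1
  refine hom_ext_of_cover _ _ (fun U : X.affineOpens => U.1) (fun U => U.2) affine_cover
    (fun U y => ?_)
  obtain ⟨x, hx⟩ := exists_preimage I G F α hG hF b' n (hb' n) U.2 y
  rw [appLin_comp_apply, rhoInv_app, appLin_smulMod,
    rhoInvApp_apply I G F α b b' n (hb n) (hb' n) U.1 y x hx, LinearMap.map_smul, hx, map_mul,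
    mul_smul]

/-- (R3) `c₂ ρ₁ = c₁ ρ₂` -/
lemma rhoInv_comm (b₁ b₁' b₂ b₂' : A)
    (hb₁ : ∀ n, kernel.ι (α.app (op n)) ≫ smulMod A ((Formal.completion I G).obj (op n)) b₁ = 0)
    (hb₁' : ∀ n, smulMod A (F.obj (op n)) b₁' ≫ cokernel.π (α.app (op n)) = 0)
    (hb₂ : ∀ n, kernel.ι (α.app (op n)) ≫ smulMod A ((Formal.completion I G).obj (op n)) b₂ = 0)
    (hb₂' : ∀ n, smulMod A (F.obj (op n)) b₂' ≫ cokernel.π (α.app (op n)) = 0) (n : ℕ) :
    (rhoInv I G F α hG hF b₁ b₁' hb₁ hb₁').app (op n) ≫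
        smulMod A ((Formal.completion I G).obj (op n)) (b₂ * b₂') =
      (rhoInv I G F α hG hF b₂ b₂' hb₂ hb₂').app (op n) ≫
        smulMod A ((Formal.completion I G).obj (op n)) (b₁ * b₁') := by
  haveI : (F.obj (op n)).IsQuasicoherent := (hF.1 n).1
  refine hom_ext_of_cover _ _ (fun U : X.affineOpens => U.1) (fun U => U.2) affine_cover
    (fun U y => ?_)
  obtain ⟨x₁, hx₁⟩ := exists_preimage I G F α hG hF b₁' n (hb₁' n) U.2 y
  obtain ⟨x₂, hx₂⟩ := exists_preimage I G F α hG hF b₂' n (hb₂' n) U.2 y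
  rw [appLin_comp_apply, appLin_comp_apply, rhoInv_app, rhoInv_app, appLin_smulMod,
    appLin_smulMod, rhoInvApp_apply I G F α b₁ b₁' n (hb₁ n) (hb₁' n) U.1 y x₁ hx₁,
    rhoInvApp_apply I G F α b₂ b₂' n (hb₂ n) (hb₂' n) U.1 y x₂ hx₂]
  -- `b₁ (b₂' x₁ - b₁' x₂) = 0`
  have h1 : appLin (α.app (op n)) U.1 (resA A U.1 b₂' • x₁ - resA A U.1 b₁' • x₂) = 0 := by
    rw [map_sub, LinearMap.map_smul, LinearMap.map_smul, hx₁, hx₂, smul_smul, smul_smul,
      mul_comm, sub_self]
  have h2 := smul_eq_zero_of_kernel I G F α b₁ n (hb₁ n) U.1 _ h1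
  rw [smul_sub, sub_eq_zero] at h2
  rw [map_mul, map_mul]
  calc (resA A U.1 b₂ * resA A U.1 b₂') • resA A U.1 b₁ • x₁
      = resA A U.1 b₂ • (resA A U.1 b₁ • resA A U.1 b₂' • x₁) := by
        simp only [smul_smul]; ring_nf
    _ = resA A U.1 b₂ • (resA A U.1 b₁ • resA A U.1 b₁' • x₂) := by rw [h2]
    _ = (resA A U.1 b₁ * resA A U.1 b₁') • resA A U.1 b₂ • x₂ := by
        simp only [smul_smul]; ring_nf

end RhoInv

section Family

variable (I : Ideal A) (G : X.Modules) (F : ℕᵒᵖ ⥤ X.Modules) (α : Formal.completion I G ⟶ F)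
  {d : ℕ} (c : Fin d → A) (ρ : Fin d → (F ⟶ Formal.completion I G))

/-- `G^d` -/
noncomputable abbrev Gd (G : X.Modules) (d : ℕ) : X.Modules := ⨁ (fun _ : Fin d => G)

/-- the map `(ρ_k)_k : F ⟶ (G^d)^` -/
noncomputable def rhoSum : F ⟶ Formal.completion I (Gd G d) :=
  ∑ k, ρ k ≫ completionMap I (biproduct.ι (fun _ : Fin d => G) k)

lemma rhoSum_app (n : ℕ) : (rhoSum I G F ρ).app (op n) =
    ∑ k, (ρ k).app (op n) ≫ Qmap (I ^ (n + 1)) (biproduct.ι (fun _ : Fin d => G) k) := by
  unfold rhoSum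
  rw [NatTrans.app_sum]
  rfl

lemma rhoSum_comp_π (n : ℕ) (k : Fin d) :
    (rhoSum I G F ρ).app (op n) ≫ Qmap (I ^ (n + 1)) (biproduct.π (fun _ : Fin d => G) k) =
      (ρ k).app (op n) := by
  classical
  rw [rhoSum_app, Preadditive.sum_comp, Finset.sum_eq_single k]
  · rw [Category.assoc, ← Qmap_comp, biproduct.ι_π_self, Qmap_id]
    exact Category.comp_id _
  · intro l _ hl
    rw [Category.assoc, ← Qmap_comp, biproduct.ι_π_ne _ hl, Qmap_zero]
    exact comp_zero
  · intro h; exact absurd (Finset.mem_univ k) h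

/-- the relations `c_l p_k = c_k p_l` -/
noncomputable def relD : Gd G d ⟶ ⨁ (fun _ : Fin d => Gd G d) :=
  biproduct.lift (fun k => biproduct.lift (fun l =>
    biproduct.π (fun _ : Fin d => G) k ≫ smulMod A G (c l) -
      biproduct.π (fun _ : Fin d => G) l ≫ smulMod A G (c k)))

lemma relD_π_π (k l : Fin d) :
    relD G c ≫ biproduct.π (fun _ : Fin d => Gd G d) k ≫ biproduct.π (fun _ : Fin d => G) l =
      biproduct.π (fun _ : Fin d => G) k ≫ smulMod A G (c l) -
        biproduct.π (fun _ : Fin d => G) l ≫ smulMod A G (c k) := by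
  unfold relD
  rw [← Category.assoc, biproduct.lift_π, biproduct.lift_π]

/-- (hρr) the relations kill the image of `ρ` -/
lemma rhoSum_comp_relD
    (R3 : ∀ (k l : Fin d) (n : ℕ),
      (ρ k).app (op n) ≫ smulMod A ((Formal.completion I G).obj (op n)) (c l) =
        (ρ l).app (op n) ≫ smulMod A ((Formal.completion I G).obj (op n)) (c k)) :
    rhoSum I G F ρ ≫ completionMap I (relD G c) = 0 := by
  apply NatTrans.ext
  funext n
  induction n using Opposite.rec with | _ n => ?_
  show (rhoSum I G F ρ).app (op n) ≫ Qmap (I ^ (n + 1)) (relD G c) = 0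
  apply Q_hom_ext
  intro k
  apply Q_hom_ext
  intro l
  rw [zero_comp, zero_comp, Category.assoc, Category.assoc, ← Qmap_comp, ← Qmap_comp, relD_π_π,
    Qmap_sub, Qmap_comp, Qmap_comp, Qmap_smulMod, Qmap_smulMod, Preadditive.comp_sub,
    ← Category.assoc, ← Category.assoc, rhoSum_comp_π, rhoSum_comp_π, sub_eq_zero]
  exact R3 k l n

/-- the kernel of `ρ_n` is killed by the `c k` -/
lemma smulMod_kernel_rhoSum
    (R2 : ∀ (k : Fin d) (n : ℕ), (ρ k).app (op n) ≫ α.app (op n) = smulMod A (F.obj (op n)) (c k))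
    (n : ℕ) (k : Fin d) :
    smulMod A (kernel ((rhoSum I G F ρ).app (op n))) (c k) = 0 := by
  rw [← cancel_mono (kernel.ι ((rhoSum I G F ρ).app (op n))), zero_comp, smulMod_naturality,
    ← R2 k n, ← rhoSum_comp_π I G F ρ n k, ← Category.assoc, ← Category.assoc, kernel.condition,
    zero_comp, zero_comp]

/-- the key identity for (hC) -/
lemma kernel_relD_smulMod
    (R1 : ∀ (k : Fin d) (n : ℕ), α.app (op n) ≫ (ρ k).app (op n) =
      smulMod A ((Formal.completion I G).obj (op n)) (c k)) (n : ℕ) (l : Fin d) :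
    kernel.ι (relD G c) ≫ smulMod A (Gd G d) (c l) ≫ qπ (I ^ (n + 1)) (Gd G d) =
      kernel.ι (relD G c) ≫ biproduct.π (fun _ : Fin d => G) l ≫ qπ (I ^ (n + 1)) G ≫
        α.app (op n) ≫ (rhoSum I G F ρ).app (op n) := by
  apply Q_hom_ext
  intro k
  have hL : (kernel.ι (relD G c) ≫ smulMod A (Gd G d) (c l) ≫ qπ (I ^ (n + 1)) (Gd G d)) ≫
      Qmap (I ^ (n + 1)) (biproduct.π (fun _ : Fin d => G) k) =
      kernel.ι (relD G c) ≫ (biproduct.π (fun _ : Fin d => G) k ≫ smulMod A G (c l)) ≫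
        qπ (I ^ (n + 1)) G := by
    rw [Category.assoc, Category.assoc, qπ_Qmap, ← Category.assoc (smulMod A (Gd G d) (c l)),
      smulMod_naturality]
  have hR : (kernel.ι (relD G c) ≫ biproduct.π (fun _ : Fin d => G) l ≫ qπ (I ^ (n + 1)) G ≫
      α.app (op n) ≫ (rhoSum I G F ρ).app (op n)) ≫
      Qmap (I ^ (n + 1)) (biproduct.π (fun _ : Fin d => G) k) =
      kernel.ι (relD G c) ≫ (biproduct.π (fun _ : Fin d => G) l ≫ smulMod A G (c k)) ≫
        qπ (I ^ (n + 1)) G := by
    simp only [Category.assoc]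
    rw [rhoSum_comp_π, R1 k n]
    have e : qπ (I ^ (n + 1)) G ≫ smulMod A ((Formal.completion I G).obj (op n)) (c k) =
        smulMod A G (c k) ≫ qπ (I ^ (n + 1)) G := (smulMod_naturality _ _).symm
    rw [e]
  rw [hL, hR, ← sub_eq_zero, ← Preadditive.comp_sub, ← Preadditive.sub_comp, ← relD_π_π,
    ← Category.assoc, ← Category.assoc, kernel.condition, zero_comp, zero_comp]

/-- the section `g ↦ (c_k g)_k` -/
noncomputable def uMap : G ⟶ Gd G d := biproduct.lift (fun k => smulMod A G (c k))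

lemma uMap_relD : uMap G c ≫ relD G c = 0 := by
  apply biproduct.hom_ext
  intro k
  apply biproduct.hom_ext
  intro l
  rw [zero_comp, zero_comp, Category.assoc, Category.assoc, relD_π_π, Preadditive.comp_sub,
    ← Category.assoc, ← Category.assoc]
  unfold uMap
  rw [biproduct.lift_π, biproduct.lift_π, ← smulMod_mul, ← smulMod_mul, mul_comm, sub_self]

/-- (I1) -/
lemma xi_rhoSum
    (R1 : ∀ (k : Fin d) (n : ℕ), α.app (op n) ≫ (ρ k).app (op n) =
      smulMod A ((Formal.completion I G).obj (op n)) (c k)) (n : ℕ) :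
    qπ (I ^ (n + 1)) G ≫ α.app (op n) ≫ (rhoSum I G F ρ).app (op n) =
      uMap G c ≫ qπ (I ^ (n + 1)) (Gd G d) := by
  apply Q_hom_ext
  intro k
  simp only [Category.assoc]
  rw [rhoSum_comp_π, R1 k n, qπ_Qmap]
  have e : qπ (I ^ (n + 1)) G ≫ smulMod A ((Formal.completion I G).obj (op n)) (c k) =
      smulMod A G (c k) ≫ qπ (I ^ (n + 1)) G := (smulMod_naturality _ _).symm
  rw [e, ← Category.assoc (uMap G c)]
  unfold uMap
  rw [biproduct.lift_π]

/-- (I2) -/
lemma xi_map {n m : ℕ} (h : n ≤ m) :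
    qπ (I ^ (m + 1)) G ≫ α.app (op m) ≫ F.map (homOfLE h).op =
      qπ (I ^ (n + 1)) G ≫ α.app (op n) := by
  rw [← α.naturality, ← Category.assoc, Groth.Agent.Lib.helper8.Rees.qπ_completion_map I G h]

omit [X.Over (Spec (CommRingCat.of A))] in
lemma sec_biproduct_ext {f : Fin d → X.Modules} {U : X.Opens} {x x' : Γ(⨁ f, U)}
    (h : ∀ k, appLin (biproduct.π f k) U x = appLin (biproduct.π f k) U x') : x = x' := by
  rw [biproduct_section_eq f U x, biproduct_section_eq f U x']
  simp only [h]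

lemma appLin_sub {M N : X.Modules} (f g : M ⟶ N) (U : X.Opens) (x : Γ(M, U)) :
    appLin (f - g) U x = appLin f U x - appLin g U x := rfl

/-- multiplication by `c' c_k` on a subobject `F'` of `G^d ⊞ Fe` cut out by the relations factors
through a lift `l : G ⟶ F'` of `g ↦ ((c_k g)_k, v g)` -/
lemma smulMod_eq_of_lift {Fe F' : X.Modules} (j : F' ⟶ Gd G d ⊞ Fe) [Mono j]
    (hj : j ≫ biprod.fst ≫ relD G c = 0) (l : G ⟶ F') (hl1 : l ≫ j ≫ biprod.fst = uMap G c)
    (v : G ⟶ Fe) (hl2 : l ≫ j ≫ biprod.snd = v) (c' : A) (hc' : smulMod A Fe c' = 0) (k : Fin d) :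
    smulMod A F' (c' * c k) =
      (j ≫ biprod.fst ≫ biproduct.π (fun _ : Fin d => G) k) ≫ smulMod A G c' ≫ l := by
  apply Groth.Agent.Lib.helper16.QCohEpi.hom_ext_of_basis _ _ (Set.univ : Set X.Opens)
  · rw [TopologicalSpace.Opens.isBasis_iff_nbhd]
    intro O x hx
    exact ⟨O, Set.mem_univ _, hx, le_rfl⟩
  intro U _ y
  show appLin (smulMod A F' (c' * c k)) U y =
    appLin ((j ≫ biprod.fst ≫ biproduct.π (fun _ : Fin d => G) k) ≫ smulMod A G c' ≫ l) U y
  apply appLin_injective_of_mono j U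
  rw [← appLin_comp_apply, ← appLin_comp_apply, smulMod_naturality, appLin_comp_apply,
    appLin_smulMod]
  -- notation
  obtain ⟨z, hz⟩ : ∃ z, z = appLin j U y := ⟨_, rfl⟩
  obtain ⟨p, hp⟩ : ∃ p, p = appLin biprod.fst U z := ⟨_, rfl⟩
  have hrel : ∀ i k' : Fin d,
      resA A U (c k') • appLin (biproduct.π (fun _ : Fin d => G) i) U p =
        resA A U (c i) • appLin (biproduct.π (fun _ : Fin d => G) k') U p := by
    intro i k'
    have h1 := congrArg (fun τ => appLin (τ ≫ biproduct.π (fun _ : Fin d => Gd G d) i ≫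
      biproduct.π (fun _ : Fin d => G) k') U y) hj
    simp only [Category.assoc] at h1
    rw [relD_π_π] at h1
    simp only [appLin_comp_apply, appLin_sub, appLin_smulMod, ← hz, ← hp] at h1
    have h2 : appLin (0 : F' ⟶ ⨁ (fun _ : Fin d => Gd G d)) U y = 0 := rfl
    rw [h2, map_zero, map_zero, sub_eq_zero] at h1
    exact h1
  have hR : appLin (((j ≫ biprod.fst ≫ biproduct.π (fun _ : Fin d => G) k) ≫ smulMod A G c' ≫ l)
      ≫ j) U y = appLin (l ≫ j) U
        (resA A U c' • appLin (biproduct.π (fun _ : Fin d => G) k) U p) := by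
    simp only [Category.assoc, appLin_comp_apply, appLin_smulMod, ← hz, ← hp]
  rw [hR, ← hz]
  apply sec_ext
  · rw [← appLin_comp_apply, Category.assoc, hl1, LinearMap.map_smul, ← hp]
    apply sec_biproduct_ext
    intro i
    rw [LinearMap.map_smul, ← appLin_comp_apply]
    unfold uMap
    rw [biproduct.lift_π, appLin_smulMod, map_mul, mul_smul, hrel i k, smul_comm,
      smul_comm (resA A U (c i))]
  · have e1 : appLin biprod.snd U (resA A U (c' * c k) • z) = 0 := by
      rw [LinearMap.map_smul, map_mul, mul_smul, ← appLin_smulMod (M := Fe), hc']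
      rfl
    have e2 : appLin biprod.snd U (appLin (l ≫ j) U
        (resA A U c' • appLin (biproduct.π (fun _ : Fin d => G) k) U p)) = 0 := by
      rw [← appLin_comp_apply, Category.assoc, hl2, LinearMap.map_smul,
        ← appLin_smulMod (M := Fe), hc']
      rfl
    exact e1.trans e2.symm

/-- **existence, right-hand version, from a family of quasi-inverses** -/
theorem exists_right [IsNoetherian X] (hG : Coh.IsCoh G) (hF : IsCohFormal I F)
    (R1 : ∀ (k : Fin d) (n : ℕ), α.app (op n) ≫ (ρ k).app (op n) =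
      smulMod A ((Formal.completion I G).obj (op n)) (c k))
    (R2 : ∀ (k : Fin d) (n : ℕ), (ρ k).app (op n) ≫ α.app (op n) = smulMod A (F.obj (op n)) (c k))
    (R3 : ∀ (k l : Fin d) (n : ℕ),
      (ρ k).app (op n) ≫ smulMod A ((Formal.completion I G).obj (op n)) (c l) =
        (ρ l).app (op n) ≫ smulMod A ((Formal.completion I G).obj (op n)) (c k))
    {q' d₀ : ℕ} (W : Fin d₀ → X.Opens) (hW : ∀ i, IsAffineOpen (W i))
    (hcov : ∀ x : X, ∃ i, x ∈ W i)
    (hgen : ∀ i, (I ^ q').map (resA A (W i)) ≤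
      Ideal.span (Set.range (fun k => resA A (W i) (c k)))) :
    ∃ (F' : X.Modules) (a : G ⟶ F') (β : Formal.completion I F' ≅ F), Coh.IsCoh F' ∧
      Formal2.KerCokerKilledByIPowHom I a ∧
      ∀ n : ℕ, Formal.modPowπ I (n + 1) G ≫ α.app (op n) =
        a ≫ Formal.modPowπ I (n + 1) F' ≫ β.hom.app (op n) := by
  haveI : G.IsQuasicoherent := hG.1
  haveI hqF : ∀ n, (F.obj (op n)).IsQuasicoherent := fun n => (hF.1 n).1
  have hGd : Coh.IsCoh (Gd G d) :=
    Groth.Agent.Lib.helper8.Dev.isCoh_biproduct _ (fun _ => hG)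
  have hD : Coh.IsCoh (⨁ (fun _ : Fin d => Gd G d)) :=
    Groth.Agent.Lib.helper8.Dev.isCoh_biproduct _ (fun _ => hGd)
  haveI : (Gd G d).IsQuasicoherent := hGd.1
  haveI : (⨁ (fun _ : Fin d => Gd G d)).IsQuasicoherent := hD.1
  haveI hqQ : ∀ n, ((Formal.completion I (Gd G d)).obj (op n)).IsQuasicoherent :=
    fun n => isQuasicoherent_Q _ (Gd G d)
  -- (K)
  have hK : ∀ n, KilledBy (I ^ q') (kernel ((rhoSum I G F ρ).app (op n))) := by
    intro n a ha
    haveI : (kernel ((rhoSum I G F ρ).app (op n))).IsQuasicoherent :=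
      Groth.Agent.Lib.helper7.CohKer.isQuasicoherent_kernel _
    have h1 := comp_smulMod_eq_zero_of_generators (𝟙 (kernel ((rhoSum I G F ρ).app (op n)))) c
      (fun k => by rw [Category.id_comp]; exact smulMod_kernel_rhoSum I G F α c ρ R2 n k)
      (I ^ q') W hW hcov hgen a ha
    rw [Category.id_comp] at h1
    exact h1
  -- (hC)
  have hC : ∀ a ∈ I ^ q', ∀ n : ℕ, kernel.ι (relD G c) ≫ smulMod A (Gd G d) a ≫
      qπ (I ^ (n + 1)) (Gd G d) ≫ cokernel.π ((rhoSum I G F ρ).app (op n)) = 0 := by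
    intro a ha n
    haveI : (kernel (relD G c)).IsQuasicoherent :=
      Groth.Agent.Lib.helper7.CohKer.isQuasicoherent_kernel _
    have h1 := comp_smulMod_eq_zero_of_generators
      (kernel.ι (relD G c) ≫ qπ (I ^ (n + 1)) (Gd G d) ≫
        cokernel.π ((rhoSum I G F ρ).app (op n))) c
      (fun l => by
        have e1 : (kernel.ι (relD G c) ≫ qπ (I ^ (n + 1)) (Gd G d) ≫
            cokernel.π ((rhoSum I G F ρ).app (op n))) ≫ smulMod A _ (c l) =
            (kernel.ι (relD G c) ≫ smulMod A (Gd G d) (c l) ≫ qπ (I ^ (n + 1)) (Gd G d)) ≫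
              cokernel.π ((rhoSum I G F ρ).app (op n)) := by
          exact comp3_smulMod _ _ _ _
        rw [e1, kernel_relD_smulMod I G F α c ρ R1 n l]
        simp only [Category.assoc]
        rw [cokernel.condition, comp_zero, comp_zero, comp_zero, comp_zero])
      (I ^ q') W hW hcov hgen a ha
    have e2 : kernel.ι (relD G c) ≫ smulMod A (Gd G d) a ≫ qπ (I ^ (n + 1)) (Gd G d) ≫
        cokernel.π ((rhoSum I G F ρ).app (op n)) =
        (kernel.ι (relD G c) ≫ qπ (I ^ (n + 1)) (Gd G d) ≫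
          cokernel.π ((rhoSum I G F ρ).app (op n))) ≫ smulMod A _ a := by
      rw [comp3_smulMod]
      simp only [Category.assoc]
    rw [e2]
    exact h1
  obtain ⟨e, m, s, p, hp1, hp2, hp3, hp4⟩ := exists_mid I F (Gd G d) (rhoSum I G F ρ) (relD G c)
    hF hGd hD hK (rhoSum_comp_relD I G F c ρ R3) hC
  obtain ⟨β, hβ⟩ := completion_iso_of_isCok' I F _ p hp1 hp2
  -- the map `a`
  obtain ⟨l, hl⟩ := exists_lift_mid I F (Gd G d) (rhoSum I G F ρ) (relD G c) hF hGd e m
    (uMap G c) (qπ (I ^ (e + 1)) G ≫ α.app (op e)) (uMap_relD G c)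
    (fun U : X.affineOpens => U.1) (fun U => U.2) affine_cover
    (fun U g => by
      refine ⟨appLin (α.app (op m)) U.1 (appLin (qπ (I ^ (m + 1)) G) U.1 g), ?_, ?_⟩
      · have h1 := congrArg (fun τ => appLin τ U.1 g) (xi_rhoSum I G F α c ρ R1 m)
        simp only [appLin_comp_apply] at h1
        exact h1
      · have h1 := congrArg (fun τ => appLin τ U.1 g)
          ((xi_map I G F α (min_le_left m e)).trans (xi_map I G F α (min_le_right m e)).symm)
        simp only [appLin_comp_apply] at h1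
        exact h1)
  have hl1 : l ≫ midι I F (Gd G d) (rhoSum I G F ρ) (relD G c) e m ≫ biprod.fst = uMap G c := by
    rw [← Category.assoc, hl, biprod.lift_fst]
  have hl2 : l ≫ midι I F (Gd G d) (rhoSum I G F ρ) (relD G c) e m ≫ biprod.snd =
      qπ (I ^ (e + 1)) G ≫ α.app (op e) := by
    rw [← Category.assoc, hl, biprod.lift_snd]
  refine ⟨midObj I F (Gd G d) (rhoSum I G F ρ) (relD G c) e m, l, β,
    isCoh_midObj I F (Gd G d) (rhoSum I G F ρ) (relD G c) hF hGd hD e m, ?_, ?_⟩
  · -- kernel and cokernel of `l`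
    haveI hqF' : (midObj I F (Gd G d) (rhoSum I G F ρ) (relD G c) e m).IsQuasicoherent :=
      (isCoh_midObj I F (Gd G d) (rhoSum I G F ρ) (relD G c) hF hGd hD e m).1
    refine ⟨e + q', ?_, ?_⟩
    · intro a ha
      haveI : (kernel l).IsQuasicoherent :=
        Groth.Agent.Lib.helper7.CohKer.isQuasicoherent_kernel l
      have h1 := comp_smulMod_eq_zero_of_generators (𝟙 (kernel l)) c
        (fun k => by
          rw [Category.id_comp, ← cancel_mono (kernel.ι l), zero_comp, smulMod_naturality]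
          have e1 : smulMod A G (c k) = uMap G c ≫ biproduct.π (fun _ : Fin d => G) k := by
            unfold uMap
            rw [biproduct.lift_π]
          rw [e1, ← hl1, ← Category.assoc, ← Category.assoc, kernel.condition, zero_comp,
            zero_comp])
        (I ^ q') W hW hcov hgen a (Ideal.pow_le_pow_right (by omega) ha)
      rw [Category.id_comp] at h1
      exact h1
    · intro a ha
      have hmid : midι I F (Gd G d) (rhoSum I G F ρ) (relD G c) e m ≫ biprod.fst ≫ relD G c =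
          0 := midι_comp_rel I F (Gd G d) (rhoSum I G F ρ) (relD G c) e m
      have e1 : e + q' + 1 = (e + 1) + q' := by omega
      rw [e1, pow_add] at ha
      have key : cokernel.π l ≫ smulMod A (cokernel l) a = 0 := by
        refine Submodule.mul_induction_on ha (fun c' hc' a' ha' => ?_) (fun x y hx hy => ?_)
        · -- `c' ∈ I^(e+1)`, `a' ∈ I^q'`
          have h2 : ∀ k, (cokernel.π l ≫ smulMod A (cokernel l) c') ≫
              smulMod A (cokernel l) (c k) = 0 := by
            intro k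
            rw [Category.assoc, ← smulMod_mul, mul_comm, ← smulMod_naturality,
              smulMod_eq_of_lift G c (midι I F (Gd G d) (rhoSum I G F ρ) (relD G c) e m) hmid l
                hl1 _ hl2 c' (hF.2.1 e c' hc') k]
            simp only [Category.assoc, cokernel.condition, comp_zero]
          have h3 := comp_smulMod_eq_zero_of_generators
            (cokernel.π l ≫ smulMod A (cokernel l) c') c h2 (I ^ q') W hW hcov hgen a' ha'
          rw [Category.assoc, ← smulMod_mul, mul_comm] at h3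
          exact h3
        · rw [smulMod_add, Preadditive.comp_add, hx, hy, add_zero]
      exact (cancel_epi (cokernel.π l)).1 (key.trans comp_zero.symm)
  · intro n
    rw [hβ n]
    show qπ (I ^ (n + 1)) G ≫ α.app (op n) = l ≫ p n
    symm
    refine hom_ext_of_cover _ _ (fun U : X.affineOpens => U.1) (fun U => U.2) affine_cover
      (fun U g => ?_)
    -- the sheaf identity (S)
    have hS : (qπ (I ^ (n + s + 1)) G ≫ α.app (op (n + s))) ≫
        (sigE I F (Gd G d) (rhoSum I G F ρ) e).app (op (n + s)) =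
        l ≫ midι I F (Gd G d) (rhoSum I G F ρ) (relD G c) e m ≫
          piE I F (Gd G d) e (n + s) := by
      apply biprod.hom_ext
      · show ((qπ (I ^ (n + s + 1)) G ≫ α.app (op (n + s))) ≫
            (sigE I F (Gd G d) (rhoSum I G F ρ) e).app (op (n + s))) ≫
            fstE I F (Gd G d) e (n + s) =
          (l ≫ midι I F (Gd G d) (rhoSum I G F ρ) (relD G c) e m ≫
            piE I F (Gd G d) e (n + s)) ≫ fstE I F (Gd G d) e (n + s)
        have eL : ((qπ (I ^ (n + s + 1)) G ≫ α.app (op (n + s))) ≫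
            (sigE I F (Gd G d) (rhoSum I G F ρ) e).app (op (n + s))) ≫
            fstE I F (Gd G d) e (n + s) =
            qπ (I ^ (n + s + 1)) G ≫ α.app (op (n + s)) ≫
              (rhoSum I G F ρ).app (op (n + s)) := by
          rw [Category.assoc, sigE_fst, Category.assoc]
        have eR : (l ≫ midι I F (Gd G d) (rhoSum I G F ρ) (relD G c) e m ≫
            piE I F (Gd G d) e (n + s)) ≫ fstE I F (Gd G d) e (n + s) =
            (l ≫ midι I F (Gd G d) (rhoSum I G F ρ) (relD G c) e m ≫ biprod.fst) ≫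
              qπ (I ^ (n + s + 1)) (Gd G d) := by
          simp only [Category.assoc, piE_fst]
        rw [eL, eR, hl1]
        exact xi_rhoSum I G F α c ρ R1 (n + s)
      · show ((qπ (I ^ (n + s + 1)) G ≫ α.app (op (n + s))) ≫
            (sigE I F (Gd G d) (rhoSum I G F ρ) e).app (op (n + s))) ≫
            sndE I F (Gd G d) e (n + s) =
          (l ≫ midι I F (Gd G d) (rhoSum I G F ρ) (relD G c) e m ≫
            piE I F (Gd G d) e (n + s)) ≫ sndE I F (Gd G d) e (n + s)
        have eL : ((qπ (I ^ (n + s + 1)) G ≫ α.app (op (n + s))) ≫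
            (sigE I F (Gd G d) (rhoSum I G F ρ) e).app (op (n + s))) ≫
            sndE I F (Gd G d) e (n + s) =
            qπ (I ^ (n + s + 1)) G ≫ α.app (op (n + s)) ≫
              F.map (homOfLE (min_le_left (n + s) e)).op := by
          rw [Category.assoc, sigE_snd, Category.assoc]
        have eR : (l ≫ midι I F (Gd G d) (rhoSum I G F ρ) (relD G c) e m ≫
            piE I F (Gd G d) e (n + s)) ≫ sndE I F (Gd G d) e (n + s) =
            (l ≫ midι I F (Gd G d) (rhoSum I G F ρ) (relD G c) e m ≫ biprod.snd) ≫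
              F.map (homOfLE (min_le_right (n + s) e)).op := by
          simp only [Category.assoc, piE_snd]
        rw [eL, eR, hl2, Category.assoc, xi_map, xi_map]
    have hxy := congrArg (fun τ => appLin τ U.1 g) hS
    simp only [appLin_comp_apply] at hxy
    have h4 := hp4 n U.1 (appLin l U.1 g) _ hxy
    rw [appLin_comp_apply, h4, ← appLin_comp_apply, ← appLin_comp_apply]
    exact congrArg (fun τ => appLin τ U.1 g) (xi_map I G F α (Nat.le_add_right n s))

end Family

end Groth.Agent.Lib.helper8.GEFamily
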