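import Mathlib
import Groth.Agent.Lib.Helper8.GEComplExt
import Groth.Agent.Lib.Helper25.PullFlatExact
import Groth.Agent.S0829
import Groth.Agent.S0851

/-!
# Extension of formal modules on an open of `Spec A` is invariant under `I`-isogeny (helper8)

`extends_iff_of_kerCokerKilled` (S9537 for an arbitrary open `U` of `Spec A`): for a morphism `α : G ⟶ G'`
of coherent formal modules on `U` whose componentwise kernels and cokernels are killed by a fixed power
of `I`, `G` extends to `Spec A` iff `G'` does. Via `extends_iff_completion` and the two existence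
results S0829, S0851 on the preimage of `U` in `Spec Â`.
-/

set_option autoImplicit false
set_option linter.style.haveILetI false
set_option linter.unusedSectionVars false
universe u

namespace Groth.Agent.Lib.helper8.GEComplExt

open CategoryTheory CategoryTheory.Limits AlgebraicGeometry Opposite TopologicalSpace Formal
open Groth.Agent.Lib.helper8.FF Groth.Agent.Lib.helper8.Rees Groth.Agent.Lib.helper8.FTors
open Groth.Agent.Lib.helper8.FCompl Groth.Agent.Lib.helper8.FPull
open Groth.Agent.Lib.helper8.GENilIso Groth.Agent.Lib.helper8.RingChange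
open Groth.Agent.Lib.Helper25.PullFlatExact

section Killed

variable {A : Type u} [CommRing A] {X Y : Scheme.{u}} [X.Over (Spec (CommRingCat.of A))]
  [Y.Over (Spec (CommRingCat.of A))]

lemma killedBy_of_iso {J : Ideal A} {M N : X.Modules} (e : M ≅ N) (h : KilledBy J M) :
    KilledBy J N := by
  intro a ha
  have h1 := smulMod_naturality e.hom a
  rw [h a ha, zero_comp] at h1
  rw [← cancel_epi e.hom, ← h1, comp_zero]

variable (f : X ⟶ Y) (hf : f ≫ (Y ↘ Spec (CommRingCat.of A)) = X ↘ Spec (CommRingCat.of A))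

include hf in
lemma killedBy_pullback {J : Ideal A} {M : Y.Modules} (h : KilledBy J M) :
    KilledBy J ((Scheme.Modules.pullback f).obj M) := fun a ha => by
  rw [← pullback_map_smulMod f hf, h a ha, Functor.map_zero]

include hf in
/-- flat pullback preserves "kernel and cokernel killed by `J`" -/
lemma killedBy_kernel_cokernel_pullback [Flat f] {J : Ideal A} {M N : Y.Modules} (a : M ⟶ N)
    (hk : KilledBy J (kernel a)) (hc : KilledBy J (cokernel a)) :
    KilledBy J (kernel ((Scheme.Modules.pullback f).map a)) ∧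
      KilledBy J (cokernel ((Scheme.Modules.pullback f).map a)) :=
  ⟨killedBy_of_iso (PreservesKernel.iso (Scheme.Modules.pullback f) a) (killedBy_pullback f hf hk),
    killedBy_of_iso (PreservesCokernel.iso (Scheme.Modules.pullback f) a)
      (killedBy_pullback f hf hc)⟩

end Killed

section Main

open Scheme.Modules

variable (A : Type u) [CommRing A] [IsNoetherianRing A] (I : Ideal A)

/-- one direction of S9537 -/
theorem extends_of_kerCokerKilled_aux (U : (Spec (CommRingCat.of A)).Opens)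
    (G G' : ℕᵒᵖ ⥤ (↑U : Scheme.{u}).Modules) (hG : Formal.IsCohFormal I G)
    (hG' : Formal.IsCohFormal I G') (α : G ⟶ G') (hα : Formal2.KerCokerKilledByIPow I α) :
    (@Algz.Extends A _ (Spec (CommRingCat.of A)) ⟨𝟙 (Spec (CommRingCat.of A))⟩ I U G ↔
      @Algz.Extends A _ (Spec (CommRingCat.of A)) ⟨𝟙 (Spec (CommRingCat.of A))⟩ I U G') := by
  classical
  rw [extends_iff_completion A I U G hG, extends_iff_completion A I U G' hG']
  letI iS : (Spec (CommRingCat.of A)).Over (Spec (CommRingCat.of A)) := ⟨𝟙 _⟩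
  letI iX' : (Spec (CommRingCat.of (AdicCompletion I A))).Over (Spec (CommRingCat.of A)) :=
    ⟨fC A I⟩
  have hfg : I.FG := (isNoetherianRing_iff_ideal_fg A).mp inferInstance I
  haveI : IsNoetherianRing (AdicCompletion I A) := Groth.Agent.S0542.result A I hfg
  haveI : Flat (fC A I) := Groth.Agent.Lib.helper8.CanonExtBC.flat_φ A (AdicCompletion I A)
  haveI : AlgebraicGeometry.IsNoetherian (↑(fC A I ⁻¹ᵁ U) : Scheme.{u}) :=
    isNoetherian_opens (fC A I ⁻¹ᵁ U)
  have hfU : (fC A I ∣_ U) ≫ ((↑U : Scheme.{u}) ↘ Spec (CommRingCat.of A)) =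
      (↑(fC A I ⁻¹ᵁ U) : Scheme.{u}) ↘ Spec (CommRingCat.of A) := by
    show (fC A I ∣_ U) ≫ U.ι ≫ 𝟙 _ = (fC A I ⁻¹ᵁ U).ι ≫ fC A I
    rw [Category.comp_id, morphismRestrict_ι]
  -- the two structures on `U'`
  let kA : (↑(fC A I ⁻¹ᵁ U) : Scheme.{u}).Over (Spec (CommRingCat.of A)) := inferInstance
  let kA' : (↑(fC A I ⁻¹ᵁ U) : Scheme.{u}).Over (Spec (CommRingCat.of (AdicCompletion I A))) :=
    inferInstance
  have hk : kA.hom = kA'.hom ≫ Spec.map (CommRingCat.ofHom (algebraMap A (AdicCompletion I A))) := by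
    show (fC A I ⁻¹ᵁ U).ι ≫ fC A I = ((fC A I ⁻¹ᵁ U).ι ≫ 𝟙 _) ≫ fC A I
    rw [Category.comp_id]
  set I' := I.map (algebraMap A (AdicCompletion I A)) with hI'
  set P := Scheme.Modules.pullback (fC A I ∣_ U) with hP
  have hGP : IsCohFormal I' (G ⋙ P) :=
    Groth.Agent.Lib.helper8.RingChange.isCohFormal_map (algebraMap A (AdicCompletion I A)) kA kA' hk I _
      (Groth.Agent.Lib.helper8.FPull.isCohFormal_pullback (fC A I ∣_ U) hfU I G hG)
  have hG'P : IsCohFormal I' (G' ⋙ P) :=
    Groth.Agent.Lib.helper8.RingChange.isCohFormal_map (algebraMap A (AdicCompletion I A)) kA kA' hk I _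
      (Groth.Agent.Lib.helper8.FPull.isCohFormal_pullback (fC A I ∣_ U) hfU I G' hG')
  obtain ⟨t, ht⟩ := hα
  have hα' : ∀ n : ℕ, KilledBy (I' ^ (t + 1)) (kernel (P.map (α.app (op n)))) ∧
      KilledBy (I' ^ (t + 1)) (cokernel (P.map (α.app (op n)))) := by
    intro n
    obtain ⟨h1, h2⟩ := killedBy_kernel_cokernel_pullback (fC A I ∣_ U) hfU (α.app (op n))
      (ht n).1 (ht n).2
    rw [hI', ← Ideal.map_pow]
    exact ⟨Groth.Agent.Lib.helper8.RingChange.killedBy_map (algebraMap A (AdicCompletion I A))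
        kA kA' hk h1,
      Groth.Agent.Lib.helper8.RingChange.killedBy_map (algebraMap A (AdicCompletion I A))
        kA kA' hk h2⟩
  constructor
  · rintro ⟨F', hF', ⟨e⟩⟩
    let β : Formal.completion I' F' ⟶ G' ⋙ P := e.hom ≫ Functor.whiskerRight α P
    have hβ : Formal2.KerCokerKilledByIPow I' β := by
      refine ⟨t, fun n => ?_⟩
      show KilledBy (I' ^ (t + 1)) (kernel (e.hom.app (op n) ≫ P.map (α.app (op n)))) ∧
        KilledBy (I' ^ (t + 1)) (cokernel (e.hom.app (op n) ≫ P.map (α.app (op n))))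
      exact ⟨killedBy_of_iso (kernelIsIsoComp _ _).symm (hα' n).1,
        killedBy_of_iso (cokernelEpiComp _ _).symm (hα' n).2⟩
    obtain ⟨F'', a, β', hF'', -, -⟩ := Groth.Agent.S0851.result (AdicCompletion I A) I' _ F' hF'
      (G' ⋙ P) hG'P β hβ
    exact ⟨F'', hF'', ⟨β'⟩⟩
  · rintro ⟨F', hF', ⟨e⟩⟩
    let β : G ⋙ P ⟶ Formal.completion I' F' := Functor.whiskerRight α P ≫ e.inv
    have hβ : Formal2.KerCokerKilledByIPow I' β := by
      refine ⟨t, fun n => ?_⟩
      show KilledBy (I' ^ (t + 1)) (kernel (P.map (α.app (op n)) ≫ e.inv.app (op n))) ∧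
        KilledBy (I' ^ (t + 1)) (cokernel (P.map (α.app (op n)) ≫ e.inv.app (op n)))
      exact ⟨killedBy_of_iso (kernelCompMono _ _).symm (hα' n).1,
        killedBy_of_iso (cokernelCompIsIso _ _).symm (hα' n).2⟩
    obtain ⟨F'', a, β', hF'', -, -⟩ := Groth.Agent.S0829.result (AdicCompletion I A) I' _ F' hF'
      (G ⋙ P) hGP β hβ
    exact ⟨F'', hF'', ⟨β'.symm⟩⟩

end Main

end Groth.Agent.Lib.helper8.GEComplExt
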