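import Mathlib
import Groth.Agent.Lib.Helper8.GETower

/-!
# Kernels of morphisms of adic towers: stabilisation (helper8)

`B` Noetherian, `J` an ideal, `(T, tr)`, `(T', tr')` adic towers with `T 0`, `T' 0` finite, and a compatible family
`φ n : T n → T' n`.  Passing to the limit gives a map `Φ : M → M'` of finite modules over the completion of `B`; by
Artin–Rees applied to `ker Φ` and `range Φ` the images `D m` of `ker Φ` in `T m` satisfy

* `D m = tr m m' (ker (φ m'))` for all `m' ≥ m + c`;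
* `tr m k (D k) = D m`;
* an element of `D k` dying in `T m`, `m ≥ n + c`, lies in `J^(n+1) D k`.

So `n ↦ D (n + c) / J^(n+1) D (n + c)` is an adic tower: the kernel of `φ` in the category of adic towers.
-/

set_option autoImplicit false
universe u

namespace Groth.Agent.Lib.helper8.GEKerAlg

open Groth.Agent.Lib.Lead.GE Groth.Agent.Lib.helper8.LimAdic Groth.Agent.Lib.helper8.GETower

variable {B : Type u} [CommRing B] {J : Ideal B}
variable {T : ℕ → Type u} [∀ n, AddCommGroup (T n)] [∀ n, Module B (T n)]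
variable {tr : ∀ (n m : ℕ), n ≤ m → T m →ₗ[B] T n}
variable {T' : ℕ → Type u} [∀ n, AddCommGroup (T' n)] [∀ n, Module B (T' n)]
variable {tr' : ∀ (n m : ℕ), n ≤ m → T' m →ₗ[B] T' n}
variable (φ : ∀ n, T n →ₗ[B] T' n)
  (hφ : ∀ (n m : ℕ) (h : n ≤ m) (x : T m), tr' n m h (φ m x) = φ n (tr n m h x))

/-- the induced map on compatible families -/
def limMap : Lim T tr →ₗ[B] Lim T' tr' where
  toFun l := ⟨fun n => φ n ((l : ∀ n, T n) n), fun n => by
    have h1 : tr n (n + 1) (Nat.le_succ n) ((l : ∀ n, T n) (n + 1)) = (l : ∀ n, T n) n := l.2 n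
    show tr' n (n + 1) (Nat.le_succ n) (φ (n + 1) ((l : ∀ n, T n) (n + 1))) =
      φ n ((l : ∀ n, T n) n)
    rw [hφ, h1]⟩
  map_add' l l' := by
    apply Subtype.ext
    funext n
    show φ n (((l + l' : Lim T tr) : ∀ n, T n) n) = φ n ((l : ∀ n, T n) n) + φ n ((l' : ∀ n, T n) n)
    rw [← map_add]
    rfl
  map_smul' b l := by
    apply Subtype.ext
    funext n
    show φ n (((b • l : Lim T tr) : ∀ n, T n) n) = b • φ n ((l : ∀ n, T n) n)
    rw [← LinearMap.map_smul]
    rfl

lemma limMap_apply (l : Lim T tr) (n : ℕ) :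
    ((limMap φ hφ l : Lim T' tr') : ∀ n, T' n) n = φ n ((l : ∀ n, T n) n) := rfl

variable (J) in
/-- the induced map on the completed limits -/
noncomputable def limCMap : LimC J T tr →ₗ[AdicCompletion J B] LimC J T' tr' :=
  AdicCompletion.map J (limMap φ hφ)

lemma ev_limCMap (hT : IsAdicTower J T tr) (hT' : IsAdicTower J T' tr') (n : ℕ)
    (z : LimC J T tr) : ev hT' n (limCMap J φ hφ z) = φ n (ev hT n z) := by
  obtain ⟨l, hl⟩ := Submodule.Quotient.mk_surjective _ (z.val (n + 1))
  rw [ev_eq_of_val hT n z l hl.symm, ← limMap_apply φ hφ l n]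
  apply ev_eq_of_val hT' n _ (limMap φ hφ l)
  show (AdicCompletion.map J (limMap φ hφ) z).val (n + 1) = _
  rw [AdicCompletion.map_val_apply, ← hl, LinearMap.reduceModIdeal_apply]

include hφ in
/-- **stabilisation of the kernels** -/
theorem exists_stable [IsNoetherianRing B] (hT : IsAdicTower J T tr) (hT' : IsAdicTower J T' tr')
    [Module.Finite B (T 0)] [Module.Finite B (T' 0)] :
    ∃ (c : ℕ) (D : ∀ m, Submodule B (T m)),
      (∀ (m m' : ℕ) (h : m ≤ m'), m + c ≤ m' →
        Submodule.map (tr m m' h) (LinearMap.ker (φ m')) = D m) ∧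
      (∀ (m k : ℕ) (h : m ≤ k), Submodule.map (tr m k h) (D k) = D m) ∧
      (∀ (n m k : ℕ) (h : m ≤ k), n + c ≤ m → ∀ d ∈ D k, tr m k h d = 0 →
        d ∈ J ^ (n + 1) • D k) := by
  classical
  have hJ : J.FG := IsNoetherian.noetherian J
  haveI : IsNoetherianRing (AdicCompletion J B) := Groth.Agent.S0542.result B J hJ
  haveI := finite_limit hT hJ
  haveI := finite_limit hT' hJ
  obtain ⟨c1, hc1⟩ := ar_sub (J.map (algebraMap B (AdicCompletion J B)))
    (LinearMap.range (limCMap J φ hφ))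
  obtain ⟨c2, hc2⟩ := ar_sub (J.map (algebraMap B (AdicCompletion J B)))
    (LinearMap.ker (limCMap J φ hφ))
  have hle : ∀ {a b : ℕ}, a ≤ b → (J.map (algebraMap B (AdicCompletion J B))) ^ b •
      (⊤ : Submodule (AdicCompletion J B) (LimC J T tr)) ≤
      (J.map (algebraMap B (AdicCompletion J B))) ^ a • ⊤ := fun h =>
    Submodule.smul_mono_left (Ideal.pow_le_pow_right h)
  have hDk : ∀ (m k : ℕ) (h : m ≤ k),
      Submodule.map (tr m k h) (Submodule.map (ev hT k)
        ((LinearMap.ker (limCMap J φ hφ)).restrictScalars B)) =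
      Submodule.map (ev hT m) ((LinearMap.ker (limCMap J φ hφ)).restrictScalars B) := by
    intro m k h
    apply le_antisymm
    · rintro _ ⟨_, ⟨z, hz, rfl⟩, rfl⟩
      exact ⟨z, hz, (ev_compat hT h z).symm⟩
    · rintro _ ⟨z, hz, rfl⟩
      exact ⟨ev hT k z, ⟨z, hz, rfl⟩, ev_compat hT h z⟩
  refine ⟨max c1 c2, fun m => Submodule.map (ev hT m)
    ((LinearMap.ker (limCMap J φ hφ)).restrictScalars B), ?_, hDk, ?_⟩
  · intro m m' h hm
    apply le_antisymm
    · rintro _ ⟨x, hx, rfl⟩
      obtain ⟨z, rfl⟩ := ev_surjective hT m' x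
      have h1 : limCMap J φ hφ z ∈ (J.map (algebraMap B (AdicCompletion J B))) ^
          ((m' + 1 - c1) + c1) • (⊤ : Submodule (AdicCompletion J B) (LimC J T' tr')) := by
        rw [mem_map_pow_smul_top_iff]
        have h2 : limCMap J φ hφ z ∈ LinearMap.ker (ev hT' m') := by
          rw [LinearMap.mem_ker, ev_limCMap φ hφ hT hT', LinearMap.mem_ker.1 hx]
        rw [ker_ev hT' hJ] at h2
        have e : m' + 1 - c1 + c1 = m' + 1 := by
          have := le_max_left c1 c2
          omega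
        rw [e]
        exact h2
      have h2 := hc1 (m' + 1 - c1) ⟨h1, ⟨z, rfl⟩⟩
      rw [LinearMap.range_eq_map, ← Submodule.map_smul''] at h2
      obtain ⟨y, hy, hyz⟩ := h2
      refine ⟨z - y, ?_, ?_⟩
      · show z - y ∈ LinearMap.ker (limCMap J φ hφ)
        rw [LinearMap.mem_ker, map_sub, hyz, sub_self]
      · rw [map_sub, ev_compat hT]
        have h3 : y ∈ LinearMap.ker (ev hT m) := by
          rw [ker_ev hT hJ, ← mem_map_pow_smul_top_iff (R := AdicCompletion J B)]
          refine hle ?_ hy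
          have := le_max_left c1 c2
          omega
        rw [LinearMap.mem_ker.1 h3, sub_zero]
    · rintro _ ⟨k, hk, rfl⟩
      refine ⟨ev hT m' k, ?_, ev_compat hT h k⟩
      have hk' : limCMap J φ hφ k = 0 := hk
      show ev hT m' k ∈ LinearMap.ker (φ m')
      rw [LinearMap.mem_ker, ← ev_limCMap φ hφ hT hT', hk', map_zero]
  · rintro n m k h hnm _ ⟨z, hz, rfl⟩ hd0
    have h1 : z ∈ LinearMap.ker (ev hT m) := by
      rw [LinearMap.mem_ker, ← ev_compat hT h, hd0]
    rw [ker_ev hT hJ, ← mem_map_pow_smul_top_iff (R := AdicCompletion J B)] at h1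
    have h2 : z ∈ (J.map (algebraMap B (AdicCompletion J B))) ^ (n + 1 + c2) •
        (⊤ : Submodule (AdicCompletion J B) (LimC J T tr)) := by
      refine hle ?_ h1
      have := le_max_right c1 c2
      omega
    have h3 := hc2 (n + 1) ⟨h2, hz⟩
    have h4 : z ∈ J ^ (n + 1) • (LinearMap.ker (limCMap J φ hφ)).restrictScalars B := by
      rw [← Ideal.smul_restrictScalars, Ideal.map_pow]
      exact h3
    rw [← Submodule.map_smul'']
    exact ⟨z, h4, rfl⟩

/-- a quotient step: `P'/𝔟' → P/𝔟` induced by a surjection `ρ : P' → P` whose kernel lies in `𝔟 P'` -/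
theorem quot_step' {P' P G' G : Type*} [AddCommGroup P'] [Module B P'] [AddCommGroup P]
    [Module B P] [AddCommGroup G'] [Module B G'] [AddCommGroup G] [Module B G]
    (𝔟 : Ideal B) (ρ : P' →ₗ[B] P) (κ' : P' →ₗ[B] G') (κ : P →ₗ[B] G) (g : G' →ₗ[B] G)
    (hκ' : Function.Surjective κ') (hκ : Function.Surjective κ)
    (hkκ : LinearMap.ker κ = 𝔟 • (⊤ : Submodule B P))
    (hρ : Function.Surjective ρ) (hkρ : LinearMap.ker ρ ≤ 𝔟 • (⊤ : Submodule B P'))
    (hcomm : ∀ x, g (κ' x) = κ (ρ x)) :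
    Function.Surjective g ∧ LinearMap.ker g = 𝔟 • (⊤ : Submodule B G') := by
  have hmap : 𝔟 • (⊤ : Submodule B G') = Submodule.map κ' (𝔟 • (⊤ : Submodule B P')) := by
    rw [Submodule.map_smul'', Submodule.map_top, LinearMap.range_eq_top.2 hκ']
  have hmapρ : 𝔟 • (⊤ : Submodule B P) = Submodule.map ρ (𝔟 • (⊤ : Submodule B P')) := by
    rw [Submodule.map_smul'', Submodule.map_top, LinearMap.range_eq_top.2 hρ]
  constructor
  · intro y
    obtain ⟨p, rfl⟩ := hκ y
    obtain ⟨p', rfl⟩ := hρ p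
    exact ⟨κ' p', hcomm p'⟩
  · apply le_antisymm
    · intro x' hx'
      obtain ⟨p', rfl⟩ := hκ' x'
      have h1 : ρ p' ∈ 𝔟 • (⊤ : Submodule B P) := by
        rw [← hkκ, LinearMap.mem_ker, ← hcomm]
        exact hx'
      rw [hmapρ] at h1
      obtain ⟨y, hy, hyp⟩ := h1
      have h2 : p' - y ∈ LinearMap.ker ρ := by
        rw [LinearMap.mem_ker, map_sub, hyp, sub_self]
      have h3 : p' ∈ 𝔟 • (⊤ : Submodule B P') := by
        have := Submodule.add_mem _ (hkρ h2) hy
        rwa [sub_add_cancel] at this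
      rw [hmap]
      exact ⟨p', h3, rfl⟩
    · rw [hmap]
      rintro _ ⟨b, hb, rfl⟩
      rw [LinearMap.mem_ker, hcomm, ← LinearMap.mem_ker, hkκ, hmapρ]
      exact ⟨b, hb, rfl⟩

end Groth.Agent.Lib.helper8.GEKerAlg
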