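import Mathlib
import Groth.Agent.Lib.Helper8.GEGlue
import Groth.Agent.Lib.Helper8.GEKerAlg
import Groth.Agent.Lib.Helper8.FormalCompletion

/-!
# Kernels of morphisms of coherent formal modules (helper8)

`X` Noetherian over `Spec A` (`A` arbitrary), `I` an ideal of `A`, `φ : F ⟶ G` a morphism of coherent formal modules.
The levelwise kernels `κ_n = ker φ_n` do not form a coherent formal module, but by Artin–Rees their images
`D_m = im (κ_{m+c} ⟶ F_m)` are stable for `c` large and `K_n = D_{n+c} / I^(n+1) D_{n+c}` is a coherent formal module,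
the kernel of `φ` in the category of coherent formal modules.

* `exists_kernel` : existence of the kernel with its universal property.
-/

set_option autoImplicit false
set_option backward.isDefEq.respectTransparency false
set_option linter.style.haveILetI false
set_option linter.unusedSectionVars false
universe u

namespace Groth.Agent.Lib.helper8.GEKer

open CategoryTheory CategoryTheory.Limits AlgebraicGeometry Opposite TopologicalSpace Formal
open Groth.Agent.Lib.helper8.FF Groth.Agent.Lib.helper8.Rees Groth.Agent.Lib.helper8.FTors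
open Groth.Agent.Lib.Lead.GE Groth.Agent.Lib.helper8.GETower Groth.Agent.Lib.helper8.GEGlue
open Groth.Agent.Lib.helper8.GEKerAlg Groth.Agent.Lib.helper8.FCompl
open Scheme.Modules

variable {A : Type u} [CommRing A] {X : Scheme.{u}} [X.Over (Spec (CommRingCat.of A))]

lemma map_map (H : ℕᵒᵖ ⥤ X.Modules) {a b d : ℕ} (h1 : a ≤ b) (h2 : b ≤ d) :
    H.map (homOfLE h2).op ≫ H.map (homOfLE h1).op = H.map (homOfLE (h1.trans h2)).op := by
  rw [← H.map_comp]
  rfl

section Construction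

variable {F G : ℕᵒᵖ ⥤ X.Modules} (φ : F ⟶ G) (c : ℕ)

/-- the transition maps of the levelwise kernels -/
noncomputable def κmap {a b : ℕ} (h : a ≤ b) : kernel (φ.app (op b)) ⟶ kernel (φ.app (op a)) :=
  kernel.lift _ (kernel.ι (φ.app (op b)) ≫ F.map (homOfLE h).op) (by
    rw [Category.assoc, φ.naturality, ← Category.assoc, kernel.condition, zero_comp])

lemma κmap_ι {a b : ℕ} (h : a ≤ b) :
    κmap φ h ≫ kernel.ι (φ.app (op a)) = kernel.ι (φ.app (op b)) ≫ F.map (homOfLE h).op :=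
  kernel.lift_ι _ _ _

/-- `κ_{m+c} ⟶ F_m` -/
noncomputable def uMap (m : ℕ) : kernel (φ.app (op (m + c))) ⟶ F.obj (op m) :=
  kernel.ι (φ.app (op (m + c))) ≫ F.map (homOfLE (Nat.le_add_right m c)).op

/-- the image `D_m` of `κ_{m+c} ⟶ F_m` -/
noncomputable def DObj (m : ℕ) : X.Modules := Abelian.image (uMap φ c m)

/-- `D_m ⟶ F_m` -/
noncomputable def Dι (m : ℕ) : DObj φ c m ⟶ F.obj (op m) := Abelian.image.ι (uMap φ c m)

instance (m : ℕ) : Mono (Dι φ c m) := by
  unfold Dι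
  infer_instance

/-- `κ_{m+c} ⟶ D_m` -/
noncomputable def De (m : ℕ) : kernel (φ.app (op (m + c))) ⟶ DObj φ c m :=
  Abelian.factorThruImage (uMap φ c m)

instance (m : ℕ) : Epi (De φ c m) := by
  unfold De
  infer_instance

lemma De_Dι (m : ℕ) : De φ c m ≫ Dι φ c m = uMap φ c m := Abelian.image.fac _

lemma Dι_comp_app (m : ℕ) : Dι φ c m ≫ φ.app (op m) = 0 := by
  rw [← cancel_epi (De φ c m), comp_zero, ← Category.assoc, De_Dι]
  unfold uMap
  rw [Category.assoc, φ.naturality, ← Category.assoc, kernel.condition, zero_comp]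

lemma exists_lift (m : ℕ) {P' P : X.Modules} (e : P' ⟶ P) [Epi e] (ψ : P ⟶ F.obj (op m))
    (k : P' ⟶ kernel (φ.app (op (m + c)))) (h : e ≫ ψ = k ≫ uMap φ c m) :
    ∃ l : P ⟶ DObj φ c m, l ≫ Dι φ c m = ψ := by
  have h0 : ψ ≫ cokernel.π (uMap φ c m) = 0 := by
    rw [← cancel_epi e, comp_zero, ← Category.assoc, h, Category.assoc, cokernel.condition,
      comp_zero]
  exact ⟨kernel.lift _ ψ h0, kernel.lift_ι _ _ _⟩

lemma exists_r (m : ℕ) : ∃ r : DObj φ c (m + 1) ⟶ DObj φ c m,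
    r ≫ Dι φ c m = Dι φ c (m + 1) ≫ F.map (homOfLE (Nat.le_succ m)).op := by
  refine exists_lift φ c m (De φ c (m + 1)) _ (κmap φ (show m + c ≤ m + 1 + c by omega)) ?_
  rw [← Category.assoc, De_Dι]
  unfold uMap
  rw [Category.assoc, map_map, ← Category.assoc, κmap_ι, Category.assoc, map_map]

/-- the transition maps of `D` -/
noncomputable def Dr (m : ℕ) : DObj φ c (m + 1) ⟶ DObj φ c m := (exists_r φ c m).choose

lemma Dr_ι (m : ℕ) :
    Dr φ c m ≫ Dι φ c m = Dι φ c (m + 1) ≫ F.map (homOfLE (Nat.le_succ m)).op :=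
  (exists_r φ c m).choose_spec

/-- the system `D` -/
noncomputable def Dsys : ℕᵒᵖ ⥤ X.Modules :=
  Functor.ofOpSequence (X := fun m => DObj φ c m) (Dr φ c)

lemma Dsys_map_succ (m : ℕ) : (Dsys φ c).map (homOfLE (Nat.le_succ m)).op = Dr φ c m :=
  Functor.ofOpSequence_map_homOfLE_succ _ m

/-- the inclusion `D ⟶ F` -/
noncomputable def DsysI : Dsys φ c ⟶ F :=
  NatTrans.ofOpSequence (fun m => Dι φ c m) (fun m => by
    show (Dsys φ c).map (homOfLE (Nat.le_succ m)).op ≫ Dι φ c m =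
      Dι φ c (m + 1) ≫ F.map (homOfLE (Nat.le_succ m)).op
    rw [Dsys_map_succ]
    exact Dr_ι φ c m)

/-- the transition maps of `D`, with explicit source and target -/
noncomputable def Dmap {a b : ℕ} (h : a ≤ b) : DObj φ c b ⟶ DObj φ c a :=
  (Dsys φ c).map (homOfLE h).op

lemma Dmap_ι {a b : ℕ} (h : a ≤ b) :
    Dmap φ c h ≫ Dι φ c a = Dι φ c b ≫ F.map (homOfLE h).op :=
  (DsysI φ c).naturality (homOfLE h).op

lemma Dmap_refl (a : ℕ) : Dmap φ c (le_refl a) = 𝟙 (DObj φ c a) := (Dsys φ c).map_id _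

lemma Dmap_comp {a b d : ℕ} (h1 : a ≤ b) (h2 : b ≤ d) :
    Dmap φ c h2 ≫ Dmap φ c h1 = Dmap φ c (h1.trans h2) := map_map (Dsys φ c) h1 h2

variable (I : Ideal A)

lemma killedBy_DObj (hF : IsCohFormal I F) (m : ℕ) : KilledBy (I ^ (m + 1)) (DObj φ c m) := by
  intro a ha
  rw [← cancel_mono (Dι φ c m), zero_comp, smulMod_naturality, hF.2.1 m a ha, comp_zero]

lemma exists_Ktr (n : ℕ) :
    ∃ t : Q (I ^ (n + 1 + 1)) (DObj φ c (n + 1 + c)) ⟶ Q (I ^ (n + 1)) (DObj φ c (n + c)),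
      qπ (I ^ (n + 1 + 1)) (DObj φ c (n + 1 + c)) ≫ t =
        Dmap φ c (show n + c ≤ n + 1 + c by omega) ≫
          qπ (I ^ (n + 1)) (DObj φ c (n + c)) :=
  IsCok.desc (isCok_qπ _ _) _ (fun a ha =>
    killedBy_Q (I ^ (n + 1)) (DObj φ c (n + c)) a (Ideal.pow_le_pow_right (Nat.le_succ _) ha))

/-- the transition maps of the kernel system -/
noncomputable def Ktr (n : ℕ) :
    Q (I ^ (n + 1 + 1)) (DObj φ c (n + 1 + c)) ⟶ Q (I ^ (n + 1)) (DObj φ c (n + c)) :=
  (exists_Ktr φ c I n).choose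

lemma qπ_Ktr (n : ℕ) :
    qπ (I ^ (n + 1 + 1)) (DObj φ c (n + 1 + c)) ≫ Ktr φ c I n =
      Dmap φ c (show n + c ≤ n + 1 + c by omega) ≫
        qπ (I ^ (n + 1)) (DObj φ c (n + c)) :=
  (exists_Ktr φ c I n).choose_spec

/-- the kernel system `K_n = D_{n+c} / I^(n+1)` -/
noncomputable def Ksys : ℕᵒᵖ ⥤ X.Modules :=
  Functor.ofOpSequence (X := fun n => Q (I ^ (n + 1)) (DObj φ c (n + c))) (Ktr φ c I)

lemma Ksys_map_succ (n : ℕ) : (Ksys φ c I).map (homOfLE (Nat.le_succ n)).op = Ktr φ c I n :=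
  Functor.ofOpSequence_map_homOfLE_succ _ n

/-- the transition maps of `K`, with explicit source and target -/
noncomputable def Kmap {n m : ℕ} (h : n ≤ m) :
    Q (I ^ (m + 1)) (DObj φ c (m + c)) ⟶ Q (I ^ (n + 1)) (DObj φ c (n + c)) :=
  (Ksys φ c I).map (homOfLE h).op

lemma Kmap_succ (n : ℕ) : Kmap φ c I (Nat.le_succ n) = Ktr φ c I n :=
  Functor.ofOpSequence_map_homOfLE_succ _ n

lemma Kmap_refl (n : ℕ) : Kmap φ c I (le_refl n) = 𝟙 (Q (I ^ (n + 1)) (DObj φ c (n + c))) :=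
  (Ksys φ c I).map_id _

lemma Kmap_comp {a b d : ℕ} (h1 : a ≤ b) (h2 : b ≤ d) :
    Kmap φ c I h2 ≫ Kmap φ c I h1 = Kmap φ c I (h1.trans h2) := map_map (Ksys φ c I) h1 h2

lemma qπ_Kmap {n m : ℕ} (h : n ≤ m) :
    qπ (I ^ (m + 1)) (DObj φ c (m + c)) ≫ Kmap φ c I h =
      Dmap φ c (Nat.add_le_add_right h c) ≫ qπ (I ^ (n + 1)) (DObj φ c (n + c)) := by
  induction m, h using Nat.le_induction with
  | base => rw [Kmap_refl, Dmap_refl, Category.comp_id, Category.id_comp]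
  | succ m h ih =>
    rw [← Kmap_comp φ c I h (Nat.le_succ m), ← Category.assoc, Kmap_succ, qπ_Ktr, Category.assoc, ih,
      ← Category.assoc, Dmap_comp]

lemma exists_Kι (hF : IsCohFormal I F) (n : ℕ) :
    ∃ j : Q (I ^ (n + 1)) (DObj φ c (n + c)) ⟶ F.obj (op n),
      qπ (I ^ (n + 1)) (DObj φ c (n + c)) ≫ j =
        Dι φ c (n + c) ≫ F.map (homOfLE (Nat.le_add_right n c)).op :=
  IsCok.desc (isCok_qπ _ _) _ (hF.2.1 n)

/-- `K_n ⟶ F_n` -/
noncomputable def Kι (hF : IsCohFormal I F) (n : ℕ) :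
    Q (I ^ (n + 1)) (DObj φ c (n + c)) ⟶ F.obj (op n) := (exists_Kι φ c I hF n).choose

lemma qπ_Kι (hF : IsCohFormal I F) (n : ℕ) :
    qπ (I ^ (n + 1)) (DObj φ c (n + c)) ≫ Kι φ c I hF n =
      Dι φ c (n + c) ≫ F.map (homOfLE (Nat.le_add_right n c)).op :=
  (exists_Kι φ c I hF n).choose_spec

/-- the morphism `K ⟶ F` -/
noncomputable def KsysI (hF : IsCohFormal I F) : Ksys φ c I ⟶ F :=
  NatTrans.ofOpSequence (fun n => Kι φ c I hF n) (fun n => by
    show Kmap φ c I (Nat.le_succ n) ≫ Kι φ c I hF n =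
      Kι φ c I hF (n + 1) ≫ F.map (homOfLE (Nat.le_succ n)).op
    rw [Kmap_succ, ← cancel_epi (qπ (I ^ (n + 1 + 1)) (DObj φ c (n + 1 + c))),
      ← Category.assoc, qπ_Ktr, Category.assoc, qπ_Kι, ← Category.assoc, Dmap_ι,
      Category.assoc, map_map, ← Category.assoc, qπ_Kι, Category.assoc, map_map])

lemma KsysI_app (hF : IsCohFormal I F) (n : ℕ) :
    (KsysI φ c I hF).app (op n) = Kι φ c I hF n := rfl

lemma KsysI_comp (hF : IsCohFormal I F) : KsysI φ c I hF ≫ φ = 0 := by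
  apply NatTrans.ext
  funext n
  obtain ⟨n⟩ := n
  show Kι φ c I hF n ≫ φ.app (op n) = 0
  rw [← cancel_epi (qπ (I ^ (n + 1)) (DObj φ c (n + c))), comp_zero, ← Category.assoc, qπ_Kι,
    Category.assoc, φ.naturality, ← Category.assoc, Dι_comp_app, zero_comp]

lemma exists_σ (hF : IsCohFormal I F) (n : ℕ) :
    ∃ σ : Q (I ^ (n + c + 1)) (DObj φ c (n + c + c)) ⟶ DObj φ c (n + c),
      qπ (I ^ (n + c + 1)) (DObj φ c (n + c + c)) ≫ σ = Dmap φ c (Nat.le_add_right (n + c) c) :=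
  IsCok.desc (isCok_qπ _ _) _ (killedBy_DObj φ c I hF (n + c))

lemma isCoh_DObj [IsNoetherian X] (hF : ∀ n, Coh.IsCoh (F.obj (op n)))
    (hG : ∀ n, Coh.IsCoh (G.obj (op n))) (m : ℕ) : Coh.IsCoh (DObj φ c m) := by
  have hκ : Coh.IsCoh (kernel (φ.app (op (m + c)))) :=
    Groth.Agent.Lib.helper7.CohKer.isCoh_kernel (hF _) (hG _) _
  exact Groth.Agent.Lib.helper7.CohKer.isCoh_kernel (hF m)
    (Groth.Agent.Lib.helper7.CohKer.isCoh_cokernel hκ (hF m) _) _

lemma range_appLin_Dι [IsNoetherian X] (hF : ∀ n, Coh.IsCoh (F.obj (op n)))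
    (hG : ∀ n, Coh.IsCoh (G.obj (op n))) (m : ℕ) {U : X.Opens} (hU : IsAffineOpen U) :
    LinearMap.range (appLin (Dι φ c m) U) =
      Submodule.map (appLin (F.map (homOfLE (Nat.le_add_right m c)).op) U)
        (LinearMap.ker (appLin (φ.app (op (m + c))) U)) := by
  have hκ : Coh.IsCoh (kernel (φ.app (op (m + c)))) :=
    Groth.Agent.Lib.helper7.CohKer.isCoh_kernel (hF _) (hG _) _
  haveI := hκ.1
  haveI := (isCoh_DObj φ c hF hG m).1
  have hsurj := appLin_surjective_of_epi (De φ c m) hU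
  ext y
  constructor
  · rintro ⟨x, rfl⟩
    obtain ⟨w, rfl⟩ := hsurj x
    refine ⟨appLin (kernel.ι (φ.app (op (m + c)))) U w, ?_, ?_⟩
    · rw [← range_appLin_kernel_ι]
      exact ⟨w, rfl⟩
    · rw [← appLin_comp_apply, ← appLin_comp_apply, De_Dι]
      rfl
  · rintro ⟨x, hx, rfl⟩
    rw [← range_appLin_kernel_ι] at hx
    obtain ⟨w, rfl⟩ := hx
    refine ⟨appLin (De φ c m) U w, ?_⟩
    rw [← appLin_comp_apply, De_Dι]
    rfl

end Construction

section Main

variable (I : Ideal A) {F G : ℕᵒᵖ ⥤ X.Modules} (φ : F ⟶ G)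

/-- the algebraic stabilisation data on an affine open -/
theorem exists_stable_sections [IsNoetherian X] (hF : IsCohFormal I F) (hG : IsCohFormal I G)
    {U : X.Opens} (hU : IsAffineOpen U) :
    ∃ (c₀ : ℕ) (D : ∀ m, Submodule Γ(X, U) Γ(F.obj (op m), U)),
      (∀ (m m' : ℕ) (h : m ≤ m'), m + c₀ ≤ m' →
        Submodule.map (appLin (F.map (homOfLE h).op) U)
          (LinearMap.ker (appLin (φ.app (op m')) U)) = D m) ∧
      (∀ (m k : ℕ) (h : m ≤ k), Submodule.map (appLin (F.map (homOfLE h).op) U) (D k) = D m) ∧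
      (∀ (n m k : ℕ) (h : m ≤ k), n + c₀ ≤ m → ∀ d ∈ D k,
        appLin (F.map (homOfLE h).op) U d = 0 → d ∈ (I.map (resA A U)) ^ (n + 1) • D k) := by
  haveI : IsNoetherianRing Γ(X, U) := IsLocallyNoetherian.component_noetherian ⟨U, hU⟩
  haveI : Module.Finite Γ(X, U) Γ(F.obj (op 0), U) :=
    Groth.Agent.Lib.helper16.CohFinite.finite_sections_of_isCoh _ (hF.1 0) hU
  haveI : Module.Finite Γ(X, U) Γ(G.obj (op 0), U) :=
    Groth.Agent.Lib.helper16.CohFinite.finite_sections_of_isCoh _ (hG.1 0) hU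
  have hT := isAdicTower_sections I F hF hU
  have hT' := isAdicTower_sections I G hG hU
  exact exists_stable (fun n => appLin (φ.app (op n)) U) (fun n m h x => by
    show appLin (G.map (homOfLE h).op) U (appLin (φ.app (op m)) U x) =
      appLin (φ.app (op n)) U (appLin (F.map (homOfLE h).op) U x)
    rw [← appLin_comp_apply, ← appLin_comp_apply, φ.naturality]) hT hT'

variable (c : ℕ)

/-- the kernel system is a coherent formal module once the images are stable on an affine cover -/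
theorem isCohFormal_Ksys [IsNoetherian X] (hF : IsCohFormal I F) (hG : IsCohFormal I G)
    {ι : Type*} (W : ι → X.Opens) (hW : ∀ i, IsAffineOpen (W i)) (hcov : ∀ x : X, ∃ i, x ∈ W i)
    (D : ∀ i m, Submodule Γ(X, W i) Γ(F.obj (op m), W i))
    (h1 : ∀ i (m : ℕ), Submodule.map (appLin (F.map (homOfLE (Nat.le_add_right m c)).op) (W i))
      (LinearMap.ker (appLin (φ.app (op (m + c))) (W i))) = D i m)
    (h2 : ∀ i (m k : ℕ) (h : m ≤ k),
      Submodule.map (appLin (F.map (homOfLE h).op) (W i)) (D i k) = D i m)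
    (h3 : ∀ i (n k : ℕ) (h : n + c ≤ k), ∀ d ∈ D i k,
      appLin (F.map (homOfLE h).op) (W i) d = 0 →
        d ∈ (I.map (resA A (W i))) ^ (n + 1) • D i k) :
    IsCohFormal I (Ksys φ c I) := by
  have hD := fun m => isCoh_DObj φ c hF.1 hG.1 m
  haveI hDq : ∀ m, (DObj φ c m).IsQuasicoherent := fun m => (hD m).1
  refine ⟨fun n => isCoh_Q' _ _ (hD (n + c)), fun n => killedBy_Q _ _, fun n => ?_⟩
  show IsCok (I ^ (n + 1)) ((Ksys φ c I).map (homOfLE (Nat.le_succ n)).op)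
  rw [Ksys_map_succ]
  suffices hcok : IsCok (I ^ (n + 1)) (Ktr φ c I n) from hcok
  haveI : (Q (I ^ (n + 1 + 1)) (DObj φ c (n + 1 + c))).IsQuasicoherent := isQuasicoherent_Q _ _
  haveI : (Q (I ^ (n + 1)) (DObj φ c (n + c))).IsQuasicoherent := isQuasicoherent_Q _ _
  have hle : n + c ≤ n + 1 + c := by omega
  have key : ∀ i, Function.Surjective (appLin (Ktr φ c I n) (W i)) ∧
      LinearMap.ker (appLin (Ktr φ c I n) (W i)) = ((I ^ (n + 1)).map (resA A (W i))) •
        (⊤ : Submodule Γ(X, W i) Γ(Q (I ^ (n + 1 + 1)) (DObj φ c (n + 1 + c)), W i)) := by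
    intro i
    have hr : ∀ m, LinearMap.range (appLin (Dι φ c m) (W i)) = D i m := fun m => by
      rw [range_appLin_Dι φ c hF.1 hG.1 m (hW i), h1 i m]
    have hinj := fun m => appLin_injective_of_mono (Dι φ c m) (W i)
    have hnat : ∀ y', appLin (Dι φ c (n + c)) (W i) (appLin (Dmap φ c hle) (W i) y') =
        appLin (F.map (homOfLE hle).op) (W i) (appLin (Dι φ c (n + 1 + c)) (W i) y') := by
      intro y'
      rw [← appLin_comp_apply, ← appLin_comp_apply, Dmap_ι]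
    refine quot_step' ((I ^ (n + 1)).map (resA A (W i)))
      (appLin (Dmap φ c hle) (W i))
      (appLin (qπ (I ^ (n + 1 + 1)) (DObj φ c (n + 1 + c))) (W i))
      (appLin (qπ (I ^ (n + 1)) (DObj φ c (n + c))) (W i))
      (appLin (Ktr φ c I n) (W i))
      (appLin_qπ_surjective _ _ (hW i)) (appLin_qπ_surjective _ _ (hW i))
      (ker_appLin_qπ _ _ (hW i)) ?_ ?_ ?_
    · -- surjectivity of `D_{n+1+c} → D_{n+c}` on sections
      intro y
      have hy : appLin (Dι φ c (n + c)) (W i) y ∈ D i (n + c) := by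
        rw [← hr]
        exact ⟨y, rfl⟩
      rw [← h2 i (n + c) (n + 1 + c) hle] at hy
      obtain ⟨d, hd, hdy⟩ := hy
      rw [← hr] at hd
      obtain ⟨y', rfl⟩ := hd
      refine ⟨y', hinj _ ?_⟩
      rw [hnat, hdy]
    · -- the kernel
      intro y' hy'
      rw [LinearMap.mem_ker] at hy'
      have hd : appLin (Dι φ c (n + 1 + c)) (W i) y' ∈ D i (n + 1 + c) := by
        rw [← hr]
        exact ⟨y', rfl⟩
      have hd0 : appLin (F.map (homOfLE hle).op) (W i)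
          (appLin (Dι φ c (n + 1 + c)) (W i) y') = 0 := by
        rw [← hnat, hy', map_zero]
      have h4 := h3 i n (n + 1 + c) hle _ hd hd0
      rw [← hr, LinearMap.range_eq_map, ← Submodule.map_smul''] at h4
      obtain ⟨y'', hy'', hyy⟩ := h4
      rw [← hinj _ hyy, Ideal.map_pow]
      exact hy''
    · intro x
      rw [← appLin_comp_apply, ← appLin_comp_apply, qπ_Ktr]
  exact Groth.Agent.Lib.helper8.AffEx.isCok_of_sections _ W hW hcov (fun i => (key i).1)
    (fun i => (key i).2)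

section Lift

variable {T'' : ℕᵒᵖ ⥤ X.Modules}

/-- the components of a morphism into `K`, with explicit target -/
def appK (ℓ : T'' ⟶ Ksys φ c I) (n : ℕ) :
    T''.obj (op n) ⟶ Q (I ^ (n + 1)) (DObj φ c (n + c)) := ℓ.app (op n)

lemma appK_naturality (ℓ : T'' ⟶ Ksys φ c I) {n m : ℕ} (h : n ≤ m) :
    T''.map (homOfLE h).op ≫ appK I φ c ℓ n = appK I φ c ℓ m ≫ Kmap φ c I h :=
  ℓ.naturality (homOfLE h).op

lemma exists_lam (hT'' : IsCohFormal I T'') (ψ : T'' ⟶ F) (hψ : ψ ≫ φ = 0) (m : ℕ) :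
    ∃ l : T''.obj (op m) ⟶ DObj φ c m, l ≫ Dι φ c m = ψ.app (op m) := by
  haveI := (isCok_map I T'' hT'' (Nat.le_add_right m c)).epi
  have h0 : ψ.app (op (m + c)) ≫ φ.app (op (m + c)) = 0 := by
    rw [← NatTrans.comp_app, hψ]
    rfl
  refine exists_lift φ c m (T''.map (homOfLE (Nat.le_add_right m c)).op) (ψ.app (op m))
    (kernel.lift _ (ψ.app (op (m + c))) h0) ?_
  unfold uMap
  rw [← Category.assoc, kernel.lift_ι, ψ.naturality]

/-- the universal property of the kernel system -/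
theorem exists_unique_lift (hF : IsCohFormal I F) (hT'' : IsCohFormal I T'') (ψ : T'' ⟶ F)
    (hψ : ψ ≫ φ = 0) :
    ∃ ℓ : T'' ⟶ Ksys φ c I, ℓ ≫ KsysI φ c I hF = ψ ∧
      ∀ ℓ' : T'' ⟶ Ksys φ c I, ℓ' ≫ KsysI φ c I hF = ψ → ℓ' = ℓ := by
  haveI hepi : ∀ (n m : ℕ) (h : n ≤ m), Epi (T''.map (homOfLE h).op) := fun n m h =>
    (isCok_map I T'' hT'' h).epi
  choose lam hlam using exists_lam I φ c hT'' ψ hψ
  have hlam_nat : ∀ (a b : ℕ) (h : a ≤ b),
      T''.map (homOfLE h).op ≫ lam a = lam b ≫ Dmap φ c h := by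
    intro a b h
    rw [← cancel_mono (Dι φ c a), Category.assoc, hlam, Category.assoc, Dmap_ι,
      ← Category.assoc, hlam, ψ.naturality]
  choose ell hell using fun n => IsCok.desc (isCok_map I T'' hT'' (Nat.le_add_right n c))
    (lam (n + c) ≫ qπ (I ^ (n + 1)) (DObj φ c (n + c))) (killedBy_Q _ _)
  -- uniqueness
  have huniq : ∀ ℓ₁ ℓ₂ : T'' ⟶ Ksys φ c I, ℓ₁ ≫ KsysI φ c I hF = ℓ₂ ≫ KsysI φ c I hF →
      ℓ₁ = ℓ₂ := by
    intro ℓ₁ ℓ₂ h12
    apply NatTrans.ext
    funext n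
    obtain ⟨n⟩ := n
    obtain ⟨σ, hσ⟩ := exists_σ φ c I hF n
    have hσ1 : σ ≫ Dι φ c (n + c) = Kι φ c I hF (n + c) := by
      rw [← cancel_epi (qπ (I ^ (n + c + 1)) (DObj φ c (n + c + c))), ← Category.assoc, hσ,
        Dmap_ι, qπ_Kι]
    have hσ2 : σ ≫ qπ (I ^ (n + 1)) (DObj φ c (n + c)) = Kmap φ c I (Nat.le_add_right n c) := by
      rw [← cancel_epi (qπ (I ^ (n + c + 1)) (DObj φ c (n + c + c))), ← Category.assoc, hσ,
        qπ_Kmap]
    have h3 : appK I φ c ℓ₁ (n + c) ≫ Kι φ c I hF (n + c) =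
        appK I φ c ℓ₂ (n + c) ≫ Kι φ c I hF (n + c) := by
      have := congrArg (fun τ => τ.app (op (n + c))) h12
      exact this
    rw [← hσ1, ← Category.assoc, ← Category.assoc, cancel_mono] at h3
    have h4 : appK I φ c ℓ₁ (n + c) ≫ Kmap φ c I (Nat.le_add_right n c) =
        appK I φ c ℓ₂ (n + c) ≫ Kmap φ c I (Nat.le_add_right n c) := by
      rw [← hσ2, ← Category.assoc, ← Category.assoc, h3]
    rw [← appK_naturality, ← appK_naturality] at h4
    exact (cancel_epi (T''.map (homOfLE (Nat.le_add_right n c)).op)).1 h4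
  -- existence
  let ℓ : T'' ⟶ Ksys φ c I := NatTrans.ofOpSequence (fun n => ell n) (fun n => by
    show T''.map (homOfLE (Nat.le_succ n)).op ≫ ell n =
      ell (n + 1) ≫ Kmap φ c I (Nat.le_succ n)
    have hle : n + c ≤ n + 1 + c := by omega
    have e1 : T''.map (homOfLE (Nat.le_add_right (n + 1) c)).op ≫
        T''.map (homOfLE (Nat.le_succ n)).op =
        T''.map (homOfLE hle).op ≫ T''.map (homOfLE (Nat.le_add_right n c)).op := by
      rw [map_map, map_map]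
    rw [← cancel_epi (T''.map (homOfLE (Nat.le_add_right (n + 1) c)).op)]
    calc T''.map (homOfLE (Nat.le_add_right (n + 1) c)).op ≫
          T''.map (homOfLE (Nat.le_succ n)).op ≫ ell n
        = (T''.map (homOfLE hle).op ≫ T''.map (homOfLE (Nat.le_add_right n c)).op) ≫ ell n := by
          rw [← Category.assoc, e1]
      _ = T''.map (homOfLE hle).op ≫ lam (n + c) ≫ qπ (I ^ (n + 1)) (DObj φ c (n + c)) := by
          rw [Category.assoc, hell]
      _ = lam (n + 1 + c) ≫ Dmap φ c hle ≫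
            qπ (I ^ (n + 1)) (DObj φ c (n + c)) := by
          rw [← Category.assoc, hlam_nat, Category.assoc]
      _ = lam (n + 1 + c) ≫ qπ (I ^ (n + 1 + 1)) (DObj φ c (n + 1 + c)) ≫ Ktr φ c I n := by
          rw [qπ_Ktr]
      _ = (T''.map (homOfLE (Nat.le_add_right (n + 1) c)).op ≫ ell (n + 1)) ≫ Ktr φ c I n := by
          rw [hell (n + 1), Category.assoc]
      _ = T''.map (homOfLE (Nat.le_add_right (n + 1) c)).op ≫ ell (n + 1) ≫
            Kmap φ c I (Nat.le_succ n) := by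
          rw [Category.assoc, Kmap_succ])
  have hfac : ℓ ≫ KsysI φ c I hF = ψ := by
    apply NatTrans.ext
    funext n
    obtain ⟨n⟩ := n
    show ell n ≫ Kι φ c I hF n = ψ.app (op n)
    rw [← cancel_epi (T''.map (homOfLE (Nat.le_add_right n c)).op), ← Category.assoc, hell,
      Category.assoc, qπ_Kι, ← Category.assoc, hlam, ψ.naturality]
  exact ⟨ℓ, hfac, fun ℓ' hℓ' => huniq ℓ' ℓ (hℓ'.trans hfac.symm)⟩

end Lift

/-- **kernels of morphisms of coherent formal modules** -/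
theorem exists_kernel [IsNoetherian X] (hF : IsCohFormal I F) (hG : IsCohFormal I G) :
    ∃ (K : ℕᵒᵖ ⥤ X.Modules) (_ : IsCohFormal I K) (j : K ⟶ F), j ≫ φ = 0 ∧
      ∀ (T'' : ℕᵒᵖ ⥤ X.Modules), IsCohFormal I T'' → ∀ ψ : T'' ⟶ F, ψ ≫ φ = 0 →
        ∃ ℓ : T'' ⟶ K, ℓ ≫ j = ψ ∧ ∀ ℓ' : T'' ⟶ K, ℓ' ≫ j = ψ → ℓ' = ℓ := by
  obtain ⟨d, W, hW, hcov⟩ := exists_finite_affine_cover X
  choose c₀ D h1 h2 h3 using fun i => exists_stable_sections I φ hF hG (hW i)
  obtain ⟨c, hc⟩ : ∃ c, c = Finset.univ.sup c₀ := ⟨_, rfl⟩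
  have hci : ∀ i, c₀ i ≤ c := fun i => by
    rw [hc]
    exact Finset.le_sup (Finset.mem_univ i)
  have hK : IsCohFormal I (Ksys φ c I) := isCohFormal_Ksys I φ c hF hG W hW hcov D
    (fun i m => h1 i m (m + c) _ (by have := hci i; omega))
    (fun i m k h => h2 i m k h)
    (fun i n k h d hd hd0 => h3 i n (n + c) k h (by have := hci i; omega) d hd hd0)
  exact ⟨Ksys φ c I, hK, KsysI φ c I hF, KsysI_comp φ c I hF,
    fun T'' hT'' ψ hψ => exists_unique_lift I φ c hF hT'' ψ hψ⟩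

end Main

end Groth.Agent.Lib.helper8.GEKer
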