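import Mathlib
import Groth.Agent.Lib.Helper8.GESub
import Groth.Agent.S0040

/-!
# Algebraization of formal morphisms (helper8)

`A` Noetherian and `I`-adically complete.

* `ideal_eq_bot_of_le_ker_thickι`: on a scheme `T` proper over `A`, an ideal sheaf contained in the ideals of all
  thickenings `T_n ⟶ T` is zero.
* `exists_morphism`: `X` proper over `A`, `Y` separated of finite type over `A`; every compatible system of morphisms
  `X_n ⟶ Y_n` over `A/I^(n+1)` is induced by a morphism `X ⟶ Y` over `A` (EGA III 5.4.1).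
-/

set_option autoImplicit false
set_option backward.isDefEq.respectTransparency false
set_option linter.style.haveILetI false
set_option linter.unusedSectionVars false
universe u

namespace Groth.Agent.Lib.helper8.GEMor

open CategoryTheory CategoryTheory.Limits AlgebraicGeometry Opposite TopologicalSpace Formal
open Groth.Agent.Lib.helper8.FF Groth.Agent.Lib.helper8.Rees Groth.Agent.Lib.helper8.FTors
open Groth.Agent.Lib.helper8.FCompl Groth.Agent.Lib.helper8.FPull
open Groth.Agent.Lib.Lead.GE Groth.Agent.Lib.helper8.GEPush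
open Groth.Agent.Lib.helper8.GEQuot Groth.Agent.Lib.helper8.GEGlue
open Groth.Agent.Lib.helper8.GETower Groth.Agent.Lib.helper8.GEExtZero
open Groth.Agent.Lib.helper8.GESupp Groth.Agent.Lib.helper8.GEProper
open Groth.Agent.Lib.helper8.GEKill Groth.Agent.Lib.helper8.GEClopen Groth.Agent.Lib.helper8.GEIdeal
open Groth.Agent.Lib.helper8.GESub
open Groth.Agent.Lib.helper8.Dev Groth.Agent.Lib.helper8.SchemeSupport
open Groth.Agent.Lib.helper11.ThickTower
open Scheme.Modules

variable (A : Type u) [CommRing A] [IsNoetherianRing A] (I : Ideal A) [IsAdicComplete I A]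

/-- on a scheme proper over `A`, an ideal sheaf contained in the ideals of all thickenings is zero -/
theorem ideal_eq_bot_of_le_ker_thickι {T : Scheme.{u}} (fT : T ⟶ Spec (CommRingCat.of A))
    [IsProper fT] (𝒩 : T.IdealSheafData) (h : ∀ n, 𝒩 ≤ (CohB1.thickι fT I n).ker) : 𝒩 = ⊥ := by
  letI : T.Over (Spec (CommRingCat.of A)) := ⟨fT⟩
  haveI : IsProper (T ↘ Spec (CommRingCat.of A)) := (show IsProper fT from inferInstance)
  haveI : IsNoetherian T := isNoetherian_of_finiteType A T
  have hO := isCoh_structureModule T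
  haveI : (Coh.structureModule T).IsQuasicoherent := hO.1
  have hQ : Coh.IsCoh ((quotF 𝒩).obj (Coh.structureModule T)) := isCoh_quotF 𝒩 hO
  haveI : ((quotF 𝒩).obj (Coh.structureModule T)).IsQuasicoherent := hQ.1
  have hK : Coh.IsCoh (kernel (quotπ 𝒩 (Coh.structureModule T))) :=
    Groth.Agent.Lib.helper7.CohKer.isCoh_kernel hO hQ _
  haveI : (kernel (quotπ 𝒩 (Coh.structureModule T))).IsQuasicoherent := hK.1
  have hprop : ∀ S : Set T, IsClosed S →
      ClSub.IsProperOver (T ↘ Spec (CommRingCat.of A)) S := fun S hS => ⟨hS, inferInstance⟩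
  have h1 : ∀ n : ℕ, Formal.modPowπ I (n + 1) (kernel (quotπ 𝒩 (Coh.structureModule T))) ≫
      (0 : Formal.completion I (kernel (quotπ 𝒩 (Coh.structureModule T))) ⟶
        Formal.completion I (Coh.structureModule T)).app (op n) =
      kernel.ι (quotπ 𝒩 (Coh.structureModule T)) ≫
        Formal.modPowπ I (n + 1) (Coh.structureModule T) := by
    intro n
    rw [NatTrans.app_zero, comp_zero]
    symm
    refine hom_eq_zero_of_cover _ (fun U : T.affineOpens => U.1) (fun U => U.2)
      exists_affine_mem (fun U s => ?_)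
    rw [appLin_comp_apply]
    have h2 : appLin (kernel.ι (quotπ 𝒩 (Coh.structureModule T))) U.1 s ∈
        LinearMap.ker (appLin (quotπ 𝒩 (Coh.structureModule T)) U.1) := by
      rw [← range_appLin_kernel_ι]
      exact ⟨s, rfl⟩
    rw [ker_quotη 𝒩 _ U.2, smul_top_structure] at h2
    have h3 : (show Γ(T, U.1) from appLin (kernel.ι (quotπ 𝒩 (Coh.structureModule T))) U.1 s) ∈
        (CohB1.thickι (T ↘ Spec (CommRingCat.of A)) I n).ker.ideal U := h n U h2
    rw [ideal_ker_thickι I n U] at h3
    have h4 : appLin (kernel.ι (quotπ 𝒩 (Coh.structureModule T))) U.1 s ∈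
        LinearMap.ker (appLin (qπ (I ^ (n + 1)) (Coh.structureModule T)) U.1) := by
      rw [ker_appLin_qπ (I ^ (n + 1)) (Coh.structureModule T) U.2, smul_top_structure]
      exact h3
    exact h4
  have h2 : ∀ n : ℕ, Formal.modPowπ I (n + 1) (kernel (quotπ 𝒩 (Coh.structureModule T))) ≫
      (0 : Formal.completion I (kernel (quotπ 𝒩 (Coh.structureModule T))) ⟶
        Formal.completion I (Coh.structureModule T)).app (op n) =
      (0 : kernel (quotπ 𝒩 (Coh.structureModule T)) ⟶ Coh.structureModule T) ≫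
        Formal.modPowπ I (n + 1) (Coh.structureModule T) := by
    intro n
    rw [NatTrans.app_zero, comp_zero, zero_comp]
  have huniq : kernel.ι (quotπ 𝒩 (Coh.structureModule T)) = 0 :=
    (Groth.Agent.S0798.result A I T _ _ hK hO (hprop _ (isClosed_support _ hK.2))
      (hprop _ (isClosed_support _ hO.2)) 0).unique h1 h2
  haveI : Mono (quotπ 𝒩 (Coh.structureModule T)) := Preadditive.mono_of_kernel_zero huniq
  refine Scheme.IdealSheafData.ext (funext fun U => ?_)
  show 𝒩.ideal U = ⊥
  rw [eq_bot_iff]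
  intro a ha
  have h5 := (quotπ_sec_eq_zero_iff 𝒩 U.2 a).mpr ha
  have h6 : sec a = 0 := appLin_injective_of_mono (quotπ 𝒩 (Coh.structureModule T)) U.1
    (by rw [h5, map_zero])
  exact h6

/-- **algebraization of formal morphisms** (EGA III 5.4.1, existence) -/
theorem exists_morphism {X Y : Scheme.{u}} (f : X ⟶ Spec (CommRingCat.of A))
    (h : Y ⟶ Spec (CommRingCat.of A)) [IsProper f] [IsSeparated h] [LocallyOfFiniteType h]
    [QuasiCompact h] (g : (n : ℕ) → (CohB1.thick f I n ⟶ CohB1.thick h I n))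
    (hg₁ : ∀ n, g n ≫ CohB1.thickToBase h I n = CohB1.thickToBase f I n)
    (hg₂ : ∀ n, CohB1.thickTrans f I n ≫ g (n + 1) = g n ≫ CohB1.thickTrans h I n) :
    ∃ φ : X ⟶ Y, φ ≫ h = f ∧ ∀ n, CohB1.thickι f I n ≫ φ = g n ≫ CohB1.thickι h I n := by
  -- the product and the graphs
  have hcγ : ∀ n, CohB1.thickι f I n ≫ f = (g n ≫ CohB1.thickι h I n) ≫ h := by
    intro n
    have e1 : CohB1.thickι f I n ≫ f = CohB1.thickToBase f I n ≫ CohB1.specQuot I n :=
      pullback.condition
    have e2 : CohB1.thickι h I n ≫ h = CohB1.thickToBase h I n ≫ CohB1.specQuot I n :=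
      pullback.condition
    rw [e1, Category.assoc, e2, ← Category.assoc, hg₁ n]
  let γ : ∀ n, CohB1.thick f I n ⟶ pullback f h := fun n =>
    pullback.lift (CohB1.thickι f I n) (g n ≫ CohB1.thickι h I n) (hcγ n)
  have hγ1 : ∀ n, γ n ≫ pullback.fst f h = CohB1.thickι f I n := fun n => pullback.lift_fst _ _ _
  have hγ2 : ∀ n, γ n ≫ pullback.snd f h = g n ≫ CohB1.thickι h I n := fun n =>
    pullback.lift_snd _ _ _
  have hcΓ : ∀ n, γ n ≫ (pullback.fst f h ≫ f) =
      CohB1.thickToBase f I n ≫ CohB1.specQuot I n := by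
    intro n
    rw [← Category.assoc, hγ1 n]
    exact pullback.condition
  let Γ : ∀ n, CohB1.thick f I n ⟶ CohB1.thick (pullback.fst f h ≫ f) I n := fun n =>
    pullback.lift (γ n) (CohB1.thickToBase f I n) (hcΓ n)
  have hΓι : ∀ n, Γ n ≫ CohB1.thickι (pullback.fst f h ≫ f) I n = γ n := fun n =>
    pullback.lift_fst _ _ _
  have hΓb : ∀ n, Γ n ≫ CohB1.thickToBase (pullback.fst f h ≫ f) I n =
      CohB1.thickToBase f I n := fun n => pullback.lift_snd _ _ _
  haveI hΓc : ∀ n, IsClosedImmersion (Γ n) := fun n => by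
    haveI : IsClosedImmersion
        (Γ n ≫ (CohB1.thickι (pullback.fst f h ≫ f) I n ≫ pullback.fst f h)) := by
      rw [← Category.assoc, hΓι n, hγ1 n]
      infer_instance
    exact IsClosedImmersion.of_comp (Γ n)
      (CohB1.thickι (pullback.fst f h ≫ f) I n ≫ pullback.fst f h)
  -- the squares
  have hcomm : ∀ n, CohB1.thickTrans f I n ≫ Γ (n + 1) =
      Γ n ≫ CohB1.thickTrans (pullback.fst f h ≫ f) I n := by
    intro n
    apply pullback.hom_ext
    · show (CohB1.thickTrans f I n ≫ Γ (n + 1)) ≫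
          CohB1.thickι (pullback.fst f h ≫ f) I (n + 1) =
        (Γ n ≫ CohB1.thickTrans (pullback.fst f h ≫ f) I n) ≫
          CohB1.thickι (pullback.fst f h ≫ f) I (n + 1)
      rw [Category.assoc, hΓι (n + 1), Category.assoc, thickTrans_ι, hΓι n]
      apply pullback.hom_ext
      · rw [Category.assoc, hγ1 (n + 1), hγ1 n, thickTrans_ι]
      · rw [Category.assoc, hγ2 (n + 1), hγ2 n, ← Category.assoc, hg₂ n, Category.assoc,
          thickTrans_ι]
    · show (CohB1.thickTrans f I n ≫ Γ (n + 1)) ≫
          CohB1.thickToBase (pullback.fst f h ≫ f) I (n + 1) =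
        (Γ n ≫ CohB1.thickTrans (pullback.fst f h ≫ f) I n) ≫
          CohB1.thickToBase (pullback.fst f h ≫ f) I (n + 1)
      calc (CohB1.thickTrans f I n ≫ Γ (n + 1)) ≫
            CohB1.thickToBase (pullback.fst f h ≫ f) I (n + 1)
          = CohB1.thickTrans f I n ≫ (Γ (n + 1) ≫
            CohB1.thickToBase (pullback.fst f h ≫ f) I (n + 1)) := Category.assoc _ _ _
        _ = CohB1.thickTrans f I n ≫ CohB1.thickToBase f I (n + 1) := by rw [hΓb (n + 1)]
        _ = CohB1.thickToBase f I n ≫ CohB1.specQuotTrans I n := thickTrans_toBase f I n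
        _ = (Γ n ≫ CohB1.thickToBase (pullback.fst f h ≫ f) I n) ≫ CohB1.specQuotTrans I n := by
            rw [hΓb n]
        _ = Γ n ≫ (CohB1.thickTrans (pullback.fst f h ≫ f) I n ≫
            CohB1.thickToBase (pullback.fst f h ≫ f) I (n + 1)) := by
            rw [Category.assoc, thickTrans_toBase]
        _ = (Γ n ≫ CohB1.thickTrans (pullback.fst f h ≫ f) I n) ≫
            CohB1.thickToBase (pullback.fst f h ≫ f) I (n + 1) := (Category.assoc _ _ _).symm
  have ht : ∀ n, IsPullback (CohB1.thickTrans f I n) (Γ n) (Γ (n + 1))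
      (CohB1.thickTrans (pullback.fst f h ≫ f) I n) := fun n => by
    refine IsPullback.of_bot ?_ (hcomm n) (isPullback_thickTrans (pullback.fst f h ≫ f) I n)
    rw [hΓb n, hΓb (n + 1)]
    exact isPullback_thickTrans f I n
  have hp : IsProper (Γ 0 ≫ CohB1.thickToBase (pullback.fst f h ≫ f) I 0) := by
    rw [hΓb 0]
    infer_instance
  obtain ⟨W, i, w, hi, hip, -, hwp⟩ := Groth.Agent.S0040.result A I (pullback.fst f h ≫ f)
    (fun n => CohB1.thick f I n) Γ (CohB1.thickTrans f I) hΓc ht hp
  haveI := hi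
  haveI := hip
  -- the projection `W ⟶ X`
  obtain ⟨p, hpdef⟩ : ∃ p : W ⟶ X, p = i ≫ pullback.fst f h := ⟨_, rfl⟩
  have hpf : p ≫ f = i ≫ (pullback.fst f h ≫ f) := by rw [hpdef, Category.assoc]
  haveI hpp : IsProper p := by
    haveI : IsProper (p ≫ f) := by
      rw [hpf]
      exact hip
    exact IsProper.of_comp p f
  have hwp1 : ∀ n, w n ≫ p = CohB1.thickι f I n := by
    intro n
    rw [hpdef, ← Category.assoc, (hwp n).w, Category.assoc, ← Category.assoc (Γ n), hΓι n, hγ1 n]
  have hWn : ∀ n, IsPullback (w n) (CohB1.thickToBase f I n) (p ≫ f) (CohB1.specQuot I n) :=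
    fun n => by
    have h1 := (hwp n).paste_vert
      (IsPullback.of_hasPullback (pullback.fst f h ≫ f) (CohB1.specQuot I n))
    rw [hΓb n, ← hpf] at h1
    exact h1
  -- `W ⟶ X` is a monomorphism
  haveI hmono : Mono p := by
    rw [← pullback.isIso_diagonal_iff]
    haveI : IsClosedImmersion (pullback.diagonal p) := inferInstance
    rw [IsClosedImmersion.isIso_iff_ker_eq_bot]
    obtain ⟨fT, hfT⟩ : ∃ fT : pullback p p ⟶ Spec (CommRingCat.of A),
        fT = pullback.fst p p ≫ (p ≫ f) := ⟨_, rfl⟩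
    have hfT' : fT = pullback.snd p p ≫ (p ≫ f) := by
      rw [hfT, ← Category.assoc, pullback.condition, Category.assoc]
    haveI : IsProper fT := by
      rw [hfT]
      infer_instance
    refine ideal_eq_bot_of_le_ker_thickι A I fT _ (fun n => ?_)
    -- the thickening factors through the diagonal
    have hcT : CohB1.thickι fT I n ≫ fT = CohB1.thickToBase fT I n ≫ CohB1.specQuot I n :=
      pullback.condition
    have hca : (CohB1.thickι fT I n ≫ pullback.fst p p) ≫ (p ≫ f) =
        CohB1.thickToBase fT I n ≫ CohB1.specQuot I n :=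
      (Category.assoc _ _ _).trans
        ((congrArg (fun τ => CohB1.thickι fT I n ≫ τ) hfT.symm).trans hcT)
    have hcb : (CohB1.thickι fT I n ≫ pullback.snd p p) ≫ (p ≫ f) =
        CohB1.thickToBase fT I n ≫ CohB1.specQuot I n :=
      (Category.assoc _ _ _).trans
        ((congrArg (fun τ => CohB1.thickι fT I n ≫ τ) hfT'.symm).trans hcT)
    have e1 : ∀ x : CohB1.thick fT I n ⟶ CohB1.thick f I n,
        x ≫ CohB1.thickι f I n = (x ≫ w n) ≫ p := fun x => by
      rw [Category.assoc, hwp1 n]
    have hab : (hWn n).lift _ _ hca = (hWn n).lift _ _ hcb := by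
      refine (cancel_mono (CohB1.thickι f I n)).1 ?_
      rw [e1, e1, (hWn n).lift_fst, (hWn n).lift_fst]
      exact (Category.assoc _ _ _).trans
        ((congrArg (fun τ => CohB1.thickι fT I n ≫ τ) pullback.condition).trans
          (Category.assoc _ _ _).symm)
    have hab' : CohB1.thickι fT I n ≫ pullback.fst p p =
        CohB1.thickι fT I n ≫ pullback.snd p p := by
      rw [← (hWn n).lift_fst _ _ hca, hab, (hWn n).lift_fst]
    have hfac : CohB1.thickι fT I n =
        (CohB1.thickι fT I n ≫ pullback.fst p p) ≫ pullback.diagonal p := by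
      apply pullback.hom_ext
      · rw [Category.assoc, pullback.diagonal_fst, Category.comp_id]
      · rw [Category.assoc, pullback.diagonal_snd, Category.comp_id, hab']
    rw [hfac]
    exact Scheme.Hom.le_ker_comp _ _
  -- `W ⟶ X` is an isomorphism
  haveI : IsClosedImmersion p := (IsClosedImmersion.iff_isProper_and_mono p).mpr ⟨hpp, hmono⟩
  haveI hiso : IsIso p := by
    rw [IsClosedImmersion.isIso_iff_ker_eq_bot]
    refine ideal_eq_bot_of_le_ker_thickι A I f _ (fun n => ?_)
    rw [← hwp1 n]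
    exact Scheme.Hom.le_ker_comp _ _
  refine ⟨inv p ≫ i ≫ pullback.snd f h, ?_, fun n => ?_⟩
  · rw [Category.assoc, Category.assoc, ← pullback.condition, IsIso.inv_comp_eq, hpf]
  · calc CohB1.thickι f I n ≫ inv p ≫ i ≫ pullback.snd f h
        = w n ≫ i ≫ pullback.snd f h := by
          rw [← hwp1 n, Category.assoc, IsIso.hom_inv_id_assoc]
      _ = (Γ n ≫ CohB1.thickι (pullback.fst f h ≫ f) I n) ≫ pullback.snd f h := by
          rw [← Category.assoc, (hwp n).w]
      _ = g n ≫ CohB1.thickι h I n := by rw [hΓι n, hγ2 n]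

end Groth.Agent.Lib.helper8.GEMor
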