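import Mathlib
import Groth.Agent.Lib.Helper8.PullOnComp
import Groth.Agent.Lib.Helper8.EpsAffine
import Groth.Agent.Lib.Helper28.HomOfAffine

/-!
# Horizontal composition of the base change maps `CohCmp.GenBC` (helper8)

* `transpose_comp`: the transpose under `(φ ≫ ψ)^* ⊣ (φ ≫ ψ)_*` precomposed with `pullbackComp`
  is the iterated transpose under `ψ^* ⊣ ψ_*` and `φ^* ⊣ φ_*`;
* `genBC_comp_adj`: the adjoint form of the composition law for `GenBC.φ` (two squares side by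
  side), checked on sections over affine opens via `eps_bijective_of_isAffineOpen`, `GenBC.compat`
  and `PullOnComp.pullOn_comp`;
* `genBC_bc_comp`: the composition law for `GenBC.bc`.
-/

set_option autoImplicit false
universe u
open CategoryTheory AlgebraicGeometry Opposite TopologicalSpace
open AlgebraicGeometry.Scheme.Modules
open Groth.Agent.Lib.Helper18.ResLE Groth.Agent.Lib.helper8.PullModComp
open Groth.Agent.Lib.helper8.PullOnComp

namespace Groth.Agent.Lib.helper8.GenBCComp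

section transpose

variable {A B C : Scheme.{u}} (φ : A ⟶ B) (ψ : B ⟶ C)

theorem transpose_comp (M : C.Modules) (N : A.Modules) (a : M ⟶ (pushforward (φ ≫ ψ)).obj N) :
    (pullbackComp φ ψ).hom.app M ≫
        ((pullbackPushforwardAdjunction (φ ≫ ψ)).homEquiv M N).symm a =
      ((pullbackPushforwardAdjunction φ).homEquiv ((Scheme.Modules.pullback ψ).obj M) N).symm
        (((pullbackPushforwardAdjunction ψ).homEquiv M ((pushforward φ).obj N)).symm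
          (a ≫ (pushforwardComp φ ψ).inv.app N)) := by
  set x := ((pullbackPushforwardAdjunction (φ ≫ ψ)).homEquiv M N).symm a with hx
  have ha : a = uP (φ ≫ ψ) M ≫ (pushforward (φ ≫ ψ)).map x := by
    rw [hx, ← Adjunction.homEquiv_unit, Equiv.apply_symm_apply]
  symm
  rw [Equiv.symm_apply_eq, Equiv.symm_apply_eq, Adjunction.homEquiv_unit,
    Adjunction.homEquiv_unit]
  rw [← cancel_mono ((pushforwardComp φ ψ).hom.app N), Category.assoc, Iso.inv_hom_id_app,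
    Category.comp_id]
  have nat := (pushforwardComp φ ψ).hom.naturality ((pullbackComp φ ψ).hom.app M ≫ x)
  simp only [Functor.comp_map, Functor.comp_obj] at nat
  have key := unit_pullbackComp φ ψ M
  calc a = uP (φ ≫ ψ) M ≫ (pushforward (φ ≫ ψ)).map x := ha
    _ = (uP (φ ≫ ψ) M ≫ (pushforward (φ ≫ ψ)).map ((pullbackComp φ ψ).inv.app M)) ≫
          (pushforward (φ ≫ ψ)).map ((pullbackComp φ ψ).hom.app M ≫ x) := by
        rw [Category.assoc, ← Functor.map_comp, Iso.inv_hom_id_app_assoc]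
    _ = ((uP ψ M ≫ (pushforward ψ).map (uP φ ((Scheme.Modules.pullback ψ).obj M))) ≫
          (pushforwardComp φ ψ).hom.app _) ≫
          (pushforward (φ ≫ ψ)).map ((pullbackComp φ ψ).hom.app M ≫ x) := by
        rw [← key]
    _ = _ := by
        rw [Category.assoc, ← nat, Functor.map_comp (pushforward ψ), Category.assoc]
        rfl

end transpose

section main

open Groth.Agent.Lib.helper8.EpsAffine Groth.Agent.Lib.helper28.HomOfAffine

variable {X Y Z U V W : Scheme.{u}} (f : X ⟶ Y) (g : Y ⟶ Z) (ξ : X ⟶ U) (η : Y ⟶ V) (ζ : Z ⟶ W)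
    (φ : U ⟶ V) (ψ : V ⟶ W) (w₁ : f ≫ η = ξ ≫ φ) (w₂ : g ≫ ζ = η ≫ ψ)
    (hw : (f ≫ g) ≫ ζ = ξ ≫ (φ ≫ ψ))
    [QuasiCompact ζ] [QuasiSeparated ζ]
    [HasInjectiveResolutions X.Modules] [HasInjectiveResolutions Y.Modules]
    [HasInjectiveResolutions Z.Modules]
    (L : Z.Modules) [Coh.IsQCoh L] (p : ℕ)
    {Δζ : RDer.DerivedLES (pushforward ζ)} {Δη : RDer.DerivedLES (pushforward η)}
    {Δξ : RDer.DerivedLES (pushforward ξ)}
    (Eζ : CohCmp.SectCmp ζ Δζ) (Eη : CohCmp.SectCmp η Δη) (Eξ : CohCmp.SectCmp ξ Δξ)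
    (B₂ : CohCmp.GenBC ζ ψ η g w₂ Eζ Eη) (B₁ : CohCmp.GenBC η φ ξ f w₁ Eη Eξ)
    (B : CohCmp.GenBC ζ (φ ≫ ψ) ξ (f ≫ g) hw Eζ Eξ)

include w₁ w₂ hw in
/-- **composition law for the base change maps in adjoint form** (two commutative squares side by
side; `ζ` qcqs and `L` quasi-coherent so that sections of `R^p ζ_* L` over affine opens are classes
`ε x`). -/
theorem genBC_comp_adj :
    B.φ p L ≫ (pushforwardComp φ ψ).inv.app
        ((Coh.Rpush ξ p).obj ((Scheme.Modules.pullback (f ≫ g)).obj L)) =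
      B₂.φ p L ≫ (pushforward ψ).map (B₁.φ p ((Scheme.Modules.pullback g).obj L) ≫
        (pushforward φ).map ((Coh.Rpush ξ p).map ((pullbackComp f g).hom.app L))) := by
  apply hom_ext_of_affine
  intro V' s
  obtain ⟨x, rfl⟩ := (eps_bijective_of_isAffineOpen ζ Eζ L V'.2 p).2 s
  have hB := B.compat V'.1 L p x
  have hB₂ := B₂.compat V'.1 L p x
  have hB₁ := B₁.compat (ψ ⁻¹ᵁ V'.1) ((Scheme.Modules.pullback g).obj L) p
    (CohPull.pullOn g (ζ ⁻¹ᵁ V'.1) (η ⁻¹ᵁ (ψ ⁻¹ᵁ V'.1)) (CohCmp.sqLE ζ ψ η g w₂ V'.1) L p x)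
  have hnat := Eξ.natural (φ ⁻¹ᵁ (ψ ⁻¹ᵁ V'.1)) ((pullbackComp f g).hom.app L) p
    (CohPull.pullOn f (η ⁻¹ᵁ (ψ ⁻¹ᵁ V'.1)) (ξ ⁻¹ᵁ (φ ⁻¹ᵁ (ψ ⁻¹ᵁ V'.1)))
      (CohCmp.sqLE η φ ξ f w₁ (ψ ⁻¹ᵁ V'.1)) ((Scheme.Modules.pullback g).obj L) p
      (CohPull.pullOn g (ζ ⁻¹ᵁ V'.1) (η ⁻¹ᵁ (ψ ⁻¹ᵁ V'.1)) (CohCmp.sqLE ζ ψ η g w₂ V'.1) L p x))
  have hcomp := pullOn_comp f g (ζ ⁻¹ᵁ V'.1) (η ⁻¹ᵁ (ψ ⁻¹ᵁ V'.1)) (ξ ⁻¹ᵁ (φ ⁻¹ᵁ (ψ ⁻¹ᵁ V'.1)))
    (CohCmp.sqLE ζ ψ η g w₂ V'.1) (CohCmp.sqLE η φ ξ f w₁ (ψ ⁻¹ᵁ V'.1))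
    (CohCmp.sqLE ζ (φ ≫ ψ) ξ (f ≫ g) hw V'.1) L p x
  rw [hcomp] at hnat
  refine Eq.trans (show _ = ((B.φ p L).app V'.1) (Eζ.ε V'.1 L p x) from rfl) ?_
  refine hB.trans (hnat.trans ?_)
  have e := hB₁.symm.trans (congrArg (fun t =>
    ((B₁.φ p ((Scheme.Modules.pullback g).obj L)).app (ψ ⁻¹ᵁ V'.1)) t) hB₂.symm)
  exact congrArg (fun t => (((Coh.Rpush ξ p).map ((pullbackComp f g).hom.app L)).app
    (φ ⁻¹ᵁ (ψ ⁻¹ᵁ V'.1))) t) e

include w₁ w₂ hw in
/-- **composition law for the base change maps** `GenBC.bc` of two squares side by side -/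
theorem genBC_bc_comp :
    (pullbackComp φ ψ).hom.app ((Coh.Rpush ζ p).obj L) ≫ B.bc p L =
      (Scheme.Modules.pullback φ).map (B₂.bc p L) ≫
        B₁.bc p ((Scheme.Modules.pullback g).obj L) ≫
        (Coh.Rpush ξ p).map ((pullbackComp f g).hom.app L) := by
  unfold CohCmp.GenBC.bc
  rw [transpose_comp, genBC_comp_adj f g ξ η ζ φ ψ w₁ w₂ hw L p Eζ Eη Eξ B₂ B₁ B,
    Adjunction.homEquiv_naturality_right_symm, Adjunction.homEquiv_naturality_left_symm,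
    Adjunction.homEquiv_naturality_right_symm]

end main

end Groth.Agent.Lib.helper8.GenBCComp
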