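import Mathlib
import Groth.Agent.Lib.Helper18.PullbackStalk

/-!
# Unramified morphisms and geometric fibres (helper8)

* `formallyUnramified_of_reduced_discrete`: a reduced finite type algebra with discrete spectrum over
  an algebraically closed field is formally unramified.
* `reduced_discrete_of_formallyUnramified`: a formally unramified finite type algebra over a field is
  reduced with discrete spectrum.
* `isReduced_and_discrete_of_formallyUnramified`, `formallyUnramified_of_isReduced_of_discrete`:
  scheme versions over `Spec K`.
* `formallyUnramified_iff_geometricFibres`: `f` locally of finite type is formally unramified iff all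
  geometric fibres are reduced and discrete.
-/

set_option autoImplicit false
universe u

namespace Groth.Agent.Lib.helper8.GeomUnram

open CategoryTheory CategoryTheory.Limits AlgebraicGeometry TensorProduct

section ring

theorem formallyUnramified_of_reduced_discrete (K C : Type u) [Field K] [IsAlgClosed K]
    [CommRing C] [Algebra K C] [Algebra.FiniteType K C] [IsReduced C]
    [DiscreteTopology (PrimeSpectrum C)] : Algebra.FormallyUnramified K C := by
  obtain ⟨hfin, hdim⟩ := PrimeSpectrum.discreteTopology_iff_finite_and_krullDimLE_zero.mp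
    (inferInstance : DiscreteTopology (PrimeSpectrum C))
  have hF : Module.Finite K C := (Module.finite_iff_krullDimLE_zero K C).mpr hdim
  have hA : IsArtinianRing C := IsArtinianRing.of_finite K C
  let e : C ≃ₐ[K] (∀ I : MaximalSpectrum C, C ⧸ I.asIdeal) :=
    (IsArtinianRing.equivPi C).restrictScalars K
  have h1 : ∀ I : MaximalSpectrum C, Algebra.FormallyUnramified K (C ⧸ I.asIdeal) := by
    intro I
    have : I.asIdeal.IsMaximal := I.isMaximal
    have : Algebra.IsIntegral K (C ⧸ I.asIdeal) := Algebra.IsIntegral.of_finite K _
    have hs : Function.Surjective (algebraMap K (C ⧸ I.asIdeal)) :=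
      IsAlgClosed.algebraMap_bijective_of_isIntegral.2
    exact Algebra.FormallyUnramified.of_surjective (Algebra.ofId K _) hs
  have : Finite (MaximalSpectrum C) := inferInstance
  exact Algebra.FormallyUnramified.of_equiv e.symm

theorem reduced_discrete_of_formallyUnramified (K C : Type u) [Field K]
    [CommRing C] [Algebra K C] [Algebra.FiniteType K C] [Algebra.FormallyUnramified K C] :
    IsReduced C ∧ DiscreteTopology (PrimeSpectrum C) := by
  have hF : Module.Finite K C := Algebra.FormallyUnramified.finite_of_free K C
  have hA : IsArtinianRing C := IsArtinianRing.of_finite K C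
  exact ⟨Algebra.FormallyUnramified.isReduced_of_field K C, inferInstance⟩

end ring

section scheme

open H18Stalk Groth.Agent.Lib.Helper18.PullbackStalk

/-- data of an affine chart of a scheme over `Spec K` -/
theorem chart_hom {K : Type u} [Field K] {R : CommRingCat.{u}} (h : Spec R ⟶ Spec (CommRingCat.of K)) :
    ∃ χ : CommRingCat.of K ⟶ R, h = Spec.map χ := by
  obtain ⟨χ, rfl⟩ := Spec.map_surjective h
  exact ⟨χ, rfl⟩

/-- a scheme locally of finite type and formally unramified over a field is reduced and discrete -/
theorem isReduced_and_discrete_of_formallyUnramified {K : Type u} [Field K] {Y : Scheme.{u}}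
    (g : Y ⟶ Spec (CommRingCat.of K)) [LocallyOfFiniteType g] [FormallyUnramified g] :
    IsReduced Y ∧ DiscreteTopology Y := by
  let 𝒰 := Y.affineOpenCover
  have key : ∀ i : 𝒰.I₀, _root_.IsReduced (𝒰.X i) ∧ DiscreteTopology (PrimeSpectrum (𝒰.X i)) := by
    intro i
    obtain ⟨χ, hχ⟩ := chart_hom (𝒰.f i ≫ g)
    have h1 : FormallyUnramified (𝒰.f i ≫ g) :=
      IsZariskiLocalAtSource.comp (P := @FormallyUnramified) inferInstance (𝒰.f i)
    have h2 : LocallyOfFiniteType (𝒰.f i ≫ g) := inferInstance
    rw [hχ, HasRingHomProperty.Spec_iff (P := @FormallyUnramified)] at h1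
    rw [hχ, HasRingHomProperty.Spec_iff (P := @LocallyOfFiniteType)] at h2
    algebraize [χ.hom]
    exact reduced_discrete_of_formallyUnramified K (𝒰.X i)
  constructor
  · have : ∀ i, IsReduced (𝒰.openCover.X i) := fun i => by
      have := (key i).1
      show IsReduced (Spec (𝒰.X i))
      infer_instance
    exact IsReduced.of_openCover _ 𝒰.openCover
  · rw [discreteTopology_iff_isOpen_singleton]
    intro y
    obtain ⟨z, hz⟩ := 𝒰.covers y
    have hd : DiscreteTopology (Spec (𝒰.X (𝒰.idx y))) := (key (𝒰.idx y)).2
    have ho : IsOpen ({z} : Set (Spec (𝒰.X (𝒰.idx y)))) := isOpen_discrete _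
    have := (𝒰.f (𝒰.idx y)).isOpenEmbedding.isOpenMap _ ho
    rwa [Set.image_singleton, hz] at this

/-- a reduced discrete scheme locally of finite type over an algebraically closed field is
formally unramified -/
theorem formallyUnramified_of_isReduced_of_discrete {K : Type u} [Field K] [IsAlgClosed K]
    {Y : Scheme.{u}} (g : Y ⟶ Spec (CommRingCat.of K)) [LocallyOfFiniteType g]
    [IsReduced Y] [DiscreteTopology Y] : FormallyUnramified g := by
  let 𝒰 := Y.affineOpenCover
  rw [IsZariskiLocalAtSource.iff_of_openCover (P := @FormallyUnramified) 𝒰.openCover]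
  intro i
  show FormallyUnramified (𝒰.f i ≫ g)
  obtain ⟨χ, hχ⟩ := chart_hom (𝒰.f i ≫ g)
  have h2 : LocallyOfFiniteType (𝒰.f i ≫ g) := inferInstance
  rw [hχ, HasRingHomProperty.Spec_iff (P := @LocallyOfFiniteType)] at h2
  rw [hχ, HasRingHomProperty.Spec_iff (P := @FormallyUnramified)]
  have hred : IsReduced (Spec (𝒰.X i)) := isReduced_of_isOpenImmersion (𝒰.f i)
  have hred' : _root_.IsReduced (𝒰.X i) := (affine_isReduced_iff _).mp hred
  have hdisc : DiscreteTopology (PrimeSpectrum (𝒰.X i)) :=
    (𝒰.f i).isOpenEmbedding.isEmbedding.discreteTopology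
  algebraize [χ.hom]
  have := formallyUnramified_of_reduced_discrete K (𝒰.X i)
  rw [RingHom.FormallyUnramified]
  convert this

/-- **unramified iff geometric fibres reduced and discrete** -/
theorem formallyUnramified_iff_geometricFibres {X S : Scheme.{u}} (f : X ⟶ S)
    [LocallyOfFiniteType f] :
    FormallyUnramified f ↔
      ∀ (K : Type u) [Field K] [IsAlgClosed K] (s : Spec (CommRingCat.of K) ⟶ S),
        IsReduced (pullback f s) ∧ DiscreteTopology ↥(pullback f s) := by
  constructor
  · intro hf K _ _ s
    have : FormallyUnramified (pullback.snd f s) :=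
      MorphismProperty.pullback_snd (P := @FormallyUnramified) f s hf
    exact isReduced_and_discrete_of_formallyUnramified (pullback.snd f s)
  · intro H
    have key : ∀ x : X, ∃ U : X.Opens, x ∈ U ∧ FormallyUnramified (U.ι ≫ f) := by
      intro x
      rw [exists_unramified_nhd_iff]
      let κ := S.residueField (f x)
      let K := AlgebraicClosure κ
      let s : Spec (CommRingCat.of K) ⟶ S :=
        Spec.map (CommRingCat.ofHom (algebraMap κ K)) ≫ S.fromSpecResidueField (f x)
      obtain ⟨hred, hdisc⟩ := H K s
      have hne : Nonempty (Spec (CommRingCat.of K)) := inferInstance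
      obtain ⟨y⟩ := hne
      have hy : f x = s y := (S.fromSpecResidueField_apply (f x) _).symm
      obtain ⟨x', hx', -⟩ := Scheme.Pullback.exists_preimage_pullback x y hy
      have hu : FormallyUnramified (pullback.snd f s) :=
        formallyUnramified_of_isReduced_of_discrete (pullback.snd f s)
      have h1 := FormallyUnramified.stalkMap (pullback.snd f s) x'
      have h2 := (unram_stalk_iff_pullback f s x').mp h1
      rw [hx'] at h2
      exact h2
    choose U hxU hU using key
    refine IsZariskiLocalAtSource.of_iSup_eq_top (P := @FormallyUnramified) U ?_ hU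
    exact top_le_iff.mp fun x _ => by simpa using ⟨x, hxU x⟩

end scheme

end Groth.Agent.Lib.helper8.GeomUnram
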