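import Mathlib
import Groth.Prelude.Def_GrMap

/-!
# Degreewise description of the induced map on associated graded rings, and lifting along a
homomorphism of filtered rings whose associated graded map is surjective.
-/

set_option autoImplicit false
universe u v

open AssocGr Polynomial

namespace Groth.Agent.Lib.Helper8.GrMapApprox

variable {A : Type u} {B : Type v} [CommRing A] [CommRing B] {φ : A →+* B}
  {𝓕 : FiltBl.IdealFiltration A} {𝓖 : FiltBl.IdealFiltration B}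

/-- If the induced map of associated graded rings is surjective, then it is so degreewise:
every `b ∈ G n` is congruent modulo `G (n+1)` to `φ a` with `a ∈ F n`. -/
theorem exists_of_map_surjective (h : IsFiltHom φ 𝓕 𝓖) (hs : Function.Surjective (map h))
    (n : ℕ) (b : B) (hb : b ∈ 𝓖.F n) : ∃ a ∈ 𝓕.F n, b - φ a ∈ 𝓖.F (n + 1) := by
  obtain ⟨g, hg⟩ := hs (inDeg 𝓖 n ⟨b, hb⟩ : GrRing 𝓖)
  obtain ⟨f, rfl⟩ := mkG_surjective 𝓕 g
  rw [map_mkG, coe_inDeg, ← sub_eq_zero, ← map_sub, mkG_eq_zero_iff, mem_succIdeal_iff] at hg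
  have h1 := hg n
  rw [Subalgebra.coe_sub, coe_reesMap, coe_coe_monom, coeff_sub, coeff_map, coeff_monomial,
    if_pos rfl] at h1
  refine ⟨(f : A[X]).coeff n, f.2 n, ?_⟩
  rw [← neg_sub]
  exact (Ideal.neg_mem_iff _).mpr h1

/-- The class of `f` in the associated graded ring is killed by the induced map iff the image of
the `n`-th coefficient of `f` lies in `G (n+1)` for all `n`. -/
theorem map_mkG_eq_zero_iff (h : IsFiltHom φ 𝓕 𝓖) (f : 𝓕.rees) :
    map h (mkG 𝓕 f) = 0 ↔ ∀ n, φ ((f : A[X]).coeff n) ∈ 𝓖.F (n + 1) := by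
  rw [map_mkG, mkG_eq_zero_iff, mem_succIdeal_iff]
  simp only [coe_reesMap, coeff_map]

/-- The induced map is injective as soon as `φ⁻¹(G (n+1)) ∩ F n ⊆ F (n+1)` for all `n`. -/
theorem map_injective_of (h : IsFiltHom φ 𝓕 𝓖)
    (hinj : ∀ n, ∀ a ∈ 𝓕.F n, φ a ∈ 𝓖.F (n + 1) → a ∈ 𝓕.F (n + 1)) :
    Function.Injective (map h) := by
  rw [injective_iff_map_eq_zero]
  intro g hg
  obtain ⟨f, rfl⟩ := mkG_surjective 𝓕 g
  rw [map_mkG_eq_zero_iff] at hg
  rw [mkG_eq_zero_iff, mem_succIdeal_iff]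
  exact fun n => hinj n _ (f.2 n) (hg n)

/-- The induced map is surjective as soon as it is so degreewise. -/
theorem map_surjective_of (h : IsFiltHom φ 𝓕 𝓖)
    (hsurj : ∀ n, ∀ b ∈ 𝓖.F n, ∃ a ∈ 𝓕.F n, b - φ a ∈ 𝓖.F (n + 1)) :
    Function.Surjective (map h) := by
  intro g
  obtain ⟨f, rfl⟩ := mkG_surjective 𝓖 g
  rw [← sum_term 𝓖 f, map_sum]
  suffices H : ∀ n, ∃ g', map h g' = mkG 𝓖 (term 𝓖 f n) by
    choose g' hg' using H
    exact ⟨∑ n ∈ (f : B[X]).support, g' n, by rw [map_sum]; exact Finset.sum_congr rfl fun n _ => hg' n⟩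
  intro n
  obtain ⟨a, ha, hab⟩ := hsurj n _ (f.2 n)
  refine ⟨(inDeg 𝓕 n ⟨a, ha⟩ : GrRing 𝓕), ?_⟩
  rw [map_inDeg, mkG_term, eq_comm, ← sub_eq_zero, ← Submodule.coe_sub, ← map_sub,
    Submodule.coe_eq_zero, inDeg_eq_zero_iff]
  exact hab

end Groth.Agent.Lib.Helper8.GrMapApprox
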