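import Mathlib
import Groth.Agent.S18022

/-!
# The inertia operators on the vector space of finite groups: `inertia ∘ inertiaR r`

Key identity: `inertia (inertiaROf r G) = inertiaROf (r+1) G + r • inertiaROf r G`.
-/

set_option autoImplicit false
open W4c5stacksedinertia

namespace Groth.Agent.Lib.Helper8.Inertia

open Groth.Agent.S18022

section Action
variable (G : Type) [Group G] [Finite G] (r : ℕ)

/-- conjugation action on commuting tuples -/
instance : MulAction G (CommTuple G r) where
  smul g s := ⟨fun i => g * s.1 i * g⁻¹, fun a b hab => s.2.1 (by simpa using hab), fun i j => by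
    have := (s.2.2 i j).eq
    show g * s.1 i * g⁻¹ * (g * s.1 j * g⁻¹) = g * s.1 j * g⁻¹ * (g * s.1 i * g⁻¹)
    calc g * s.1 i * g⁻¹ * (g * s.1 j * g⁻¹) = g * (s.1 i * s.1 j) * g⁻¹ := by group
      _ = g * (s.1 j * s.1 i) * g⁻¹ := by rw [this]
      _ = _ := by group⟩
  one_smul s := Subtype.ext (funext fun i => by show 1 * s.1 i * 1⁻¹ = s.1 i; simp)
  mul_smul g h s := Subtype.ext (funext fun i => by
    show g * h * s.1 i * (g * h)⁻¹ = g * (h * s.1 i * h⁻¹) * g⁻¹
    group)

variable {G r}

omit [Finite G] in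
theorem smul_val (g : G) (s : CommTuple G r) (i : Fin r) : (g • s).1 i = g * s.1 i * g⁻¹ := rfl

/-- the centralizer of a tuple -/
def Cz (s : CommTuple G r) : Subgroup G := Subgroup.centralizer (Set.range s.1)

omit [Finite G] in
theorem stabilizer_eq (s : CommTuple G r) : MulAction.stabilizer G s = Cz s := by
  ext g
  rw [MulAction.mem_stabilizer_iff, Cz, Subgroup.mem_centralizer_iff]
  constructor
  · rintro h _ ⟨i, rfl⟩
    have := congrFun (congrArg Subtype.val h) i
    rw [smul_val] at this
    calc s.1 i * g = g * s.1 i * g⁻¹ * g := by rw [this]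
      _ = g * s.1 i := by group
  · intro h
    apply Subtype.ext
    funext i
    rw [smul_val, ← h (s.1 i) ⟨i, rfl⟩]
    group

omit [Finite G] in
theorem setoid_iff (s t : CommTuple G r) :
    (CommTuple.setoid G r).r s t ↔ t ∈ MulAction.orbit G s := by
  constructor
  · rintro ⟨g, hg⟩
    exact ⟨g, Subtype.ext (funext fun i => hg i)⟩
  · rintro ⟨g, hg⟩
    exact ⟨g, fun i => congrFun (congrArg Subtype.val hg) i⟩

/-- the weighted class of a subgroup -/
noncomputable def wt (A : Subgroup G) : K :=
  ((Nat.card A : ℚ) / (Nat.card G : ℚ)) • cl A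

theorem wt_congr {A B : Subgroup G} (h : A = B) : wt A = wt B := by
  subst h
  rfl

/-- the summand of the averaged formula -/
noncomputable def term (s : CommTuple G r) : K := wt (Cz s)

theorem term_eq_of_equiv {G' : Type} [Group G'] [Finite G'] {r' : ℕ} (s : CommTuple G r)
    (t : CommTuple G' r') (e : Cz s ≃* Cz t) (h : Nat.card G = Nat.card G') : term s = term t := by
  have hcl : cl (Cz s) = cl (Cz t) := by
    unfold cl
    rw [of_congr e]
  unfold term wt
  rw [hcl, Nat.card_congr e.toEquiv, h]

/-- conjugate tuples have isomorphic centralizers -/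
noncomputable def czEquivOfMemOrbit (s t : CommTuple G r) (h : s ∈ MulAction.orbit G t) :
    Cz s ≃* Cz t :=
  (MulEquiv.subgroupCongr (stabilizer_eq s).symm).trans
    ((MulAction.stabilizerEquivStabilizerOfOrbitRel h).trans
      (MulEquiv.subgroupCongr (stabilizer_eq t)))

omit [Finite G] in
theorem card_orbit_mul (t : CommTuple G r) :
    Nat.card (MulAction.orbit G t) * Nat.card (Cz t) = Nat.card G := by
  rw [← Nat.card_congr (MulAction.orbitProdStabilizerEquivGroup G t), Nat.card_prod,
    Nat.card_congr (MulEquiv.subgroupCongr (stabilizer_eq t)).toEquiv]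

/-- the orbit of a tuple -/
def mkO (s : CommTuple G r) : CommTuple.Orbit G r := Quotient.mk (CommTuple.setoid G r) s

/-- **Averaged formula** for the `r`-th inertia operator. -/
theorem inertiaROf_eq_sum [Fintype (CommTuple G r)] :
    inertiaROf r G = ∑ s : CommTuple G r, term s := by
  classical
  haveI : Fintype (CommTuple.Orbit G r) := Fintype.ofFinite _
  have hdef : inertiaROf r G = ∑ O : CommTuple.Orbit G r, cl (Cz (outT G r O)) := by
    unfold inertiaROf
    rw [finsum_eq_sum_of_fintype]
    rfl
  rw [hdef, ← Finset.sum_fiberwise_of_maps_to (s := Finset.univ) (t := @Finset.univ _ this)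
      (g := mkO) (fun _ _ => Finset.mem_univ _) term]
  refine Finset.sum_congr rfl (fun O _ => ?_)
  set t := outT G r O with ht
  have hmem : ∀ s : CommTuple G r, mkO s = O ↔ s ∈ MulAction.orbit G t := by
    intro s
    rw [← setoid_iff]
    constructor
    · intro hs
      apply Quotient.exact
      show _ = mkO s
      rw [hs]
      exact Quotient.out_eq O
    · intro hs
      have := Quotient.sound (s := CommTuple.setoid G r) hs
      show Quotient.mk (CommTuple.setoid G r) s = O
      rw [← this]
      exact Quotient.out_eq O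
  have h1 : ∀ s : CommTuple G r, mkO s = O → term s = term t := by
    intro s hs
    exact term_eq_of_equiv s t (czEquivOfMemOrbit s t ((hmem s).mp hs)) rfl
  symm
  refine (Finset.sum_eq_card_nsmul (b := term t) ?_).trans ?_
  · intro s hs
    exact h1 s (Finset.mem_filter.mp hs).2
  have hcard : ∀ (inst : DecidablePred (fun s : CommTuple G r => mkO s = O)),
      (@Finset.filter _ (fun s : CommTuple G r => mkO s = O) inst Finset.univ).card =
        Nat.card (MulAction.orbit G t) := by
    intro inst
    rw [← Fintype.card_subtype, ← Nat.card_eq_fintype_card]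
    exact Nat.card_congr (Equiv.subtypeEquivRight hmem)
  have h2 := card_orbit_mul t
  have hG : (Nat.card G : ℚ) ≠ 0 := by exact_mod_cast (Nat.card_pos (α := G)).ne'
  unfold term wt
  rw [hcard, ← Nat.cast_smul_eq_nsmul ℚ, smul_smul, ← h2]
  have hC : (Nat.card (Cz t) : ℚ) ≠ 0 := by exact_mod_cast (Nat.card_pos (α := Cz t)).ne'
  have hO : (Nat.card (MulAction.orbit G t) : ℚ) ≠ 0 := by
    intro h0
    apply hG
    rw [← h2]
    push_cast
    rw [h0, zero_mul]
  rw [show ((Nat.card (MulAction.orbit G t) : ℚ) *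
      ((Nat.card (Cz t) : ℚ) / ((Nat.card (MulAction.orbit G t) * Nat.card (Cz t) : ℕ) : ℚ))) = 1 by
    push_cast
    field_simp, one_smul]

end Action

section Iso
variable {G H : Type} [Group G] [Finite G] [Group H] [Finite H] {r : ℕ}

/-- transport of commuting tuples along an isomorphism -/
def mapTuple (e : G ≃* H) : CommTuple G r ≃ CommTuple H r where
  toFun s := ⟨fun i => e (s.1 i), fun a b hab => s.2.1 (e.injective hab),
    fun i j => (s.2.2 i j).map e⟩
  invFun t := ⟨fun i => e.symm (t.1 i), fun a b hab => t.2.1 (e.symm.injective hab),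
    fun i j => (t.2.2 i j).map e.symm⟩
  left_inv s := Subtype.ext (funext fun i => e.symm_apply_apply _)
  right_inv t := Subtype.ext (funext fun i => e.apply_symm_apply _)

omit [Finite G] [Finite H] in
theorem mapTuple_val (e : G ≃* H) (s : CommTuple G r) (i : Fin r) :
    (mapTuple e s).1 i = e (s.1 i) := rfl

/-- centralizers correspond -/
def czMapEquiv (e : G ≃* H) (s : CommTuple G r) : Cz s ≃* Cz (mapTuple e s) where
  toFun x := ⟨e x.1, by
    have hx : x.1 ∈ Subgroup.centralizer (Set.range s.1) := x.2
    rw [Subgroup.mem_centralizer_iff] at hx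
    show e x.1 ∈ Subgroup.centralizer (Set.range (mapTuple e s).1)
    rw [Subgroup.mem_centralizer_iff]
    rintro _ ⟨i, rfl⟩
    rw [mapTuple_val, ← map_mul, ← map_mul, hx (s.1 i) ⟨i, rfl⟩]⟩
  invFun y := ⟨e.symm y.1, by
    have hy : y.1 ∈ Subgroup.centralizer (Set.range (mapTuple e s).1) := y.2
    rw [Subgroup.mem_centralizer_iff] at hy
    show e.symm y.1 ∈ Subgroup.centralizer (Set.range s.1)
    rw [Subgroup.mem_centralizer_iff]
    rintro _ ⟨i, rfl⟩
    apply e.injective
    rw [map_mul, map_mul, e.apply_symm_apply]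
    exact hy _ ⟨i, rfl⟩⟩
  left_inv x := Subtype.ext (e.symm_apply_apply _)
  right_inv y := Subtype.ext (e.apply_symm_apply _)
  map_mul' x y := Subtype.ext (map_mul e _ _)

/-- **Isomorphism invariance** of `inertiaROf`. -/
theorem inertiaROf_congr (e : G ≃* H) (r : ℕ) : inertiaROf r G = inertiaROf r H := by
  classical
  haveI : Fintype (CommTuple G r) := Fintype.ofFinite _
  haveI : Fintype (CommTuple H r) := Fintype.ofFinite _
  rw [inertiaROf_eq_sum, inertiaROf_eq_sum]
  exact Fintype.sum_equiv (mapTuple e) _ _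
    (fun s => term_eq_of_equiv s _ (czMapEquiv e s) (Nat.card_congr e.toEquiv))

theorem inertiaR_cl (r : ℕ) : inertiaR r (cl H) = inertiaROf r H := by
  obtain ⟨e⟩ := nonempty_rep_equiv H
  unfold cl inertiaR
  rw [Finsupp.linearCombination_single, one_smul]
  exact inertiaROf_congr e r

end Iso

section One
variable {H : Type} [Group H] [Finite H]

/-- 1-tuples are elements -/
def oneEquiv : CommTuple H 1 ≃ H where
  toFun s := s.1 0
  invFun x := ⟨fun _ => x, fun a b _ => Subsingleton.elim a b, fun _ _ => Commute.refl x⟩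
  left_inv s := Subtype.ext (funext fun i => by rw [Subsingleton.elim i 0])
  right_inv _ := rfl

omit [Finite H] in
theorem cz_oneEquiv_symm (x : H) : Cz (oneEquiv.symm x) = Subgroup.centralizer {x} := by
  unfold Cz
  congr 1
  exact Set.range_const

/-- the inertia operator on a basis vector, averaged over elements -/
theorem inertiaROf_one [Fintype H] :
    inertiaROf 1 H = ∑ x : H, wt (Subgroup.centralizer ({x} : Set H)) := by
  classical
  haveI : Fintype (CommTuple H 1) := Fintype.ofFinite _
  rw [inertiaROf_eq_sum]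
  refine Fintype.sum_equiv oneEquiv _ _ (fun s => ?_)
  have h := cz_oneEquiv_symm (oneEquiv s)
  rw [Equiv.symm_apply_apply] at h
  exact wt_congr h

end One

section Main
variable {G : Type} [Group G] [Finite G] {r : ℕ}

/-- centralizer of a tuple and one more element -/
def D (s : CommTuple G r) (x : G) : Subgroup G :=
  Subgroup.centralizer (insert x (Set.range s.1))

omit [Finite G] in
theorem D_le (s : CommTuple G r) (x : G) : D s x ≤ Cz s :=
  Subgroup.centralizer_le (Set.subset_insert _ _)

/-- the centralizer of `x` in `Cz s` is `D s x` -/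
def centEquiv (s : CommTuple G r) (x : Cz s) :
    Subgroup.centralizer ({x} : Set (Cz s)) ≃* D s x.1 where
  toFun y := ⟨y.1.1, by
    have hy : y.1 ∈ Subgroup.centralizer ({x} : Set (Cz s)) := y.2
    rw [Subgroup.mem_centralizer_iff] at hy
    have hy' : y.1.1 ∈ Subgroup.centralizer (Set.range s.1) := y.1.2
    rw [Subgroup.mem_centralizer_iff] at hy'
    show y.1.1 ∈ Subgroup.centralizer (insert x.1 (Set.range s.1))
    rw [Subgroup.mem_centralizer_iff]
    rintro h (rfl | hh)
    · exact congrArg Subtype.val (hy x rfl)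
    · exact hy' h hh⟩
  invFun z := ⟨⟨z.1, D_le s x.1 z.2⟩, by
    have hz : z.1 ∈ Subgroup.centralizer (insert x.1 (Set.range s.1)) := z.2
    rw [Subgroup.mem_centralizer_iff] at hz
    rw [Subgroup.mem_centralizer_iff]
    rintro h rfl
    exact Subtype.ext (hz h.1 (Set.mem_insert _ _))⟩
  left_inv _ := rfl
  right_inv _ := rfl
  map_mul' _ _ := rfl

theorem step2 [Fintype G] (s : CommTuple G r) [DecidablePred (· ∈ Cz s)] :
    ((Nat.card (Cz s) : ℚ) / (Nat.card G : ℚ)) • inertiaROf 1 (Cz s) =
      ∑ x ∈ Finset.univ.filter (· ∈ Cz s), wt (D s x) := by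
  classical
  haveI : Fintype (Cz s) := Fintype.ofFinite _
  rw [inertiaROf_one, Finset.smul_sum,
    Finset.sum_subtype (Finset.univ.filter (· ∈ Cz s)) (p := (· ∈ Cz s)) (by simp)]
  refine Finset.sum_congr rfl (fun x _ => ?_)
  have hcl : cl (Subgroup.centralizer ({x} : Set (Cz s))) = cl (D s x.1) := by
    unfold cl
    rw [of_congr (centEquiv s x)]
  have hC : (Nat.card (Cz s) : ℚ) ≠ 0 := by exact_mod_cast (Nat.card_pos (α := Cz s)).ne'
  unfold wt
  rw [smul_smul, hcl, Nat.card_congr (centEquiv s x).toEquiv]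
  congr 1
  field_simp

theorem step3 [Fintype G] [Fintype (CommTuple G r)]
    [∀ s : CommTuple G r, DecidablePred (· ∈ Cz s)] :
    inertia (inertiaROf r G) =
      ∑ s : CommTuple G r, ∑ x ∈ Finset.univ.filter (· ∈ Cz s), wt (D s x) := by
  rw [inertiaROf_eq_sum, map_sum]
  refine Finset.sum_congr rfl (fun s _ => ?_)
  rw [← step2 s]
  unfold term wt
  rw [map_smul, inertiaR_cl]

theorem step5 [Fintype G] [DecidableEq G] (s : CommTuple G r)
    [DecidablePred (· ∈ Set.range s.1)] :
    ∑ x ∈ Finset.univ.filter (· ∈ Set.range s.1), wt (D s x) = (r : ℚ) • term s := by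
  have himg : Finset.univ.filter (· ∈ Set.range s.1) = Finset.image s.1 Finset.univ := by
    ext x
    simp
  rw [himg, Finset.sum_image (fun a _ b _ h => s.2.1 h)]
  have : ∀ i : Fin r, wt (D s (s.1 i)) = term s := by
    intro i
    apply wt_congr
    unfold D Cz
    rw [Set.insert_eq_of_mem (Set.mem_range_self i)]
  rw [Finset.sum_congr rfl (fun i _ => this i), Finset.sum_const, Finset.card_univ,
    Fintype.card_fin, Nat.cast_smul_eq_nsmul]

/-- drop the first entry -/
def tailT (t : CommTuple G (r + 1)) : CommTuple G r :=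
  ⟨Fin.tail t.1, fun _ _ hab => Fin.succ_injective _ (t.2.1 hab), fun i j => t.2.2 i.succ j.succ⟩

omit [Finite G] in
theorem head_mem (t : CommTuple G (r + 1)) : t.1 0 ∈ Cz (tailT t) := by
  unfold Cz
  rw [Subgroup.mem_centralizer_iff]
  rintro _ ⟨i, rfl⟩
  exact (t.2.2 i.succ 0).eq

omit [Finite G] in
theorem head_not_mem (t : CommTuple G (r + 1)) : t.1 0 ∉ Set.range (tailT t).1 := by
  rintro ⟨i, hi⟩
  exact (Fin.succ_ne_zero i) (t.2.1 hi)

/-- add a first entry -/
def consT (s : CommTuple G r) (x : G) (hx : x ∈ Cz s) (hx' : x ∉ Set.range s.1) :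
    CommTuple G (r + 1) :=
  ⟨Fin.cons x s.1, Fin.cons_injective_iff.mpr ⟨hx', s.2.1⟩, by
    have hx2 := Subgroup.mem_centralizer_iff.mp hx
    intro i j
    refine Fin.cases ?_ (fun i => ?_) i <;> refine Fin.cases ?_ (fun j => ?_) j
    · exact Commute.refl _
    · simp only [Fin.cons_zero, Fin.cons_succ]
      exact (hx2 (s.1 j) ⟨j, rfl⟩).symm
    · simp only [Fin.cons_zero, Fin.cons_succ]
      exact hx2 (s.1 i) ⟨i, rfl⟩
    · simp only [Fin.cons_succ]
      exact s.2.2 i j⟩

omit [Finite G] in
theorem consT_tail_head (t : CommTuple G (r + 1)) :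
    consT (tailT t) (t.1 0) (head_mem t) (head_not_mem t) = t :=
  Subtype.ext (Fin.cons_self_tail t.1)

omit [Finite G] in
theorem tailT_consT (s : CommTuple G r) (x : G) (hx : x ∈ Cz s) (hx' : x ∉ Set.range s.1) :
    tailT (consT s x hx hx') = s := by
  apply Subtype.ext
  funext i
  show (Fin.cons x s.1 : Fin (r + 1) → G) i.succ = s.1 i
  simp

omit [Finite G] in
theorem consT_zero (s : CommTuple G r) (x : G) (hx : x ∈ Cz s) (hx' : x ∉ Set.range s.1) :
    (consT s x hx hx').1 0 = x := by
  show (Fin.cons x s.1 : Fin (r + 1) → G) 0 = x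
  simp

theorem term_eq_wt (t : CommTuple G (r + 1)) : term t = wt (D (tailT t) (t.1 0)) := by
  apply wt_congr
  unfold Cz D
  rw [Fin.range_fin_succ]
  rfl

theorem step6 [Fintype G] [Fintype (CommTuple G r)] [Fintype (CommTuple G (r + 1))]
    [∀ s : CommTuple G r, DecidablePred (fun x => x ∈ Cz s ∧ x ∉ Set.range s.1)] :
    ∑ s : CommTuple G r, ∑ x ∈ Finset.univ.filter (fun x => x ∈ Cz s ∧ x ∉ Set.range s.1),
      wt (D s x) = ∑ t : CommTuple G (r + 1), term t := by
  rw [Finset.sum_sigma']
  symm
  refine Finset.sum_bij' (fun t _ => (⟨tailT t, t.1 0⟩ : (_ : CommTuple G r) × G))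
    (fun p hp => consT p.1 p.2 (Finset.mem_filter.mp (Finset.mem_sigma.mp hp).2).2.1
      (Finset.mem_filter.mp (Finset.mem_sigma.mp hp).2).2.2) ?_ ?_ ?_ ?_ ?_
  · intro t _
    rw [Finset.mem_sigma]
    exact ⟨Finset.mem_univ _, Finset.mem_filter.mpr ⟨Finset.mem_univ _, head_mem t, head_not_mem t⟩⟩
  · intro p _
    exact Finset.mem_univ _
  · intro t _
    exact consT_tail_head t
  · rintro ⟨s, x⟩ hp
    simp only [tailT_consT, consT_zero]
  · intro t _
    exact term_eq_wt t

omit [Finite G] in
theorem range_subset_Cz (s : CommTuple G r) : Set.range s.1 ⊆ Cz s := by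
  rintro _ ⟨i, rfl⟩
  show s.1 i ∈ Subgroup.centralizer (Set.range s.1)
  rw [Subgroup.mem_centralizer_iff]
  rintro _ ⟨j, rfl⟩
  exact (s.2.2 j i).eq

variable (G r)

/-- **Key identity**: the inertia operator applied to `inertiaROf r G`. -/
theorem inertia_inertiaROf :
    inertia (inertiaROf r G) = inertiaROf (r + 1) G + (r : ℚ) • inertiaROf r G := by
  classical
  haveI : Fintype G := Fintype.ofFinite _
  haveI : Fintype (CommTuple G r) := Fintype.ofFinite _
  haveI : Fintype (CommTuple G (r + 1)) := Fintype.ofFinite _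
  rw [step3, inertiaROf_eq_sum (r := r + 1), ← step6]
  conv_rhs => rw [inertiaROf_eq_sum (r := r), Finset.smul_sum]
  rw [← Finset.sum_add_distrib]
  refine Finset.sum_congr rfl (fun s _ => ?_)
  rw [← step5 s,
    ← Finset.sum_filter_add_sum_filter_not (Finset.univ.filter (· ∈ Cz s)) (· ∉ Set.range s.1),
    Finset.filter_filter, Finset.filter_filter]
  congr 1
  refine Finset.sum_congr ?_ (fun _ _ => rfl)
  ext x
  simp only [Finset.mem_filter, Finset.mem_univ, true_and, not_not]
  exact ⟨fun h => h.2, fun h => ⟨range_subset_Cz s h, h⟩⟩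

end Main

section Operators
open Polynomial

/-- **Key identity** on `K`. -/
theorem inertia_inertiaR (r : ℕ) (v : K) :
    inertia (inertiaR r v) = inertiaR (r + 1) v + (r : ℚ) • inertiaR r v := by
  have h : inertia ∘ₗ inertiaR r = inertiaR (r + 1) + (r : ℚ) • inertiaR r := by
    apply Finsupp.lhom_ext
    intro i b
    simp only [LinearMap.comp_apply, LinearMap.add_apply, LinearMap.smul_apply]
    unfold inertiaR
    rw [Finsupp.linearCombination_single, Finsupp.linearCombination_single, map_smul]
    change b • inertia (inertiaROf r i.rep) = _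
    rw [inertia_inertiaROf, smul_add, smul_comm]
  exact LinearMap.congr_fun h v

theorem inertiaROf_zero (G : Type) [Group G] [Finite G] : inertiaROf 0 G = cl G := by
  classical
  haveI : Fintype (CommTuple G 0) := Fintype.ofFinite _
  haveI : Unique (CommTuple G 0) :=
    ⟨⟨⟨Fin.elim0, fun a => a.elim0, fun a => a.elim0⟩⟩, fun s => Subtype.ext (Subsingleton.elim _ _)⟩
  rw [inertiaROf_eq_sum, Fintype.sum_unique]
  have hC : Cz (default : CommTuple G 0) = ⊤ := by
    unfold Cz
    rw [Set.range_eq_empty, Subgroup.centralizer_eq_top_iff_subset]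
    exact Set.empty_subset _
  rw [term, wt_congr hC]
  unfold wt
  have hG : (Nat.card G : ℚ) ≠ 0 := by exact_mod_cast (Nat.card_pos (α := G)).ne'
  rw [Subgroup.card_top, div_self hG, one_smul, cl_top]

theorem inertiaR_zero (v : K) : inertiaR 0 v = v := by
  have h : inertiaR 0 = LinearMap.id := by
    apply Finsupp.lhom_ext
    intro i b
    unfold inertiaR
    rw [Finsupp.linearCombination_single, inertiaROf_zero, cl_rep, LinearMap.id_apply,
      Finsupp.smul_single, smul_eq_mul, mul_one]
  rw [h, LinearMap.id_apply]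

/-- `inertiaR r` is the falling factorial of the inertia operator. -/
theorem inertiaR_eq_aeval (r : ℕ) :
    inertiaR r = aeval inertia (∏ j ∈ Finset.range r, (X - C (j : ℚ))) := by
  induction r with
  | zero =>
    rw [Finset.range_zero, Finset.prod_empty, map_one]
    apply LinearMap.ext
    intro v
    rw [inertiaR_zero, Module.End.one_apply]
  | succ r ih =>
    apply LinearMap.ext
    intro v
    have h := inertia_inertiaR r v
    rw [Finset.prod_range_succ, mul_comm, map_mul, Module.End.mul_apply, ← ih]
    simp only [map_sub, aeval_X, aeval_C, LinearMap.sub_apply, Module.algebraMap_end_apply]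
    rw [h, add_sub_cancel_right]

end Operators

end Groth.Agent.Lib.Helper8.Inertia
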