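import Mathlib
import Groth.Agent.Lib.Helper13.K0Res2

/-!
# Dévissage for `K₀` (helper8)

`C` an abelian category, `P ≤ Q` object properties; `Q` is stable under kernels and cokernels, `P` is stable
(inside `Q`) under subobjects and quotients.

* `nine`: the nine lemma (three monomorphisms between short exact sequences), from the snake lemma.
* `Sig P Q M x`: `M` has a finite filtration by `Q`-objects with successive quotients in `P`, and `x ∈ K₀(P)`
  is the sum of the classes of the quotients.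
* `Sig.split`, `Sig.unique`, `Sig.additive`.
* `bijective_mapSub_of_filtration`: if every `Q`-object has such a filtration then `K₀(P) → K₀(Q)` is bijective.
* `bijective_mapSub_of_ff`: an exact faithful functor which is full on `P'`-objects and has essential image
  `P` on `P'` induces a bijection `K₀(P') → K₀(P)`.
-/

set_option autoImplicit false
universe v u v' u'
open CategoryTheory CategoryTheory.Limits

namespace Groth.Agent.Lib.helper8.K0Dev

open Groth.Agent.Lib.helper13.K0Res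

variable {C : Type u} [Category.{v} C] [Abelian C]

/-- the nine lemma: the cokernel of a termwise monomorphism of short exact sequences is short exact -/
theorem nine {R₁ R₂ : ShortComplex C} (h₁ : R₁.ShortExact) (h₂ : R₂.ShortExact) (φ : R₁ ⟶ R₂)
    [Mono φ.τ₁] [Mono φ.τ₂] [Mono φ.τ₃] :
    ∃ (R₃ : ShortComplex C) (χ : R₂ ⟶ R₃), R₃.ShortExact ∧
      (∃ w, (ShortComplex.mk φ.τ₁ χ.τ₁ w).ShortExact) ∧
      (∃ w, (ShortComplex.mk φ.τ₂ χ.τ₂ w).ShortExact) ∧
      (∃ w, (ShortComplex.mk φ.τ₃ χ.τ₃ w).ShortExact) := by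
  let S : ShortComplex.SnakeInput C :=
    { L₀ := kernel φ, L₁ := R₁, L₂ := R₂, L₃ := cokernel φ
      v₀₁ := kernel.ι φ, v₁₂ := φ, v₂₃ := cokernel.π φ
      w₀₂ := kernel.condition φ, w₁₃ := cokernel.condition φ
      h₀ := kernelIsKernel φ, h₃ := cokernelIsCokernel φ
      L₁_exact := h₁.exact, epi_L₁_g := h₁.epi_g, L₂_exact := h₂.exact, mono_L₂_f := h₂.mono_f }
  haveI : Mono S.v₁₂.τ₁ := inferInstanceAs (Mono φ.τ₁)
  haveI : Mono S.v₁₂.τ₂ := inferInstanceAs (Mono φ.τ₂)
  haveI : Mono S.v₁₂.τ₃ := inferInstanceAs (Mono φ.τ₃)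
  haveI : Epi S.L₂.g := h₂.epi_g
  refine ⟨S.L₃, S.v₂₃, ?_, ⟨S.w₁₃_τ₁, ?_⟩, ⟨S.w₁₃_τ₂, ?_⟩, ⟨S.w₁₃_τ₃, ?_⟩⟩
  · have hz₃ : IsZero S.L₀.X₃ := KernelFork.IsLimit.isZero_of_mono S.h₀τ₃
    haveI : Mono S.L₃.f := (S.L₂'_exact.mono_g_iff).2 (hz₃.eq_of_src _ _)
    haveI : Epi S.L₃.g := S.epi_L₃_g
    exact ShortComplex.ShortExact.mk S.L₃_exact
  · exact { exact := S.exact_C₁_down, mono_f := inferInstanceAs (Mono φ.τ₁), epi_g := S.epi_v₂₃_τ₁ }
  · exact { exact := S.exact_C₂_down, mono_f := inferInstanceAs (Mono φ.τ₂), epi_g := S.epi_v₂₃_τ₂ }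
  · exact { exact := S.exact_C₃_down, mono_f := inferInstanceAs (Mono φ.τ₃), epi_g := S.epi_v₂₃_τ₃ }


section Classes

variable (P : ObjectProperty C)

theorem cls_zero (N : C) (hN : IsZero N) (hP : P N) : cls P N hP = 0 := by
  let T : ShortComplex C := ShortComplex.mk (𝟙 N) (𝟙 N) (hN.eq_of_src _ _)
  have hsplit : T.Splitting :=
    { r := 𝟙 N
      s := 𝟙 N
      f_r := Category.comp_id _
      s_g := Category.comp_id _
      id := hN.eq_of_src _ _ }
  have h := cls_rel P T hsplit.shortExact hP hP hP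
  exact left_eq_add.mp h

theorem cls_iso (hP0 : ∀ N : C, IsZero N → P N) {M N : C} (e : M ≅ N) (hM : P M) (hN : P N) :
    cls P M hM = cls P N hN := by
  obtain ⟨Z0, hz⟩ := HasZeroObject.zero (C := C)
  let T : ShortComplex C := ShortComplex.mk (0 : Z0 ⟶ M) e.hom zero_comp
  have hsplit : T.Splitting :=
    { r := 0
      s := e.inv
      f_r := hz.eq_of_src _ _
      s_g := e.inv_hom_id
      id := by simp [T] }
  have h := cls_rel P T hsplit.shortExact (hP0 _ hz) hM hN
  rw [cls_zero P _ hz, zero_add] at h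
  exact h

theorem mapSub_cls' {B : Type u'} [Category.{v'} B] [Abelian B] (F : B ⥤ C) [F.Additive]
    [PreservesFiniteLimits F] [PreservesFiniteColimits F] (P' : ObjectProperty B)
    (hF : ∀ X, P' X → P (F.obj X)) (X : B) (hX : P' X) :
    SGA6.mapSub F P' P hF (cls P' X hX) = cls P (F.obj X) (hF X hX) := by
  unfold SGA6.mapSub cls
  rw [QuotientAddGroup.map_mk, FreeAbelianGroup.map_of_apply]
  rfl

end Classes

/-- the hypotheses of the dévissage theorem -/
structure Hyp (P Q : ObjectProperty C) : Prop where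
  le : ∀ X, P X → Q X
  P_zero : ∀ X : C, IsZero X → P X
  P_iso : ∀ {X Y : C}, (X ≅ Y) → P X → P Y
  Q_iso : ∀ {X Y : C}, (X ≅ Y) → Q X → Q Y
  Q_ker : ∀ {X Y : C} (f : X ⟶ Y), Q X → Q Y → Q (kernel f)
  Q_coker : ∀ {X Y : C} (f : X ⟶ Y), Q X → Q Y → Q (cokernel f)
  P_sub : ∀ S : ShortComplex C, S.ShortExact → P S.X₂ → Q S.X₁ → P S.X₁
  P_quot : ∀ S : ShortComplex C, S.ShortExact → P S.X₂ → Q S.X₃ → P S.X₃

variable (P Q : ObjectProperty C)

/-- `Sig P Q M x`: `M` has a finite filtration by `Q`-objects with successive quotients in `P`, and `x` is the sum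
of the classes of the quotients in `K₀(P)` -/
inductive Sig : C → KZero.K0sub P → Prop
  | zero (M : C) (h : IsZero M) : Sig M 0
  | step (T : ShortComplex C) (hT : T.ShortExact) (hQ1 : Q T.X₁) (hQ2 : Q T.X₂) (hP : P T.X₃)
      (x : KZero.K0sub P) (h : Sig T.X₁ x) : Sig T.X₂ (x + cls P T.X₃ hP)

variable {P Q}

theorem Sig.eq_zero_of_isZero (h : Hyp P Q) {M : C} {x : KZero.K0sub P} (hM : Sig P Q M x)
    (hz : IsZero M) : x = 0 := by
  induction hM with
  | zero M _ => rfl
  | step T hT hQ1 hQ2 hP x hx ih =>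
    haveI := hT.mono_f
    haveI := hT.epi_g
    have h1 : IsZero T.X₁ := IsZero.of_mono T.f hz
    have h3 : IsZero T.X₃ := IsZero.of_epi T.g hz
    rw [ih h1, cls_zero P _ h3, add_zero]

theorem Sig.eq_cls_of_P (h : Hyp P Q) {M : C} {x : KZero.K0sub P} (hM : Sig P Q M x)
    (hP : P M) : x = cls P M hP := by
  induction hM with
  | zero M hz => exact (cls_zero P _ hz hP).symm
  | step T hT hQ1 hQ2 hP3 x hx ih =>
    have hP1 : P T.X₁ := h.P_sub T hT hP hQ1
    rw [ih hP1]
    exact (cls_rel P T hT hP1 hP hP3).symm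

theorem Sig.isQ (h : Hyp P Q) {M : C} {x : KZero.K0sub P} (hM : Sig P Q M x) : Q M := by
  cases hM with
  | zero M hz => exact h.le _ (h.P_zero _ hz)
  | step T hT hQ1 hQ2 hP x hx => exact hQ2

/-- induced filtrations on a subobject and the quotient -/
theorem Sig.split (h : Hyp P Q) {M : C} {x : KZero.K0sub P} (hM : Sig P Q M x) :
    ∀ {N M'' : C} (f : N ⟶ M) (g : M ⟶ M'') (w : f ≫ g = 0),
      (ShortComplex.mk f g w).ShortExact → Q N → Q M'' →
      ∃ y z, Sig P Q N y ∧ Sig P Q M'' z ∧ x = y + z := by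
  induction hM with
  | zero M hz =>
    intro N M'' f g w hS hN hM''
    haveI : Mono f := hS.mono_f
    haveI : Epi g := hS.epi_g
    exact ⟨0, 0, Sig.zero _ (IsZero.of_mono f hz), Sig.zero _ (IsZero.of_epi g hz), (add_zero 0).symm⟩
  | step T hT hQ1 hQ2 hP x hx ih =>
    intro N M'' f g w hS hN hM''
    haveI : Mono f := hS.mono_f
    haveI : Epi g := hS.epi_g
    haveI : Mono T.f := hT.mono_f
    let g' : T.X₁ ⟶ M'' := T.f ≫ g
    let R₁ : ShortComplex C :=
      ShortComplex.mk (kernel.ι g') (Abelian.coimage.π g') (cokernel.condition _)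
    have hR₁ : R₁.ShortExact :=
      { exact := ShortComplex.exact_of_g_is_cokernel _ (cokernelIsCokernel (kernel.ι g'))
        mono_f := inferInstanceAs (Mono (kernel.ι g'))
        epi_g := inferInstanceAs (Epi (cokernel.π (kernel.ι g'))) }
    have hk : (kernel.ι g' ≫ T.f) ≫ g = 0 := by
      rw [Category.assoc]; exact kernel.condition g'
    let τ₁ : kernel g' ⟶ N := hS.exact.lift (kernel.ι g' ≫ T.f) hk
    have hτ₁ : τ₁ ≫ f = kernel.ι g' ≫ T.f := hS.exact.lift_f _ hk
    let φ : R₁ ⟶ ShortComplex.mk f g w :=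
      { τ₁ := τ₁
        τ₂ := T.f
        τ₃ := Abelian.factorThruCoimage g'
        comm₁₂ := hτ₁
        comm₂₃ := (Abelian.coimage.fac g').symm }
    haveI : Mono φ.τ₂ := inferInstanceAs (Mono T.f)
    haveI : Mono φ.τ₃ := inferInstanceAs (Mono (Abelian.factorThruCoimage g'))
    haveI : Mono φ.τ₁ := by
      haveI : Mono (τ₁ ≫ f) := by rw [hτ₁]; infer_instance
      exact mono_of_mono τ₁ f
    obtain ⟨R₃, χ, hR₃, ⟨w₁, hc₁⟩, ⟨w₂, hc₂⟩, ⟨w₃, hc₃⟩⟩ := nine hR₁ hS φ
    -- the middle cokernel is `T.X₃`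
    let e₂ : R₃.X₂ ≅ T.X₃ :=
      IsColimit.coconePointUniqueUpToIso hc₂.gIsCokernel hT.gIsCokernel
    have hQk : Q (kernel g') := h.Q_ker g' hQ1 hM''
    have hQc : Q (Abelian.coimage g') := h.Q_coker (kernel.ι g') hQk hQ1
    have hP2 : P R₃.X₂ := h.P_iso e₂.symm hP
    have hQ31 : Q R₃.X₁ :=
      h.Q_iso (IsColimit.coconePointUniqueUpToIso (cokernelIsCokernel φ.τ₁) hc₁.gIsCokernel)
        (h.Q_coker φ.τ₁ hQk hN)
    have hQ33 : Q R₃.X₃ :=
      h.Q_iso (IsColimit.coconePointUniqueUpToIso (cokernelIsCokernel φ.τ₃) hc₃.gIsCokernel)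
        (h.Q_coker φ.τ₃ hQc hM'')
    have hP1 : P R₃.X₁ := h.P_sub R₃ hR₃ hP2 hQ31
    have hP3 : P R₃.X₃ := h.P_quot R₃ hR₃ hP2 hQ33
    obtain ⟨y₁, z₁, hy₁, hz₁, hxyz⟩ := ih (kernel.ι g') (Abelian.coimage.π g') (cokernel.condition _)
      hR₁ hQk hQc
    refine ⟨y₁ + cls P R₃.X₁ hP1, z₁ + cls P R₃.X₃ hP3,
      Sig.step (ShortComplex.mk φ.τ₁ χ.τ₁ w₁) hc₁ hQk hN hP1 y₁ hy₁,
      Sig.step (ShortComplex.mk φ.τ₃ χ.τ₃ w₃) hc₃ hQc hM'' hP3 z₁ hz₁, ?_⟩
    rw [hxyz, ← cls_iso P h.P_zero e₂ hP2 hP, cls_rel P R₃ hR₃ hP1 hP2 hP3]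
    abel

theorem Sig.unique (h : Hyp P Q) {M : C} {x y : KZero.K0sub P} (hx : Sig P Q M x)
    (hy : Sig P Q M y) : x = y := by
  induction hy generalizing x with
  | zero M hz => exact hx.eq_zero_of_isZero h hz
  | step T hT hQ1 hQ2 hP y hy ih =>
    obtain ⟨a, b, ha, hb, hab⟩ := hx.split h T.f T.g T.zero hT hQ1 (h.le _ hP)
    rw [hab, ih ha, hb.eq_cls_of_P h hP]

theorem Sig.additive (h : Hyp P Q) (S : ShortComplex C) (hS : S.ShortExact)
    {a b c : KZero.K0sub P} (ha : Sig P Q S.X₁ a) (hb : Sig P Q S.X₂ b) (hc : Sig P Q S.X₃ c) :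
    b = a + c := by
  obtain ⟨y, z, hy, hz, hyz⟩ := hb.split h S.f S.g S.zero hS (ha.isQ h) (hc.isQ h)
  rw [hyz, hy.unique h ha, hz.unique h hc]

theorem Sig.map_eq (h : Hyp P Q) {M : C} {x : KZero.K0sub P} (hM : Sig P Q M x) (hQ : Q M) :
    SGA6.mapSub (𝟭 C) P Q h.le x = cls Q M hQ := by
  induction hM with
  | zero M hz => rw [map_zero, cls_zero Q _ hz]
  | step T hT hQ1 hQ2 hP x hx ih =>
    rw [map_add, ih hQ1, mapSub_cls]
    exact (cls_rel Q T hT hQ1 hQ (h.le _ hP)).symm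

/-- **dévissage**: if every `Q`-object has a finite filtration with quotients in `P`, then
`K₀(P) → K₀(Q)` is bijective -/
theorem bijective_mapSub_of_filtration (h : Hyp P Q)
    (hex : ∀ M : C, Q M → ∃ x : KZero.K0sub P, Sig P Q M x) :
    Function.Bijective (SGA6.mapSub (𝟭 C) P Q h.le) := by
  let ψ : KZero.K0sub Q →+ KZero.K0sub P :=
    K0lift Q (fun M hM => (hex M hM).choose) (fun S hS h1 h2 h3 =>
      Sig.additive h S hS (hex _ h1).choose_spec (hex _ h2).choose_spec (hex _ h3).choose_spec)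
  have hψ : ψ.comp (SGA6.mapSub (𝟭 C) P Q h.le) = AddMonoidHom.id _ := by
    apply K0sub_hom_ext
    intro X hX
    rw [AddMonoidHom.comp_apply, mapSub_cls, K0lift_cls, AddMonoidHom.id_apply]
    exact (hex X (h.le X hX)).choose_spec.eq_cls_of_P h hX
  refine ⟨fun a b hab => ?_, fun y => ?_⟩
  · have := congrArg ψ hab
    rwa [← AddMonoidHom.comp_apply, ← AddMonoidHom.comp_apply, hψ] at this
  · have hy : y ∈ (⊤ : AddSubgroup (KZero.K0sub Q)) := AddSubgroup.mem_top y
    rw [← closure_cls Q] at hy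
    induction hy using AddSubgroup.closure_induction with
    | mem y hy =>
      obtain ⟨X, hX, rfl⟩ := hy
      exact ⟨(hex X hX).choose, (hex X hX).choose_spec.map_eq h hX⟩
    | zero => exact ⟨0, map_zero _⟩
    | add a b _ _ ha hb =>
      obtain ⟨a', rfl⟩ := ha
      obtain ⟨b', rfl⟩ := hb
      exact ⟨a' + b', map_add _ _ _⟩
    | neg a _ ha =>
      obtain ⟨a', rfl⟩ := ha
      exact ⟨-a', map_neg _ _⟩


section Transport

variable {B : Type u'} [Category.{v'} B] [Abelian B] (F : B ⥤ C) [F.Additive]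
  [PreservesFiniteLimits F] [PreservesFiniteColimits F] [F.Faithful]
  (P' : ObjectProperty B) (P : ObjectProperty C)

/-- an exact faithful functor, full on `P'`-objects, with essential image `P` on `P'`, induces a bijection
`K₀(P') → K₀(P)` -/
theorem bijective_mapSub_of_ff (hF : ∀ X, P' X → P (F.obj X))
    (hP'0 : ∀ N : B, IsZero N → P' N) (hP0 : ∀ N : C, IsZero N → P N)
    (hfull : ∀ X Y : B, P' X → P' Y → Function.Surjective (F.map : (X ⟶ Y) → (F.obj X ⟶ F.obj Y)))
    (hess : ∀ M : C, P M → ∃ N : B, P' N ∧ Nonempty (F.obj N ≅ M)) :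
    Function.Bijective (SGA6.mapSub F P' P hF) := by
  -- lifting isomorphisms
  have hliftIso : ∀ X Y : B, P' X → P' Y → (F.obj X ≅ F.obj Y) → Nonempty (X ≅ Y) := by
    intro X Y hX hY e
    obtain ⟨a, ha⟩ := hfull X Y hX hY e.hom
    obtain ⟨b, hb⟩ := hfull Y X hY hX e.inv
    refine ⟨⟨a, b, F.map_injective ?_, F.map_injective ?_⟩⟩
    · rw [F.map_comp, ha, hb, e.hom_inv_id, F.map_id]
    · rw [F.map_comp, ha, hb, e.inv_hom_id, F.map_id]
  let N : ∀ M : C, P M → B := fun M hM => (hess M hM).choose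
  have hN : ∀ (M : C) (hM : P M), P' (N M hM) := fun M hM => (hess M hM).choose_spec.1
  let e : ∀ (M : C) (hM : P M), F.obj (N M hM) ≅ M := fun M hM => (hess M hM).choose_spec.2.some
  let ψ : KZero.K0sub P →+ KZero.K0sub P' :=
    K0lift P (fun M hM => cls P' (N M hM) (hN M hM)) (by
      intro S hS h1 h2 h3
      obtain ⟨a, ha⟩ := hfull _ _ (hN _ h1) (hN _ h2) ((e _ h1).hom ≫ S.f ≫ (e _ h2).inv)
      obtain ⟨b, hb⟩ := hfull _ _ (hN _ h2) (hN _ h3) ((e _ h2).hom ≫ S.g ≫ (e _ h3).inv)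
      have wab : a ≫ b = 0 := by
        apply F.map_injective
        rw [F.map_comp, ha, hb, F.map_zero]
        simp
      let S' : ShortComplex B := ShortComplex.mk a b wab
      have hiso : S'.map F ≅ S :=
        ShortComplex.isoMk (e _ h1) (e _ h2) (e _ h3)
          (by
            change (e _ h1).hom ≫ S.f = F.map a ≫ (e _ h2).hom
            rw [ha, Category.assoc, Category.assoc, Iso.inv_hom_id, Category.comp_id])
          (by
            change (e _ h2).hom ≫ S.g = F.map b ≫ (e _ h3).hom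
            rw [hb, Category.assoc, Category.assoc, Iso.inv_hom_id, Category.comp_id])
      have hS'F : (S'.map F).ShortExact := ShortComplex.shortExact_of_iso hiso.symm hS
      have hS' : S'.ShortExact :=
        { exact := (ShortComplex.exact_map_iff_of_faithful S' F).1 hS'F.exact
          mono_f := by
            haveI : Mono (F.map S'.f) := hS'F.mono_f
            exact F.mono_of_mono_map (inferInstanceAs (Mono (F.map S'.f)))
          epi_g := by
            haveI : Epi (F.map S'.g) := hS'F.epi_g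
            exact F.epi_of_epi_map (inferInstanceAs (Epi (F.map S'.g))) }
      exact cls_rel P' S' hS' (hN _ h1) (hN _ h2) (hN _ h3))
  have h1 : ψ.comp (SGA6.mapSub F P' P hF) = AddMonoidHom.id _ := by
    apply K0sub_hom_ext
    intro X hX
    rw [AddMonoidHom.comp_apply, mapSub_cls', K0lift_cls, AddMonoidHom.id_apply]
    obtain ⟨i⟩ := hliftIso _ _ (hN _ (hF X hX)) hX (e _ (hF X hX))
    exact cls_iso P' hP'0 i _ _
  have h2 : (SGA6.mapSub F P' P hF).comp ψ = AddMonoidHom.id _ := by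
    apply K0sub_hom_ext
    intro M hM
    rw [AddMonoidHom.comp_apply, K0lift_cls, mapSub_cls', AddMonoidHom.id_apply]
    exact cls_iso P hP0 (e M hM) _ _
  refine ⟨fun a b hab => ?_, fun y => ⟨ψ y, ?_⟩⟩
  · have := congrArg ψ hab
    rwa [← AddMonoidHom.comp_apply, ← AddMonoidHom.comp_apply, h1] at this
  · rw [← AddMonoidHom.comp_apply, h2, AddMonoidHom.id_apply]

end Transport

end Groth.Agent.Lib.helper8.K0Dev
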