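import Mathlib
import Groth.Agent.Lib.Helper8.K0Dev

/-!
# Infinite (locally finite) dévissage for `K₀`, part A (helper8)

`C` abelian with `ℕ`-indexed coproducts which are exact on monomorphisms (`AB4N`).

* `sigmaSC S`, `sigmaSC_shortExact`: the coproduct of a sequence of short exact sequences is short exact.
* `splitSC M`, `splitSC_shortExact`: the split sequence `0 → M 0 → ∐ M → ∐ M(·+1) → 0`.
* `isZero_sigma`: a coproduct of zero objects is zero.
* `swindle_sub`, `swindle_quot`: the Eilenberg swindle for a decreasing filtration (resp. a chain of quotients):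
  `[F 0] = [∐ gr]`.
* `LF Z M`: the sequence `M` is locally finite with respect to a family of "vanishing predicates" `Z i`.
-/

set_option autoImplicit false
universe v u w
open CategoryTheory CategoryTheory.Limits

namespace Groth.Agent.Lib.helper8.K0Inf

open Groth.Agent.Lib.helper13.K0Res Groth.Agent.Lib.helper8.K0Dev

variable {C : Type u} [Category.{v} C] [Abelian C] [HasCoproductsOfShape ℕ C]

variable (C) in
/-- `ℕ`-indexed coproducts preserve monomorphisms -/
def AB4N : Prop :=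
  ∀ {M N : ℕ → C} (f : ∀ n, M n ⟶ N n), (∀ n, Mono (f n)) → Mono (Limits.Sigma.map f)

theorem sigma_map_zero {M N : ℕ → C} : Limits.Sigma.map (fun n => (0 : M n ⟶ N n)) = 0 := by
  apply Limits.Sigma.hom_ext
  intro n
  rw [Limits.Sigma.ι_map, zero_comp, comp_zero]

/-- the coproduct of a sequence of short complexes -/
noncomputable def sigmaSC (S : ℕ → ShortComplex C) : ShortComplex C :=
  ShortComplex.mk (Limits.Sigma.map fun n => (S n).f) (Limits.Sigma.map fun n => (S n).g) (by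
    rw [Limits.Sigma.map_comp_map]
    have : (fun n => (S n).f ≫ (S n).g) = fun n => (0 : (S n).X₁ ⟶ (S n).X₃) :=
      funext fun n => (S n).zero
    rw [this]
    exact sigma_map_zero)

theorem sigmaSC_shortExact (hAB4 : AB4N C) (S : ℕ → ShortComplex C)
    (hS : ∀ n, (S n).ShortExact) : (sigmaSC S).ShortExact := by
  haveI : ∀ n, Epi (S n).g := fun n => (hS n).epi_g
  haveI : ∀ n, Mono (S n).f := fun n => (hS n).mono_f
  haveI : Epi (sigmaSC S).g := inferInstanceAs (Epi (Limits.Sigma.map fun n => (S n).g))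
  haveI : Mono (sigmaSC S).f := hAB4 _ (fun n => (hS n).mono_f)
  refine ShortComplex.ShortExact.mk (ShortComplex.exact_of_g_is_cokernel _ ?_)
  have key : ∀ {Z' : C} (g' : (sigmaSC S).X₂ ⟶ Z') (hg' : (sigmaSC S).f ≫ g' = 0) (n : ℕ),
      (S n).f ≫ Limits.Sigma.ι (fun n => (S n).X₂) n ≫ g' = 0 := by
    intro Z' g' hg' n
    have h0 : Limits.Sigma.map (fun n => (S n).f) ≫ g' = 0 := hg'
    have h1 : Limits.Sigma.ι (fun n => (S n).X₁) n ≫
        Limits.Sigma.map (fun n => (S n).f) ≫ g' = 0 := by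
      rw [h0, comp_zero]
    rwa [Limits.Sigma.ι_map_assoc] at h1
  refine CokernelCofork.IsColimit.ofπ _ _
    (fun {Z'} g' hg' => Limits.Sigma.desc fun n =>
      (hS n).exact.desc (Limits.Sigma.ι (fun n => (S n).X₂) n ≫ g') (key g' hg' n)) ?_ ?_
  · intro Z' g' hg'
    change Limits.Sigma.map (fun n => (S n).g) ≫ _ = g'
    apply Limits.Sigma.hom_ext
    intro n
    rw [Limits.Sigma.ι_map_assoc, Limits.Sigma.ι_desc, ShortComplex.Exact.g_desc]
  · intro Z' g' hg' m hm
    rw [← cancel_epi (sigmaSC S).g, hm]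
    change g' = Limits.Sigma.map (fun n => (S n).g) ≫ _
    apply Limits.Sigma.hom_ext
    intro n
    rw [Limits.Sigma.ι_map_assoc, Limits.Sigma.ι_desc, ShortComplex.Exact.g_desc]

/-- a coproduct of zero objects is zero -/
theorem isZero_sigma (M : ℕ → C) (h : ∀ n, IsZero (M n)) : IsZero (∐ M) := by
  rw [IsZero.iff_id_eq_zero]
  apply Limits.Sigma.hom_ext
  intro n
  exact (h n).eq_of_src _ _

section Split

variable (M : ℕ → C)

/-- projection to the head -/
noncomputable def headπ : ∐ M ⟶ M 0 :=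
  Limits.Sigma.desc fun n => match n with
    | 0 => 𝟙 (M 0)
    | _ + 1 => 0

/-- projection to the tail -/
noncomputable def tailπ : ∐ M ⟶ ∐ fun k => M (k + 1) :=
  Limits.Sigma.desc fun n => match n with
    | 0 => 0
    | k + 1 => Limits.Sigma.ι (fun k => M (k + 1)) k

/-- inclusion of the tail -/
noncomputable def tailι : (∐ fun k => M (k + 1)) ⟶ ∐ M :=
  Limits.Sigma.desc fun k => Limits.Sigma.ι M (k + 1)

@[reassoc (attr := simp)]
lemma ι_zero_headπ : Limits.Sigma.ι M 0 ≫ headπ M = 𝟙 _ := by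
  unfold headπ; rw [Limits.Sigma.ι_desc]

@[reassoc (attr := simp)]
lemma ι_succ_headπ (k : ℕ) : Limits.Sigma.ι M (k + 1) ≫ headπ M = 0 := by
  unfold headπ; rw [Limits.Sigma.ι_desc]

@[reassoc (attr := simp)]
lemma ι_zero_tailπ : Limits.Sigma.ι M 0 ≫ tailπ M = 0 := by
  unfold tailπ; rw [Limits.Sigma.ι_desc]

@[reassoc (attr := simp)]
lemma ι_succ_tailπ (k : ℕ) :
    Limits.Sigma.ι M (k + 1) ≫ tailπ M = Limits.Sigma.ι (fun k => M (k + 1)) k := by
  unfold tailπ; rw [Limits.Sigma.ι_desc]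

@[reassoc (attr := simp)]
lemma ι_tailι (k : ℕ) :
    Limits.Sigma.ι (fun k => M (k + 1)) k ≫ tailι M = Limits.Sigma.ι M (k + 1) := by
  unfold tailι; rw [Limits.Sigma.ι_desc]

/-- the split short exact sequence `0 → M 0 → ∐ M → ∐ M(·+1) → 0` -/
noncomputable def splitSC : ShortComplex C :=
  ShortComplex.mk (Limits.Sigma.ι M 0) (tailπ M) (ι_zero_tailπ M)

/-- the splitting -/
noncomputable def splitSC_splitting : (splitSC M).Splitting where
  r := headπ M
  s := tailι M
  f_r := ι_zero_headπ M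
  s_g := by
    change tailι M ≫ tailπ M = 𝟙 _
    apply Limits.Sigma.hom_ext
    intro k
    rw [ι_tailι_assoc, ι_succ_tailπ, Category.comp_id]
  id := by
    change headπ M ≫ Limits.Sigma.ι M 0 + tailπ M ≫ tailι M = 𝟙 _
    apply Limits.Sigma.hom_ext
    intro n
    rw [Preadditive.comp_add, Category.comp_id]
    cases n with
    | zero => rw [ι_zero_headπ_assoc, ι_zero_tailπ_assoc, zero_comp, add_zero]
    | succ k => rw [ι_succ_headπ_assoc, zero_comp, ι_succ_tailπ_assoc, ι_tailι, zero_add]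

theorem splitSC_shortExact : (splitSC M).ShortExact := (splitSC_splitting M).shortExact

/-- if the head is zero, the tail inclusion is an isomorphism -/
theorem isIso_tailπ (h0 : IsZero (M 0)) : IsIso (tailπ M) := by
  have hS := splitSC_shortExact M
  haveI : Epi (tailπ M) := hS.epi_g
  haveI : Mono (tailπ M) := (hS.exact.mono_g_iff).2 (h0.eq_of_src _ _)
  exact isIso_of_mono_of_epi _

end Split

section Classes

variable (P : ObjectProperty C)

theorem cls_split (M : ℕ → C) (h0 : P (M 0)) (hs : P (∐ M))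
    (ht : P (∐ fun k => M (k + 1))) :
    cls P (∐ M) hs = cls P (M 0) h0 + cls P (∐ fun k => M (k + 1)) ht :=
  cls_rel P (splitSC M) (splitSC_shortExact M) h0 hs ht

theorem cls_sigmaSC (hAB4 : AB4N C) (S : ℕ → ShortComplex C) (hS : ∀ n, (S n).ShortExact)
    (h1 : P (∐ fun n => (S n).X₁)) (h2 : P (∐ fun n => (S n).X₂))
    (h3 : P (∐ fun n => (S n).X₃)) :
    cls P (∐ fun n => (S n).X₂) h2 =
      cls P (∐ fun n => (S n).X₁) h1 + cls P (∐ fun n => (S n).X₃) h3 :=
  cls_rel P (sigmaSC S) (sigmaSC_shortExact hAB4 S hS) h1 h2 h3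

/-- the swindle for a decreasing filtration: `[F 0] = [∐ gr]` -/
theorem swindle_sub (hAB4 : AB4N C) (hP0 : ∀ N : C, IsZero N → P N)
    (T : ℕ → ShortComplex C) (hT : ∀ n, (T n).ShortExact)
    (e : ∀ n, (T (n + 1)).X₂ ≅ (T n).X₁)
    (h0 : P (T 0).X₂) (h1 : P (∐ fun n => (T n).X₁)) (h2 : P (∐ fun n => (T n).X₂))
    (h2' : P (∐ fun n => (T (n + 1)).X₂))
    (h3 : P (∐ fun n => (T n).X₃)) :
    cls P (T 0).X₂ h0 = cls P (∐ fun n => (T n).X₃) h3 := by
  have ha := cls_sigmaSC P hAB4 T hT h1 h2 h3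
  have hb := cls_split P (fun n => (T n).X₂) h0 h2 h2'
  have hc : cls P (∐ fun n => (T (n + 1)).X₂) h2' = cls P (∐ fun n => (T n).X₁) h1 :=
    cls_iso P hP0 (Limits.Sigma.mapIso e) _ _
  rw [hb, hc, add_comm] at ha
  exact add_left_cancel ha

/-- the swindle for a chain of quotients: `[F 0] = [∐ ker]` -/
theorem swindle_quot (hAB4 : AB4N C) (hP0 : ∀ N : C, IsZero N → P N)
    (T : ℕ → ShortComplex C) (hT : ∀ n, (T n).ShortExact)
    (e : ∀ n, (T (n + 1)).X₂ ≅ (T n).X₃)
    (h0 : P (T 0).X₂) (h1 : P (∐ fun n => (T n).X₁)) (h2 : P (∐ fun n => (T n).X₂))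
    (h2' : P (∐ fun n => (T (n + 1)).X₂))
    (h3 : P (∐ fun n => (T n).X₃)) :
    cls P (T 0).X₂ h0 = cls P (∐ fun n => (T n).X₁) h1 := by
  have ha := cls_sigmaSC P hAB4 T hT h1 h2 h3
  have hb := cls_split P (fun n => (T n).X₂) h0 h2 h2'
  have hc : cls P (∐ fun n => (T (n + 1)).X₂) h2' = cls P (∐ fun n => (T n).X₃) h3 :=
    cls_iso P hP0 (Limits.Sigma.mapIso e) _ _
  rw [hb, hc] at ha
  exact add_right_cancel ha

end Classes

section LocFin

variable {ι : Type w} (Z : ι → C → Prop)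

/-- axioms for a family of "vanishing predicates" -/
structure ZAx : Prop where
  of_mono : ∀ {M N : C} (f : M ⟶ N) [Mono f] (i : ι), Z i N → Z i M
  of_epi : ∀ {M N : C} (f : M ⟶ N) [Epi f] (i : ι), Z i M → Z i N
  sigma : ∀ (M : ℕ → C) (i : ι), (∀ n, Z i (M n)) → Z i (∐ M)

/-- a sequence is locally finite: for each index `i`, almost all terms vanish at `i` -/
def LF (M : ℕ → C) : Prop := ∀ i, ∃ n₀ : ℕ, ∀ n, n₀ ≤ n → Z i (M n)

variable {Z}

theorem LF.of_mono (hZ : ZAx Z) {M N : ℕ → C} (hN : LF Z N) (f : ∀ n, M n ⟶ N n)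
    (hf : ∀ n, Mono (f n)) : LF Z M := by
  intro i
  obtain ⟨n₀, h⟩ := hN i
  exact ⟨n₀, fun n hn => by haveI := hf n; exact hZ.of_mono (f n) i (h n hn)⟩

theorem LF.of_epi (hZ : ZAx Z) {M N : ℕ → C} (hM : LF Z M) (f : ∀ n, M n ⟶ N n)
    (hf : ∀ n, Epi (f n)) : LF Z N := by
  intro i
  obtain ⟨n₀, h⟩ := hM i
  exact ⟨n₀, fun n hn => by haveI := hf n; exact hZ.of_epi (f n) i (h n hn)⟩

theorem LF.of_iso (hZ : ZAx Z) {M N : ℕ → C} (hM : LF Z M) (e : ∀ n, M n ≅ N n) : LF Z N :=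
  hM.of_epi hZ (fun n => (e n).hom) (fun _ => inferInstance)

theorem LF.shift {M : ℕ → C} (hM : LF Z M) (k : ℕ) : LF Z (fun n => M (n + k)) := by
  intro i
  obtain ⟨n₀, h⟩ := hM i
  exact ⟨n₀, fun n hn => h (n + k) (le_trans hn (Nat.le_add_right n k))⟩

/-- the tails `∐_p M (j + p)` of a locally finite sequence form a locally finite sequence -/
theorem LF.tails (hZ : ZAx Z) {M : ℕ → C} (hM : LF Z M) :
    LF Z (fun j => ∐ fun p => M (j + p)) := by
  intro i
  obtain ⟨n₀, h⟩ := hM i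
  exact ⟨n₀, fun j hj => hZ.sigma _ i (fun p => h (j + p) (le_trans hj (Nat.le_add_right j p)))⟩

end LocFin

end Groth.Agent.Lib.helper8.K0Inf
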