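import Mathlib
import Groth.Agent.Lib.Helper8.K0InfA

/-!
# Infinite (locally finite) dévissage for `K₀`, part B (helper8)

* `cokerSC φ`, `cokerSC_shortExact`: the nine lemma with explicit cokernels.
* `kerSC φ`, `kerSC_shortExact`: the dual nine lemma with explicit kernels.
* `fourTerm`: the Euler characteristic of a four term exact sequence in `K₀(P)`.
* `snakeK0`: the class identity coming from the snake lemma.
* `chain_lemma`, `endo_lemma`: a locally nilpotent endomorphism has `[ker] = [coker]` in `K₀(P)`.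
-/

set_option autoImplicit false
universe v u w
open CategoryTheory CategoryTheory.Limits

namespace Groth.Agent.Lib.helper8.K0Inf

open Groth.Agent.Lib.helper13.K0Res Groth.Agent.Lib.helper8.K0Dev

variable {C : Type u} [Category.{v} C] [Abelian C]

section Nine

variable {R₁ R₂ : ShortComplex C} (φ : R₁ ⟶ R₂)

/-- the row of cokernels of a morphism of short complexes -/
noncomputable def cokerSC : ShortComplex C :=
  ShortComplex.mk (cokernel.map φ.τ₁ φ.τ₂ R₁.f R₂.f φ.comm₁₂)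
    (cokernel.map φ.τ₂ φ.τ₃ R₁.g R₂.g φ.comm₂₃) (by
    rw [← cancel_epi (cokernel.π φ.τ₁)]
    simp)

/-- the row of kernels of a morphism of short complexes -/
noncomputable def kerSC : ShortComplex C :=
  ShortComplex.mk (kernel.map φ.τ₁ φ.τ₂ R₁.f R₂.f φ.comm₁₂)
    (kernel.map φ.τ₂ φ.τ₃ R₁.g R₂.g φ.comm₂₃) (by
    rw [← cancel_mono (kernel.ι φ.τ₃)]
    simp)

theorem cokerSC_shortExact (h₁ : R₁.ShortExact) (h₂ : R₂.ShortExact)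
    [Mono φ.τ₁] [Mono φ.τ₂] [Mono φ.τ₃] : (cokerSC φ).ShortExact := by
  obtain ⟨R₃, χ, hR₃, ⟨w₁, hc₁⟩, ⟨w₂, hc₂⟩, ⟨w₃, hc₃⟩⟩ := nine h₁ h₂ φ
  let e₁ : cokernel φ.τ₁ ≅ R₃.X₁ :=
    IsColimit.coconePointUniqueUpToIso (cokernelIsCokernel φ.τ₁) hc₁.gIsCokernel
  let e₂ : cokernel φ.τ₂ ≅ R₃.X₂ :=
    IsColimit.coconePointUniqueUpToIso (cokernelIsCokernel φ.τ₂) hc₂.gIsCokernel
  let e₃ : cokernel φ.τ₃ ≅ R₃.X₃ :=
    IsColimit.coconePointUniqueUpToIso (cokernelIsCokernel φ.τ₃) hc₃.gIsCokernel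
  have he₁ : cokernel.π φ.τ₁ ≫ e₁.hom = χ.τ₁ :=
    IsColimit.comp_coconePointUniqueUpToIso_hom (cokernelIsCokernel φ.τ₁) hc₁.gIsCokernel
      WalkingParallelPair.one
  have he₂ : cokernel.π φ.τ₂ ≫ e₂.hom = χ.τ₂ :=
    IsColimit.comp_coconePointUniqueUpToIso_hom (cokernelIsCokernel φ.τ₂) hc₂.gIsCokernel
      WalkingParallelPair.one
  have he₃ : cokernel.π φ.τ₃ ≫ e₃.hom = χ.τ₃ :=
    IsColimit.comp_coconePointUniqueUpToIso_hom (cokernelIsCokernel φ.τ₃) hc₃.gIsCokernel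
      WalkingParallelPair.one
  refine ShortComplex.shortExact_of_iso (ShortComplex.isoMk e₁ e₂ e₃ ?_ ?_).symm hR₃
  · change e₁.hom ≫ R₃.f = cokernel.map φ.τ₁ φ.τ₂ R₁.f R₂.f φ.comm₁₂ ≫ e₂.hom
    rw [← cancel_epi (cokernel.π φ.τ₁), ← Category.assoc, he₁, cokernel.π_desc_assoc,
      Category.assoc, he₂]
    exact χ.comm₁₂
  · change e₂.hom ≫ R₃.g = cokernel.map φ.τ₂ φ.τ₃ R₁.g R₂.g φ.comm₂₃ ≫ e₃.hom
    rw [← cancel_epi (cokernel.π φ.τ₂), ← Category.assoc, he₂, cokernel.π_desc_assoc,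
      Category.assoc, he₃]
    exact χ.comm₂₃

/-- the snake input attached to a morphism of short exact sequences -/
noncomputable def snakeInput (h₁ : R₁.ShortExact) (h₂ : R₂.ShortExact) :
    ShortComplex.SnakeInput C :=
  { L₀ := kernel φ, L₁ := R₁, L₂ := R₂, L₃ := cokernel φ
    v₀₁ := kernel.ι φ, v₁₂ := φ, v₂₃ := cokernel.π φ
    w₀₂ := kernel.condition φ, w₁₃ := cokernel.condition φ
    h₀ := kernelIsKernel φ, h₃ := cokernelIsCokernel φ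
    L₁_exact := h₁.exact, epi_L₁_g := h₁.epi_g, L₂_exact := h₂.exact, mono_L₂_f := h₂.mono_f }

theorem kerSC_shortExact (h₁ : R₁.ShortExact) (h₂ : R₂.ShortExact)
    [Epi φ.τ₁] [Epi φ.τ₂] [Epi φ.τ₃] : (kerSC φ).ShortExact := by
  let S := snakeInput φ h₁ h₂
  haveI : Mono S.L₁.f := h₁.mono_f
  haveI : Mono S.L₀.f := S.mono_L₀_f
  haveI : Epi S.v₁₂.τ₁ := inferInstanceAs (Epi φ.τ₁)
  have hz : IsZero S.L₃.X₁ := CokernelCofork.IsColimit.isZero_of_epi S.h₃τ₁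
  haveI : Epi S.L₀.g := (S.L₁'_exact.epi_f_iff).2 (hz.eq_of_tgt _ _)
  have hL₀ : S.L₀.ShortExact := ShortComplex.ShortExact.mk S.L₀_exact
  let e₁ : kernel φ.τ₁ ≅ S.L₀.X₁ :=
    IsLimit.conePointUniqueUpToIso (kernelIsKernel φ.τ₁) S.h₀τ₁
  let e₂ : kernel φ.τ₂ ≅ S.L₀.X₂ :=
    IsLimit.conePointUniqueUpToIso (kernelIsKernel φ.τ₂) S.h₀τ₂
  let e₃ : kernel φ.τ₃ ≅ S.L₀.X₃ :=
    IsLimit.conePointUniqueUpToIso (kernelIsKernel φ.τ₃) S.h₀τ₃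
  have he₁ : e₁.hom ≫ S.v₀₁.τ₁ = kernel.ι φ.τ₁ :=
    IsLimit.conePointUniqueUpToIso_hom_comp (kernelIsKernel φ.τ₁) S.h₀τ₁ WalkingParallelPair.zero
  have he₂ : e₂.hom ≫ S.v₀₁.τ₂ = kernel.ι φ.τ₂ :=
    IsLimit.conePointUniqueUpToIso_hom_comp (kernelIsKernel φ.τ₂) S.h₀τ₂ WalkingParallelPair.zero
  have he₃ : e₃.hom ≫ S.v₀₁.τ₃ = kernel.ι φ.τ₃ :=
    IsLimit.conePointUniqueUpToIso_hom_comp (kernelIsKernel φ.τ₃) S.h₀τ₃ WalkingParallelPair.zero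
  refine ShortComplex.shortExact_of_iso (ShortComplex.isoMk e₁ e₂ e₃ ?_ ?_).symm hL₀
  · change e₁.hom ≫ S.L₀.f = kernel.map φ.τ₁ φ.τ₂ R₁.f R₂.f φ.comm₁₂ ≫ e₂.hom
    have hm : kernel.map φ.τ₁ φ.τ₂ R₁.f R₂.f φ.comm₁₂ ≫ kernel.ι φ.τ₂ = kernel.ι φ.τ₁ ≫ R₁.f :=
      kernel.lift_ι _ _ _
    have hc : S.L₀.f ≫ S.v₀₁.τ₂ = S.v₀₁.τ₁ ≫ R₁.f := S.v₀₁.comm₁₂.symm
    apply (cancel_mono S.v₀₁.τ₂).1
    have s1 : (e₁.hom ≫ S.L₀.f) ≫ S.v₀₁.τ₂ = kernel.ι φ.τ₁ ≫ R₁.f :=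
      (Category.assoc _ _ _).trans ((congrArg (fun t => e₁.hom ≫ t) hc).trans
        ((Category.assoc _ _ _).symm.trans (congrArg (fun t => t ≫ R₁.f) he₁)))
    have s2 : (kernel.map φ.τ₁ φ.τ₂ R₁.f R₂.f φ.comm₁₂ ≫ e₂.hom) ≫ S.v₀₁.τ₂ =
        kernel.ι φ.τ₁ ≫ R₁.f :=
      (Category.assoc _ _ _).trans
        ((congrArg (fun t => kernel.map φ.τ₁ φ.τ₂ R₁.f R₂.f φ.comm₁₂ ≫ t) he₂).trans hm)
    exact s1.trans s2.symm
  · change e₂.hom ≫ S.L₀.g = kernel.map φ.τ₂ φ.τ₃ R₁.g R₂.g φ.comm₂₃ ≫ e₃.hom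
    have hm : kernel.map φ.τ₂ φ.τ₃ R₁.g R₂.g φ.comm₂₃ ≫ kernel.ι φ.τ₃ = kernel.ι φ.τ₂ ≫ R₁.g :=
      kernel.lift_ι _ _ _
    have hc : S.L₀.g ≫ S.v₀₁.τ₃ = S.v₀₁.τ₂ ≫ R₁.g := S.v₀₁.comm₂₃.symm
    apply (cancel_mono S.v₀₁.τ₃).1
    have s1 : (e₂.hom ≫ S.L₀.g) ≫ S.v₀₁.τ₃ = kernel.ι φ.τ₂ ≫ R₁.g :=
      (Category.assoc _ _ _).trans ((congrArg (fun t => e₂.hom ≫ t) hc).trans
        ((Category.assoc _ _ _).symm.trans (congrArg (fun t => t ≫ R₁.g) he₂)))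
    have s2 : (kernel.map φ.τ₂ φ.τ₃ R₁.g R₂.g φ.comm₂₃ ≫ e₃.hom) ≫ S.v₀₁.τ₃ =
        kernel.ι φ.τ₂ ≫ R₁.g :=
      (Category.assoc _ _ _).trans
        ((congrArg (fun t => kernel.map φ.τ₂ φ.τ₃ R₁.g R₂.g φ.comm₂₃ ≫ t) he₃).trans hm)
    exact s1.trans s2.symm

end Nine

section Euler

variable {P Q : ObjectProperty C}

/-- the Euler characteristic of a four term exact sequence `0 → A → B → C' → D → 0` -/
theorem fourTerm (h : K0Dev.Hyp P Q) {A B C' D : C} (f : A ⟶ B) (g : B ⟶ C') (k : C' ⟶ D)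
    [Mono f] [Epi k] (w₁ : f ≫ g = 0) (w₂ : g ≫ k = 0)
    (e₁ : (ShortComplex.mk f g w₁).Exact) (e₂ : (ShortComplex.mk g k w₂).Exact)
    (hA : P A) (hB : P B) (hC : P C') (hD : P D) :
    cls P B hB + cls P D hD = cls P A hA + cls P C' hC := by
  let I := Abelian.image g
  let e := Abelian.factorThruImage g
  let m := Abelian.image.ι g
  have fac : e ≫ m = g := Abelian.image.fac g
  have w₁' : f ≫ e = 0 := by
    rw [← cancel_mono m, Category.assoc, fac, w₁, zero_comp]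
  have w₂' : m ≫ k = 0 := by
    rw [← cancel_epi e, ← Category.assoc, fac, w₂, comp_zero]
  have hS₁ : (ShortComplex.mk f e w₁').ShortExact := by
    let ψ : ShortComplex.mk f e w₁' ⟶ ShortComplex.mk f g w₁ :=
      { τ₁ := 𝟙 _, τ₂ := 𝟙 _, τ₃ := m
        comm₁₂ := by simp
        comm₂₃ := by simp [fac] }
    haveI : Epi ψ.τ₁ := inferInstanceAs (Epi (𝟙 A))
    haveI : IsIso ψ.τ₂ := inferInstanceAs (IsIso (𝟙 B))
    haveI : Mono ψ.τ₃ := inferInstanceAs (Mono m)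
    exact
      { exact := (ShortComplex.exact_iff_of_epi_of_isIso_of_mono ψ).2 e₁
        mono_f := inferInstanceAs (Mono f)
        epi_g := inferInstanceAs (Epi e) }
  have hS₂ : (ShortComplex.mk m k w₂').ShortExact := by
    let ψ : ShortComplex.mk g k w₂ ⟶ ShortComplex.mk m k w₂' :=
      { τ₁ := e, τ₂ := 𝟙 _, τ₃ := 𝟙 _
        comm₁₂ := by simp [fac]
        comm₂₃ := by simp }
    haveI : Epi ψ.τ₁ := inferInstanceAs (Epi e)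
    haveI : IsIso ψ.τ₂ := inferInstanceAs (IsIso (𝟙 C'))
    haveI : Mono ψ.τ₃ := inferInstanceAs (Mono (𝟙 D))
    exact
      { exact := (ShortComplex.exact_iff_of_epi_of_isIso_of_mono ψ).1 e₂
        mono_f := inferInstanceAs (Mono m)
        epi_g := inferInstanceAs (Epi k) }
  have hQI : Q I := h.Q_ker _ (h.le _ hC) (h.Q_coker g (h.le _ hB) (h.le _ hC))
  have hPI : P I := h.P_sub _ hS₂ hC hQI
  have r₁ := cls_rel P _ hS₁ hA hB hPI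
  have r₂ := cls_rel P _ hS₂ hPI hC hD
  change cls P B hB = cls P A hA + cls P I hPI at r₁
  change cls P C' hC = cls P I hPI + cls P D hD at r₂
  rw [r₁, r₂]
  abel

/-- the class identity of the snake lemma for a morphism of short exact sequences with `τ₁`, `τ₂` mono -/
theorem snakeK0 (h : K0Dev.Hyp P Q) {R₁ R₂ : ShortComplex C} (φ : R₁ ⟶ R₂) (h₁ : R₁.ShortExact)
    (h₂ : R₂.ShortExact) [Mono φ.τ₁] [Mono φ.τ₂]
    (hK : P (kernel φ.τ₃)) (hC₁ : P (cokernel φ.τ₁)) (hC₂ : P (cokernel φ.τ₂))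
    (hC₃ : P (cokernel φ.τ₃)) :
    cls P _ hC₁ + cls P _ hC₃ = cls P _ hK + cls P _ hC₂ := by
  let S := snakeInput φ h₁ h₂
  haveI : Epi S.L₂.g := h₂.epi_g
  haveI : Epi S.L₃.g := S.epi_L₃_g
  haveI : Mono S.v₁₂.τ₂ := inferInstanceAs (Mono φ.τ₂)
  have hz : IsZero S.L₀.X₂ := KernelFork.IsLimit.isZero_of_mono S.h₀τ₂
  haveI : Mono S.δ := (S.L₁'_exact.mono_g_iff).2 (hz.eq_of_src _ _)
  let a : S.L₀.X₃ ≅ kernel φ.τ₃ :=
    (IsLimit.conePointUniqueUpToIso (kernelIsKernel φ.τ₃) S.h₀τ₃).symm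
  let c₁ : S.L₃.X₁ ≅ cokernel φ.τ₁ :=
    (IsColimit.coconePointUniqueUpToIso (cokernelIsCokernel φ.τ₁) S.h₃τ₁).symm
  let c₂ : S.L₃.X₂ ≅ cokernel φ.τ₂ :=
    (IsColimit.coconePointUniqueUpToIso (cokernelIsCokernel φ.τ₂) S.h₃τ₂).symm
  let c₃ : S.L₃.X₃ ≅ cokernel φ.τ₃ :=
    (IsColimit.coconePointUniqueUpToIso (cokernelIsCokernel φ.τ₃) S.h₃τ₃).symm
  have hA : P S.L₀.X₃ := h.P_iso a.symm hK
  have hB : P S.L₃.X₁ := h.P_iso c₁.symm hC₁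
  have hC : P S.L₃.X₂ := h.P_iso c₂.symm hC₂
  have hD : P S.L₃.X₃ := h.P_iso c₃.symm hC₃
  have key := fourTerm h S.δ S.L₃.f S.L₃.g S.δ_L₃_f S.L₃.zero S.L₂'_exact S.L₃_exact hA hB hC hD
  rw [cls_iso P h.P_zero a hA hK, cls_iso P h.P_zero c₁ hB hC₁, cls_iso P h.P_zero c₂ hC hC₂,
    cls_iso P h.P_zero c₃ hD hC₃] at key
  exact key

end Euler

end Groth.Agent.Lib.helper8.K0Inf
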