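import Groth.Agent.Lib.Helper16.Satur9
import Groth.Agent.Lib.Helper16.QCohFibre
import Groth.Agent.Lib.Helper8.StalkExact
import Groth.Agent.Lib.Helper8.K0InfB
import Groth.Agent.Lib.Helper7.CohKer
import Groth.Agent.Lib.Helper7.IdealMod
import Groth.Agent.Lib.Helper11.IsoLocus
import Groth.Prelude.Def_ChowK

/-!
# Classes in `K₀(Coh_{≤ n}) / K₀(Coh_{≤ m})` of generically isomorphic modules (helper8)

* `locNoeth`: a locally Noetherian scheme has locally Noetherian underlying space (helper16's `LocNoeth`).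
* `stalkAdd_bijective_of_isIso_restrict`, `subsingleton_stalk_kernel`, `subsingleton_stalk_cokernel`.
* `hypCohLe`: `K0Dev.Hyp (Cyc.CohLe δ n) Coh.IsCoh` on a locally Noetherian scheme.
* `toK0CohQuot_eq`: if the kernel and cokernel of `φ : A ⟶ B` have stalks supported in `δ ≤ m`, then
  `[A] = [B]` in `Cyc.K0CohQuot δ n m`.
* `exists_opens_triv`: trivializations along open immersions give trivializations on the open range.
* `exists_common`: a coherent module trivial on an open `W` and `O_X` receive maps from a common coherent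
  module which are isomorphisms over `W` (closure of the graph; EGA I 9.4.7 via helper16's `Satur`).
* `toK0CohQuot_unit_eq`: on an integral locally Noetherian scheme with dimension function `δ`, a coherent
  module which is trivial on a nonempty open has the class of `O_X` modulo `Coh_{< δ(η)}`.
-/

set_option autoImplicit false
set_option linter.style.haveILetI false
universe u
open CategoryTheory CategoryTheory.Limits AlgebraicGeometry TopologicalSpace Opposite

namespace Groth.Agent.Lib.helper8.K0Gen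

open Scheme.Modules Groth.Agent.Lib.helper17.FlatOver7 Groth.Agent.Lib.helper8.StalkLen
open Groth.Agent.Lib.helper11.IsoLocus Groth.Agent.Lib.helper13.K0Res Groth.Agent.Lib.helper8.K0Dev
open Groth.Agent.Lib.helper7 Groth.Agent.Lib.helper7.CohKer Groth.Agent.Lib.helper7.IdealMod

variable {X : Scheme.{u}}

theorem locNoeth [IsLocallyNoetherian X] : Groth.Agent.Lib.helper16.Satur.LocNoeth X := by
  intro x
  obtain ⟨_, ⟨U, hU : IsAffineOpen U, rfl⟩, hxU, -⟩ :=
    X.isBasis_affineOpens.exists_subset_of_mem_open (Set.mem_univ x) isOpen_univ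
  haveI : IsNoetherianRing Γ(X, U) := IsLocallyNoetherian.component_noetherian ⟨U, hU⟩
  exact ⟨U, hxU, noetherianSpace_of_isAffineOpen U hU⟩

theorem isCoh_unit (X : Scheme.{u}) : Coh.IsCoh (Coh.structureModule X) :=
  Groth.Agent.Lib.helper16.CohFinite.isCoh_of_finite_sections (Coh.structureModule X)
    (fun U : X.affineOpens => U.1) (fun U => U.2) (iSup_affineOpens_eq_top X)
    (fun U => inferInstanceAs (Module.Finite Γ(X, U.1) Γ(X, U.1)))

theorem stalkAdd_zero {F G : X.Modules} (x : X) (m : F.presheaf.stalk x) :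
    stalkAdd (0 : F ⟶ G) x m = 0 := by
  obtain ⟨U, hxU, s, rfl⟩ := F.presheaf.exists_germ_eq m
  rw [stalkAdd_germ]
  exact (congrArg _ (rfl : ((0 : F ⟶ G).app U).hom s = 0)).trans (map_zero _)

theorem stalkAdd_bijective_of_isIso_restrict {A B : X.Modules} (φ : A ⟶ B) (W : X.Opens)
    (h : IsIso ((restrictFunctor W.ι).map φ)) (x : X) (hx : x ∈ W) :
    Function.Bijective (stalkAdd φ x) := by
  have h1 : IsIso (stalkMap φ x) := (isIso_restrict_iff_stalk φ W).mp h x hx
  exact (ConcreteCategory.isIso_iff_bijective (stalkMap φ x)).mp h1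

theorem subsingleton_stalk_kernel {A B : X.Modules} (φ : A ⟶ B) (x : X)
    (h : Function.Injective (stalkAdd φ x)) : Subsingleton ((kernel φ).presheaf.stalk x) := by
  refine ⟨fun a b => ?_⟩
  apply stalkAdd_injective_of_mono (kernel.ι φ) x
  apply h
  rw [← stalkAdd_comp, ← stalkAdd_comp, kernel.condition, stalkAdd_zero, stalkAdd_zero]

theorem subsingleton_stalk_cokernel {A B : X.Modules} (φ : A ⟶ B) [B.IsQuasicoherent]
    [(cokernel φ).IsQuasicoherent] (x : X)
    (h : Function.Surjective (stalkAdd φ x)) : Subsingleton ((cokernel φ).presheaf.stalk x) := by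
  suffices H : ∀ m : (cokernel φ).presheaf.stalk x, m = 0 from
    ⟨fun a b => (H a).trans (H b).symm⟩
  intro m
  obtain ⟨b, rfl⟩ := stalkAdd_surjective_of_epi (cokernel.π φ) x m
  obtain ⟨a, rfl⟩ := h b
  rw [← stalkAdd_comp, cokernel.condition, stalkAdd_zero]

/-- `Coh_{≤ n}` inside `Coh` satisfies the dévissage hypotheses -/
theorem hypCohLe [IsLocallyNoetherian X] (δ : X → ℤ) (n : ℤ) :
    K0Dev.Hyp (Cyc.CohLe δ n) (fun F : X.Modules => Coh.IsCoh F) where
  le := fun _ h => h.1
  P_zero := fun N hN => ⟨isCoh_of_isZero hN, fun x hx => by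
    exfalso
    haveI : Subsingleton (N.presheaf.stalk x) := by
      refine ⟨fun a b => ?_⟩
      have h0 : ∀ m : N.presheaf.stalk x, m = 0 := fun m => by
        have := stalkAdd_id N x m
        rw [hN.eq_of_src (𝟙 N) 0, stalkAdd_zero] at this
        exact this.symm
      rw [h0 a, h0 b]
    exact not_nontrivial _ hx⟩
  P_iso := fun {M N} e h => ⟨isCoh_of_iso e h.1, fun x hx => by
    haveI := hx
    exact h.2 x ((stalkAdd_injective_of_mono e.inv x).nontrivial)⟩
  Q_iso := fun e h => isCoh_of_iso e h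
  Q_ker := fun f hM hN => isCoh_kernel hM hN f
  Q_coker := fun f hM hN => isCoh_cokernel hM hN f
  P_sub := fun S hS h2 h1 => ⟨h1, fun x hx => by
    haveI := hS.mono_f
    haveI := hx
    exact h2.2 x ((stalkAdd_injective_of_mono S.f x).nontrivial)⟩
  P_quot := fun S hS h2 h3 => ⟨h3, fun x hx => by
    haveI := hS.epi_g
    haveI : S.X₂.IsQuasicoherent := h2.1.1
    haveI : S.X₃.IsQuasicoherent := h3.1
    haveI := hx
    exact h2.2 x ((stalkAdd_surjective_of_epi S.g x).nontrivial)⟩

theorem clSub_eq_cls {C : Type*} [Category C] [Abelian C] (P : ObjectProperty C) (M : C) (h : P M) :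
    KZero.clSub P M = cls P M h := by
  unfold KZero.clSub cls
  exact dif_pos h

/-- `[A] = [B]` modulo `Coh_{≤ m}` when the kernel and cokernel of `φ : A ⟶ B` are in `Coh_{≤ m}` -/
theorem toK0CohQuot_eq [IsLocallyNoetherian X] (δ : X → ℤ) (n m : ℤ) {A B : X.Modules} (φ : A ⟶ B)
    (hA : Cyc.CohLe δ n A) (hB : Cyc.CohLe δ n B)
    (hker : ∀ x, Nontrivial ((kernel φ).presheaf.stalk x) → δ x ≤ m)
    (hcoker : ∀ x, Nontrivial ((cokernel φ).presheaf.stalk x) → δ x ≤ m) :
    Cyc.toK0CohQuot δ n m A = Cyc.toK0CohQuot δ n m B := by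
  have hyp := hypCohLe (X := X) δ n
  have hKc : Coh.IsCoh (kernel φ) := isCoh_kernel hA.1 hB.1 φ
  have hCc : Coh.IsCoh (cokernel φ) := isCoh_cokernel hA.1 hB.1 φ
  have e₁ : (ShortComplex.mk (kernel.ι φ) φ (kernel.condition φ)).Exact :=
    ShortComplex.exact_of_f_is_kernel _ (kernelIsKernel φ)
  have e₂ : (ShortComplex.mk φ (cokernel.π φ) (cokernel.condition φ)).Exact :=
    ShortComplex.exact_of_g_is_cokernel _ (cokernelIsCokernel φ)
  have S₁ : (ShortComplex.mk (kernel.ι φ) (cokernel.π (kernel.ι φ))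
      (cokernel.condition _)).ShortExact :=
    { exact := ShortComplex.exact_of_g_is_cokernel _ (cokernelIsCokernel _) }
  have S₂ : (ShortComplex.mk (kernel.ι (cokernel.π φ)) (cokernel.π φ)
      (kernel.condition _)).ShortExact :=
    { exact := ShortComplex.exact_of_f_is_kernel _ (kernelIsKernel _) }
  have hK : Cyc.CohLe δ n (kernel φ) := hyp.P_sub _ S₁ hA hKc
  have hC : Cyc.CohLe δ n (cokernel φ) := hyp.P_quot _ S₂ hB hCc
  have key := K0Inf.fourTerm hyp (kernel.ι φ) φ (cokernel.π φ) (kernel.condition φ)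
    (cokernel.condition φ) e₁ e₂ hK hA hB hC
  unfold Cyc.toK0CohQuot
  rw [QuotientAddGroup.eq, clSub_eq_cls _ _ hA, clSub_eq_cls _ _ hB]
  have h3 : -cls (Cyc.CohLe δ n) A hA + cls (Cyc.CohLe δ n) B hB =
      cls (Cyc.CohLe δ n) (cokernel φ) hC - cls (Cyc.CohLe δ n) (kernel φ) hK := by
    rw [eq_sub_iff_add_eq]
    calc -cls (Cyc.CohLe δ n) A hA + cls (Cyc.CohLe δ n) B hB + cls (Cyc.CohLe δ n) (kernel φ) hK
        = -cls (Cyc.CohLe δ n) A hA +
            (cls (Cyc.CohLe δ n) (kernel φ) hK + cls (Cyc.CohLe δ n) B hB) := by abel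
      _ = -cls (Cyc.CohLe δ n) A hA +
            (cls (Cyc.CohLe δ n) A hA + cls (Cyc.CohLe δ n) (cokernel φ) hC) := by rw [key]
      _ = cls (Cyc.CohLe δ n) (cokernel φ) hC := by abel
  rw [h3]
  exact AddSubgroup.sub_mem _
    (AddSubgroup.subset_closure ⟨cokernel φ, ⟨hCc, hcoker⟩, (clSub_eq_cls _ _ hC).symm⟩)
    (AddSubgroup.subset_closure ⟨kernel φ, ⟨hKc, hker⟩, (clSub_eq_cls _ _ hK).symm⟩)

/-- a trivialization along an open immersion gives one on its open range -/
theorem exists_opens_triv (ℒ : X.Modules) {Y : Scheme.{u}} (j : Y ⟶ X) [IsOpenImmersion j]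
    (e : ℒ.restrict j ≅ Coh.structureModule Y) :
    Nonempty (ℒ.restrict j.opensRange.ι ≅ Coh.structureModule (j.opensRange : Scheme.{u})) := by
  let ψ : (j.opensRange : Scheme.{u}) ⟶ Y := j.isoOpensRange.inv
  have hψ : ψ ≫ j = j.opensRange.ι := j.isoOpensRange_inv_comp
  exact ⟨(restrictFunctorCongr hψ.symm).app ℒ ≪≫ (restrictFunctorComp ψ j).app ℒ ≪≫
    (restrictFunctor ψ).mapIso e ≪≫ restrictUnitIso ψ⟩

/-- closure of the graph of a trivialization: a common coherent source for `O_X` and `ℒ` -/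
theorem exists_common [IsLocallyNoetherian X] (ℒ : X.Modules) (hℒ : Coh.IsCoh ℒ) (W : X.Opens)
    (e : ℒ.restrict W.ι ≅ Coh.structureModule (W : Scheme.{u})) :
    ∃ (G : X.Modules) (p₁ : G ⟶ Coh.structureModule X) (p₂ : G ⟶ ℒ), Coh.IsCoh G ∧
      IsIso ((restrictFunctor W.ι).map p₁) ∧ IsIso ((restrictFunctor W.ι).map p₂) := by
  haveI : (restrictFunctor W.ι).Additive := (restrictAdjunction W.ι).left_adjoint_additive
  haveI : ℒ.IsQuasicoherent := hℒ.1
  haveI : (Coh.structureModule X).IsQuasicoherent := (isCoh_unit X).1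
  haveI : (Coh.structureModule X ⊞ ℒ).IsQuasicoherent :=
    Groth.Agent.Lib.helper16.QCohFibre.isQuasicoherent_biprod _ _
  haveI : (Coh.structureModule (W : Scheme.{u})).IsQuasicoherent := (isCoh_unit _).1
  let a : Coh.structureModule (W : Scheme.{u}) ⟶ (restrictFunctor W.ι).obj (Coh.structureModule X) :=
    (restrictUnitIso W.ι).inv
  let b : Coh.structureModule (W : Scheme.{u}) ⟶ (restrictFunctor W.ι).obj ℒ := e.inv
  let i' : Coh.structureModule (W : Scheme.{u}) ⟶
      (restrictFunctor W.ι).obj (Coh.structureModule X ⊞ ℒ) :=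
    a ≫ (restrictFunctor W.ι).map biprod.inl + b ≫ (restrictFunctor W.ι).map biprod.inr
  have h1 : i' ≫ (restrictFunctor W.ι).map biprod.fst = a := by
    simp only [i', Preadditive.add_comp, Category.assoc]
    rw [← Functor.map_comp, ← Functor.map_comp, biprod.inl_fst, biprod.inr_fst,
      CategoryTheory.Functor.map_id, CategoryTheory.Functor.map_zero, Category.comp_id, comp_zero, add_zero]
  have h2 : i' ≫ (restrictFunctor W.ι).map biprod.snd = b := by
    simp only [i', Preadditive.add_comp, Category.assoc]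
    rw [← Functor.map_comp, ← Functor.map_comp, biprod.inl_snd, biprod.inr_snd,
      CategoryTheory.Functor.map_id, CategoryTheory.Functor.map_zero, Category.comp_id, comp_zero, zero_add]
  haveI : IsIso a := inferInstanceAs (IsIso (restrictUnitIso W.ι).inv)
  haveI : IsIso b := inferInstanceAs (IsIso e.inv)
  haveI : Mono (i' ≫ (restrictFunctor W.ι).map biprod.fst) := by rw [h1]; infer_instance
  haveI : Mono i' := mono_of_mono i' ((restrictFunctor W.ι).map biprod.fst)
  obtain ⟨G, i, eG, hmono, hqc, hft, hcomm⟩ :=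
    Groth.Agent.Lib.helper16.Satur.exists_ft_extension_locNoeth locNoeth W
      (Coh.structureModule X ⊞ ℒ) (Coh.structureModule (W : Scheme.{u})) (isCoh_unit _).2 i'
  refine ⟨G, i ≫ biprod.fst, i ≫ biprod.snd, ⟨hqc, hft⟩, ?_, ?_⟩
  · rw [Functor.map_comp, ← hcomm, Category.assoc, h1]
    infer_instance
  · rw [Functor.map_comp, ← hcomm, Category.assoc, h2]
    infer_instance

/-- on an integral locally Noetherian scheme with a dimension function, a coherent module which is trivial on
a nonempty open has the class of `O_X` modulo modules supported in smaller dimension -/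
theorem toK0CohQuot_unit_eq [IsIntegral X] [IsLocallyNoetherian X] (δ : X → ℤ)
    (hδ : Cyc.IsDimFun X δ) (n m : ℤ) (hn : δ (genericPoint X) = n) (hm : n ≤ m + 1)
    (ℒ : X.Modules) (hℒ : Coh.IsCoh ℒ) (W : X.Opens) (hW : (W : Set X).Nonempty)
    (e : ℒ.restrict W.ι ≅ Coh.structureModule (W : Scheme.{u})) :
    Cyc.toK0CohQuot δ n m (Coh.structureModule X) = Cyc.toK0CohQuot δ n m ℒ := by
  have hηW : genericPoint X ∈ W :=
    ((genericPoint_spec X).mem_open_set_iff W.isOpen).mpr (by simpa using hW)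
  have hle : ∀ x : X, δ x ≤ n := fun x => by
    by_cases hx : genericPoint X = x
    · rw [← hx, hn]
    · have := (hδ (genericPoint X) x ((genericPoint_spec X).specializes (Set.mem_univ x)) hx).1
      omega
  have hlt : ∀ x : X, x ∉ W → δ x ≤ m := fun x hx => by
    have hne : genericPoint X ≠ x := fun h => hx (h ▸ hηW)
    have := (hδ (genericPoint X) x ((genericPoint_spec X).specializes (Set.mem_univ x)) hne).1
    omega
  obtain ⟨G, p₁, p₂, hG, h1, h2⟩ := exists_common ℒ hℒ W e
  have hU : Coh.IsCoh (Coh.structureModule X) := isCoh_unit X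
  haveI : ℒ.IsQuasicoherent := hℒ.1
  haveI : (Coh.structureModule X).IsQuasicoherent := hU.1
  haveI : G.IsQuasicoherent := hG.1
  haveI : (cokernel p₁).IsQuasicoherent := (isCoh_cokernel hG hU p₁).1
  haveI : (cokernel p₂).IsQuasicoherent := (isCoh_cokernel hG hℒ p₂).1
  have hcl : ∀ F : X.Modules, Coh.IsCoh F → Cyc.CohLe δ n F := fun F hF => ⟨hF, fun x _ => hle x⟩
  have key : ∀ {B : X.Modules} (p : G ⟶ B), Coh.IsCoh B → B.IsQuasicoherent →
      (cokernel p).IsQuasicoherent → IsIso ((restrictFunctor W.ι).map p) →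
      Cyc.toK0CohQuot δ n m G = Cyc.toK0CohQuot δ n m B := by
    intro B p hB _ _ hp
    refine toK0CohQuot_eq δ n m p (hcl G hG) (hcl B hB) ?_ ?_
    · intro x hx
      by_contra hlt'
      have hxW : x ∈ W := by
        by_contra hxW
        exact hlt' (hlt x hxW)
      haveI := subsingleton_stalk_kernel p x (stalkAdd_bijective_of_isIso_restrict p W hp x hxW).1
      exact not_nontrivial _ hx
    · intro x hx
      by_contra hlt'
      have hxW : x ∈ W := by
        by_contra hxW
        exact hlt' (hlt x hxW)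
      haveI := subsingleton_stalk_cokernel p x
        (stalkAdd_bijective_of_isIso_restrict p W hp x hxW).2
      exact not_nontrivial _ hx
  rw [← key p₁ hU inferInstance inferInstance h1, key p₂ hℒ inferInstance inferInstance h2]

end Groth.Agent.Lib.helper8.K0Gen
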