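import Mathlib
import Groth.Agent.Lib.Helper8.K0InfB

/-!
# Infinite (locally finite) dévissage for `K₀`, part C (helper8)

* `chain_lemma`: for a locally finite chain `I 0 ⊇ I 1 ⊇ …` with compatible epimorphisms `I j ↠ I (j+1)`,
  `[ker (I 0 ↠ I 1)] = [coker (I 1 ↪ I 0)]` in `K₀(P)`.
* `endo_lemma`: a "shift" endomorphism `θ` of a locally finite coproduct `∐ T` has `[ker θ] = [coker θ]`.
-/

set_option autoImplicit false
universe v u w
open CategoryTheory CategoryTheory.Limits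

namespace Groth.Agent.Lib.helper8.K0Inf

open Groth.Agent.Lib.helper13.K0Res Groth.Agent.Lib.helper8.K0Dev

variable {C : Type u} [Category.{v} C] [Abelian C] [HasCoproductsOfShape ℕ C]
variable {P Q : ObjectProperty C} {ι : Type w} {Z : ι → C → Prop}

theorem chain_lemma (h : K0Dev.Hyp P Q) (hAB4 : AB4N C) (hZ : ZAx Z)
    (hPσ : ∀ M : ℕ → C, LF Z M → (∀ n, P (M n)) → P (∐ M))
    (I : ℕ → C) (i : ∀ j, I (j + 1) ⟶ I j) (p : ∀ j, I j ⟶ I (j + 1))
    (hi : ∀ j, Mono (i j)) (hp : ∀ j, Epi (p j))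
    (comm : ∀ j, i j ≫ p j = p (j + 1) ≫ i (j + 1)) (hQ : ∀ j, Q (I j)) (hLF : LF Z I)
    (hK : P (kernel (p 0))) (hC : P (cokernel (i 0))) :
    cls P (kernel (p 0)) hK = cls P (cokernel (i 0)) hC := by
  haveI := hi
  haveI := hp
  -- the rows
  let R : ℕ → ShortComplex C := fun j =>
    ShortComplex.mk (i j) (cokernel.π (i j)) (cokernel.condition _)
  have hR : ∀ j, (R j).ShortExact := fun j =>
    { exact := ShortComplex.exact_of_g_is_cokernel _ (cokernelIsCokernel (i j))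
      mono_f := inferInstanceAs (Mono (i j))
      epi_g := inferInstanceAs (Epi (cokernel.π (i j))) }
  let q : ∀ j, cokernel (i j) ⟶ cokernel (i (j + 1)) := fun j =>
    cokernel.map (i j) (i (j + 1)) (p (j + 1)) (p j) (comm j)
  have hq : ∀ j, cokernel.π (i j) ≫ q j = p j ≫ cokernel.π (i (j + 1)) := fun j =>
    cokernel.π_desc _ _ _
  haveI hqe : ∀ j, Epi (q j) := fun j => by
    haveI : Epi (cokernel.π (i j) ≫ q j) := by rw [hq j]; infer_instance
    exact epi_of_epi (cokernel.π (i j)) (q j)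
  let φ : ∀ j, R j ⟶ R (j + 1) := fun j =>
    { τ₁ := p (j + 1)
      τ₂ := p j
      τ₃ := q j
      comm₁₂ := (comm j).symm
      comm₂₃ := (hq j).symm }
  haveI : ∀ j, Epi (φ j).τ₁ := fun j => inferInstanceAs (Epi (p (j + 1)))
  haveI : ∀ j, Epi (φ j).τ₂ := fun j => inferInstanceAs (Epi (p j))
  haveI : ∀ j, Epi (φ j).τ₃ := fun j => inferInstanceAs (Epi (q j))
  let T : ℕ → ShortComplex C := fun j => kerSC (φ j)
  have hT : ∀ j, (T j).ShortExact := fun j => kerSC_shortExact (φ j) (hR j) (hR (j + 1))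
  let T' : ℕ → ShortComplex C := fun j =>
    ShortComplex.mk (kernel.ι (q j)) (q j) (kernel.condition _)
  have hT' : ∀ j, (T' j).ShortExact := fun j =>
    { exact := ShortComplex.exact_of_f_is_kernel _ (kernelIsKernel (q j))
      mono_f := inferInstanceAs (Mono (kernel.ι (q j)))
      epi_g := inferInstanceAs (Epi (q j)) }
  -- membership
  have hQC : ∀ j, Q (cokernel (i j)) := fun j => h.Q_coker (i j) (hQ (j + 1)) (hQ j)
  have hQK : ∀ j, Q (kernel (p j)) := fun j => h.Q_ker (p j) (hQ j) (hQ (j + 1))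
  have hQD : ∀ j, Q (kernel (q j)) := fun j => h.Q_ker (q j) (hQC j) (hQC (j + 1))
  have hPK : ∀ j, P (kernel (p j)) := by
    intro j
    induction j with
    | zero => exact hK
    | succ j ih => exact h.P_sub (T j) (hT j) ih (hQK (j + 1))
  have hPC : ∀ j, P (cokernel (i j)) := by
    intro j
    induction j with
    | zero => exact hC
    | succ j ih => exact h.P_quot (T' j) (hT' j) ih (hQC (j + 1))
  have hPD : ∀ j, P (kernel (q j)) := fun j => h.P_sub (T' j) (hT' j) (hPC j) (hQD j)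
  -- local finiteness
  have lfK : LF Z (fun j => kernel (p j)) :=
    hLF.of_mono hZ (fun j => kernel.ι (p j)) (fun _ => inferInstance)
  have lfC : LF Z (fun j => cokernel (i j)) :=
    hLF.of_epi hZ (fun j => cokernel.π (i j)) (fun _ => inferInstance)
  have lfD : LF Z (fun j => kernel (q j)) :=
    lfC.of_mono hZ (fun j => kernel.ι (q j)) (fun _ => inferInstance)
  have hσD : P (∐ fun j => kernel (q j)) := hPσ _ lfD hPD
  have s1 := swindle_sub P hAB4 h.P_zero T hT (fun _ => Iso.refl _) hK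
    (hPσ _ (lfK.shift 1) (fun j => hPK (j + 1))) (hPσ _ lfK hPK)
    (hPσ _ (lfK.shift 1) (fun j => hPK (j + 1))) hσD
  have s2 := swindle_quot P hAB4 h.P_zero T' hT' (fun _ => Iso.refl _) hC hσD
    (hPσ _ lfC hPC) (hPσ _ (lfC.shift 1) (fun j => hPC (j + 1)))
    (hPσ _ (lfC.shift 1) (fun j => hPC (j + 1)))
  exact s1.trans s2.symm

section Endo

variable (T : ℕ → C) (θ : ∐ T ⟶ ∐ T)

/-- powers of an endomorphism -/
noncomputable def pw : ℕ → ((∐ T) ⟶ ∐ T)
  | 0 => 𝟙 _
  | j + 1 => θ ≫ pw j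

lemma pw_zero : pw T θ 0 = 𝟙 _ := rfl

lemma pw_succ (j : ℕ) : pw T θ (j + 1) = θ ≫ pw T θ j := rfl

lemma pw_succ' (j : ℕ) : pw T θ (j + 1) = pw T θ j ≫ θ := by
  induction j with
  | zero => rw [pw_succ, pw_zero, Category.comp_id, Category.id_comp]
  | succ j ih =>
    calc pw T θ (j + 1 + 1) = θ ≫ pw T θ (j + 1) := rfl
      _ = θ ≫ pw T θ j ≫ θ := by rw [ih]
      _ = (θ ≫ pw T θ j) ≫ θ := (Category.assoc _ _ _).symm
      _ = pw T θ (j + 1) ≫ θ := rfl

variable {T θ}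

lemma ι_pw_eq_zero (τ : ∀ p, T (p + 1) ⟶ T p)
    (hθ0 : Limits.Sigma.ι T 0 ≫ θ = 0)
    (hθ : ∀ p, Limits.Sigma.ι T (p + 1) ≫ θ = τ p ≫ Limits.Sigma.ι T p) :
    ∀ (j q : ℕ), q < j → Limits.Sigma.ι T q ≫ pw T θ j = 0 := by
  intro j
  induction j with
  | zero => intro q hq; exact absurd hq (Nat.not_lt_zero q)
  | succ j ih =>
    intro q hq
    rw [pw_succ]
    cases q with
    | zero => rw [← Category.assoc, hθ0, zero_comp]
    | succ q =>
      rw [← Category.assoc, hθ q, Category.assoc, ih q (Nat.lt_of_succ_lt_succ hq), comp_zero]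

theorem endo_lemma (h : K0Dev.Hyp P Q) (hAB4 : AB4N C) (hZ : ZAx Z)
    (hPσ : ∀ M : ℕ → C, LF Z M → (∀ n, P (M n)) → P (∐ M))
    (hT : LF Z T) (τ : ∀ p, T (p + 1) ⟶ T p)
    (hθ0 : Limits.Sigma.ι T 0 ≫ θ = 0)
    (hθ : ∀ p, Limits.Sigma.ι T (p + 1) ≫ θ = τ p ≫ Limits.Sigma.ι T p)
    (hQ : Q (∐ T)) (hK : P (kernel θ)) (hC : P (cokernel θ)) :
    cls P (kernel θ) hK = cls P (cokernel θ) hC := by
  let I : ℕ → C := fun j => Abelian.image (pw T θ j)
  let e : ∀ j, (∐ T) ⟶ I j := fun j => Abelian.factorThruImage (pw T θ j)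
  let m : ∀ j, I j ⟶ ∐ T := fun j => Abelian.image.ι (pw T θ j)
  have fac : ∀ j, e j ≫ m j = pw T θ j := fun j => Abelian.image.fac (pw T θ j)
  haveI : ∀ j, Epi (e j) := fun j => inferInstanceAs (Epi (Abelian.factorThruImage (pw T θ j)))
  haveI : ∀ j, Mono (m j) := fun j => inferInstanceAs (Mono (Abelian.image.ι (pw T θ j)))
  have wi : ∀ j, m (j + 1) ≫ cokernel.π (pw T θ j) = 0 := by
    intro j
    rw [← cancel_epi (e (j + 1)), ← Category.assoc, fac, pw_succ, Category.assoc,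
      cokernel.condition, comp_zero, comp_zero]
  let i : ∀ j, I (j + 1) ⟶ I j := fun j => kernel.lift (cokernel.π (pw T θ j)) (m (j + 1)) (wi j)
  have hi : ∀ j, i j ≫ m j = m (j + 1) := fun j => kernel.lift_ι _ _ _
  have wp : ∀ j, (m j ≫ θ) ≫ cokernel.π (pw T θ (j + 1)) = 0 := by
    intro j
    rw [← cancel_epi (e j), Category.assoc, ← Category.assoc (e j), ← Category.assoc (e j ≫ m j),
      fac, ← pw_succ', cokernel.condition, comp_zero]
  let p : ∀ j, I j ⟶ I (j + 1) := fun j =>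
    kernel.lift (cokernel.π (pw T θ (j + 1))) (m j ≫ θ) (wp j)
  have hp : ∀ j, p j ≫ m (j + 1) = m j ≫ θ := fun j => kernel.lift_ι _ _ _
  have hep : ∀ j, e j ≫ p j = e (j + 1) := by
    intro j
    rw [← cancel_mono (m (j + 1)), Category.assoc, hp, ← Category.assoc, fac, fac, pw_succ']
  haveI hmi : ∀ j, Mono (i j) := fun j => by
    haveI : Mono (i j ≫ m j) := by rw [hi]; infer_instance
    exact mono_of_mono (i j) (m j)
  haveI hpe : ∀ j, Epi (p j) := fun j => by
    haveI : Epi (e j ≫ p j) := by rw [hep]; infer_instance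
    exact epi_of_epi (e j) (p j)
  have comm : ∀ j, i j ≫ p j = p (j + 1) ≫ i (j + 1) := by
    intro j
    rw [← cancel_mono (m (j + 1)), Category.assoc, hp, ← Category.assoc, hi, Category.assoc, hi, hp]
  have hQI : ∀ j, Q (I j) := fun j => h.Q_ker _ hQ (h.Q_coker (pw T θ j) hQ hQ)
  -- local finiteness of the images
  have hLF : LF Z I := by
    have hS := hT.tails hZ
    refine hS.of_epi hZ (fun j => Limits.Sigma.desc (fun q => Limits.Sigma.ι T (j + q)) ≫ e j)
      (fun j => ?_)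
    apply Preadditive.epi_of_cancel_zero
    intro R g hg
    rw [← cancel_epi (e j), comp_zero]
    apply Limits.Sigma.hom_ext
    intro q
    rw [comp_zero]
    rcases Nat.lt_or_ge q j with hq | hq
    · have h0 : Limits.Sigma.ι T q ≫ e j = 0 := by
        rw [← cancel_mono (m j), Category.assoc, fac, zero_comp]
        exact ι_pw_eq_zero τ hθ0 hθ j q hq
      rw [← Category.assoc, h0, zero_comp]
    · obtain ⟨r, rfl⟩ := Nat.exists_eq_add_of_le hq
      have h1 : Limits.Sigma.ι (fun q => T (j + q)) r ≫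
          (Limits.Sigma.desc (fun q => Limits.Sigma.ι T (j + q)) ≫ e j) ≫ g = 0 := by
        rw [hg, comp_zero]
      rw [Category.assoc, Limits.Sigma.ι_desc_assoc] at h1
      exact h1
  -- identification of the kernel and cokernel
  haveI hm0 : IsIso (m 0) := by
    have h1 : e 0 ≫ m 0 = 𝟙 _ := fac 0
    haveI : Epi (m 0) := by
      haveI : Epi (e 0 ≫ m 0) := by rw [h1]; infer_instance
      exact epi_of_epi (e 0) (m 0)
    exact isIso_of_mono_of_epi _
  have hθ1 : pw T θ 1 = θ := by rw [pw_succ, pw_zero, Category.comp_id]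
  let eK : kernel (p 0) ≅ kernel θ :=
    (kernelCompMono (p 0) (m 1)).symm ≪≫ kernelIsoOfEq (hp 0) ≪≫ kernelIsIsoComp (m 0) θ
  let eC : cokernel (i 0) ≅ cokernel θ :=
    (cokernelCompIsIso (i 0) (m 0)).symm ≪≫ cokernelIsoOfEq (hi 0) ≪≫
      (cokernelEpiComp (e 1) (m 1)).symm ≪≫ cokernelIsoOfEq ((fac 1).trans hθ1)
  have hK' : P (kernel (p 0)) := h.P_iso eK.symm hK
  have hC' : P (cokernel (i 0)) := h.P_iso eC.symm hC
  have key := chain_lemma h hAB4 hZ hPσ I i p hmi hpe comm hQI hLF hK' hC'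
  rw [← cls_iso P h.P_zero eK hK' hK, ← cls_iso P h.P_zero eC hC' hC]
  exact key

end Endo

end Groth.Agent.Lib.helper8.K0Inf
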