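import Mathlib
import Groth.Agent.Lib.Helper8.K0InfC

/-!
# Infinite (locally finite) dévissage for `K₀`, part D (helper8)

`DStr P Q Z`: a "multiplication by the ideal" endofunctor `D` with a natural monomorphism `D ⟶ 𝟭`, whose iterates
on every `Q`-object form a locally finite sequence, with `M / D M ∈ P` and `D M = 0` for `M ∈ P`, and such that
`D` preserves epimorphisms between `Q`-objects.

* `bijective_mapSub_of_dstr`: then `K₀(P) → K₀(Q)` is bijective.
-/

set_option autoImplicit false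
universe v u w
open CategoryTheory CategoryTheory.Limits

namespace Groth.Agent.Lib.helper8.K0Inf

open Groth.Agent.Lib.helper13.K0Res Groth.Agent.Lib.helper8.K0Dev

variable {C : Type u} [Category.{v} C] [Abelian C] [HasCoproductsOfShape ℕ C]
variable {P Q : ObjectProperty C} {ι : Type w} {Z : ι → C → Prop}

/-- iterates of an endofunctor -/
def Dn (D : C ⥤ C) : ℕ → (C ⥤ C)
  | 0 => 𝟭 C
  | p + 1 => Dn D p ⋙ D

variable (P Q Z) in
/-- the structure needed for the locally finite dévissage -/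
structure DStr where
  D : C ⥤ C
  δ : D ⟶ 𝟭 C
  mono_δ : ∀ M, Mono (δ.app M)
  Q_D : ∀ M, Q M → Q (D.obj M)
  P_gr : ∀ M, Q M → P (cokernel (δ.app M))
  zero_D : ∀ M, P M → IsZero (D.obj M)
  lf : ∀ M, Q M → LF Z (fun p => (Dn D p).obj M)
  epi_D : ∀ {M N : C} (f : M ⟶ N), Q M → Q N → Epi f → Epi (D.map f)

theorem P_of_epi (h : K0Dev.Hyp P Q) {X Y : C} (f : X ⟶ Y) [Epi f] (hX : P X) (hY : Q Y) : P Y := by
  let T : ShortComplex C := ShortComplex.mk (kernel.ι f) f (kernel.condition f)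
  have hT : T.ShortExact :=
    { exact := ShortComplex.exact_of_f_is_kernel _ (kernelIsKernel f)
      mono_f := inferInstanceAs (Mono (kernel.ι f))
      epi_g := inferInstanceAs (Epi f) }
  exact h.P_quot T hT hX hY

theorem P_of_mono (h : K0Dev.Hyp P Q) {X Y : C} (f : X ⟶ Y) [Mono f] (hY : P Y) (hX : Q X) : P X := by
  let T : ShortComplex C := ShortComplex.mk f (cokernel.π f) (cokernel.condition f)
  have hT : T.ShortExact :=
    { exact := ShortComplex.exact_of_g_is_cokernel _ (cokernelIsCokernel f)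
      mono_f := inferInstanceAs (Mono f)
      epi_g := inferInstanceAs (Epi (cokernel.π f)) }
  exact h.P_sub T hT hY hX

/-- the cokernel of a coproduct of monomorphisms is the coproduct of the cokernels -/
noncomputable def cokerSigmaIso (hAB4 : AB4N C) {M N : ℕ → C} (f : ∀ n, M n ⟶ N n)
    (hf : ∀ n, Mono (f n)) :
    cokernel (Limits.Sigma.map f) ≅ ∐ fun n => cokernel (f n) := by
  let R : ℕ → ShortComplex C := fun n =>
    ShortComplex.mk (f n) (cokernel.π (f n)) (cokernel.condition _)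
  have hR : ∀ n, (R n).ShortExact := fun n =>
    { exact := ShortComplex.exact_of_g_is_cokernel _ (cokernelIsCokernel (f n))
      mono_f := hf n
      epi_g := inferInstanceAs (Epi (cokernel.π (f n))) }
  exact IsColimit.coconePointUniqueUpToIso (cokernelIsCokernel (Limits.Sigma.map f))
    (sigmaSC_shortExact hAB4 R hR).gIsCokernel

namespace DStr

variable (d : DStr P Q Z)

/-- `D^p M` -/
def Dp (p : ℕ) (M : C) : C := (Dn d.D p).obj M

/-- `D^p f` -/
def mp (p : ℕ) {M N : C} (f : M ⟶ N) : d.Dp p M ⟶ d.Dp p N := (Dn d.D p).map f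

/-- the inclusion `D^{p+1} M ⟶ D^p M` -/
def δp (p : ℕ) (M : C) : d.Dp (p + 1) M ⟶ d.Dp p M := d.δ.app (d.Dp p M)

instance (p : ℕ) (M : C) : Mono (d.δp p M) := d.mono_δ _

lemma mp_succ (p : ℕ) {M N : C} (f : M ⟶ N) : d.mp (p + 1) f = d.D.map (d.mp p f) := rfl

lemma mp_comp (p : ℕ) {M N K : C} (f : M ⟶ N) (g : N ⟶ K) :
    d.mp p (f ≫ g) = d.mp p f ≫ d.mp p g := (Dn d.D p).map_comp f g

lemma δp_nat (p : ℕ) {M N : C} (f : M ⟶ N) :
    d.mp (p + 1) f ≫ d.δp p N = d.δp p M ≫ d.mp p f := d.δ.naturality (d.mp p f)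

lemma D_map_zero {M N : C} : d.D.map (0 : M ⟶ N) = 0 := by
  haveI := d.mono_δ N
  rw [← cancel_mono (d.δ.app N), d.δ.naturality, zero_comp]
  exact comp_zero

lemma mp_zero (p : ℕ) {M N : C} : d.mp p (0 : M ⟶ N) = 0 := by
  induction p with
  | zero => rfl
  | succ p ih =>
    rw [mp_succ, ih, D_map_zero]
    rfl

lemma mono_D_map {M N : C} (f : M ⟶ N) [Mono f] : Mono (d.D.map f) := by
  haveI := d.mono_δ M
  haveI : Mono (d.D.map f ≫ d.δ.app N) := by
    rw [d.δ.naturality]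
    exact mono_comp _ _
  exact mono_of_mono (d.D.map f) (d.δ.app N)

lemma mono_mp (p : ℕ) {M N : C} (f : M ⟶ N) [Mono f] : Mono (d.mp p f) := by
  induction p with
  | zero => exact inferInstanceAs (Mono f)
  | succ p ih =>
    rw [mp_succ]
    exact d.mono_D_map _

lemma Q_Dp (p : ℕ) {M : C} (hM : Q M) : Q (d.Dp p M) := by
  induction p with
  | zero => exact hM
  | succ p ih => exact d.Q_D _ ih

lemma epi_mp (p : ℕ) {M N : C} (f : M ⟶ N) [Epi f] (hM : Q M) (hN : Q N) : Epi (d.mp p f) := by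
  induction p with
  | zero => exact inferInstanceAs (Epi f)
  | succ p ih =>
    rw [mp_succ]
    exact d.epi_D _ (d.Q_Dp p hM) (d.Q_Dp p hN) ih

lemma lf_Dp {M : C} (hM : Q M) : LF Z (fun p => d.Dp p M) := d.lf M hM

/-- the graded piece `D^p M / D^{p+1} M` -/
noncomputable abbrev gr (p : ℕ) (M : C) : C := cokernel (d.δp p M)

/-- `0 → D^{p+1} M → D^p M → gr^p M → 0` -/
noncomputable def grSC (p : ℕ) (M : C) : ShortComplex C :=
  ShortComplex.mk (d.δp p M) (cokernel.π (d.δp p M)) (cokernel.condition _)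

lemma grSC_shortExact (p : ℕ) (M : C) : (d.grSC p M).ShortExact :=
  { exact := ShortComplex.exact_of_g_is_cokernel _ (cokernelIsCokernel (d.δp p M))
    mono_f := inferInstanceAs (Mono (d.δp p M))
    epi_g := inferInstanceAs (Epi (cokernel.π (d.δp p M))) }

lemma P_gr' (p : ℕ) {M : C} (hM : Q M) : P (d.gr p M) := d.P_gr _ (d.Q_Dp p hM)

lemma lf_gr (hZ : ZAx Z) {M : C} (hM : Q M) : LF Z (fun p => d.gr p M) :=
  (d.lf_Dp hM).of_epi hZ (fun p => cokernel.π (d.δp p M)) (fun _ => inferInstance)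

/-- the associated graded object -/
noncomputable def Gr (M : C) : C := ∐ fun p => d.gr p M

section WithAxioms

variable (h : K0Dev.Hyp P Q) (hAB4 : AB4N C) (hZ : ZAx Z)
  (hPσ : ∀ M : ℕ → C, LF Z M → (∀ n, P (M n)) → P (∐ M))
  (hQσ : ∀ M : ℕ → C, LF Z M → (∀ n, Q (M n)) → Q (∐ M))

include hZ hPσ in
lemma P_Gr {M : C} (hM : Q M) : P (d.Gr M) := hPσ _ (d.lf_gr hZ hM) (fun p => d.P_gr' p hM)

lemma isZero_Dp_succ (p : ℕ) {M : C} (hM : P M) : IsZero (d.Dp (p + 1) M) := by
  induction p with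
  | zero => exact d.zero_D M hM
  | succ p ih =>
    exact IsZero.of_mono (d.δp (p + 1) M) ih

include h hZ hPσ in
/-- on `P`-objects the associated graded object has the same class -/
theorem cls_Gr_of_P {M : C} (hM : P M) :
    cls P (d.Gr M) (d.P_Gr hZ hPσ (h.le _ hM)) = cls P M hM := by
  have hQM := h.le _ hM
  have lf1 : LF Z (fun k => d.gr (k + 1) M) := (d.lf_gr hZ hQM).shift 1
  have hz : ∀ k, IsZero (d.gr (k + 1) M) := fun k =>
    IsZero.of_epi (cokernel.π (d.δp (k + 1) M)) (d.isZero_Dp_succ k hM)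
  have hzt : IsZero (∐ fun k => d.gr (k + 1) M) := isZero_sigma _ hz
  have ht : P (∐ fun k => d.gr (k + 1) M) := h.P_zero _ hzt
  have h0 : P (d.gr 0 M) := d.P_gr' 0 hQM
  have e1 := cls_split P (fun p => d.gr p M) h0 (d.P_Gr hZ hPσ hQM) ht
  have hzD : IsZero (d.Dp 1 M) := d.isZero_Dp_succ 0 hM
  haveI : IsIso (cokernel.π (d.δp 0 M)) := by
    have hS := d.grSC_shortExact 0 M
    haveI : Mono (cokernel.π (d.δp 0 M)) := (hS.exact.mono_g_iff).2 (hzD.eq_of_src _ _)
    exact isIso_of_mono_of_epi _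
  have e2 : cls P (d.gr 0 M) h0 = cls P M hM :=
    (cls_iso P h.P_zero (asIso (cokernel.π (d.δp 0 M))) hM h0).symm
  change cls P (∐ fun p => d.gr p M) _ = _
  rw [e1, cls_zero P _ hzt ht, add_zero, e2]

include h hAB4 hQσ in
/-- in `K₀(Q)` every object has the class of its associated graded object -/
theorem cls_Q_Gr {M : C} (hM : Q M) (hG : Q (d.Gr M)) : cls Q M hM = cls Q (d.Gr M) hG := by
  have hD : ∀ p, Q (d.Dp p M) := fun p => d.Q_Dp p hM
  exact swindle_sub Q hAB4 (fun N hN => h.le _ (h.P_zero N hN)) (fun p => d.grSC p M)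
    (fun p => d.grSC_shortExact p M) (fun _ => Iso.refl _) hM
    (hQσ _ ((d.lf_Dp hM).shift 1) (fun p => hD (p + 1))) (hQσ _ (d.lf_Dp hM) hD)
    (hQσ _ ((d.lf_Dp hM).shift 1) (fun p => hD (p + 1))) hG

end WithAxioms

end DStr

end Groth.Agent.Lib.helper8.K0Inf
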