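import Mathlib
import Groth.Agent.Lib.Helper8.K0InfD

/-!
# Infinite (locally finite) dévissage for `K₀`, part E (helper8)

Additivity of the associated graded class, and the main theorem `bijective_mapSub_of_dstr`.
-/

set_option autoImplicit false
universe v u w
open CategoryTheory CategoryTheory.Limits

namespace Groth.Agent.Lib.helper8.K0Inf

open Groth.Agent.Lib.helper13.K0Res Groth.Agent.Lib.helper8.K0Dev

variable {C : Type u} [Category.{v} C] [Abelian C] [HasCoproductsOfShape ℕ C]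
variable {P Q : ObjectProperty C} {ι : Type w} {Z : ι → C → Prop}

/-- the snake lemma class identity, deriving the memberships of the kernel and cokernel of `τ₃` -/
theorem snakeK0' (h : K0Dev.Hyp P Q) {R₁ R₂ : ShortComplex C} (φ : R₁ ⟶ R₂) (h₁ : R₁.ShortExact)
    (h₂ : R₂.ShortExact) [Mono φ.τ₁] [Mono φ.τ₂]
    (hQK : Q (kernel φ.τ₃)) (hQC : Q (cokernel φ.τ₃))
    (hC₁ : P (cokernel φ.τ₁)) (hC₂ : P (cokernel φ.τ₂)) :
    ∃ (hK : P (kernel φ.τ₃)) (hC₃ : P (cokernel φ.τ₃)),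
      cls P _ hC₁ + cls P _ hC₃ = cls P _ hK + cls P _ hC₂ := by
  let S := snakeInput φ h₁ h₂
  haveI : Epi S.L₂.g := h₂.epi_g
  haveI : Epi S.L₃.g := S.epi_L₃_g
  haveI : Mono S.v₁₂.τ₂ := inferInstanceAs (Mono φ.τ₂)
  have hz : IsZero S.L₀.X₂ := KernelFork.IsLimit.isZero_of_mono S.h₀τ₂
  haveI : Mono S.δ := (S.L₁'_exact.mono_g_iff).2 (hz.eq_of_src _ _)
  let a : S.L₀.X₃ ≅ kernel φ.τ₃ :=
    (IsLimit.conePointUniqueUpToIso (kernelIsKernel φ.τ₃) S.h₀τ₃).symm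
  let c₁ : S.L₃.X₁ ≅ cokernel φ.τ₁ :=
    (IsColimit.coconePointUniqueUpToIso (cokernelIsCokernel φ.τ₁) S.h₃τ₁).symm
  let c₂ : S.L₃.X₂ ≅ cokernel φ.τ₂ :=
    (IsColimit.coconePointUniqueUpToIso (cokernelIsCokernel φ.τ₂) S.h₃τ₂).symm
  let c₃ : S.L₃.X₃ ≅ cokernel φ.τ₃ :=
    (IsColimit.coconePointUniqueUpToIso (cokernelIsCokernel φ.τ₃) S.h₃τ₃).symm
  have hB : P S.L₃.X₁ := h.P_iso c₁.symm hC₁
  have hC : P S.L₃.X₂ := h.P_iso c₂.symm hC₂
  have hA : P S.L₀.X₃ := P_of_mono h S.δ hB (h.Q_iso a.symm hQK)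
  have hD : P S.L₃.X₃ := P_of_epi h S.L₃.g hC (h.Q_iso c₃.symm hQC)
  have hK : P (kernel φ.τ₃) := h.P_iso a hA
  have hC₃ : P (cokernel φ.τ₃) := h.P_iso c₃ hD
  exact ⟨hK, hC₃, snakeK0 h φ h₁ h₂ hK hC₁ hC₂ hC₃⟩

namespace DStr

variable (d : DStr P Q Z) (S : ShortComplex C)

/-- `A_p = ker (D^p M → D^p M'')` -/
noncomputable abbrev A (p : ℕ) : C := kernel (d.mp p S.g)

/-- `0 → A_p → D^p M → D^p M'' → 0` -/
noncomputable def rowA (p : ℕ) : ShortComplex C :=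
  ShortComplex.mk (kernel.ι (d.mp p S.g)) (d.mp p S.g) (kernel.condition _)

/-- `A_{p+1} → A_p` -/
noncomputable def α (p : ℕ) : d.A S (p + 1) ⟶ d.A S p :=
  kernel.map (d.mp (p + 1) S.g) (d.mp p S.g) (d.δp p S.X₂) (d.δp p S.X₃) (d.δp_nat p S.g)

lemma α_ι (p : ℕ) :
    d.α S p ≫ kernel.ι (d.mp p S.g) = kernel.ι (d.mp (p + 1) S.g) ≫ d.δp p S.X₂ :=
  kernel.lift_ι _ _ _

instance mono_α (p : ℕ) : Mono (d.α S p) := by
  haveI : Mono (d.α S p ≫ kernel.ι (d.mp p S.g)) := by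
    rw [α_ι]
    exact mono_comp _ _
  exact mono_of_mono (d.α S p) (kernel.ι (d.mp p S.g))

/-- the morphism of rows `rowA (p+1) ⟶ rowA p` -/
noncomputable def φA (p : ℕ) : d.rowA S (p + 1) ⟶ d.rowA S p where
  τ₁ := d.α S p
  τ₂ := d.δp p S.X₂
  τ₃ := d.δp p S.X₃
  comm₁₂ := d.α_ι S p
  comm₂₃ := (d.δp_nat p S.g).symm

lemma mp_f_g (p : ℕ) : d.mp p S.f ≫ d.mp p S.g = 0 := by
  rw [← mp_comp, S.zero, mp_zero]

/-- `D^p M' → A_p` -/
noncomputable def c (p : ℕ) : d.Dp p S.X₁ ⟶ d.A S p :=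
  kernel.lift (d.mp p S.g) (d.mp p S.f) (d.mp_f_g S p)

lemma c_ι (p : ℕ) : d.c S p ≫ kernel.ι (d.mp p S.g) = d.mp p S.f := kernel.lift_ι _ _ _

lemma mono_c [Mono S.f] (p : ℕ) : Mono (d.c S p) := by
  haveI : Mono (d.c S p ≫ kernel.ι (d.mp p S.g)) := by
    rw [c_ι]
    exact d.mono_mp p S.f
  exact mono_of_mono (d.c S p) (kernel.ι (d.mp p S.g))

lemma c_α (p : ℕ) : d.c S (p + 1) ≫ d.α S p = d.δp p S.X₁ ≫ d.c S p := by
  rw [← cancel_mono (kernel.ι (d.mp p S.g)), Category.assoc, α_ι, ← Category.assoc, c_ι,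
    Category.assoc, c_ι, δp_nat]

/-- `T_p = A_p / D^p M'` -/
noncomputable abbrev T (p : ℕ) : C := cokernel (d.c S p)

/-- `0 → D^p M' → A_p → T_p → 0` -/
noncomputable def rowT (p : ℕ) : ShortComplex C :=
  ShortComplex.mk (d.c S p) (cokernel.π (d.c S p)) (cokernel.condition _)

/-- `T_{p+1} → T_p` -/
noncomputable def τ (p : ℕ) : d.T S (p + 1) ⟶ d.T S p :=
  cokernel.map (d.c S (p + 1)) (d.c S p) (d.δp p S.X₁) (d.α S p) (d.c_α S p)

/-- the morphism of rows `rowT (p+1) ⟶ rowT p` -/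
noncomputable def φT (p : ℕ) : d.rowT S (p + 1) ⟶ d.rowT S p where
  τ₁ := d.δp p S.X₁
  τ₂ := d.α S p
  τ₃ := d.τ S p
  comm₁₂ := (d.c_α S p).symm
  comm₂₃ := (cokernel.π_desc _ _ _).symm

variable {S}

lemma rowA_shortExact (hS : S.ShortExact) (h2 : Q S.X₂) (h3 : Q S.X₃) (p : ℕ) :
    (d.rowA S p).ShortExact := by
  haveI := hS.epi_g
  haveI : Epi (d.mp p S.g) := d.epi_mp p S.g h2 h3
  exact
    { exact := ShortComplex.exact_of_f_is_kernel _ (kernelIsKernel (d.mp p S.g))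
      mono_f := inferInstanceAs (Mono (kernel.ι (d.mp p S.g)))
      epi_g := inferInstanceAs (Epi (d.mp p S.g)) }

lemma rowT_shortExact (hS : S.ShortExact) (p : ℕ) : (d.rowT S p).ShortExact := by
  haveI := hS.mono_f
  haveI := d.mono_c S p
  exact
    { exact := ShortComplex.exact_of_g_is_cokernel _ (cokernelIsCokernel (d.c S p))
      mono_f := inferInstanceAs (Mono (d.c S p))
      epi_g := inferInstanceAs (Epi (cokernel.π (d.c S p))) }

lemma isZero_T_zero (hS : S.ShortExact) : IsZero (d.T S 0) := by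
  let k : kernel S.g ≅ S.X₁ := IsLimit.conePointUniqueUpToIso (kernelIsKernel S.g) hS.fIsKernel
  have hk : k.hom ≫ S.f = kernel.ι S.g :=
    IsLimit.conePointUniqueUpToIso_hom_comp (kernelIsKernel S.g) hS.fIsKernel
      WalkingParallelPair.zero
  have hk' : k.inv ≫ kernel.ι S.g = S.f := by
    rw [← hk, ← Category.assoc, Iso.inv_hom_id, Category.id_comp]
  have hc : d.c S 0 = k.inv := by
    have h1 : d.c S 0 ≫ kernel.ι S.g = S.f := d.c_ι S 0
    exact (cancel_mono (kernel.ι S.g)).1 (h1.trans hk'.symm)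
  haveI : Epi (d.c S 0) := by
    rw [hc]
    infer_instance
  exact isZero_cokernel_of_epi (d.c S 0)

section WithAxioms

variable (h : K0Dev.Hyp P Q) (hAB4 : AB4N C) (hZ : ZAx Z)
  (hPσ : ∀ M : ℕ → C, LF Z M → (∀ n, P (M n)) → P (∐ M))
  (hQσ : ∀ M : ℕ → C, LF Z M → (∀ n, Q (M n)) → Q (∐ M))

include h in
lemma Q_A (h2 : Q S.X₂) (h3 : Q S.X₃) (p : ℕ) : Q (d.A S p) :=
  h.Q_ker _ (d.Q_Dp p h2) (d.Q_Dp p h3)

include hZ in
lemma lf_A (h2 : Q S.X₂) : LF Z (fun p => d.A S p) :=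
  (d.lf_Dp h2).of_mono hZ (fun p => kernel.ι (d.mp p S.g)) (fun _ => inferInstance)

include h in
lemma Q_T (h1 : Q S.X₁) (h2 : Q S.X₂) (h3 : Q S.X₃) (p : ℕ) : Q (d.T S p) :=
  h.Q_coker _ (d.Q_Dp p h1) (d.Q_A h h2 h3 p)

include hZ in
lemma lf_T (h2 : Q S.X₂) : LF Z (fun p => d.T S p) :=
  (d.lf_A hZ h2).of_epi hZ (fun p => cokernel.π (d.c S p)) (fun _ => inferInstance)

include hZ in
lemma lf_cokerα (h2 : Q S.X₂) : LF Z (fun p => cokernel (d.α S p)) :=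
  (d.lf_A hZ h2).of_epi hZ (fun p => cokernel.π (d.α S p)) (fun _ => inferInstance)

include h in
lemma P_cokerα (hS : S.ShortExact) (h2 : Q S.X₂) (h3 : Q S.X₃) (p : ℕ) :
    P (cokernel (d.α S p)) := by
  haveI : Mono (d.φA S p).τ₁ := inferInstanceAs (Mono (d.α S p))
  haveI : Mono (d.φA S p).τ₂ := inferInstanceAs (Mono (d.δp p S.X₂))
  haveI : Mono (d.φA S p).τ₃ := inferInstanceAs (Mono (d.δp p S.X₃))
  have hE := cokerSC_shortExact (d.φA S p) (d.rowA_shortExact hS h2 h3 (p + 1))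
    (d.rowA_shortExact hS h2 h3 p)
  exact h.P_sub _ hE (d.P_gr' p h2)
    (h.Q_coker (d.α S p) (d.Q_A h h2 h3 (p + 1)) (d.Q_A h h2 h3 p))

include hAB4 hZ hPσ in
/-- first step: `[Gr M] = [∐ A_p / A_{p+1}] + [Gr M'']` -/
theorem cls_Gr_step1 (hS : S.ShortExact) (h2 : Q S.X₂) (h3 : Q S.X₃)
    (hα : P (∐ fun p => cokernel (d.α S p))) :
    cls P (d.Gr S.X₂) (d.P_Gr hZ hPσ h2) =
      cls P (∐ fun p => cokernel (d.α S p)) hα + cls P (d.Gr S.X₃) (d.P_Gr hZ hPσ h3) := by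
  have hE : ∀ p, (cokerSC (d.φA S p)).ShortExact := fun p => by
    haveI : Mono (d.φA S p).τ₁ := inferInstanceAs (Mono (d.α S p))
    haveI : Mono (d.φA S p).τ₂ := inferInstanceAs (Mono (d.δp p S.X₂))
    haveI : Mono (d.φA S p).τ₃ := inferInstanceAs (Mono (d.δp p S.X₃))
    exact cokerSC_shortExact (d.φA S p) (d.rowA_shortExact hS h2 h3 (p + 1))
      (d.rowA_shortExact hS h2 h3 p)
  exact cls_sigmaSC P hAB4 (fun p => cokerSC (d.φA S p)) hE hα (d.P_Gr hZ hPσ h2)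
    (d.P_Gr hZ hPσ h3)

include h hAB4 hZ hPσ hQσ in
/-- second step: `[∐ A_p / A_{p+1}] = [Gr M']` -/
theorem cls_Gr_step2 (hS : S.ShortExact) (h1 : Q S.X₁) (h2 : Q S.X₂) (h3 : Q S.X₃)
    (hα : P (∐ fun p => cokernel (d.α S p))) :
    cls P (∐ fun p => cokernel (d.α S p)) hα = cls P (d.Gr S.X₁) (d.P_Gr hZ hPσ h1) := by
  haveI := hS.mono_f
  have hR₁ := sigmaSC_shortExact hAB4 (fun p => d.rowT S (p + 1))
    (fun p => d.rowT_shortExact hS (p + 1))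
  have hR₂ := sigmaSC_shortExact hAB4 (fun p => d.rowT S p) (fun p => d.rowT_shortExact hS p)
  let Bφ : sigmaSC (fun p => d.rowT S (p + 1)) ⟶ sigmaSC (fun p => d.rowT S p) :=
    { τ₁ := Limits.Sigma.map (fun p => d.δp p S.X₁)
      τ₂ := Limits.Sigma.map (fun p => d.α S p)
      τ₃ := Limits.Sigma.map (fun p => d.τ S p)
      comm₁₂ := by
        change Limits.Sigma.map (fun p => d.δp p S.X₁) ≫ Limits.Sigma.map (fun p => d.c S p) =
          Limits.Sigma.map (fun p => d.c S (p + 1)) ≫ Limits.Sigma.map (fun p => d.α S p)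
        rw [Limits.Sigma.map_comp_map, Limits.Sigma.map_comp_map]
        congr 1
        funext p
        exact (d.c_α S p).symm
      comm₂₃ := by
        change Limits.Sigma.map (fun p => d.α S p) ≫
            Limits.Sigma.map (fun p => cokernel.π (d.c S p)) =
          Limits.Sigma.map (fun p => cokernel.π (d.c S (p + 1))) ≫
            Limits.Sigma.map (fun p => d.τ S p)
        rw [Limits.Sigma.map_comp_map, Limits.Sigma.map_comp_map]
        congr 1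
        funext p
        exact (cokernel.π_desc _ _ _).symm }
  haveI : Mono Bφ.τ₁ := by
    change Mono (Limits.Sigma.map (fun p => d.δp p S.X₁))
    exact hAB4 _ (fun p => inferInstance)
  haveI : Mono Bφ.τ₂ := by
    change Mono (Limits.Sigma.map (fun p => d.α S p))
    exact hAB4 _ (fun p => inferInstance)
  let θ' : (∐ fun p => d.T S (p + 1)) ⟶ ∐ fun p => d.T S p :=
    Limits.Sigma.map (fun p => d.τ S p)
  have hQT : Q (∐ fun p => d.T S p) := hQσ _ (d.lf_T hZ h2) (d.Q_T h h1 h2 h3)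
  have hQT1 : Q (∐ fun p => d.T S (p + 1)) :=
    hQσ _ ((d.lf_T hZ h2).shift 1) (fun p => d.Q_T h h1 h2 h3 (p + 1))
  have hQK : Q (kernel θ') := h.Q_ker θ' hQT1 hQT
  have hQC : Q (cokernel θ') := h.Q_coker θ' hQT1 hQT
  let e₁ : cokernel (Limits.Sigma.map (fun p => d.δp p S.X₁)) ≅ d.Gr S.X₁ :=
    cokerSigmaIso hAB4 (fun p => d.δp p S.X₁) (fun _ => inferInstance)
  let e₂ : cokernel (Limits.Sigma.map (fun p => d.α S p)) ≅ ∐ fun p => cokernel (d.α S p) :=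
    cokerSigmaIso hAB4 (fun p => d.α S p) (fun _ => inferInstance)
  have hC₁ : P (cokernel Bφ.τ₁) := h.P_iso e₁.symm (d.P_Gr hZ hPσ h1)
  have hC₂ : P (cokernel Bφ.τ₂) := h.P_iso e₂.symm hα
  obtain ⟨hK, hC₃, key⟩ := snakeK0' h Bφ hR₁ hR₂ hQK hQC hC₁ hC₂
  -- the endomorphism
  let θ : (∐ fun p => d.T S p) ⟶ ∐ fun p => d.T S p := tailπ (fun p => d.T S p) ≫ θ'
  haveI : IsIso (tailπ (fun p => d.T S p)) := isIso_tailπ _ (d.isZero_T_zero hS)
  let eK : kernel θ ≅ kernel θ' := kernelIsIsoComp (tailπ (fun p => d.T S p)) θ'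
  let eC : cokernel θ ≅ cokernel θ' := cokernelEpiComp (tailπ (fun p => d.T S p)) θ'
  have hPK : P (kernel θ) := h.P_iso eK.symm hK
  have hPC : P (cokernel θ) := h.P_iso eC.symm hC₃
  have hθ0 : Limits.Sigma.ι (fun p => d.T S p) 0 ≫ θ = 0 := by
    change Limits.Sigma.ι (fun p => d.T S p) 0 ≫ tailπ (fun p => d.T S p) ≫ θ' = 0
    rw [ι_zero_tailπ_assoc, zero_comp]
  have hθ : ∀ p, Limits.Sigma.ι (fun p => d.T S p) (p + 1) ≫ θ =
      d.τ S p ≫ Limits.Sigma.ι (fun p => d.T S p) p := by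
    intro p
    change Limits.Sigma.ι (fun p => d.T S p) (p + 1) ≫ tailπ (fun p => d.T S p) ≫
      Limits.Sigma.map (fun p => d.τ S p) = _
    rw [ι_succ_tailπ_assoc, Limits.Sigma.ι_map]
  have hendo := endo_lemma h hAB4 hZ hPσ (d.lf_T hZ h2) (fun p => d.τ S p) hθ0 hθ hQT hPK hPC
  rw [cls_iso P h.P_zero eK hPK hK, cls_iso P h.P_zero eC hPC hC₃] at hendo
  change cls P (cokernel Bφ.τ₁) hC₁ + cls P (cokernel θ') hC₃ =
    cls P (kernel θ') hK + cls P (cokernel Bφ.τ₂) hC₂ at key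
  rw [hendo, add_comm] at key
  have key2 := add_left_cancel key
  have f1 : cls P (cokernel Bφ.τ₁) hC₁ = cls P (d.Gr S.X₁) (d.P_Gr hZ hPσ h1) :=
    cls_iso P h.P_zero e₁ hC₁ _
  have f2 : cls P (cokernel Bφ.τ₂) hC₂ = cls P (∐ fun p => cokernel (d.α S p)) hα :=
    cls_iso P h.P_zero e₂ hC₂ hα
  exact (f2.symm.trans key2.symm).trans f1

include h hAB4 hZ hPσ hQσ in
/-- the class of the associated graded object is additive on short exact sequences of `Q`-objects -/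
theorem cls_Gr_additive (hS : S.ShortExact) (h1 : Q S.X₁) (h2 : Q S.X₂) (h3 : Q S.X₃) :
    cls P (d.Gr S.X₂) (d.P_Gr hZ hPσ h2) =
      cls P (d.Gr S.X₁) (d.P_Gr hZ hPσ h1) + cls P (d.Gr S.X₃) (d.P_Gr hZ hPσ h3) := by
  have hα : P (∐ fun p => cokernel (d.α S p)) :=
    hPσ _ (d.lf_cokerα hZ h2) (d.P_cokerα h hS h2 h3)
  rw [d.cls_Gr_step1 hAB4 hZ hPσ hS h2 h3 hα, d.cls_Gr_step2 h hAB4 hZ hPσ hQσ hS h1 h2 h3 hα]

end WithAxioms

end DStr

/-- **locally finite dévissage**: `K₀(P) → K₀(Q)` is bijective in the presence of a `DStr` -/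
theorem bijective_mapSub_of_dstr (h : K0Dev.Hyp P Q) (hAB4 : AB4N C) (hZ : ZAx Z)
    (hPσ : ∀ M : ℕ → C, LF Z M → (∀ n, P (M n)) → P (∐ M))
    (hQσ : ∀ M : ℕ → C, LF Z M → (∀ n, Q (M n)) → Q (∐ M))
    (d : DStr P Q Z) : Function.Bijective (SGA6.mapSub (𝟭 C) P Q h.le) := by
  let ψ : KZero.K0sub Q →+ KZero.K0sub P :=
    K0lift Q (fun M hM => cls P (d.Gr M) (d.P_Gr hZ hPσ hM)) (fun S hS h1 h2 h3 =>
      d.cls_Gr_additive h hAB4 hZ hPσ hQσ hS h1 h2 h3)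
  have hψ : ψ.comp (SGA6.mapSub (𝟭 C) P Q h.le) = AddMonoidHom.id _ := by
    apply K0sub_hom_ext
    intro X hX
    rw [AddMonoidHom.comp_apply, mapSub_cls, K0lift_cls, AddMonoidHom.id_apply]
    exact d.cls_Gr_of_P h hZ hPσ hX
  refine ⟨fun a b hab => ?_, fun y => ?_⟩
  · have := congrArg ψ hab
    rwa [← AddMonoidHom.comp_apply, ← AddMonoidHom.comp_apply, hψ] at this
  · have hy : y ∈ (⊤ : AddSubgroup (KZero.K0sub Q)) := AddSubgroup.mem_top y
    rw [← closure_cls Q] at hy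
    induction hy using AddSubgroup.closure_induction with
    | mem y hy =>
      obtain ⟨X, hX, rfl⟩ := hy
      refine ⟨cls P (d.Gr X) (d.P_Gr hZ hPσ hX), ?_⟩
      rw [mapSub_cls]
      exact (d.cls_Q_Gr h hAB4 hQσ hX _).symm
    | zero => exact ⟨0, map_zero _⟩
    | add a b _ _ ha hb =>
      obtain ⟨a', rfl⟩ := ha
      obtain ⟨b', rfl⟩ := hb
      exact ⟨a' + b', map_add _ _ _⟩
    | neg a _ ha =>
      obtain ⟨a', rfl⟩ := ha
      exact ⟨-a', map_neg _ _⟩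

end Groth.Agent.Lib.helper8.K0Inf
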