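import Mathlib
import Groth.Agent.Lib.Helper8.K0InfE
import Groth.Agent.Lib.Helper21.ModGroth
import Groth.Agent.Lib.Helper8.GEQuot

/-!
# Locally finite dévissage on schemes, part A (helper8)

* `ab4n X`: `ℕ`-indexed coproducts of `O_X`-modules preserve monomorphisms (from AB5, helper21 `ModGroth`).
* `ZV V M`: the restriction of `M` to the open `V` is zero; `zAx`: the axioms `ZAx` for it.
* `subsingleton_sections_of_ZV`, `subsingleton_stalk_of_ZV`, `zV_of_stalks`.
-/

set_option autoImplicit false
universe u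
open CategoryTheory CategoryTheory.Limits AlgebraicGeometry Opposite TopologicalSpace

namespace Groth.Agent.Lib.helper8.K0InfSch

open Groth.Agent.Lib.helper8.K0Inf Scheme.Modules

variable {X : Scheme.{u}}

/-! ### AB4 -/

theorem hasExactColimitsOfShape_nat (X : Scheme.{u}) :
    HasExactColimitsOfShape (Discrete ℕ) X.Modules := by
  haveI : AB5OfSize.{u, u} X.Modules := Groth.Agent.Lib.Helper21.ModGroth.ab5_mod X.ringCatSheaf
  haveI : HasFilteredColimitsOfSize.{0, 0} X.Modules := hasFilteredColimitsOfSize_of_univLE.{0}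
  haveI : AB5OfSize.{0, 0} X.Modules := AB5OfSize_of_univLE.{0, 0, u, u} X.Modules
  haveI : HasFiniteBiproducts X.Modules := Abelian.hasFiniteBiproducts
  haveI : AB4OfSize.{0} X.Modules := AB4.of_AB5 X.Modules
  infer_instance

theorem ab4n (X : Scheme.{u}) : AB4N X.Modules := by
  intro M N f hf
  haveI := hasExactColimitsOfShape_nat X
  haveI : Mono (Discrete.natTrans (F := Discrete.functor M) (G := Discrete.functor N)
      (fun n => f n.as)) := by
    haveI : ∀ n : Discrete ℕ, Mono ((Discrete.natTrans (F := Discrete.functor M)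
        (G := Discrete.functor N) (fun n => f n.as)).app n) := fun n => hf n.as
    exact NatTrans.mono_of_mono_app _
  exact inferInstanceAs (Mono (colim.map (Discrete.natTrans (F := Discrete.functor M)
    (G := Discrete.functor N) (fun n => f n.as))))

/-! ### restriction to opens -/

/-- restriction commutes with the forgetful functors (helper2 `ZClosLib5`) -/
noncomputable def restrictFunctorToPresheafIso {Y : Scheme.{u}} (f : X ⟶ Y) [IsOpenImmersion f] :
    Scheme.Modules.restrictFunctor f ⋙ Scheme.Modules.toPresheaf X ≅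
      Scheme.Modules.toPresheaf Y ⋙ (Functor.whiskeringLeft _ _ _).obj f.opensFunctor.op :=
  Iso.refl _

/-- restriction to an open preserves limits (helper2 `ZClosLib5`) -/
theorem preservesLimits_restrictFunctor {Y : Scheme.{u}} (f : X ⟶ Y) [IsOpenImmersion f] :
    PreservesLimitsOfSize.{u, u} (Scheme.Modules.restrictFunctor f) := by
  haveI : ReflectsLimitsOfSize.{u, u} (Scheme.Modules.toPresheaf X) :=
    reflectsLimits_of_reflectsIsomorphisms
  haveI h1 : PreservesLimitsOfSize.{u, u} (Scheme.Modules.toPresheaf Y) := inferInstance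
  haveI h2 : PreservesLimitsOfSize.{u, u}
      ((Functor.whiskeringLeft (Opens ↥X)ᵒᵖ (Opens ↥Y)ᵒᵖ Ab.{u}).obj f.opensFunctor.op) :=
    whiskeringLeft_preservesLimits _
  haveI h3 : PreservesLimitsOfSize.{u, u} (Scheme.Modules.toPresheaf Y ⋙
      (Functor.whiskeringLeft (Opens ↥X)ᵒᵖ (Opens ↥Y)ᵒᵖ Ab.{u}).obj f.opensFunctor.op) :=
    @comp_preservesLimits _ _ _ _ _ _ _ _ h1 h2
  haveI : PreservesLimitsOfSize.{u, u}
      (Scheme.Modules.restrictFunctor f ⋙ Scheme.Modules.toPresheaf X) :=
    preservesLimits_of_natIso (restrictFunctorToPresheafIso f).symm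
  exact preservesLimits_of_reflects_of_preserves _ (Scheme.Modules.toPresheaf X)

/-- the restriction of `M` to the open `V` is zero -/
def ZV (V : X.Opens) (M : X.Modules) : Prop :=
  IsZero ((Scheme.Modules.restrictFunctor V.ι).obj M)

theorem zV_of_mono {M N : X.Modules} (f : M ⟶ N) [Mono f] (V : X.Opens) (h : ZV V N) :
    ZV V M := by
  haveI := preservesLimits_restrictFunctor V.ι
  haveI : PreservesFiniteLimits (Scheme.Modules.restrictFunctor V.ι) :=
    PreservesLimitsOfSize.preservesFiniteLimits _
  haveI : Mono ((Scheme.Modules.restrictFunctor V.ι).map f) := inferInstance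
  exact IsZero.of_mono ((Scheme.Modules.restrictFunctor V.ι).map f) h

theorem zV_of_epi {M N : X.Modules} (f : M ⟶ N) [Epi f] (V : X.Opens) (h : ZV V M) :
    ZV V N := by
  haveI : Epi ((Scheme.Modules.restrictFunctor V.ι).map f) := inferInstance
  exact IsZero.of_epi ((Scheme.Modules.restrictFunctor V.ι).map f) h

theorem zV_sigma (M : ℕ → X.Modules) (V : X.Opens) (h : ∀ n, ZV V (M n)) : ZV V (∐ M) := by
  have e : (Scheme.Modules.restrictFunctor V.ι).obj (∐ M) ≅
      ∐ fun n => (Scheme.Modules.restrictFunctor V.ι).obj (M n) :=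
    PreservesCoproduct.iso (Scheme.Modules.restrictFunctor V.ι) M
  exact IsZero.of_iso (isZero_sigma _ h) e

theorem zAx : ZAx (fun (V : X.affineOpens) (M : X.Modules) => ZV V.1 M) where
  of_mono f _ V h := zV_of_mono f V.1 h
  of_epi f _ V h := zV_of_epi f V.1 h
  sigma M V h := zV_sigma M V.1 h

theorem subsingleton_sections_of_isZero {Y : Scheme.{u}} {N : Y.Modules} (hN : IsZero N)
    (W : Y.Opens) : Subsingleton Γ(N, W) := by
  have h0 : IsZero Γ(N, W) := by
    rw [IsZero.iff_id_eq_zero, ← Hom.id_app, hN.eq_of_src (𝟙 N) 0, Hom.zero_app]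
  exact AddCommGrpCat.subsingleton_of_isZero h0

/-- sections over opens inside `V` vanish if the restriction to `V` is zero -/
theorem subsingleton_sections_of_ZV {V : X.Opens} {M : X.Modules} (h : ZV V M)
    (W : V.toScheme.Opens) : Subsingleton Γ(M, V.ι ''ᵁ W) :=
  subsingleton_sections_of_isZero h W

theorem subsingleton_sections_of_ZV' {V : X.Opens} {M : X.Modules} (h : ZV V M) :
    Subsingleton Γ(M, V) := by
  have h1 := subsingleton_sections_of_ZV h ⊤
  rwa [Scheme.Opens.ι_image_top] at h1

/-- sections over an open on which all stalks vanish are zero (helper16 `FinPushCoh`) -/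
theorem subsingleton_sections_of_stalks (G : X.Modules) (W : X.Opens)
    (hW : ∀ x ∈ W, Subsingleton (ToType (G.presheaf.stalk x))) : Subsingleton Γ(G, W) := by
  refine ⟨fun a b => ?_⟩
  refine TopCat.Presheaf.IsSheaf.section_ext G.isSheaf (U := op W) ?_
  intro x hx
  haveI := hW x hx
  obtain ⟨V, hxV, iU, iV, e⟩ := G.presheaf.germ_eq x hx hx a b
    (Subsingleton.elim (α := ToType (G.presheaf.stalk x)) _ _)
  refine ⟨V, iU.le, hxV, ?_⟩
  rw [Subsingleton.elim iV iU] at e
  exact e

/-- if all stalks at points of `V` vanish, the restriction to `V` is zero -/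
theorem zV_of_stalks (V : X.Opens) (M : X.Modules)
    (h : ∀ x ∈ V, Subsingleton (ToType (M.presheaf.stalk x))) : ZV V M := by
  refine Groth.Agent.Lib.helper8.PinchMod.isZero_of_subsingleton_sections (fun W _ => ?_)
  change Subsingleton Γ(M, V.ι ''ᵁ W)
  exact subsingleton_sections_of_stalks M _ (fun x hx => h x (V.ι_image_le W hx))

/-- if the restriction to `V` is zero, the stalks at points of `V` vanish -/
theorem subsingleton_stalk_of_ZV {V : X.Opens} {M : X.Modules} (h : ZV V M) (x : X) (hx : x ∈ V) :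
    Subsingleton (ToType (M.presheaf.stalk x)) := by
  refine ⟨fun a b => ?_⟩
  have key : ∀ c : ToType (M.presheaf.stalk x), c = 0 := by
    intro c
    obtain ⟨W, hxW, s, rfl⟩ := TopCat.Presheaf.exists_germ_eq M.presheaf c
    have hle : V.ι ''ᵁ (V.ι ⁻¹ᵁ W) ≤ W := by
      rw [Scheme.Hom.image_preimage_eq_opensRange_inf]
      exact inf_le_right
    have hxW' : x ∈ V.ι ''ᵁ (V.ι ⁻¹ᵁ W) := by
      rw [Scheme.Hom.image_preimage_eq_opensRange_inf, Scheme.Opens.opensRange_ι]
      exact ⟨hx, hxW⟩
    haveI := subsingleton_sections_of_ZV h (V.ι ⁻¹ᵁ W)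
    have h1 : M.presheaf.germ W x hxW s =
        M.presheaf.germ _ x hxW' ((M.presheaf.map (homOfLE hle).op).hom s) :=
      (TopCat.Presheaf.germ_res_apply M.presheaf (homOfLE hle) x hxW' s).symm
    rw [h1, Subsingleton.elim ((M.presheaf.map (homOfLE hle).op).hom s) 0, map_zero]
  rw [key a, key b]

end Groth.Agent.Lib.helper8.K0InfSch
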