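import Mathlib
import Groth.Agent.Lib.Helper8.K0InfSchA
import Groth.Agent.Lib.Helper8.DevSupp
import Groth.Agent.Lib.Helper7.CohKer

/-!
# Locally finite dévissage on schemes, part B (helper8)

`i : Z ⟶ X` a closed immersion, `X` locally Noetherian, `I = i.ker`.

* `PX i`, `QX i`: coherent modules killed by `I`, resp. coherent modules supported in the image of `i`.
* `hyp i : K0Dev.Hyp (PX i) (QX i)`.
* `KilledOn V J M`: `M` is killed by `J` over all affine opens inside `V`; `exists_killedOn`.
* `Dfun I`, `Dδ I`: the functor `M ↦ I M = ker (M → M / I M)` and its inclusion into the identity.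
-/

set_option autoImplicit false
universe u
open CategoryTheory CategoryTheory.Limits AlgebraicGeometry Opposite TopologicalSpace

namespace Groth.Agent.Lib.helper8.K0InfSch

open Groth.Agent.Lib.helper8.K0Inf Groth.Agent.Lib.helper8.GEQuot Groth.Agent.Lib.helper8.Rees
open Groth.Agent.Lib.helper8.Dev Groth.Agent.Lib.helper7.CohKer Scheme.Modules

variable {X Z : Scheme.{u}}

/-- coherent and killed by the ideal of `i` -/
abbrev PX (i : Z ⟶ X) : ObjectProperty X.Modules :=
  fun M => Coh.IsCoh M ∧ ClSub.KilledByIdeal i.ker M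

/-- coherent with support in the image of `i` -/
abbrev QX (i : Z ⟶ X) : ObjectProperty X.Modules :=
  fun G => Coh.IsCoh G ∧ ∀ x : X, Nontrivial (G.presheaf.stalk x) → x ∈ Set.range ⇑i

theorem QX_iff (i : Z ⟶ X) (G : X.Modules) :
    QX i G ↔ Coh.IsCoh G ∧ CohB1.support G ⊆ Set.range i := by
  refine and_congr Iff.rfl ⟨fun h x hx => h x (not_subsingleton_iff_nontrivial.mp hx),
    fun h x hx => h (not_subsingleton_iff_nontrivial.mpr hx)⟩

theorem killedByIdeal_of_mono' (J : X.IdealSheafData) {A B : X.Modules} (f : A ⟶ B) [Mono f]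
    (hB : ClSub.KilledByIdeal J B) : ClSub.KilledByIdeal J A := by
  intro U a ha m
  apply appLin_injective_of_mono f U.1
  refine ((Hom.app_smul f a m).trans ?_).trans (map_zero (appLin f U.1)).symm
  exact hB U a ha _

theorem killedByIdeal_of_isZero (J : X.IdealSheafData) {N : X.Modules} (hN : IsZero N) :
    ClSub.KilledByIdeal J N := by
  intro U a ha m
  haveI := subsingleton_sections_of_isZero hN U.1
  exact Subsingleton.elim (α := Γ(N, U.1)) _ _

theorem hyp [IsLocallyNoetherian X] (i : Z ⟶ X) [IsClosedImmersion i] :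
    K0Dev.Hyp (PX i) (QX i) where
  le := fun M h => (QX_iff i M).mpr ⟨h.1, support_subset_range_of_killed i M h.1 1 (by
    rw [pow_one]; exact h.2)⟩
  P_zero := fun N hN => ⟨isCoh_of_isZero hN, killedByIdeal_of_isZero _ hN⟩
  P_iso := fun e h => ⟨isCoh_of_iso e h.1, by
    haveI : Mono e.inv := inferInstance
    exact killedByIdeal_of_mono' _ e.inv h.2⟩
  Q_iso := fun {M N} e h => by
    rw [QX_iff] at h ⊢
    have hN := isCoh_of_iso e h.1
    haveI : Mono e.inv := inferInstance
    exact ⟨hN, (support_subset_of_mono e.inv hN h.1).trans h.2⟩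
  Q_ker := fun {M N} f hM hN => by
    rw [QX_iff] at hM hN ⊢
    have hK := isCoh_kernel hM.1 hN.1 f
    exact ⟨hK, (support_subset_of_mono (kernel.ι f) hK hM.1).trans hM.2⟩
  Q_coker := fun {M N} f hM hN => by
    rw [QX_iff] at hM hN ⊢
    have hK := isCoh_cokernel hM.1 hN.1 f
    exact ⟨hK, (support_subset_of_epi (cokernel.π f) hN.1 hK).trans hN.2⟩
  P_sub := fun S hS h2 h1 => ⟨h1.1, by
    haveI := hS.mono_f
    exact killedByIdeal_of_mono' _ S.f h2.2⟩
  P_quot := fun S hS h2 h3 => ⟨h3.1, by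
    haveI := hS.epi_g
    haveI : S.X₂.IsQuasicoherent := h2.1.1
    haveI : S.X₃.IsQuasicoherent := h3.1.1
    exact killedByIdeal_of_epi _ S.g h2.2⟩

/-! ### local annihilation -/

/-- `M` is killed by `J` over all affine opens inside `V` -/
def KilledOn (V : X.Opens) (J : X.IdealSheafData) (M : X.Modules) : Prop :=
  ∀ U : X.affineOpens, U.1 ≤ V → ∀ a : Γ(X, U.1), a ∈ J.ideal U → ∀ m : Γ(M, U.1), a • m = 0

theorem killedOn_of_mono {V : X.Opens} {J : X.IdealSheafData} {A B : X.Modules} (f : A ⟶ B)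
    [Mono f] (hB : KilledOn V J B) : KilledOn V J A := by
  intro U hU a ha m
  apply appLin_injective_of_mono f U.1
  refine ((Hom.app_smul f a m).trans ?_).trans (map_zero (appLin f U.1)).symm
  exact hB U hU a ha _

theorem zV_of_killedOn_zero {V : X.Opens} {J : X.IdealSheafData} {N : X.Modules}
    (h : KilledOn V (J ^ 0) N) : ZV V N := by
  refine Groth.Agent.Lib.helper8.PinchMod.isZero_of_subsingleton_sections (fun W hW => ?_)
  change Subsingleton Γ(N, V.ι ''ᵁ W)
  refine ⟨fun a b => ?_⟩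
  let U : X.affineOpens := ⟨V.ι ''ᵁ W, hW.image_of_isOpenImmersion V.ι⟩
  have h1 : (1 : Γ(X, U.1)) ∈ (J ^ 0).ideal U := by
    rw [pow_zero]
    trivial
  have key : ∀ c : Γ(N, U.1), c = 0 := fun c => by
    have := h U (V.ι_image_le W) 1 h1 c
    rwa [one_smul] at this
  exact (key a).trans (key b).symm

variable (I : X.IdealSheafData)

theorem killedOn_kernel_quotπ {V : X.Opens} {n : ℕ} (M : X.Modules) [M.IsQuasicoherent]
    (hk : KilledOn V (I ^ (n + 1)) M) : KilledOn V (I ^ n) (kernel (quotπ I M)) := by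
  intro U hUV a ha m
  let π := quotπ I M
  apply appLin_injective_of_mono (kernel.ι π) U.1
  refine ((Hom.app_smul (kernel.ι π) a m).trans ?_).trans
    (map_zero (appLin (kernel.ι π) U.1)).symm
  change a • appLin (kernel.ι π) U.1 m = 0
  have hmem : appLin (kernel.ι π) U.1 m ∈ LinearMap.ker (appLin π U.1) := by
    rw [← range_appLin_kernel_ι]
    exact ⟨m, rfl⟩
  rw [ker_quotη I M U.2] at hmem
  rw [Scheme.IdealSheafData.ideal_pow] at ha
  refine Submodule.smul_induction_on hmem (fun b hb t _ => ?_) (fun x y hx hy => ?_)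
  · rw [← mul_smul]
    refine hk U hUV (a * b) ?_ t
    rw [Scheme.IdealSheafData.ideal_pow, pow_succ]
    exact Ideal.mul_mem_mul ha hb
  · rw [smul_add, hx, hy, add_zero]

theorem exists_killedOn [IsLocallyNoetherian X] (i : Z ⟶ X) [IsClosedImmersion i]
    (G : X.Modules) (hG : QX i G) (V : X.affineOpens) :
    ∃ n : ℕ, KilledOn V.1 (i.ker ^ n) G := by
  rw [QX_iff] at hG
  obtain ⟨hG, hsupp⟩ := hG
  rw [support_eq_annI_support G hG] at hsupp
  have h1 : (annI G hG).support ≤ i.ker.support := by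
    intro x hx
    have := hsupp hx
    show x ∈ (i.ker.support : Set X)
    rw [Scheme.Hom.support_ker, i.isClosedEmbedding.isClosed_range.closure_eq]
    exact this
  have h2 : i.ker.radical ≤ (annI G hG).radical := by
    rw [← Scheme.IdealSheafData.vanishingIdeal_support, ← Scheme.IdealSheafData.vanishingIdeal_support]
    exact Scheme.IdealSheafData.vanishingIdeal_antimono h1
  haveI : IsNoetherianRing Γ(X, V.1) := IsLocallyNoetherian.component_noetherian V
  obtain ⟨n, hn⟩ := Ideal.exists_radical_pow_le_of_fg ((annI G hG).ideal V)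
    (IsNoetherian.noetherian _)
  have hV : (i.ker.ideal V) ^ n ≤ (annI G hG).ideal V := by
    refine le_trans (Ideal.pow_right_mono ?_ n) hn
    have h3 := (Scheme.IdealSheafData.le_radical i.ker V).trans (h2 V)
    rwa [Scheme.IdealSheafData.radical_ideal] at h3
  refine ⟨n, fun U hUV a ha m => ?_⟩
  have hUV' : U ≤ V := hUV
  have hU : (i.ker.ideal U) ^ n ≤ (annI G hG).ideal U := by
    rw [← i.ker.map_ideal hUV', ← (annI G hG).map_ideal hUV', ← Ideal.map_pow]
    exact Ideal.map_mono hV
  rw [Scheme.IdealSheafData.ideal_pow] at ha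
  exact (mem_annI_iff G hG U a).mp (hU ha) m

/-! ### the functor `M ↦ I M` -/

/-- `M ↦ I M = ker (M → M / I M)` -/
noncomputable def Dfun : X.Modules ⥤ X.Modules where
  obj M := kernel (quotπ I M)
  map {M N} f := kernel.map (quotπ I M) (quotπ I N) f ((quotF I).map f) (quotπ_naturality I f).symm
  map_id M := by
    apply (cancel_mono (kernel.ι (quotπ I M))).1
    simp
  map_comp f g := by
    apply (cancel_mono (kernel.ι _)).1
    simp

/-- the inclusion `I M ⟶ M` -/
noncomputable def Dδ : Dfun I ⟶ 𝟭 X.Modules where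
  app M := kernel.ι (quotπ I M)
  naturality _ _ _ := kernel.lift_ι _ _ _

instance (M : X.Modules) : Mono ((Dδ I).app M) := inferInstanceAs (Mono (kernel.ι (quotπ I M)))

/-- sections of `I M` over an affine open -/
theorem range_Dδ (M : X.Modules) [M.IsQuasicoherent] {U : X.Opens} (hU : IsAffineOpen U) :
    LinearMap.range (appLin ((Dδ I).app M) U) =
      I.ideal ⟨U, hU⟩ • (⊤ : Submodule Γ(X, U) Γ(M, U)) := by
  change LinearMap.range (appLin (kernel.ι (quotπ I M)) U) = _
  rw [range_appLin_kernel_ι, ker_quotη I M hU]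

theorem epi_Dfun_map {M N : X.Modules} [M.IsQuasicoherent] [N.IsQuasicoherent] (f : M ⟶ N)
    [Epi f] : Epi ((Dfun I).map f) := by
  refine Groth.Agent.Lib.helper16.QCohEpi.epi_of_surjective_on_basis _ {U | IsAffineOpen U}
    X.isBasis_affineOpens (fun U hU y => ?_)
  have hy : appLin ((Dδ I).app N) U y ∈ I.ideal ⟨U, hU⟩ • (⊤ : Submodule Γ(X, U) Γ(N, U)) := by
    rw [← range_Dδ I N hU]
    exact ⟨y, rfl⟩
  have hsurj : Function.Surjective (appLin f U) := appLin_surjective_of_epi f hU
  have hmap : Submodule.map (appLin f U) (I.ideal ⟨U, hU⟩ • (⊤ : Submodule Γ(X, U) Γ(M, U))) =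
      I.ideal ⟨U, hU⟩ • (⊤ : Submodule Γ(X, U) Γ(N, U)) := by
    rw [Submodule.map_smul'', Submodule.map_top, LinearMap.range_eq_top.mpr hsurj]
  rw [← hmap] at hy
  obtain ⟨x, hx, hxy⟩ := hy
  rw [← range_Dδ I M hU] at hx
  obtain ⟨x', rfl⟩ := hx
  refine ⟨x', ?_⟩
  apply appLin_injective_of_mono ((Dδ I).app N) U
  rw [← hxy]
  have nat := (Dδ I).naturality f
  change appLin ((Dfun I).map f ≫ (Dδ I).app N) U x' = appLin ((Dδ I).app M ≫ f) U x'
  rw [nat]
  rfl

end Groth.Agent.Lib.helper8.K0InfSch
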