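import Mathlib
import Groth.Agent.Lib.Helper8.K0InfSchB
import Groth.Agent.Lib.Helper25.QCohCoprod

/-!
# Locally finite dévissage on schemes, part C (helper8)

* `sections_sigma`: sections over an affine open of a locally finite coproduct of coherent modules.
* `PX_sigma`, `QX_sigma`: closure of `PX i`, `QX i` under locally finite coproducts.
* `dstr i`: the `DStr` given by `M ↦ I M`.
* `bijective_dev`: `K₀(PX i) → K₀(QX i)` is bijective.
-/

set_option autoImplicit false
universe u
open CategoryTheory CategoryTheory.Limits AlgebraicGeometry Opposite TopologicalSpace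

namespace Groth.Agent.Lib.helper8.K0InfSch

open Groth.Agent.Lib.helper8.K0Inf Groth.Agent.Lib.helper8.GEQuot Groth.Agent.Lib.helper8.Rees
open Groth.Agent.Lib.helper8.Dev Groth.Agent.Lib.helper7.CohKer Scheme.Modules

variable {X Z : Scheme.{u}}

/-- `ℕ`-indexed coproducts of quasi-coherent modules are quasi-coherent -/
theorem isQuasicoherent_sigma_nat (M : ℕ → X.Modules) (h : ∀ n, (M n).IsQuasicoherent) :
    (∐ M).IsQuasicoherent := by
  have h1 : (∐ fun k : ULift.{u} ℕ => M k.down).IsQuasicoherent :=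
    Groth.Agent.Lib.helper25.QCohCoprod.isQuasicoherent_coproduct X _ (fun k => h k.down)
  let e : (∐ fun k : ULift.{u} ℕ => M k.down) ≅ ∐ M :=
    Limits.Sigma.whiskerEquiv Equiv.ulift (fun _ => Iso.refl _)
  exact (SheafOfModules.isQuasicoherent X.ringCatSheaf).prop_of_iso e h1

theorem sections_sigma [IsLocallyNoetherian X] (V : X.affineOpens) (J : Ideal Γ(X, V.1)) :
    ∀ (n₀ : ℕ) (M : ℕ → X.Modules), (∀ n, Coh.IsCoh (M n)) → (∀ n, n₀ ≤ n → ZV V.1 (M n)) →
      (∀ n, ∀ a ∈ J, ∀ m : Γ(M n, V.1), a • m = 0) →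
      IsNoetherian Γ(X, V.1) Γ(∐ M, V.1) ∧ ∀ a ∈ J, ∀ m : Γ(∐ M, V.1), a • m = 0 := by
  intro n₀
  induction n₀ with
  | zero =>
    intro M _ hz _
    have hZ : ZV V.1 (∐ M) := zV_sigma M V.1 (fun n => hz n (Nat.zero_le n))
    haveI : Subsingleton Γ(∐ M, V.1) := subsingleton_sections_of_ZV' hZ
    refine ⟨⟨fun s => ?_⟩, fun a _ m => Subsingleton.elim _ _⟩
    rw [Subsingleton.elim s ⊥]
    exact Submodule.fg_bot
  | succ n₀ ih =>
    intro M hM hz hJ
    obtain ⟨hN, hK⟩ := ih (fun k => M (k + 1)) (fun k => hM (k + 1))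
      (fun k hk => hz (k + 1) (Nat.succ_le_succ hk)) (fun k => hJ (k + 1))
    haveI : IsNoetherianRing Γ(X, V.1) := IsLocallyNoetherian.component_noetherian V
    haveI : Module.Finite Γ(X, V.1) Γ(M 0, V.1) :=
      Groth.Agent.Lib.helper16.CohFinite.finite_sections_of_isCoh (M 0) (hM 0) V.2
    haveI : IsNoetherian Γ(X, V.1) Γ(M 0, V.1) := isNoetherian_of_isNoetherianRing_of_finite _ _
    let f := appLin (Limits.Sigma.ι M 0) V.1
    let g := appLin (tailπ M) V.1
    let r := appLin (headπ M) V.1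
    let s := appLin (tailι M) V.1
    have hid : ∀ x : Γ(∐ M, V.1), x = f (r x) + s (g x) := by
      intro x
      have h1 : headπ M ≫ Limits.Sigma.ι M 0 + tailπ M ≫ tailι M = 𝟙 (∐ M) :=
        (splitSC_splitting M).id
      have h2 := congrArg (fun φ => appLin φ V.1 x) h1
      exact h2.symm
    have hgf : ∀ y : Γ(M 0, V.1), g (f y) = 0 := by
      intro y
      have h1 : Limits.Sigma.ι M 0 ≫ tailπ M = 0 := ι_zero_tailπ M
      exact congrArg (fun φ => appLin φ V.1 y) h1
    have hrange : LinearMap.range f = LinearMap.ker g := by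
      ext x
      constructor
      · rintro ⟨y, rfl⟩
        exact hgf y
      · intro hx
        have hx' : g x = 0 := hx
        refine ⟨r x, ?_⟩
        have := hid x
        rw [hx', map_zero, add_zero] at this
        exact this.symm
    refine ⟨isNoetherian_of_range_eq_ker f g hrange, fun a ha m => ?_⟩
    have e1 : a • f (r m) = f (a • r m) := (f.map_smul a (r m)).symm
    have e2 : a • s (g m) = s (a • g m) := (s.map_smul a (g m)).symm
    rw [hid m, smul_add, e1, e2, hJ 0 a ha (r m), hK a ha (g m), map_zero, map_zero, add_zero]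

variable [IsLocallyNoetherian X]

/-- a locally finite coproduct of coherent modules is coherent -/
theorem isCoh_sigma (M : ℕ → X.Modules) (hM : ∀ n, Coh.IsCoh (M n))
    (hLF : LF (fun (V : X.affineOpens) (M : X.Modules) => ZV V.1 M) M) : Coh.IsCoh (∐ M) := by
  haveI : (∐ M).IsQuasicoherent := isQuasicoherent_sigma_nat M (fun n => (hM n).1)
  refine Groth.Agent.Lib.helper16.CohFinite.isCoh_of_finite_sections _
    (fun U : X.affineOpens => U.1) (fun U => U.2) (iSup_affineOpens_eq_top X) (fun V => ?_)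
  obtain ⟨n₀, hn₀⟩ := hLF V
  haveI := (sections_sigma V ⊥ n₀ M hM hn₀ (fun n a ha m => by
    rw [(Submodule.mem_bot _).mp ha, zero_smul])).1
  infer_instance

variable (i : Z ⟶ X) [IsClosedImmersion i]

theorem PX_sigma (M : ℕ → X.Modules)
    (hLF : LF (fun (V : X.affineOpens) (M : X.Modules) => ZV V.1 M) M)
    (hM : ∀ n, PX i (M n)) : PX i (∐ M) := by
  refine ⟨isCoh_sigma M (fun n => (hM n).1) hLF, fun V a ha m => ?_⟩
  obtain ⟨n₀, hn₀⟩ := hLF V
  exact (sections_sigma V (i.ker.ideal V) n₀ M (fun n => (hM n).1) hn₀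
    (fun n a ha m => (hM n).2 V a ha m)).2 a ha m

theorem QX_sigma (M : ℕ → X.Modules)
    (hLF : LF (fun (V : X.affineOpens) (M : X.Modules) => ZV V.1 M) M)
    (hM : ∀ n, QX i (M n)) : QX i (∐ M) := by
  refine ⟨isCoh_sigma M (fun n => (hM n).1) hLF, fun x hx => ?_⟩
  by_contra hxr
  let U : X.Opens := ⟨(Set.range i)ᶜ, i.isClosedEmbedding.isClosed_range.isOpen_compl⟩
  have hU : ∀ n, ZV U (M n) := fun n => zV_of_stalks U (M n) (fun y hy => by
    by_contra hns
    exact hy ((hM n).2 y (not_subsingleton_iff_nontrivial.mp hns)))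
  have hZ : ZV U (∐ M) := zV_sigma M U hU
  haveI := subsingleton_stalk_of_ZV hZ x hxr
  exact not_subsingleton_iff_nontrivial.mpr hx inferInstance

/-- the inclusion `Dn^p M ⟶ M` data: iterates stay in `QX` -/
theorem QX_Dfun (M : X.Modules) (hM : QX i M) : QX i ((Dfun i.ker).obj M) :=
  (hyp i).Q_ker (quotπ i.ker M) hM
    ((hyp i).le _ ⟨isCoh_quotF i.ker hM.1, killedByIdeal_quotF i.ker M⟩)

theorem QX_Dn (M : X.Modules) (hM : QX i M) (p : ℕ) : QX i ((Dn (Dfun i.ker) p).obj M) := by
  induction p with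
  | zero => exact hM
  | succ p ih => exact QX_Dfun i _ ih

theorem lf_Dn (M : X.Modules) (hM : QX i M) :
    LF (fun (V : X.affineOpens) (M : X.Modules) => ZV V.1 M)
      (fun p => (Dn (Dfun i.ker) p).obj M) := by
  intro V
  obtain ⟨n, hn⟩ := exists_killedOn i M hM V
  have key : ∀ p, KilledOn V.1 (i.ker ^ (n - p)) ((Dn (Dfun i.ker) p).obj M) := by
    intro p
    induction p with
    | zero => exact hn
    | succ p ih =>
      haveI : ((Dn (Dfun i.ker) p).obj M).IsQuasicoherent := (QX_Dn i M hM p).1.1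
      rcases Nat.eq_zero_or_pos (n - p) with h0 | hpos
      · have h1 : n - (p + 1) = 0 := by omega
        rw [h1]
        rw [h0] at ih
        have hmono : Mono ((Dδ i.ker).app ((Dn (Dfun i.ker) p).obj M)) := inferInstance
        exact @killedOn_of_mono _ _ _ _ _ ((Dδ i.ker).app ((Dn (Dfun i.ker) p).obj M)) hmono ih
      · obtain ⟨k, hk⟩ : ∃ k, n - p = k + 1 := ⟨n - p - 1, by omega⟩
        have h1 : n - (p + 1) = k := by omega
        rw [h1]
        rw [hk] at ih
        exact killedOn_kernel_quotπ i.ker _ ih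
  refine ⟨n, fun p hp => ?_⟩
  have h1 := key p
  rw [Nat.sub_eq_zero_of_le hp] at h1
  exact zV_of_killedOn_zero h1

/-- the dévissage structure given by `M ↦ I M` -/
noncomputable def dstr :
    DStr (PX i) (QX i) (fun (V : X.affineOpens) (M : X.Modules) => ZV V.1 M) where
  D := Dfun i.ker
  δ := Dδ i.ker
  mono_δ M := inferInstance
  Q_D M hM := QX_Dfun i M hM
  P_gr M hM := by
    haveI : M.IsQuasicoherent := hM.1.1
    haveI : Epi (quotπ i.ker M) := epi_quotπ i.ker M
    have hcok := Abelian.epiIsCokernelOfKernel _ (kernelIsKernel (quotπ i.ker M))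
    let e := IsColimit.coconePointUniqueUpToIso
      (cokernelIsCokernel (kernel.ι (quotπ i.ker M))) hcok
    exact (hyp i).P_iso e.symm ⟨isCoh_quotF i.ker hM.1, killedByIdeal_quotF i.ker M⟩
  zero_D M hM := by
    haveI : M.IsQuasicoherent := hM.1.1
    haveI : IsIso (quotπ i.ker M) := isIso_quotπ i.ker hM.2
    exact isZero_kernel_of_mono (quotπ i.ker M)
  lf M hM := lf_Dn i M hM
  epi_D {M N} f hM hN hf := by
    haveI : M.IsQuasicoherent := hM.1.1
    haveI : N.IsQuasicoherent := hN.1.1
    haveI := hf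
    exact epi_Dfun_map i.ker f

/-- **dévissage**: `K₀` of coherent modules killed by the ideal of `i` maps isomorphically onto `K₀` of
coherent modules supported on the image of `i` -/
theorem bijective_dev :
    Function.Bijective (SGA6.mapSub (𝟭 X.Modules) (PX i) (QX i) (hyp i).le) :=
  bijective_mapSub_of_dstr (hyp i) (ab4n X) zAx (PX_sigma i) (QX_sigma i) (dstr i)

end Groth.Agent.Lib.helper8.K0InfSch
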