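import Mathlib
import Groth.Prelude.Def_Algz
import Groth.Agent.Lib.Helper8.MLModule

/-!
# A tower of modules pro-isomorphic to a strict tower is Mittag-Leffler (helper8)

* `imageSubobject_le_of_range_le`, `imageSubobject_eq_of_range_eq` (in `ModuleCat`).
* `isML_of_isProIsomorphic_strict`.
-/

set_option autoImplicit false
universe u

namespace Groth.Agent.Lib.helper8.MLMod

open CategoryTheory CategoryTheory.Limits Opposite

variable {A : Type u} [CommRing A]

lemma imageSubobject_le_of_range_le {X Y Z : ModuleCat.{u} A} (f : X ⟶ Z) (g : Y ⟶ Z)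
    (h : LinearMap.range f.hom ≤ LinearMap.range g.hom) :
    imageSubobject f ≤ imageSubobject g := by
  let P : Submodule A (X × Y) :=
    LinearMap.eqLocus (f.hom ∘ₗ LinearMap.fst A X Y) (g.hom ∘ₗ LinearMap.snd A X Y)
  let π : ModuleCat.of A P ⟶ X := ModuleCat.ofHom (LinearMap.fst A X Y ∘ₗ P.subtype)
  let w : ModuleCat.of A P ⟶ Y := ModuleCat.ofHom (LinearMap.snd A X Y ∘ₗ P.subtype)
  haveI : Epi π := by
    rw [ModuleCat.epi_iff_surjective]
    intro x
    obtain ⟨y, hy⟩ := h ⟨x, rfl⟩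
    exact ⟨⟨(x, y), hy.symm⟩, rfl⟩
  have hw : π ≫ f = w ≫ g := by
    ext p
    exact p.2
  exact Groth.Agent.Lib.helper25.imageSubobject_le_of_refinement f g π w hw

lemma imageSubobject_eq_of_range_eq {X Y Z : ModuleCat.{u} A} (f : X ⟶ Z) (g : Y ⟶ Z)
    (h : LinearMap.range f.hom = LinearMap.range g.hom) :
    imageSubobject f = imageSubobject g :=
  le_antisymm (imageSubobject_le_of_range_le f g h.le) (imageSubobject_le_of_range_le g f h.ge)

/-- a tower pro-isomorphic to a tower with surjective transition maps is Mittag-Leffler -/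
theorem isML_of_isProIsomorphic_strict (X Y : ℕᵒᵖ ⥤ ModuleCat.{u} A)
    (h : Algz.IsProIsomorphic X Y)
    (hY : ∀ (n k : ℕ) (h : n ≤ k), Function.Surjective (T Y h)) : ARSys.IsML X := by
  classical
  obtain ⟨m, hm, hmn, a, ha⟩ := h
  obtain ⟨a', hnat, ha'⟩ : ∃ a' : ∀ n : ℕ, X.obj (op (m n)) →ₗ[A] Y.obj (op n),
      (∀ {n k : ℕ} (h : n ≤ k) (x : X.obj (op (m k))),
        a' n (T X (hm h) x) = T Y h (a' k x)) ∧
      (∀ n : ℕ, ∃ (k : ℕ) (h : n ≤ k) (b : Y.obj (op k) →ₗ[A] X.obj (op (m n))),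
        (∀ x, b (a' k x) = T X (hm h) x) ∧ ∀ y, a' n (b y) = T Y h y) := by
    refine ⟨fun n => (a.app (op n)).hom, ?_, ?_⟩
    · intro n k h x
      have := a.naturality (homOfLE h).op
      exact congrArg (fun φ => φ.hom x) this
    · intro n
      obtain ⟨k, h, b, hb1, hb2⟩ := ha n
      exact ⟨k, h, b.hom, fun x => congrArg (fun φ => φ.hom x) hb1,
        fun y => congrArg (fun φ => φ.hom y) hb2⟩
  clear ha a
  have hasurj : ∀ k : ℕ, Function.Surjective (a' k) := by
    intro k y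
    obtain ⟨k', hk', b, -, hb2⟩ := ha' k
    obtain ⟨y', rfl⟩ := hY k k' hk' y
    exact ⟨b y', hb2 y'⟩
  intro i
  obtain ⟨k, hk, b, hb1, hb2⟩ := ha' i
  have hik : i ≤ m k := hk.trans (hmn k)
  let W : Submodule A (X.obj (op i)) := Submodule.map (T X (hmn i)) (LinearMap.range b)
  have hW : ∀ (j : ℕ) (hj : m k ≤ j), LinearMap.range (T X (hik.trans hj)) = W := by
    intro j hj
    apply le_antisymm
    · rintro _ ⟨x, rfl⟩
      refine ⟨b (a' k (T X hj x)), ⟨_, rfl⟩, ?_⟩
      rw [hb1, T_comp, T_comp]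
    · rintro _ ⟨_, ⟨y, rfl⟩, rfl⟩
      let k' := max k j
      have hkk' : k ≤ k' := le_max_left _ _
      have hjk' : j ≤ m k' := (le_max_right k j).trans (hmn k')
      obtain ⟨y', rfl⟩ := hY k k' hkk' y
      obtain ⟨x', rfl⟩ := hasurj k' y'
      refine ⟨T X hjk' x', ?_⟩
      rw [← hnat hkk', hb1, T_comp, T_comp, T_comp]
  refine ⟨m k - i, fun s hs => ?_⟩
  apply imageSubobject_eq_of_range_eq
  have e1 : ∀ s : ℕ, (ARSys.shiftMap X s i).hom = T X (Nat.le_add_right i s) := fun s => rfl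
  rw [e1, e1]
  have h1 : m k ≤ i + s := by omega
  have h2 : m k ≤ i + (m k - i) := by omega
  exact (hW (i + s) h1).trans (hW (i + (m k - i)) h2).symm

end Groth.Agent.Lib.helper8.MLMod
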