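import Mathlib
import Groth.Agent.Lib.Helper8.Azumaya
import Groth.Agent.Lib.Helper8.MilnorGlue
import Groth.Agent.S14949
import Groth.Agent.S14953
import Groth.Agent.S14954

/-!
# Azumaya algebras over a Milnor square (helper8)
-/

set_option autoImplicit false
set_option linter.unusedSectionVars false
universe u

open TensorProduct

namespace Groth.Agent.Lib.helper8.Mil

open Groth.Agent.Lib.helper12 Groth.Agent.Lib.helper8.Az

section Detect

variable {R : Type*} [CommRing R] {P Q : Type*} [AddCommGroup P] [Module R P]
  [AddCommGroup Q] [Module R Q] (f : P →ₗ[R] Q)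

/-- Two-ring version of `Az.bijective_of_detect`. -/
theorem bijective_of_detect₂ [Module.Finite R P] [Module.Finite R Q] [Module.Projective R Q]
    (S₁ S₂ : Type*) [CommRing S₁] [Algebra R S₁] [CommRing S₂] [Algebra R S₂]
    (h1 : Subsingleton (S₁ ⊗[R] (Q ⧸ LinearMap.range f)) →
      Subsingleton (S₂ ⊗[R] (Q ⧸ LinearMap.range f)) → Subsingleton (Q ⧸ LinearMap.range f))
    (h2 : Module.Finite R (LinearMap.ker f) → Subsingleton (S₁ ⊗[R] LinearMap.ker f) →
      Subsingleton (S₂ ⊗[R] LinearMap.ker f) → Subsingleton (LinearMap.ker f))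
    (hf₁ : Function.Bijective (LinearMap.lTensor S₁ f))
    (hf₂ : Function.Bijective (LinearMap.lTensor S₂ f)) : Function.Bijective f := by
  have hsurj : Function.Surjective f := by
    haveI := h1 (subsingleton_lTensor_coker f S₁ hf₁.2) (subsingleton_lTensor_coker f S₂ hf₂.2)
    rw [← LinearMap.range_eq_top]
    exact Submodule.Quotient.subsingleton_iff.mp ‹_›
  refine ⟨?_, hsurj⟩
  haveI := h2 (finite_ker_of_surjective f hsurj)
    (subsingleton_lTensor_ker f hsurj S₁ hf₁.1) (subsingleton_lTensor_ker f hsurj S₂ hf₂.1)
  rw [← LinearMap.ker_eq_bot]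
  exact Submodule.eq_bot_of_subsingleton

end Detect

section BaseChange

variable (R : Type*) [CommRing R] (S : Type*) [CommRing S] [Algebra R S]
  (B : Type*) [Ring B] [Algebra R B] [Module.Finite R B] [Module.Projective R B]

/-- If `S ⊗ B` is Azumaya over `S` (and `B` is finite projective), then `S ⊗ mulLR` is
bijective. -/
theorem lTensor_mulLR_bijective_of_isAzumaya [hSB : IsAzumaya S (S ⊗[R] B)] :
    Function.Bijective (LinearMap.lTensor S (mulLR R B)) := by
  have hSB' := (bijective_mulLeftRight_iff S (S ⊗[R] B)).mp hSB.bij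
  have h2 : Function.Bijective ((LinearMap.baseChangeHom R S B B).liftBaseChange S) :=
    isBaseChange_baseChangeHom R S B B
  have h3 : ⇑(mulLR S (S ⊗[R] B)) ∘ ⇑(AlgebraTensorModule.distribBaseChange R S B B) =
      ⇑((LinearMap.baseChangeHom R S B B).liftBaseChange S) ∘
        ⇑(LinearMap.lTensor S (mulLR R B)) := by
    ext z : 1
    exact mulLR_baseChange_comm R S B z
  have h4 : Function.Bijective (⇑((LinearMap.baseChangeHom R S B B).liftBaseChange S) ∘
        ⇑(LinearMap.lTensor S (mulLR R B))) := by
    rw [← h3]; exact hSB'.comp (LinearEquiv.bijective _)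
  exact (Function.Bijective.of_comp_iff' h2 _).mp h4

end BaseChange

section Milnor

variable {B' B A' A : Type u} [CommRing B'] [CommRing B] [CommRing A'] [CommRing A]
  [Algebra B' B] [Algebra B' A'] [Algebra B A] [Algebra A' A] [Algebra B' A]
  [IsScalarTower B' B A] [IsScalarTower B' A' A]

/-- Descent of "finite projective" along a Milnor square. -/
theorem finite_projective_of_baseChangePair (hsq : EtMil.IsFibreSquare B' B A' A)
    (L' : Type u) [AddCommGroup L'] [Module B' L']
    [Module.Finite B (B ⊗[B'] L')] [Module.Projective B (B ⊗[B'] L')]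
    [Module.Finite A' (A' ⊗[B'] L')] [Module.Projective A' (A' ⊗[B'] L')] :
    Module.Finite B' L' ∧ Module.Projective B' L' := by
  haveI : Module.FinitePresentation B (B ⊗[B'] L') := Module.finitePresentation_of_projective B _
  haveI : Module.FinitePresentation A' (A' ⊗[B'] L') :=
    Module.finitePresentation_of_projective A' _
  haveI : Module.Flat B' L' := flat_of_flat_baseChangePair hsq L'
  haveI : Module.FinitePresentation B' L' := Groth.Agent.S14954.result B' B A' A hsq L'
  exact ⟨Groth.Agent.S14953.result B' B A' A hsq L', Module.Flat.projective_of_finitePresentation⟩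

/-- Descent of the Azumaya property along a Milnor square. -/
theorem isAzumaya_of_baseChangePair (hsq : EtMil.IsFibreSquare B' B A' A)
    (D' : Type u) [Ring D'] [Algebra B' D']
    [hB : IsAzumaya B (B ⊗[B'] D')] [hA' : IsAzumaya A' (A' ⊗[B'] D')] : IsAzumaya B' D' := by
  obtain ⟨hfin, hproj⟩ := finite_projective_of_baseChangePair hsq D'
  rw [isAzumaya_iff]
  refine ⟨hproj, ?_, hfin, ?_⟩
  · refine ⟨fun {r s} h => ?_⟩
    have hd : ∀ d : D', (r - s) • d = 0 := fun d => by rw [sub_smul, h d, sub_self]
    have key : ∀ (S : Type u) [CommRing S] [Algebra B' S] [FaithfulSMul S (S ⊗[B'] D')],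
        algebraMap B' S (r - s) = 0 := by
      intro S _ _ _
      apply FaithfulSMul.eq_of_smul_eq_smul (α := S ⊗[B'] D')
      intro z
      rw [zero_smul]
      induction z using TensorProduct.induction_on with
      | zero => simp
      | add a b ha hb => rw [smul_add, ha, hb, add_zero]
      | tmul t b =>
        rw [smul_tmul', smul_eq_mul, ← Algebra.smul_def, smul_tmul, hd b, tmul_zero]
    have h1 : algebraMap B' B (r - s) = algebraMap B' B 0 := by rw [key B, map_zero]
    have h2 : algebraMap B' A' (r - s) = algebraMap B' A' 0 := by rw [key A', map_zero]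
    exact sub_eq_zero.mp (milnor_ext hsq h1 h2)
  · haveI := finite_end B' D'
    haveI := projective_end B' D'
    refine bijective_of_detect₂ (mulLR B' D') B A' ?_ ?_
      (lTensor_mulLR_bijective_of_isAzumaya B' B D') (lTensor_mulLR_bijective_of_isAzumaya B' A' D')
    · intro _ _
      exact Groth.Agent.S14949.result B' B A' A hsq _
    · intro _ _ _
      exact Groth.Agent.S14949.result B' B A' A hsq _

end Milnor

end Groth.Agent.Lib.helper8.Mil
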