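import Mathlib
import Groth.Agent.Lib.Helper8.MilnorGlue

/-!
# Relative glueing over a Milnor square: finiteness (helper8)

`glue_finite_of_surjective`: in a commutative square `B' → B → A`, `B' → A' → A` with `B' → B`
and `A' → A` surjective and `ker (A' → A)` covered by `ker (B' → B)`, the glueing of a finite
`B`-module and a finite `A'`-module is a finite `B'`-module.  (The square need not be cartesian.)
-/

set_option autoImplicit false
set_option linter.unusedSectionVars false
universe u

open TensorProduct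

namespace Groth.Agent.Lib.helper8.Mil

section RelGlue

variable {B' B A' A : Type u} [CommRing B'] [CommRing B] [CommRing A'] [CommRing A]
  [Algebra B' B] [Algebra B' A'] [Algebra B A] [Algebra A' A] [Algebra B' A]
  [IsScalarTower B' B A] [IsScalarTower B' A' A]
variable {N M' : Type u} [AddCommGroup N] [Module B N] [Module B' N] [IsScalarTower B' B N]
  [AddCommGroup M'] [Module A' M'] [Module B' M'] [IsScalarTower B' A' M']
  (φ : A ⊗[B] N ≃ₗ[A] A ⊗[A'] M')

theorem glueFst_surjective_of_surjective (h2 : Function.Surjective (algebraMap A' A)) :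
    Function.Surjective (EtMil.glueFst B' φ) := by
  intro n
  obtain ⟨m', hm'⟩ := TensorProduct.mk_surjective A' M' A h2 (φ ((1 : A) ⊗ₜ[B] n))
  exact ⟨⟨(n, m'), hm'.symm⟩, rfl⟩

theorem span_range_glueSnd_eq_top (h2 : Function.Surjective (algebraMap A' A)) :
    Submodule.span A' (Set.range (EtMil.glueSnd B' φ)) = ⊤ := by
  have hfst := glueFst_surjective_of_surjective (B' := B') φ h2
  have key : ∀ z : A ⊗[B] N, ∃ y ∈ Submodule.span A' (Set.range (EtMil.glueSnd B' φ)),
      φ z = (1 : A) ⊗ₜ[A'] y := by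
    intro z
    induction z using TensorProduct.induction_on with
    | zero => exact ⟨0, zero_mem _, by simp⟩
    | tmul a n =>
      obtain ⟨a', rfl⟩ := h2 a
      obtain ⟨x, rfl⟩ := hfst n
      refine ⟨a' • EtMil.glueSnd B' φ x, Submodule.smul_mem _ _ (Submodule.subset_span ⟨x, rfl⟩), ?_⟩
      have hx : φ ((1 : A) ⊗ₜ[B] (x : N × M').1) = (1 : A) ⊗ₜ[A'] (x : N × M').2 := x.2
      have e1 : (algebraMap A' A a' ⊗ₜ[B] EtMil.glueFst B' φ x : A ⊗[B] N)
          = algebraMap A' A a' • ((1 : A) ⊗ₜ[B] (x : N × M').1) := by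
        rw [TensorProduct.smul_tmul', smul_eq_mul, mul_one]; rfl
      have e2 : ((1 : A) ⊗ₜ[A'] (a' • EtMil.glueSnd B' φ x) : A ⊗[A'] M')
          = algebraMap A' A a' • ((1 : A) ⊗ₜ[A'] (x : N × M').2) := by
        rw [← TensorProduct.smul_tmul, TensorProduct.smul_tmul', smul_eq_mul, mul_one,
          Algebra.algebraMap_eq_smul_one]; rfl
      rw [e1, e2, map_smul, hx]
    | add z₁ z₂ h₁ h₂ =>
      obtain ⟨y₁, hy₁, e₁⟩ := h₁
      obtain ⟨y₂, hy₂, e₂⟩ := h₂
      exact ⟨y₁ + y₂, add_mem hy₁ hy₂, by rw [map_add, e₁, e₂, TensorProduct.tmul_add]⟩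
  rw [eq_top_iff]
  intro m' _
  obtain ⟨y, hy, hφ⟩ := key (φ.symm ((1 : A) ⊗ₜ[A'] m'))
  rw [LinearEquiv.apply_symm_apply] at hφ
  have h0 : ((1 : A) ⊗ₜ[A'] (m' - y) : A ⊗[A'] M') = 0 := by
    rw [TensorProduct.tmul_sub, hφ, sub_self]
  have h4 := mem_smul_top_of_one_tmul_eq_zero h2 M' _ h0
  have h5 : m' - y ∈ Submodule.span A' (Set.range (EtMil.glueSnd B' φ)) := by
    refine Submodule.smul_induction_on h4 ?_ (fun _ _ => add_mem)
    intro c hc m _
    exact Submodule.subset_span ⟨⟨((0 : N), c • m), zero_smul_mem_glue φ hc m⟩, rfl⟩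
  have h6 := add_mem h5 hy
  rwa [sub_add_cancel] at h6

/-- Finiteness of the glued module in a (not necessarily cartesian) square. -/
theorem glue_finite_of_surjective (h1 : Function.Surjective (algebraMap B' B))
    (h2 : Function.Surjective (algebraMap A' A))
    (h3 : ∀ a' : A', algebraMap A' A a' = 0 →
      ∃ δ : B', algebraMap B' B δ = 0 ∧ algebraMap B' A' δ = a')
    [Module.Finite B N] [Module.Finite A' M'] : Module.Finite B' (EtMil.glue B' φ) := by
  classical
  haveI : Module.Finite B' B := Module.Finite.of_surjective (Algebra.linearMap B' B) h1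
  haveI : Module.Finite B' N := Module.Finite.trans B N
  have hfst := glueFst_surjective_of_surjective (B' := B') φ h2
  have hsnd := span_range_glueSnd_eq_top (B' := B') φ h2
  -- finite set `U` whose first projections span `N` over `B'`
  obtain ⟨U, hU⟩ : ∃ U : Finset (EtMil.glue B' φ),
      Submodule.span B' ((EtMil.glueFst B' φ) '' (U : Set (EtMil.glue B' φ))) = ⊤ := by
    have hfg : (Submodule.span B' (Set.range (EtMil.glueFst B' φ))).FG := by
      rw [hfst.range_eq, Submodule.span_univ]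
      exact Module.Finite.fg_top
    obtain ⟨s', hs', hspan⟩ := (Submodule.fg_span_iff_fg_span_finset_subset _).mp hfg
    rw [← Set.image_univ] at hs'
    obtain ⟨U, -, hUs⟩ := Finset.subset_set_image_iff.mp hs'
    refine ⟨U, ?_⟩
    rw [← Finset.coe_image, hUs, ← hspan, hfst.range_eq, Submodule.span_univ]
  -- finite set `V` whose second projections span `M'` over `A'`
  obtain ⟨V, hV⟩ : ∃ V : Finset (EtMil.glue B' φ),
      Submodule.span A' ((EtMil.glueSnd B' φ) '' (V : Set (EtMil.glue B' φ))) = ⊤ := by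
    have hfg : (Submodule.span A' (Set.range (EtMil.glueSnd B' φ))).FG := by
      rw [hsnd]
      exact Module.Finite.fg_top
    obtain ⟨s', hs', hspan⟩ := (Submodule.fg_span_iff_fg_span_finset_subset _).mp hfg
    rw [← Set.image_univ] at hs'
    obtain ⟨V, -, hVs⟩ := Finset.subset_set_image_iff.mp hs'
    refine ⟨V, ?_⟩
    rw [← Finset.coe_image, hVs, ← hspan, hsnd]
  -- elements `(0, c • m)` with `c` in the kernel lie in the span of `V`
  have claim3 : ∀ m ∈ Submodule.span A' ((EtMil.glueSnd B' φ) '' (V : Set (EtMil.glue B' φ))),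
      ∀ c : A', algebraMap A' A c = 0 →
      ∃ w ∈ Submodule.span B' (V : Set (EtMil.glue B' φ)),
        EtMil.glueFst B' φ w = 0 ∧ EtMil.glueSnd B' φ w = c • m := by
    intro m hm
    induction hm using Submodule.span_induction with
    | mem m hm =>
      obtain ⟨v, hv, rfl⟩ := hm
      intro c hc
      obtain ⟨δ, hδ1, hδ2⟩ := h3 c hc
      refine ⟨δ • v, Submodule.smul_mem _ _ (Submodule.subset_span hv), ?_, ?_⟩
      · rw [map_smul, ← IsScalarTower.algebraMap_smul B δ, hδ1, zero_smul]
      · rw [map_smul, ← IsScalarTower.algebraMap_smul A' δ, hδ2]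
    | zero =>
      intro c _
      exact ⟨0, zero_mem _, by simp, by simp⟩
    | add x y _ _ hx hy =>
      intro c hc
      obtain ⟨w₁, hw₁, e₁, f₁⟩ := hx c hc
      obtain ⟨w₂, hw₂, e₂, f₂⟩ := hy c hc
      exact ⟨w₁ + w₂, add_mem hw₁ hw₂, by rw [map_add, e₁, e₂, add_zero],
        by rw [map_add, f₁, f₂, smul_add]⟩
    | smul a x _ hx =>
      intro c hc
      obtain ⟨w, hw, e, f⟩ := hx (c * a) (by rw [map_mul, hc, zero_mul])
      exact ⟨w, hw, e, by rw [f, mul_smul]⟩
  have claim2 : ∀ m ∈ (RingHom.ker (algebraMap A' A)) • (⊤ : Submodule A' M'),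
      ∃ w ∈ Submodule.span B' (V : Set (EtMil.glue B' φ)),
        EtMil.glueFst B' φ w = 0 ∧ EtMil.glueSnd B' φ w = m := by
    intro m hm
    refine Submodule.smul_induction_on hm ?_ ?_
    · intro c hc m _
      exact claim3 m (by rw [hV]; trivial) c (RingHom.mem_ker.mp hc)
    · rintro x y ⟨w₁, hw₁, e₁, f₁⟩ ⟨w₂, hw₂, e₂, f₂⟩
      exact ⟨w₁ + w₂, add_mem hw₁ hw₂, by rw [map_add, e₁, e₂, add_zero],
        by rw [map_add, f₁, f₂]⟩
  refine ⟨⟨U ∪ V, ?_⟩⟩
  rw [eq_top_iff]
  intro l _
  have hUle : Submodule.span B' (U : Set (EtMil.glue B' φ)) ≤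
      Submodule.span B' ((U ∪ V : Finset (EtMil.glue B' φ)) : Set (EtMil.glue B' φ)) :=
    Submodule.span_mono (by rw [Finset.coe_union]; exact Set.subset_union_left)
  have hVle : Submodule.span B' (V : Set (EtMil.glue B' φ)) ≤
      Submodule.span B' ((U ∪ V : Finset (EtMil.glue B' φ)) : Set (EtMil.glue B' φ)) :=
    Submodule.span_mono (by rw [Finset.coe_union]; exact Set.subset_union_right)
  -- subtract an element of `span U` with the same first projection
  have hl1 : EtMil.glueFst B' φ l ∈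
      Submodule.map (EtMil.glueFst B' φ) (Submodule.span B' (U : Set (EtMil.glue B' φ))) := by
    rw [Submodule.map_span, hU]; trivial
  obtain ⟨l'', hl'', hfl⟩ := hl1
  have hk1 : EtMil.glueFst B' φ (l - l'') = 0 := by rw [map_sub, hfl, sub_self]
  have hk2 : ((1 : A) ⊗ₜ[A'] (EtMil.glueSnd B' φ (l - l'')) : A ⊗[A'] M') = 0 := by
    have := (l - l'').2
    rw [mem_glue_iff] at this
    have h0 : ((l - l'' : EtMil.glue B' φ) : N × M').1 = 0 := hk1
    rw [h0, TensorProduct.tmul_zero, map_zero] at this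
    exact this.symm
  have hk3 := mem_smul_top_of_one_tmul_eq_zero h2 M' _ hk2
  obtain ⟨w, hw, e, f⟩ := claim2 _ hk3
  have hkw : l - l'' = w := glue_ext φ (by rw [hk1, e]) f.symm
  have : l = w + l'' := by rw [← hkw]; abel
  rw [this]
  exact add_mem (hVle hw) (hUle hl'')

end RelGlue

end Groth.Agent.Lib.helper8.Mil
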