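import Mathlib

/-!
# Local Noetherianity and finitely generated field extensions (helper8)

Mathlib-only.

* `isNoetherianRing_of_faithfullyFlat`: Noetherianity descends along faithfully flat ring maps;
* `noeth_descend`, `noeth_ascend`: for a field extension `k'/k` (finitely generated as a field for the
  ascent) and a `k`-algebra `A`, `A` is Noetherian iff `k' ⊗[k] A` is;
* `isPushout_sections`: for a pullback square `X' = X ×_A Spec B` and `W ⊆ X` affine open,
  `Γ(X', g'⁻¹ W) = B ⊗_A Γ(X, W)` (as a pushout square of commutative rings);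
* `main`: `X` locally Noetherian iff `X ×_k Spec k'` locally Noetherian, `k'/k` a finitely generated field
  extension.
-/

set_option autoImplicit false
universe u
open CategoryTheory CategoryTheory.Limits Opposite TopologicalSpace
open AlgebraicGeometry TensorProduct

namespace Groth.Agent.Lib.helper8.NoethFieldBC

theorem isNoetherianRing_of_faithfullyFlat (A B : Type u) [CommRing A] [CommRing B] [Algebra A B]
    [Module.FaithfullyFlat A B] [IsNoetherianRing B] : IsNoetherianRing A := by
  rw [isNoetherianRing_iff, ← monotone_stabilizes_iff_noetherian]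
  intro f
  obtain ⟨n, hn⟩ := monotone_stabilizes_iff_noetherian.mpr
    (inferInstance : IsNoetherian B B)
    ⟨fun i => Ideal.map (algebraMap A B) (f i : Ideal A),
      fun i j h => Ideal.map_mono (f.monotone h)⟩
  refine ⟨n, fun m hm => ?_⟩
  have h1 : Ideal.map (algebraMap A B) (f n : Ideal A) = Ideal.map (algebraMap A B) (f m : Ideal A) :=
    hn m hm
  show (f n : Ideal A) = f m
  rw [← Ideal.comap_map_eq_self_of_faithfullyFlat (B := B) (f n),
    ← Ideal.comap_map_eq_self_of_faithfullyFlat (B := B) (f m), h1]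

section Algebra

variable (k : Type u) [Field k] (k' : Type u) [Field k'] [Algebra k k']
  (A : Type u) [CommRing A] [Algebra k A]

theorem noeth_descend [IsNoetherianRing (k' ⊗[k] A)] : IsNoetherianRing A := by
  haveI : IsNoetherianRing (A ⊗[k] k') :=
    isNoetherianRing_of_ringEquiv _ (Algebra.TensorProduct.comm k k' A).toRingEquiv
  exact isNoetherianRing_of_faithfullyFlat A (A ⊗[k] k')

theorem noeth_ascend (hfg : (⊤ : IntermediateField k k').FG) [IsNoetherianRing A] :
    IsNoetherianRing (k' ⊗[k] A) := by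
  obtain ⟨s, hs⟩ := hfg
  let B₀ : Subalgebra k k' := Algebra.adjoin k (s : Set k')
  haveI : IsFractionRing B₀ k' := by
    refine IsFractionRing.of_field _ _ (fun z => ?_)
    have hz : z ∈ IntermediateField.adjoin k (s : Set k') := hs ▸ IntermediateField.mem_top
    obtain ⟨x, hx, y, hy, e⟩ := IntermediateField.mem_adjoin_iff_div.mp hz
    exact ⟨⟨x, hx⟩, ⟨y, hy⟩, e⟩
  haveI : Algebra.FiniteType k B₀ := by
    rw [← Subalgebra.fg_iff_finiteType]
    exact ⟨s, rfl⟩
  haveI : IsNoetherianRing (A ⊗[k] B₀) := Algebra.FiniteType.isNoetherianRing A (A ⊗[k] B₀)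
  letI : Algebra (A ⊗[k] B₀) (A ⊗[k] k') :=
    (Algebra.TensorProduct.map (AlgHom.id k A) (IsScalarTower.toAlgHom k B₀ k')).toAlgebra
  haveI : IsScalarTower A (A ⊗[k] B₀) (A ⊗[k] k') :=
    .of_algebraMap_eq <| by
      intro x
      show _ = (Algebra.TensorProduct.map (AlgHom.id k A) (IsScalarTower.toAlgHom k B₀ k'))
        (algebraMap A (A ⊗[k] B₀) x)
      rw [Algebra.TensorProduct.algebraMap_apply, Algebra.TensorProduct.algebraMap_apply,
        Algebra.TensorProduct.map_tmul]
      simp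
  haveI := IsLocalization.tensorProduct_tensorProduct_right k A (nonZeroDivisors B₀) k'
    (by ext; simp [RingHom.algebraMap_toAlgebra])
  haveI : IsNoetherianRing (A ⊗[k] k') :=
    IsLocalization.isNoetherianRing ((nonZeroDivisors B₀).map
      (Algebra.TensorProduct.includeRight (R := k) (A := A))) (A ⊗[k] k') inferInstance
  exact isNoetherianRing_of_ringEquiv _ (Algebra.TensorProduct.comm k A k').toRingEquiv

end Algebra

section Pushout

variable {A B : Type u} [CommRing A] [CommRing B] [Algebra A B]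
variable {X X' : Scheme.{u}} (fX : X ⟶ Spec (CommRingCat.of A)) (fX' : X' ⟶ Spec (CommRingCat.of B))
  (g' : X' ⟶ X)
  (h : IsPullback g' fX' fX (Spec.map (CommRingCat.ofHom (algebraMap A B))))

/-- `A → Γ(X, W)` -/
noncomputable def secAlg (W : X.Opens) : A →+* Γ(X, W) :=
  ((Scheme.ΓSpecIso (CommRingCat.of A)).inv ≫
    fX.appTop ≫ X.presheaf.map (homOfLE (le_top : W ≤ ⊤)).op).hom

include h in
theorem isPushout_sections (W : X.Opens) (hW : IsAffineOpen W) :
    IsPushout (CommRingCat.ofHom (algebraMap A B)) (CommRingCat.ofHom (secAlg fX W))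
      (CommRingCat.ofHom (secAlg fX' (g' ⁻¹ᵁ W)))
      (CommRingCat.ofHom (g'.appLE W (g' ⁻¹ᵁ W) le_rfl).hom) := by
  have hUY : g' ⁻¹ᵁ W = g' ⁻¹ᵁ W ⊓ fX' ⁻¹ᵁ ⊤ := by simp
  have h1 := (isIso_pushoutSection_iff h (US := ⊤) (UT := ⊤) (UX := W) le_top le_top hUY).mp
    (isIso_pushoutSection_of_isAffineOpen h le_top le_top hUY (isAffineOpen_top _)
      (isAffineOpen_top _) hW)
  refine IsPushout.of_iso h1.flip (Scheme.ΓSpecIso (CommRingCat.of A))
    (Scheme.ΓSpecIso (CommRingCat.of B)) (Iso.refl _) (Iso.refl _) ?_ ?_ ?_ ?_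
  · have e1 : Scheme.Hom.appLE (Spec.map (CommRingCat.ofHom (algebraMap A B))) ⊤ ⊤ le_top =
        (Spec.map (CommRingCat.ofHom (algebraMap A B))).appTop :=
      Scheme.Hom.appLE_eq_app _
    rw [e1]
    exact Scheme.ΓSpecIso_naturality (CommRingCat.ofHom (algebraMap A B))
  · rw [Iso.refl_hom, Category.comp_id]
    have : CommRingCat.ofHom (secAlg fX W) = (Scheme.ΓSpecIso (CommRingCat.of A)).inv ≫
        fX.appTop ≫ X.presheaf.map (homOfLE (le_top : W ≤ ⊤)).op := rfl
    rw [this, Iso.hom_inv_id_assoc]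
    rfl
  · rw [Iso.refl_hom, Category.comp_id]
    have : CommRingCat.ofHom (secAlg fX' (g' ⁻¹ᵁ W)) = (Scheme.ΓSpecIso (CommRingCat.of B)).inv ≫
        fX'.appTop ≫ X'.presheaf.map (homOfLE (le_top : g' ⁻¹ᵁ W ≤ ⊤)).op := rfl
    rw [this, Iso.hom_inv_id_assoc]
    rfl
  · rw [Iso.refl_hom, Iso.refl_hom, Category.comp_id, Category.id_comp]
    rfl

include h in
/-- `Γ(X', g'⁻¹ W) ≃+* B ⊗[A] Γ(X, W)` for `W` affine open. -/
theorem nonempty_ringEquiv_sections (W : X.Opens) (hW : IsAffineOpen W) :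
    letI : Algebra A Γ(X, W) := (secAlg fX W).toAlgebra
    Nonempty (Γ(X', g' ⁻¹ᵁ W) ≃+* B ⊗[A] Γ(X, W)) := by
  letI : Algebra A Γ(X, W) := (secAlg fX W).toAlgebra
  have hpo := isPushout_sections fX fX' g' h W hW
  have hpo' := CommRingCat.isPushout_tensorProduct A B Γ(X, W)
  exact ⟨(hpo.isoIsPushout _ _ hpo').commRingCatIsoToRingEquiv⟩

end Pushout

section Main

variable (k : Type u) [Field k] (X : Scheme.{u}) (fX : X ⟶ Spec (CommRingCat.of k))
  (k' : Type u) [Field k'] [Algebra k k']

theorem main (hfg : (⊤ : IntermediateField k k').FG) :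
    IsLocallyNoetherian X ↔
      IsLocallyNoetherian (pullback fX (Spec.map (CommRingCat.ofHom (algebraMap k k')))) := by
  set X' := pullback fX (Spec.map (CommRingCat.ofHom (algebraMap k k'))) with hX'
  let g' : X' ⟶ X := pullback.fst _ _
  let fX' : X' ⟶ Spec (CommRingCat.of k') := pullback.snd _ _
  have h : IsPullback g' fX' fX (Spec.map (CommRingCat.ofHom (algebraMap k k'))) :=
    IsPullback.of_hasPullback _ _
  haveI : IsAffineHom g' := MorphismProperty.pullback_fst _ _ inferInstance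
  let S' : X.affineOpens → X'.affineOpens := fun W => ⟨g' ⁻¹ᵁ W.1, W.2.preimage g'⟩
  have hS' : (⨆ W, (S' W : X'.Opens)) = ⊤ := by
    have h1 : (⨆ W, (S' W : X'.Opens)) = g' ⁻¹ᵁ (⨆ W : X.affineOpens, (W : X.Opens)) := by
      rw [Scheme.Hom.preimage_iSup]
    rw [h1, iSup_affineOpens_eq_top]
    rfl
  have hS : (⨆ W : X.affineOpens, ((id W : X.affineOpens) : X.Opens)) = ⊤ :=
    iSup_affineOpens_eq_top X
  rw [isLocallyNoetherian_iff_of_iSup_eq_top hS, isLocallyNoetherian_iff_of_iSup_eq_top hS']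
  refine forall_congr' (fun W => ?_)
  letI : Algebra k Γ(X, W.1) := (secAlg fX W.1).toAlgebra
  obtain ⟨e⟩ := nonempty_ringEquiv_sections fX fX' g' h W.1 W.2
  constructor
  · intro hN
    haveI : IsNoetherianRing Γ(X, W.1) := hN
    haveI := noeth_ascend k k' Γ(X, W.1) hfg
    exact isNoetherianRing_of_ringEquiv _ e.symm
  · intro hN
    haveI : IsNoetherianRing Γ(X', g' ⁻¹ᵁ W.1) := hN
    haveI : IsNoetherianRing (k' ⊗[k] Γ(X, W.1)) := isNoetherianRing_of_ringEquiv _ e
    exact noeth_descend k k' Γ(X, W.1)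

end Main

end Groth.Agent.Lib.helper8.NoethFieldBC
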