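import Groth.Agent.Lib.Helper8.DevK0
import Groth.Agent.Lib.Helper8.StalkExact

/-!
# Stalks of the structure sheaf of a reduced irreducible closed subscheme (helper8)

* `mem_vanishingIdeal_iff`: sections in the vanishing ideal of `C` over affine `W`.
* `length_stalk_OC_generic`: `(O_C)_y` has length one over `O_{X,y}` when `C = closure {y}`.
* `length_stalk_OC_of_notMem`: `(O_C)_x = 0` for `x ∉ C`.
-/

set_option autoImplicit false
set_option linter.style.haveILetI false
universe u
open CategoryTheory CategoryTheory.Limits AlgebraicGeometry TopologicalSpace Opposite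

namespace Groth.Agent.Lib.helper8.StalkLen

open Scheme.Modules Groth.Agent.Lib.helper8.Dev Groth.Agent.Lib.helper16.QCohAss

variable {X : Scheme.{u}}

theorem mem_vanishingIdeal_iff (C : Closeds X) (W : X.affineOpens) (a : Γ(X, W.1)) :
    a ∈ (Scheme.IdealSheafData.vanishingIdeal C).ideal W ↔
      ∀ z : X, z ∈ C → z ∈ W.1 → z ∉ X.basicOpen a := by
  rw [Scheme.IdealSheafData.vanishingIdeal_ideal, PrimeSpectrum.mem_vanishingIdeal]
  constructor
  · intro h z hzC hzW
    rw [Groth.Agent.Lib.helper28.mem_basicOpen_iff W.2 z hzW a, not_not]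
    refine h _ ?_
    change W.2.fromSpec (W.2.primeIdealOf ⟨z, hzW⟩) ∈ C
    rw [W.2.fromSpec_primeIdealOf ⟨z, hzW⟩]
    exact hzC
  · intro h q hq
    have hzW : W.2.fromSpec q ∈ W.1 := by
      have : W.2.fromSpec q ∈ Set.range W.2.fromSpec := ⟨q, rfl⟩
      rw [W.2.range_fromSpec] at this
      exact this
    have h1 := h _ hq hzW
    rw [Groth.Agent.Lib.helper28.mem_basicOpen_iff W.2 _ hzW a, not_not] at h1
    have h2 : W.2.primeIdealOf ⟨W.2.fromSpec q, hzW⟩ = q :=
      W.2.fromSpec.isOpenEmbedding.injective (W.2.fromSpec_primeIdealOf ⟨_, hzW⟩)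
    rw [h2] at h1
    exact h1

theorem map_oneC (C : Closeds X) {U W : X.Opens} (h : W ≤ U) :
    (OC C).presheaf.map (homOfLE h).op (oneC C U) = oneC C W :=
  map_one ((Scheme.IdealSheafData.vanishingIdeal C).subscheme.presheaf.map
    (homOfLE ((Opens.map (Scheme.IdealSheafData.vanishingIdeal C).subschemeι.base).monotone
      h)).op).hom

theorem length_stalk_OC_of_notMem [IsNoetherian X] (C : Closeds X) (x : X) (hx : x ∉ C) :
    Module.length (X.presheaf.stalk x) ((OC C).presheaf.stalk x) = 0 := by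
  rw [Module.length_eq_zero_iff]
  by_contra h
  have : x ∈ CohB1.support (OC C) := h
  rw [support_OC] at this
  exact hx this

theorem length_stalk_OC_generic [IsNoetherian X] (C : Closeds X) (y : X)
    (hy : (C : Set X) = closure {y}) :
    Module.length (X.presheaf.stalk y) ((OC C).presheaf.stalk y) = 1 := by
  obtain ⟨_, ⟨U, hU : IsAffineOpen U, rfl⟩, hyU, -⟩ :=
    X.isBasis_affineOpens.exists_subset_of_mem_open (Set.mem_univ y) isOpen_univ
  let e : (OC C).presheaf.stalk y := ((OC C).presheaf.germ U y hyU).hom (oneC C U)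
  -- every element is a multiple of `e`
  have hgen : ∀ n : (OC C).presheaf.stalk y, ∃ r : X.presheaf.stalk y, n = r • e := by
    intro n
    obtain ⟨V, hyV, s, rfl⟩ := (OC C).presheaf.exists_germ_eq n
    obtain ⟨_, ⟨W, hW : IsAffineOpen W, rfl⟩, hyW, hWVU⟩ :=
      X.isBasis_affineOpens.exists_subset_of_mem_open (show y ∈ (V ⊓ U : X.Opens) from ⟨hyV, hyU⟩)
        (V ⊓ U).2
    have hWV : W ≤ V := fun z hz => (hWVU hz).1
    have hWU : W ≤ U := fun z hz => (hWVU hz).2
    obtain ⟨c, hc⟩ := OC_exists_smul_one C ⟨W, hW⟩ ((OC C).presheaf.map (homOfLE hWV).op s)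
    refine ⟨(X.presheaf.germ W y hyW).hom c, ?_⟩
    have h1 := TopCat.Presheaf.germ_res_apply (OC C).presheaf (homOfLE hWV) y hyW s
    have h2 := TopCat.Presheaf.germ_res_apply (OC C).presheaf (homOfLE hWU) y hyW (oneC C U)
    rw [map_oneC] at h2
    rw [← h1, hc]
    change _ = _ • ((OC C).presheaf.germ U y hyU).hom (oneC C U)
    rw [← h2]
    exact germ_smul' (OC C) W y hyW c (oneC C W)
  -- the maximal ideal kills `e`
  have hkill : ∀ r ∈ IsLocalRing.maximalIdeal (X.presheaf.stalk y), r • e = 0 := by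
    intro r hr
    obtain ⟨V, hyV, a, rfl⟩ := X.presheaf.exists_germ_eq r
    obtain ⟨_, ⟨W, hW : IsAffineOpen W, rfl⟩, hyW, hWVU⟩ :=
      X.isBasis_affineOpens.exists_subset_of_mem_open (show y ∈ (V ⊓ U : X.Opens) from ⟨hyV, hyU⟩)
        (V ⊓ U).2
    have hWV : W ≤ V := fun z hz => (hWVU hz).1
    have hWU : W ≤ U := fun z hz => (hWVU hz).2
    have h1 := TopCat.Presheaf.germ_res_apply X.presheaf (homOfLE hWV) y hyW a
    have h2 := TopCat.Presheaf.germ_res_apply (OC C).presheaf (homOfLE hWU) y hyW (oneC C U)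
    rw [map_oneC] at h2
    change _ • ((OC C).presheaf.germ U y hyU).hom (oneC C U) = 0
    rw [← h2, ← h1, ← germ_smul' (OC C) W y hyW]
    have h3 : X.presheaf.map (homOfLE hWV).op a ∈
        (Scheme.IdealSheafData.vanishingIdeal C).ideal ⟨W, hW⟩ := by
      rw [mem_vanishingIdeal_iff]
      intro z hzC hzW hzb
      have hyz : y ⤳ z := by
        rw [specializes_iff_mem_closure, ← hy]
        exact hzC
      have hyb : y ∈ X.basicOpen (X.presheaf.map (homOfLE hWV).op a) :=
        hyz.mem_open (X.basicOpen _).2 hzb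
      have hunit := isUnit_germ_of_mem_basicOpen (X := X) y hyW _ hyb
      rw [h1] at hunit
      exact (IsLocalRing.mem_maximalIdeal _).mp hr hunit
    rw [(OC_one_smul_eq_zero_iff C ⟨W, hW⟩ _).mpr h3]
    exact map_zero _
  -- the stalk is nonzero
  have hnt : Nontrivial ((OC C).presheaf.stalk y) := by
    rw [← not_subsingleton_iff_nontrivial]
    have : y ∈ CohB1.support (OC C) := by
      rw [support_OC, hy]
      exact subset_closure rfl
    exact this
  rw [Module.length_eq_one_iff, isSimpleModule_iff_quot_maximal]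
  let f : X.presheaf.stalk y →ₗ[X.presheaf.stalk y] (OC C).presheaf.stalk y :=
    LinearMap.toSpanSingleton _ _ e
  have hsurj : Function.Surjective f := by
    intro n
    obtain ⟨r, rfl⟩ := hgen n
    exact ⟨r, rfl⟩
  have hker : LinearMap.ker f = IsLocalRing.maximalIdeal (X.presheaf.stalk y) := by
    symm
    refine (IsLocalRing.maximalIdeal.isMaximal _).eq_of_le ?_ (fun r hr => hkill r hr)
    intro htop
    have h1 : (1 : X.presheaf.stalk y) ∈ LinearMap.ker f := by
      rw [htop]
      exact Submodule.mem_top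
    have h2 : e = 0 := by
      have := LinearMap.mem_ker.mp h1
      simpa [f] using this
    obtain ⟨n, hn⟩ := exists_ne (0 : (OC C).presheaf.stalk y)
    obtain ⟨r, rfl⟩ := hgen n
    rw [h2, smul_zero] at hn
    exact hn rfl
  refine ⟨IsLocalRing.maximalIdeal _, IsLocalRing.maximalIdeal.isMaximal _, ⟨?_⟩⟩
  exact ((LinearMap.quotKerEquivOfSurjective f hsurj).symm.trans
    (Submodule.quotEquivOfEq _ _ hker))

end Groth.Agent.Lib.helper8.StalkLen
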