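import Mathlib
import Groth.Agent.Lib.Helper14.PnFibre

/-!
# `P^n_R ⟶ Spec R` is smooth (helper8)

* `smooth_specMap_C`: `Spec R[x_σ] ⟶ Spec R` is smooth for finite `σ`.
* `smooth_chart`: the standard charts `D_+(X_i) ⟶ Spec R` are smooth.
* `smooth_toSpec`: `CohB1.ProjSpace.toSpec n R` is smooth.
-/

set_option autoImplicit false
set_option linter.style.haveILetI false
universe u
open CategoryTheory CategoryTheory.Limits AlgebraicGeometry MvPolynomial

namespace Groth.Agent.Lib.helper8.PnSmooth

open Groth.Agent.Lib.Helper18.ProjChart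

variable (n : ℕ) (R : Type u) [CommRing R]

theorem smooth_specMap_C (σ : Type) [Finite σ] :
    Smooth (Spec.map (CommRingCat.ofHom (C : R →+* MvPolynomial σ R))) := by
  rw [HasRingHomProperty.Spec_iff (P := @Smooth)]
  have h : Algebra.Smooth R (MvPolynomial σ R) := ⟨inferInstance, inferInstance⟩
  have h2 := RingHom.smooth_algebraMap.mpr h
  exact h2

/-- the standard chart `D_+(X_i) ⟶ Spec R` is smooth -/
theorem smooth_chart (i : Fin (n + 1)) :
    Smooth (X := (Proj.basicOpen (CohB1.polyGrading n R)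
      (X i : MvPolynomial (Fin (n + 1)) R)).toScheme) (Y := Spec (CommRingCat.of R))
      ((Proj.basicOpen (CohB1.polyGrading n R)
      (X i : MvPolynomial (Fin (n + 1)) R)).ι ≫ (Proj.toSpecZero (CohB1.polyGrading n R) ≫
      Spec.map (CommRingCat.ofHom (algebraMap R (CohB1.polyGrading n R 0))))) := by
  have hC := smooth_specMap_C R (Idx n i)
  have h1 : cHom n R i = ((chartEquiv n R i).toRingHom).comp
      (C : R →+* MvPolynomial (Idx n i) R) := by
    ext r
    simp [chartEquiv, Φ]
  rw [← MorphismProperty.cancel_left_of_respectsIso (P := @Smooth)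
    (Proj.basicOpenIsoSpec (CohB1.polyGrading n R) (X i : MvPolynomial (Fin (n + 1)) R)
      (Groth.Agent.Lib.helper28.TwistPn.X_mem n R i) one_pos).inv, ← Category.assoc, ← Category.assoc,
    ← Proj.awayι, Proj.awayι_toSpecZero, ← Spec.map_comp]
  have h2 : (CommRingCat.ofHom (algebraMap R (CohB1.polyGrading n R 0)) ≫
      CommRingCat.ofHom (HomogeneousLocalization.fromZeroRingHom (CohB1.polyGrading n R)
        (Submonoid.powers (X i : MvPolynomial (Fin (n + 1)) R)))) =
      CommRingCat.ofHom (C : R →+* MvPolynomial (Idx n i) R) ≫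
        CommRingCat.ofHom (chartEquiv n R i).toRingHom := by
    rw [← CommRingCat.ofHom_comp, ← CommRingCat.ofHom_comp, ← h1]
    rfl
  rw [h2, Spec.map_comp]
  haveI : IsIso (Spec.map (CommRingCat.ofHom (chartEquiv n R i).toRingHom)) := by
    have : IsIso (CommRingCat.ofHom (chartEquiv n R i).toRingHom) :=
      (chartEquiv n R i).toCommRingCatIso.isIso_hom
    infer_instance
  exact (MorphismProperty.cancel_left_of_respectsIso (P := @Smooth) _ _).mpr hC

/-- `P^n_R ⟶ Spec R` is smooth -/
instance smooth_toSpec : Smooth (CohB1.ProjSpace.toSpec n R) := by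
  let U : Fin (n + 1) → (Proj (CohB1.polyGrading n R)).Opens := fun i =>
    Proj.basicOpen (CohB1.polyGrading n R) (X i : MvPolynomial (Fin (n + 1)) R)
  have hU : iSup U = ⊤ := by
    rw [eq_top_iff]
    intro t _
    obtain ⟨i, hi⟩ := Groth.Agent.Lib.helper28.TwistPn.exists_X_notMem n R t
    exact TopologicalSpace.Opens.mem_iSup.mpr
      ⟨i, (ProjectiveSpectrum.mem_basicOpen (CohB1.polyGrading n R) _ t).mpr hi⟩
  change Smooth (Proj.toSpecZero (CohB1.polyGrading n R) ≫
      Spec.map (CommRingCat.ofHom (algebraMap R (CohB1.polyGrading n R 0))))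
  rw [IsZariskiLocalAtSource.iff_of_iSup_eq_top (P := @Smooth) U hU]
  intro i
  exact smooth_chart n R i

end Groth.Agent.Lib.helper8.PnSmooth
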