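import Mathlib
import Groth.Prelude.Def_W4c2gaugesfzipsQuiet

/-!
# Towers of `p`-th root extractions, ring-homomorphism form (helper8)

* `Tower p n A B f`: the ring map `f : A →+* B` is a tower of `n` elementary `p`-th root extractions
  (`tower_iff`: this is `Quiet.IsRootTower` for `f = algebraMap A B`).
* `rootMap`: functoriality of `A ↦ A[x]/(x^p - a)`; `isPushout_rootMap`: it is a pushout.
* `Tower.comp_bijective_left/right`, `Tower.comp` (towers compose), `Tower.of_isPushout` (towers are
  stable under pushouts of commutative rings).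
-/

set_option autoImplicit false
universe u
open Polynomial CategoryTheory CategoryTheory.Limits

namespace Groth.Agent.Lib.helper8.QuietR

/-- ring-homomorphism form of `Quiet.IsRootTower` -/
def Tower (p : ℕ) : ℕ → ∀ (A B : Type u) [CommRing A] [CommRing B], (A →+* B) → Prop
  | 0, _, _, _, _, f => Function.Bijective f
  | n + 1, A, B, _, _, f => ∃ (a : A) (g : Quiet.RootRing p A a →+* B),
      g.comp (AdjoinRoot.of (X ^ p - C a : A[X])) = f ∧ Tower p n (Quiet.RootRing p A a) B g

theorem tower_iff (p : ℕ) : ∀ (n : ℕ) (A B : Type u) [CommRing A] [CommRing B] [Algebra A B],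
    Quiet.IsRootTower p n A B ↔ Tower p n A B (algebraMap A B)
  | 0, A, B, _, _, _ => by
    constructor
    · rintro ⟨e⟩
      have h : (algebraMap A B : A → B) = e.symm ∘ (algebraMap A A) := by
        funext x
        exact (e.symm.commutes x).symm
      show Function.Bijective (algebraMap A B)
      rw [h]
      exact e.symm.bijective.comp Function.bijective_id
    · intro h
      exact ⟨(AlgEquiv.ofBijective (Algebra.ofId A B) h).symm⟩
  | n + 1, A, B, _, _, _ => by
    constructor
    · rintro ⟨a, alg, htower, h⟩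
      refine ⟨a, algebraMap (Quiet.RootRing p A a) B, ?_, (tower_iff p n _ B).mp h⟩
      ext x
      exact (IsScalarTower.algebraMap_apply A (Quiet.RootRing p A a) B x).symm
    · rintro ⟨a, g, hg, h⟩
      letI alg : Algebra (Quiet.RootRing p A a) B := g.toAlgebra
      refine ⟨a, alg, IsScalarTower.of_algebraMap_eq (fun x => ?_), (tower_iff p n _ B).mpr h⟩
      rw [← hg]
      rfl

theorem Tower.comp_bijective_right (p : ℕ) : ∀ (n : ℕ) (A B B' : Type u) [CommRing A] [CommRing B]
    [CommRing B'] (f : A →+* B) (e : B →+* B') (_ : Function.Bijective e),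
    Tower p n A B f → Tower p n A B' (e.comp f)
  | 0, _, _, _, _, _, _, f, e, he => fun hf => he.comp hf
  | n + 1, A, B, B', _, _, _, f, e, he => by
    rintro ⟨a, g, hg, h⟩
    exact ⟨a, e.comp g, by rw [RingHom.comp_assoc, hg],
      Tower.comp_bijective_right p n _ B B' g e he h⟩

section RootMap

variable (p : ℕ) {A A' : Type u} [CommRing A] [CommRing A']

theorem root_pow (a : A) :
    (AdjoinRoot.root (X ^ p - C a : A[X])) ^ p = AdjoinRoot.of (X ^ p - C a : A[X]) a := by
  have := AdjoinRoot.eval₂_root (X ^ p - C a : A[X])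
  rw [eval₂_sub, eval₂_pow, eval₂_X, eval₂_C, sub_eq_zero] at this
  exact this

/-- functoriality of `A ↦ A[x]/(x^p - a)` -/
noncomputable def rootMap (h : A →+* A') (a : A) (a' : A') (ha : h a = a') :
    Quiet.RootRing p A a →+* Quiet.RootRing p A' a' :=
  AdjoinRoot.lift ((AdjoinRoot.of (X ^ p - C a' : A'[X])).comp h)
    (AdjoinRoot.root (X ^ p - C a' : A'[X])) (by
      rw [eval₂_sub, eval₂_pow, eval₂_X, eval₂_C, RingHom.comp_apply, ha, root_pow, sub_self])

theorem rootMap_of (h : A →+* A') (a : A) (a' : A') (ha : h a = a') (x : A) :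
    rootMap p h a a' ha (AdjoinRoot.of (X ^ p - C a : A[X]) x) =
      AdjoinRoot.of (X ^ p - C a' : A'[X]) (h x) := AdjoinRoot.lift_of _

theorem rootMap_root (h : A →+* A') (a : A) (a' : A') (ha : h a = a') :
    rootMap p h a a' ha (AdjoinRoot.root (X ^ p - C a : A[X])) =
      AdjoinRoot.root (X ^ p - C a' : A'[X]) := AdjoinRoot.lift_root _

theorem rootMap_comp_of (h : A →+* A') (a : A) (a' : A') (ha : h a = a') :
    (rootMap p h a a' ha).comp (AdjoinRoot.of (X ^ p - C a : A[X])) =
      (AdjoinRoot.of (X ^ p - C a' : A'[X])).comp h :=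
  RingHom.ext (fun x => rootMap_of p h a a' ha x)

theorem rootMap_bijective (h : A →+* A') (hh : Function.Bijective h) (a : A) (a' : A')
    (ha : h a = a') : Function.Bijective (rootMap p h a a' ha) := by
  let e : A ≃+* A' := RingEquiv.ofBijective h hh
  have he : ∀ x, e x = h x := fun x => rfl
  have ha' : (e.symm : A' →+* A) a' = a := by
    rw [← ha]
    exact e.symm_apply_apply a
  have h1 : (rootMap p (e.symm : A' →+* A) a' a ha').comp (rootMap p h a a' ha) =
      RingHom.id _ := by
    apply AdjoinRoot.ringHom_ext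
    · ext x
      simp only [RingHom.comp_apply, RingHom.id_apply, rootMap_of]
      congr 1
      exact e.symm_apply_apply x
    · simp only [RingHom.comp_apply, RingHom.id_apply, rootMap_root]
  have h2 : (rootMap p h a a' ha).comp (rootMap p (e.symm : A' →+* A) a' a ha') =
      RingHom.id _ := by
    apply AdjoinRoot.ringHom_ext
    · ext x
      simp only [RingHom.comp_apply, RingHom.id_apply, rootMap_of]
      congr 1
      exact e.apply_symm_apply x
    · simp only [RingHom.comp_apply, RingHom.id_apply, rootMap_root]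
  rw [Function.bijective_iff_has_inverse]
  exact ⟨rootMap p (e.symm : A' →+* A) a' a ha', fun x => RingHom.congr_fun h1 x,
    fun x => RingHom.congr_fun h2 x⟩

/-- `A'[x]/(x^p - h a)` is the pushout of `A[x]/(x^p - a)` along `h : A → A'` -/
theorem isPushout_rootMap (h : A →+* A') (a : A) (a' : A') (ha : h a = a') :
    IsPushout (CommRingCat.ofHom (AdjoinRoot.of (X ^ p - C a : A[X]))) (CommRingCat.ofHom h)
      (CommRingCat.ofHom (rootMap p h a a' ha))
      (CommRingCat.ofHom (AdjoinRoot.of (X ^ p - C a' : A'[X]))) := by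
  have w : CommRingCat.ofHom (AdjoinRoot.of (X ^ p - C a : A[X])) ≫
      CommRingCat.ofHom (rootMap p h a a' ha) =
      CommRingCat.ofHom h ≫ CommRingCat.ofHom (AdjoinRoot.of (X ^ p - C a' : A'[X])) := by
    rw [← CommRingCat.ofHom_comp, ← CommRingCat.ofHom_comp, rootMap_comp_of]
  refine ⟨⟨w⟩, ⟨PushoutCocone.IsColimit.mk w (fun s => ?_) (fun s => ?_) (fun s => ?_)
    (fun s m h1 h2 => ?_)⟩⟩
  · refine CommRingCat.ofHom (AdjoinRoot.lift s.inr.hom
      (s.inl.hom (AdjoinRoot.root (X ^ p - C a : A[X]))) ?_)
    rw [eval₂_sub, eval₂_pow, eval₂_X, eval₂_C, ← map_pow, root_pow, ← ha]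
    have := congrArg (fun φ => φ.hom a) s.condition
    simp only [CommRingCat.hom_comp, CommRingCat.hom_ofHom, RingHom.comp_apply] at this
    rw [this, sub_self]
  · apply CommRingCat.hom_ext
    apply AdjoinRoot.ringHom_ext
    · ext x
      simp only [CommRingCat.hom_comp, CommRingCat.hom_ofHom, RingHom.comp_apply, rootMap_of,
        AdjoinRoot.lift_of]
      have := congrArg (fun φ => φ.hom x) s.condition
      simp only [CommRingCat.hom_comp, CommRingCat.hom_ofHom, RingHom.comp_apply] at this
      exact this.symm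
    · simp only [CommRingCat.hom_comp, CommRingCat.hom_ofHom, RingHom.comp_apply, rootMap_root,
        AdjoinRoot.lift_root]
  · apply CommRingCat.hom_ext
    ext x
    simp only [CommRingCat.hom_comp, CommRingCat.hom_ofHom, RingHom.comp_apply,
      AdjoinRoot.lift_of]
  · apply CommRingCat.hom_ext
    apply AdjoinRoot.ringHom_ext
    · ext x
      simp only [CommRingCat.hom_ofHom, RingHom.comp_apply, AdjoinRoot.lift_of]
      have := congrArg (fun φ => φ.hom x) h2
      simp only [CommRingCat.hom_comp, CommRingCat.hom_ofHom, RingHom.comp_apply] at this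
      exact this
    · simp only [CommRingCat.hom_ofHom, AdjoinRoot.lift_root]
      have := congrArg (fun φ => φ.hom (AdjoinRoot.root (X ^ p - C a : A[X]))) h1
      simp only [CommRingCat.hom_comp, CommRingCat.hom_ofHom, RingHom.comp_apply,
        rootMap_root] at this
      exact this

end RootMap

theorem Tower.comp_bijective_left (p : ℕ) : ∀ (n : ℕ) (A' A B : Type u) [CommRing A'] [CommRing A]
    [CommRing B] (e : A' →+* A) (_ : Function.Bijective e) (f : A →+* B),
    Tower p n A B f → Tower p n A' B (f.comp e)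
  | 0, _, _, _, _, _, _, e, he, f => fun hf =>
    show Function.Bijective (f.comp e) from (show Function.Bijective f from hf).comp he
  | n + 1, A', A, B, _, _, _, e, he, f => by
    rintro ⟨a, g, hg, h⟩
    obtain ⟨a', ha'⟩ := he.2 a
    refine ⟨a', g.comp (rootMap p e a' a ha'), ?_,
      Tower.comp_bijective_left p n _ _ B (rootMap p e a' a ha')
        (rootMap_bijective p e he a' a ha') g h⟩
    rw [RingHom.comp_assoc, rootMap_comp_of, ← RingHom.comp_assoc, hg]

/-- towers compose -/
theorem Tower.comp (p : ℕ) : ∀ (m n : ℕ) (A B D : Type u) [CommRing A] [CommRing B] [CommRing D]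
    (f : A →+* B) (g : B →+* D), Tower p m A B f → Tower p n B D g →
      Tower p (n + m) A D (g.comp f)
  | 0, n, A, B, D, _, _, _, f, g => fun hf hg => Tower.comp_bijective_left p n A B D f hf g hg
  | m + 1, n, A, B, D, _, _, _, f, g => by
    rintro ⟨a, f', hf', h⟩ hg
    exact ⟨a, g.comp f', by rw [RingHom.comp_assoc, hf'],
      Tower.comp p m n _ B D f' g h hg⟩

/-- towers are stable under pushouts -/
theorem Tower.of_isPushout (p : ℕ) : ∀ (n : ℕ) (A B A' B' : Type u) [CommRing A] [CommRing B]
    [CommRing A'] [CommRing B'] (f : A →+* B) (h : A →+* A') (h' : B →+* B') (f' : A' →+* B'),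
    IsPushout (CommRingCat.ofHom f) (CommRingCat.ofHom h) (CommRingCat.ofHom h')
      (CommRingCat.ofHom f') → Tower p n A B f → Tower p n A' B' f'
  | 0, A, B, A', B', _, _, _, _, f, h, h', f' => by
    intro hP hf
    have hiso : IsIso (CommRingCat.ofHom f) :=
      (ConcreteCategory.isIso_iff_bijective (CommRingCat.ofHom f)).mpr hf
    have := hP.isIso_inr_of_isIso
    exact (ConcreteCategory.isIso_iff_bijective (CommRingCat.ofHom f')).mp this
  | n + 1, A, B, A', B', _, _, _, _, f, h, h', f' => by
    rintro hP ⟨a, g, hg, hT⟩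
    have hL := isPushout_rootMap p h a (h a) rfl
    -- the induced map out of the left pushout
    have hcond : CommRingCat.ofHom (AdjoinRoot.of (X ^ p - C a : A[X])) ≫
        (CommRingCat.ofHom g ≫ CommRingCat.ofHom h') =
        CommRingCat.ofHom h ≫ CommRingCat.ofHom f' := by
      rw [← Category.assoc, ← CommRingCat.ofHom_comp, hg]
      exact hP.w
    let g'c := hL.desc (CommRingCat.ofHom g ≫ CommRingCat.ofHom h') (CommRingCat.ofHom f') hcond
    have h1 : CommRingCat.ofHom (rootMap p h a (h a) rfl) ≫ g'c =
        CommRingCat.ofHom g ≫ CommRingCat.ofHom h' := hL.inl_desc _ _ _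
    have h2 : CommRingCat.ofHom (AdjoinRoot.of (X ^ p - C (h a) : A'[X])) ≫ g'c =
        CommRingCat.ofHom f' := hL.inr_desc _ _ _
    have hg'c : g'c = CommRingCat.ofHom g'c.hom := rfl
    have houter : IsPushout
        (CommRingCat.ofHom (AdjoinRoot.of (X ^ p - C a : A[X])) ≫ CommRingCat.ofHom g)
        (CommRingCat.ofHom h) (CommRingCat.ofHom h')
        (CommRingCat.ofHom (AdjoinRoot.of (X ^ p - C (h a) : A'[X])) ≫ g'c) := by
      rw [h2, ← CommRingCat.ofHom_comp, hg]
      exact hP
    have hR := IsPushout.of_left houter h1.symm hL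
    rw [hg'c] at hR
    refine ⟨h a, g'c.hom, ?_, Tower.of_isPushout p n _ B _ B' g _ h' g'c.hom hR hT⟩
    have := congrArg CommRingCat.Hom.hom h2
    simpa using this

end Groth.Agent.Lib.helper8.QuietR
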