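import Mathlib
import Groth.Prelude.Def_W4c2gaugesfzipsQuiet
import Groth.Agent.Lib.Helper8.QuietRing1

/-!
# Base change of `p`-th root morphisms; regular sequences under faithfully flat maps (helper8)

* `isPthRoot_baseChange`: `Quiet.IsPthRoot` is stable under base change.
* `isPushout_quotientMap`, `prop_of_isPushout`.
* `isRegular_map_of_faithfullyFlat`, `isRegular_append_of_quotient`.
-/

set_option autoImplicit false
universe u
open CategoryTheory CategoryTheory.Limits AlgebraicGeometry Opposite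
open Groth.Agent.Lib.helper8.QuietR

namespace Groth.Agent.Lib.helper8.QuietS

/-- `p`-th root morphisms are stable under base change -/
theorem isPthRoot_baseChange (p : ℕ) {X Y S T : Scheme.{u}} {f : T ⟶ S} {g : Y ⟶ X} {iX : X ⟶ S}
    {iY : Y ⟶ T} (H : IsPullback g iY iX f) (h : Quiet.IsPthRoot p iX) : Quiet.IsPthRoot p iY := by
  intro t
  obtain ⟨⟨US, hUS⟩, hs, hUX, hn⟩ := h (f t)
  obtain ⟨UT, hUT, htUT, hUTsub⟩ := exists_isAffineOpen_mem_and_subset (x := t) (U := f ⁻¹ᵁ US) hs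
  have hUST : UT ≤ f ⁻¹ᵁ US := hUTsub
  have hUSX : iX ⁻¹ᵁ US ≤ iX ⁻¹ᵁ US := le_rfl
  have hUY : iY ⁻¹ᵁ UT = g ⁻¹ᵁ (iX ⁻¹ᵁ US) ⊓ iY ⁻¹ᵁ UT := by
    refine (inf_eq_right.mpr ?_).symm
    rw [← Scheme.Hom.comp_preimage, H.w, Scheme.Hom.comp_preimage]
    exact iY.preimage_mono hUST
  have hiso := isIso_pushoutSection_of_isAffineOpen H hUST hUSX hUY hUS hUT hUX
  have hPO := (isIso_pushoutSection_iff H hUST hUSX hUY).mp hiso
  have hUYaff : IsAffineOpen (iY ⁻¹ᵁ UT) := by
    have : IsAffine US := hUS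
    have : IsAffine UT := hUT
    have : IsAffine (iX ⁻¹ᵁ US) := hUX
    exact .of_isIso (Scheme.Hom.isPullback_resLE H hUST hUSX hUY).isoPullback.hom
  refine ⟨⟨UT, hUT⟩, htUT, hUYaff, ?_⟩
  obtain ⟨n, hn⟩ := hn
  have hT : Tower p n Γ(S, US) Γ(X, iX ⁻¹ᵁ US) (iX.appLE US (iX ⁻¹ᵁ US) hUSX).hom := by
    letI := (iX.app US).hom.toAlgebra
    have := (tower_iff p n _ _).mp hn
    rw [Scheme.Hom.app_eq_appLE] at this
    exact this
  have hT' := Tower.of_isPushout p n Γ(S, US) Γ(X, iX ⁻¹ᵁ US) Γ(T, UT) Γ(Y, iY ⁻¹ᵁ UT)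
    (iX.appLE US (iX ⁻¹ᵁ US) hUSX).hom (f.appLE US UT hUST).hom
    (g.appLE (iX ⁻¹ᵁ US) (iY ⁻¹ᵁ UT) (by rw [hUY]; exact inf_le_left)).hom
    (iY.appLE UT (iY ⁻¹ᵁ UT) le_rfl).hom hPO hT
  letI := (iY.app UT).hom.toAlgebra
  refine ⟨n, (tower_iff p n _ _).mpr ?_⟩
  rw [Scheme.Hom.app_eq_appLE]
  exact hT'

/-- `S/φ(J)S` is the pushout of `φ : R → S` along `R → R/J` -/
theorem isPushout_quotientMap {R S : Type u} [CommRing R] [CommRing S] (φ : R →+* S)
    (J : Ideal R) :
    IsPushout (CommRingCat.ofHom φ) (CommRingCat.ofHom (Ideal.Quotient.mk J))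
      (CommRingCat.ofHom (Ideal.Quotient.mk (J.map φ)))
      (CommRingCat.ofHom (Ideal.quotientMap (J.map φ) φ Ideal.le_comap_map)) := by
  have w : CommRingCat.ofHom φ ≫ CommRingCat.ofHom (Ideal.Quotient.mk (J.map φ)) =
      CommRingCat.ofHom (Ideal.Quotient.mk J) ≫
        CommRingCat.ofHom (Ideal.quotientMap (J.map φ) φ Ideal.le_comap_map) := by
    rw [← CommRingCat.ofHom_comp, ← CommRingCat.ofHom_comp]
    congr 1
  refine ⟨⟨w⟩, ⟨PushoutCocone.IsColimit.mk w (fun s => ?_) (fun s => ?_) (fun s => ?_)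
    (fun s m h1 h2 => ?_)⟩⟩
  · refine CommRingCat.ofHom (Ideal.Quotient.lift (J.map φ) s.inl.hom ?_)
    have hle : J.map φ ≤ RingHom.ker s.inl.hom := by
      rw [Ideal.map_le_iff_le_comap]
      intro j hj
      rw [Ideal.mem_comap, RingHom.mem_ker]
      have := congrArg (fun ψ => ψ.hom j) s.condition
      simp only [CommRingCat.hom_comp, CommRingCat.hom_ofHom, RingHom.comp_apply] at this
      rw [this, Ideal.Quotient.eq_zero_iff_mem.mpr hj, map_zero]
    exact fun a ha => hle ha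
  · apply CommRingCat.hom_ext
    ext x
    simp
  · apply CommRingCat.hom_ext
    apply Ideal.Quotient.ringHom_ext
    ext x
    have := congrArg (fun ψ => ψ.hom x) s.condition
    simp only [CommRingCat.hom_comp, CommRingCat.hom_ofHom, RingHom.comp_apply] at this
    simp [this]
  · apply CommRingCat.hom_ext
    apply Ideal.Quotient.ringHom_ext
    ext x
    have := congrArg (fun ψ => ψ.hom x) h1
    simp only [CommRingCat.hom_comp, CommRingCat.hom_ofHom, RingHom.comp_apply] at this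
    simp [this]

/-- properties of ring maps stable under base change pass along pushout squares -/
theorem prop_of_isPushout {P : ∀ {R S : Type u} [CommRing R] [CommRing S], (R →+* S) → Prop}
    (hP : RingHom.IsStableUnderBaseChange @P) (hP' : RingHom.RespectsIso @P)
    {R S R' S' : Type u} [CommRing R] [CommRing S] [CommRing R'] [CommRing S']
    (f : R →+* S) (h : R →+* R') (h' : S →+* S') (f' : R' →+* S')
    (hPO : IsPushout (CommRingCat.ofHom f) (CommRingCat.ofHom h) (CommRingCat.ofHom h')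
      (CommRingCat.ofHom f')) (hf : P f) : P f' := by
  have h1 : P (pushout.inl (CommRingCat.ofHom h) (CommRingCat.ofHom f)).hom :=
    hP.pushout_inl hP' (CommRingCat.ofHom h) (CommRingCat.ofHom f) hf
  have h2 := hPO.flip.inl_isoPushout_hom
  rw [← h2, CommRingCat.hom_comp, hP'.cancel_right_isIso] at h1
  exact h1

end Groth.Agent.Lib.helper8.QuietS

namespace Groth.Agent.Lib.helper8.QuietR
open RingTheory.Sequence

theorem isRegular_map_of_faithfullyFlat {R S : Type u} [CommRing R] [CommRing S] (φ : R →+* S)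
    (hφ : φ.FaithfullyFlat) {rs : List R} (reg : IsRegular R rs) : IsRegular S (rs.map φ) := by
  letI := φ.toAlgebra
  haveI : Module.FaithfullyFlat R S := hφ
  exact reg.of_faithfullyFlat

theorem isRegular_append_of_quotient {R : Type u} [CommRing R] (rs₁ rs₂ : List R) (I : Ideal R)
    (hI : I = Ideal.ofList rs₁) (h1 : IsRegular R rs₁)
    (h2 : IsRegular (R ⧸ I) (rs₂.map (Ideal.Quotient.mk I))) : IsRegular R (rs₁ ++ rs₂) := by
  subst hI
  have hsm : (Ideal.ofList rs₁ • ⊤ : Submodule R R) = Ideal.ofList rs₁ := by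
    rw [Ideal.smul_eq_mul, Ideal.mul_top]
  let e : (R ⧸ (Ideal.ofList rs₁ • ⊤ : Submodule R R)) ≃ₗ[R] (R ⧸ Ideal.ofList rs₁) :=
    Submodule.quotEquivOfEq _ _ hsm
  refine ⟨(isWeaklyRegular_append_iff' R rs₁ rs₂).mpr ⟨h1.1, ?_⟩, ?_⟩
  · refine (e.toAddEquiv.isWeaklyRegular_congr (as := rs₂.map (Ideal.Quotient.mk _))
      (bs := rs₂.map (Ideal.Quotient.mk _)) ?_).mpr h2.1
    refine List.forall₂_same.mpr (fun s _ x => ?_)
    obtain ⟨r, rfl⟩ := Ideal.Quotient.mk_surjective s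
    obtain ⟨y, rfl⟩ := Submodule.Quotient.mk_surjective _ x
    rfl
  · intro htop
    apply h2.2
    rw [Ideal.smul_eq_mul, Ideal.mul_top] at htop ⊢
    have := congrArg (Ideal.map (Ideal.Quotient.mk (Ideal.ofList rs₁))) htop
    rw [Ideal.map_top, Ideal.ofList_append, Ideal.map_sup, Ideal.map_quotient_self, bot_sup_eq,
      Ideal.map_ofList] at this
    exact this

end Groth.Agent.Lib.helper8.QuietR
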