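import Mathlib
import Groth.Prelude.Def_W4c2gaugesfzipsQuiet
import Groth.Prelude.Def_FrobAlg
import Groth.Agent.Lib.Helper8.QuietRing1
import Groth.Agent.S3176

/-!
# Étale descent along towers of `p`-th root extractions (helper8)

For `A` of characteristic `p`, `R = A[x]/(x^p - a)` and an étale `R`-algebra `C`, the Frobenius of `R`
factors as `R → A → R` (`frobDown`), and `C₀ := A ⊗_R C` is an étale `A`-algebra with
`C₀[x]/(x^p - a ⊗ 1) ≅ C` (`descRoot_bijective`, using that the relative Frobenius of an étale algebra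
is bijective, S3176).  Consequences:

* `step`: one-step descent; `exists_descent`: if `f : A → B` is a tower of `n` extractions and
  `h : B → C` is étale (`C` nontrivial, `p = 0` in `A`), then `h ∘ f = ψ ∘ φ₀` with `φ₀ : A → C₀` étale and
  `ψ : C₀ → C` a tower of `n` extractions.
-/

set_option autoImplicit false
universe u
open Polynomial TensorProduct

namespace Groth.Agent.Lib.helper8.QuietR

theorem relFrob_tmul' (p : ℕ) [Fact p.Prime] (A : Type u) [CommRing A] [CharP A p]
    (B : Type u) [CommRing B] [Algebra A B] [CharP B p] (b : B) (t : FrobAlg.Twist p A) :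
    FrobAlg.relFrob p A B (b ⊗ₜ[A] t) = b ^ p * algebraMap A B ((FrobAlg.toTwist p A).symm t) := by
  simp only [FrobAlg.relFrob, RingHom.coe_comp, Function.comp_apply, AlgHom.toRingHom_eq_coe,
    RingHom.coe_coe, Algebra.TensorProduct.lift_tmul]
  rfl

section Step

variable (p : ℕ) [Fact p.Prime] {A : Type u} [CommRing A] [CharP A p] (a : A)

/-- the map `A[x]/(x^p - a) → A`, `b ↦ b^p`, `x ↦ a` -/
noncomputable def frobDown : Quiet.RootRing p A a →+* A :=
  AdjoinRoot.lift (frobenius A p) a (by
    rw [eval₂_sub, eval₂_pow, eval₂_X, eval₂_C, frobenius_def, sub_self])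

theorem frobDown_of (b : A) : frobDown p a (AdjoinRoot.of _ b) = b ^ p := by
  rw [frobDown, AdjoinRoot.lift_of, frobenius_def]

theorem frobDown_root : frobDown p a (AdjoinRoot.root _) = a := by
  rw [frobDown, AdjoinRoot.lift_root]

theorem of_frobDown [CharP (Quiet.RootRing p A a) p] (r : Quiet.RootRing p A a) :
    AdjoinRoot.of (X ^ p - C a : A[X]) (frobDown p a r) = r ^ p := by
  have h : (AdjoinRoot.of (X ^ p - C a : A[X])).comp (frobDown p a) =
      frobenius (Quiet.RootRing p A a) p := by
    apply AdjoinRoot.ringHom_ext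
    · ext b
      simp only [RingHom.comp_apply, frobDown_of, map_pow, frobenius_def]
    · simp only [RingHom.comp_apply, frobDown_root, frobenius_def, root_pow]
  have := RingHom.congr_fun h r
  simpa [frobenius_def] using this

end Step

section Step2

variable (p : ℕ) [Fact p.Prime] {A : Type u} [CommRing A] [CharP A p] (a : A)
  [CharP (Quiet.RootRing p A a) p] (C' : Type u) [CommRing C'] [CharP C' p]
  [Algebra (Quiet.RootRing p A a) C']

/-- `A` as an algebra over `A[x]/(x^p-a)` through `frobDown`. -/
noncomputable abbrev algDown : Algebra (Quiet.RootRing p A a) A := (frobDown p a).toAlgebra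

/-- the `R`-algebra map `A → Twist p R` -/
noncomputable def ofTw :
    letI := algDown p a
    A →ₐ[Quiet.RootRing p A a] FrobAlg.Twist p (Quiet.RootRing p A a) :=
  letI := algDown p a
  { toRingHom := (FrobAlg.toTwist p (Quiet.RootRing p A a) : _ →+* _).comp
      (AdjoinRoot.of (X ^ p - C a : A[X]))
    commutes' := fun r => by
      show FrobAlg.toTwist p _ (AdjoinRoot.of _ (frobDown p a r)) = _
      rw [of_frobDown, FrobAlg.algebraMap_twist] }

/-- the descended ring -/
abbrev Desc : Type u :=
  letI := algDown p a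
  A ⊗[Quiet.RootRing p A a] C'

/-- the map `ψ : A ⊗_R C → C`, `a' ⊗ c ↦ c^p a'` -/
noncomputable def descMap : Desc p a C' →+* C' :=
  letI := algDown p a
  (FrobAlg.relFrob p (Quiet.RootRing p A a) C').comp
    (((Algebra.TensorProduct.map (AlgHom.id (Quiet.RootRing p A a) C') (ofTw p a)).toRingHom).comp
      (Algebra.TensorProduct.comm (Quiet.RootRing p A a) A C').toAlgHom.toRingHom)

theorem descMap_tmul (a' : A) (c : C') :
    letI := algDown p a
    descMap p a C' (a' ⊗ₜ c) = c ^ p * algebraMap (Quiet.RootRing p A a) C'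
      (AdjoinRoot.of _ a') := by
  letI := algDown p a
  simp only [descMap, RingHom.comp_apply]
  show FrobAlg.relFrob p _ C' (Algebra.TensorProduct.map (AlgHom.id _ C') (ofTw p a)
    (Algebra.TensorProduct.comm _ A C' (a' ⊗ₜ c))) = _
  rw [Algebra.TensorProduct.comm_tmul, Algebra.TensorProduct.map_tmul, relFrob_tmul']
  rfl

/-- the element `a ⊗ 1` of the descended ring -/
noncomputable abbrev descElt : Desc p a C' :=
  letI := algDown p a
  (a ⊗ₜ (1 : C'))

theorem descMap_descElt :
    descMap p a C' (descElt p a C') = (algebraMap (Quiet.RootRing p A a) C'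
      (AdjoinRoot.root _)) ^ p := by
  rw [descElt, descMap_tmul, one_pow, one_mul, ← map_pow, root_pow]

/-- the comparison map `(A ⊗_R C)[x]/(x^p - a⊗1) → C` -/
noncomputable def descRoot : Quiet.RootRing p (Desc p a C') (descElt p a C') →+* C' :=
  AdjoinRoot.lift (descMap p a C') (algebraMap (Quiet.RootRing p A a) C' (AdjoinRoot.root _)) (by
    rw [eval₂_sub, eval₂_pow, eval₂_X, eval₂_C, descMap_descElt, sub_self])

/-- `φ₀ : A → A ⊗_R C` -/
noncomputable def descIncl : A →+* Desc p a C' :=
  letI := algDown p a
  (Algebra.TensorProduct.includeLeft : A →ₐ[Quiet.RootRing p A a] _).toRingHom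

theorem descIncl_apply (b : A) :
    letI := algDown p a
    descIncl p a C' b = b ⊗ₜ (1 : C') := rfl

/-- `R → (A ⊗_R C)[x]/(x^p - a⊗1)` -/
noncomputable def descRootMap :
    Quiet.RootRing p A a →+* Quiet.RootRing p (Desc p a C') (descElt p a C') :=
  rootMap p (descIncl p a C') a (descElt p a C') rfl

theorem descRoot_comp_descRootMap :
    (descRoot p a C').comp (descRootMap p a C') = algebraMap (Quiet.RootRing p A a) C' := by
  apply AdjoinRoot.ringHom_ext
  · ext b
    simp only [RingHom.comp_apply, descRootMap, rootMap_of, descRoot, AdjoinRoot.lift_of]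
    rw [descIncl_apply, descMap_tmul, one_pow, one_mul]
  · simp only [RingHom.comp_apply, descRootMap, rootMap_root, descRoot, AdjoinRoot.lift_root]

/-- `C → (A ⊗_R C)[x]/(x^p - a⊗1)` -/
noncomputable def descInr : C' →+* Quiet.RootRing p (Desc p a C') (descElt p a C') :=
  letI := algDown p a
  (AdjoinRoot.of _).comp
    (Algebra.TensorProduct.includeRight : C' →ₐ[Quiet.RootRing p A a] Desc p a C').toRingHom

theorem descInr_apply (c : C') :
    letI := algDown p a
    descInr p a C' c = AdjoinRoot.of _ ((1 : A) ⊗ₜ c) := rfl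

theorem descRoot_descInr (c : C') : descRoot p a C' (descInr p a C' c) = c ^ p := by
  rw [descInr_apply, descRoot, AdjoinRoot.lift_of, descMap_tmul, map_one, map_one, mul_one]

theorem descInr_algebraMap (r : Quiet.RootRing p A a) :
    descInr p a C' (algebraMap _ C' r) = descRootMap p a C' (r ^ p) := by
  letI := algDown p a
  rw [descInr_apply, ← of_frobDown, descRootMap, rootMap_of, descIncl_apply,
    Algebra.algebraMap_eq_smul_one, ← TensorProduct.smul_tmul, Algebra.smul_def, mul_one]
  rfl


theorem descAlgebraMap (r : Quiet.RootRing p A a) :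
    letI := algDown p a
    algebraMap (Quiet.RootRing p A a) (Quiet.RootRing p (Desc p a C') (descElt p a C')) r =
      descRootMap p a C' (r ^ p) := by
  letI := algDown p a
  rw [← of_frobDown, descRootMap, rootMap_of, descIncl_apply]
  rfl

/-- `descInr` as an algebra map -/
noncomputable def descInrAlg :
    letI := algDown p a
    C' →ₐ[Quiet.RootRing p A a] (Quiet.RootRing p (Desc p a C') (descElt p a C')) :=
  letI := algDown p a
  { toRingHom := descInr p a C'
    commutes' := fun r => by
      show descInr p a C' (algebraMap _ C' r) = _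
      rw [descInr_algebraMap, descAlgebraMap] }

/-- `descRootMap` as an algebra map out of the twist -/
noncomputable def descRootMapAlg :
    letI := algDown p a
    FrobAlg.Twist p (Quiet.RootRing p A a) →ₐ[Quiet.RootRing p A a]
      (Quiet.RootRing p (Desc p a C') (descElt p a C')) :=
  letI := algDown p a
  { toRingHom := (descRootMap p a C').comp
        ((FrobAlg.toTwist p (Quiet.RootRing p A a)).symm : _ →+* _)
    commutes' := fun r => by
        show descRootMap p a C' ((FrobAlg.toTwist p _).symm (algebraMap _ _ r)) = _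
        rw [FrobAlg.algebraMap_twist, RingEquiv.symm_apply_apply, descAlgebraMap] }

/-- the comparison map `C ⊗_R Twist p R → (A ⊗_R C)[x]/(x^p - a⊗1)` -/
noncomputable def descLam : C' ⊗[Quiet.RootRing p A a] FrobAlg.Twist p (Quiet.RootRing p A a) →+*
    Quiet.RootRing p (Desc p a C') (descElt p a C') :=
  letI := algDown p a
  (Algebra.TensorProduct.lift (S := Quiet.RootRing p A a) (descInrAlg p a C')
    (descRootMapAlg p a C') (fun _ _ => Commute.all _ _)).toRingHom

theorem descLam_tmul (c : C') (t : FrobAlg.Twist p (Quiet.RootRing p A a)) :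
    descLam p a C' (c ⊗ₜ t) = descInr p a C' c *
      descRootMap p a C' ((FrobAlg.toTwist p (Quiet.RootRing p A a)).symm t) := by
  letI := algDown p a
  exact Algebra.TensorProduct.lift_tmul (S := Quiet.RootRing p A a) (descInrAlg p a C')
    (descRootMapAlg p a C') (fun _ _ => Commute.all _ _) c t

theorem descRoot_comp_descLam :
    (descRoot p a C').comp (descLam p a C') = FrobAlg.relFrob p (Quiet.RootRing p A a) C' := by
  refine RingHom.ext (fun z => ?_)
  induction z using TensorProduct.induction_on with
  | zero => simp only [map_zero]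
  | tmul c t =>
    rw [RingHom.comp_apply, descLam_tmul, map_mul, descRoot_descInr, relFrob_tmul']
    congr 1
    exact RingHom.congr_fun (descRoot_comp_descRootMap p a C') _
  | add x y hx hy => rw [map_add, map_add, hx, hy]

theorem descLam_surjective : Function.Surjective (descLam p a C') := by
  letI := algDown p a
  have h1 : ∀ c : C', descInr p a C' c ∈ (descLam p a C').range := fun c =>
    ⟨c ⊗ₜ 1, by rw [descLam_tmul, map_one, map_one, mul_one]⟩
  have h2 : ∀ r : Quiet.RootRing p A a, descRootMap p a C' r ∈ (descLam p a C').range := fun r =>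
    ⟨1 ⊗ₜ (FrobAlg.toTwist p _ r), by
      rw [descLam_tmul, map_one, one_mul, RingEquiv.symm_apply_apply]⟩
  have h3 : ∀ x : Desc p a C', AdjoinRoot.of (X ^ p - C (descElt p a C')) x ∈
      (descLam p a C').range := by
    intro x
    induction x using TensorProduct.induction_on with
    | zero => rw [map_zero]; exact Subring.zero_mem _
    | tmul b c =>
      have : (b ⊗ₜ[Quiet.RootRing p A a] c : Desc p a C') =
          descIncl p a C' b * ((1 : A) ⊗ₜ c) := by
        rw [descIncl_apply, Algebra.TensorProduct.tmul_mul_tmul, mul_one, one_mul]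
      rw [this, map_mul]
      refine Subring.mul_mem _ ?_ (h1 c)
      have := h2 (AdjoinRoot.of _ b)
      rwa [descRootMap, rootMap_of] at this
    | add x y hx hy => rw [map_add]; exact Subring.add_mem _ hx hy
  have h4 : AdjoinRoot.root (X ^ p - C (descElt p a C')) ∈ (descLam p a C').range := by
    have := h2 (AdjoinRoot.root _)
    rwa [descRootMap, rootMap_root] at this
  intro t
  show t ∈ (descLam p a C').range
  induction t using AdjoinRoot.induction_on with
  | ih q =>
    induction q using Polynomial.induction_on with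
    | C c => rw [AdjoinRoot.mk_C]; exact h3 c
    | add q r hq hr => rw [map_add]; exact Subring.add_mem _ hq hr
    | monomial n c h =>
      rw [pow_succ, ← mul_assoc, map_mul, AdjoinRoot.mk_X]
      exact Subring.mul_mem _ h h4

theorem descRoot_bijective [Algebra.Etale (Quiet.RootRing p A a) C'] :
    Function.Bijective (descRoot p a C') := by
  have hb := Groth.Agent.S3176.bijective_relFrob_of_etale p (Quiet.RootRing p A a) C'
  rw [← descRoot_comp_descLam] at hb
  constructor
  · intro x y hxy
    obtain ⟨x', rfl⟩ := descLam_surjective p a C' x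
    obtain ⟨y', rfl⟩ := descLam_surjective p a C' y
    have : x' = y' := hb.1 hxy
    rw [this]
  · intro c
    obtain ⟨z, hz⟩ := hb.2 c
    exact ⟨descLam p a C' z, hz⟩

end Step2

/-- one-step étale descent along an elementary `p`-th root extraction -/
theorem step (p : ℕ) [Fact p.Prime] {A : Type u} [CommRing A] (hp : (p : A) = 0) (a : A)
    (C' : Type u) [CommRing C'] [Nontrivial C'] (φ₁ : Quiet.RootRing p A a →+* C')
    (hφ₁ : φ₁.Etale) :
    ∃ (C₀ : Type u) (_ : CommRing C₀) (φ₀ : A →+* C₀) (ψ : C₀ →+* C'),
      φ₀.Etale ∧ Tower p 1 C₀ C' ψ ∧ ψ.comp φ₀ = φ₁.comp (AdjoinRoot.of _) := by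
  have hprime : p.Prime := Fact.out
  haveI : Nontrivial (Quiet.RootRing p A a) := φ₁.domain_nontrivial
  haveI : Nontrivial A := (AdjoinRoot.of (X ^ p - C a : A[X])).domain_nontrivial
  haveI : CharP A p := (CharP.charP_iff_prime_eq_zero hprime).mpr hp
  haveI : CharP (Quiet.RootRing p A a) p := (CharP.charP_iff_prime_eq_zero hprime).mpr (by
    rw [← map_natCast (AdjoinRoot.of (X ^ p - C a : A[X])), hp, map_zero])
  haveI : CharP C' p := (CharP.charP_iff_prime_eq_zero hprime).mpr (by
    rw [← map_natCast (φ₁.comp (AdjoinRoot.of (X ^ p - C a : A[X]))), hp, map_zero])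
  letI : Algebra (Quiet.RootRing p A a) C' := φ₁.toAlgebra
  haveI : Algebra.Etale (Quiet.RootRing p A a) C' := hφ₁
  letI := algDown p a
  refine ⟨Desc p a C', inferInstance, descIncl p a C', descMap p a C', ?_,
    ⟨descElt p a C', descRoot p a C', ?_, descRoot_bijective p a C'⟩, ?_⟩
  · have : descIncl p a C' = algebraMap A (Desc p a C') := by
      ext b
      rw [descIncl_apply, Algebra.TensorProduct.algebraMap_apply]
      rfl
    rw [this, RingHom.etale_algebraMap]
    infer_instance
  · refine RingHom.ext (fun x => ?_)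
    simp only [RingHom.comp_apply, descRoot, AdjoinRoot.lift_of]
  · ext b
    simp only [RingHom.comp_apply]
    rw [descIncl_apply, descMap_tmul, one_pow, one_mul]
    rfl

/-- étale descent along a tower of `p`-th root extractions -/
theorem exists_descent (p : ℕ) [Fact p.Prime] : ∀ (n : ℕ) (A B : Type u) [CommRing A] [CommRing B]
    (f : A →+* B) (C' : Type u) [CommRing C'] [Nontrivial C'] (h : B →+* C'),
    (p : A) = 0 → Tower p n A B f → h.Etale →
    ∃ (C₀ : Type u) (_ : CommRing C₀) (φ₀ : A →+* C₀) (ψ : C₀ →+* C'),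
      φ₀.Etale ∧ Tower p n C₀ C' ψ ∧ ψ.comp φ₀ = h.comp f
  | 0, A, B, _, _, f, C', _, _, h => by
    intro _ hf hh
    exact ⟨C', inferInstance, h.comp f, RingHom.id C',
      RingHom.Etale.stableUnderComposition _ _ (RingHom.Etale.of_bijective hf) hh,
      Function.bijective_id, rfl⟩
  | n + 1, A, B, _, _, f, C', _, _, h => by
    rintro hp ⟨a, g, hg, hT⟩ hh
    have hpR : (p : Quiet.RootRing p A a) = 0 := by
      rw [← map_natCast (AdjoinRoot.of (X ^ p - C a : A[X])), hp, map_zero]
    obtain ⟨C₁, _, φ₁, ψ₁, hφ₁, hψ₁, hc₁⟩ :=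
      exists_descent p n (Quiet.RootRing p A a) B g C' h hpR hT hh
    haveI : Nontrivial C₁ := ψ₁.domain_nontrivial
    obtain ⟨C₀, _, φ₀, ψ₀, hφ₀, hψ₀, hc₀⟩ := step p hp a C₁ φ₁ hφ₁
    refine ⟨C₀, inferInstance, φ₀, ψ₁.comp ψ₀, hφ₀, Tower.comp p 1 n C₀ C₁ C' ψ₀ ψ₁ hψ₀ hψ₁, ?_⟩
    rw [RingHom.comp_assoc, hc₀, ← RingHom.comp_assoc, hc₁, RingHom.comp_assoc, hg]

end Groth.Agent.Lib.helper8.QuietR
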