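import Mathlib
import Groth.Prelude.Def_W4c2gaugesfzipsQuiet
import Groth.Prelude.Def_FrobAlg
import Groth.Agent.Lib.Helper8.QuietRing1
import Groth.Agent.Lib.Helper8.QuietRing2
import Groth.Agent.Lib.Helper11.FrobSmooth

/-!
# Frobenius of polynomial rings, étale algebras over them and smooth algebras over perfect fields as towers of
`p`-th root extractions (helper8)

* `tower_expand`, `isPushout_mapRingHom`, `tower_frobenius_polynomial`, `tower_frobenius_mvPolynomial`:
  the Frobenius of `k[x₁..xₙ]` (`k` perfect) is a tower of `n` extractions.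
* `tower_frobenius_of_etale`: if Frobenius of `P` is a tower of `n` extractions, so is the Frobenius of an étale
  `P`-algebra.
* `tower_of_frobenius_localization`: for `A` smooth over a perfect field, every prime has a basic open `D(f)` on
  which the Frobenius `A_f → A_{f^p}` is a tower.
* `faithfullyFlat_frobenius_of_smooth`.
-/

set_option autoImplicit false
universe u
open Polynomial CategoryTheory CategoryTheory.Limits

namespace Groth.Agent.Lib.helper8.QuietR

section Poly

variable (p : ℕ) (R : Type u) [CommRing R]

/-- `R[X][T]/(T^p - X) → R[X]`, `T ↦ X`, restricting to `expand p` on `R[X]` -/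
noncomputable def expandRoot : Quiet.RootRing p R[X] (X : R[X]) →+* R[X] :=
  AdjoinRoot.lift (expand R p : R[X] →+* R[X]) (X : R[X]) (by
    rw [eval₂_sub, eval₂_pow, eval₂_X, eval₂_C]
    simp)

/-- inverse of `expandRoot` -/
noncomputable def expandRootInv : R[X] →+* Quiet.RootRing p R[X] (X : R[X]) :=
  eval₂RingHom ((AdjoinRoot.of _).comp (C : R →+* R[X])) (AdjoinRoot.root _)

theorem expandRoot_bijective : Function.Bijective (expandRoot p R) := by
  have h1 : (expandRoot p R).comp (expandRootInv p R) = RingHom.id _ := by
    apply Polynomial.ringHom_ext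
    · intro a
      simp [expandRoot, expandRootInv]
    · simp [expandRoot, expandRootInv]
  have h0 : (expandRootInv p R).comp (expand R p : R[X] →+* R[X]) = AdjoinRoot.of _ := by
    apply Polynomial.ringHom_ext
    · intro a
      simp [expandRootInv]
    · simp only [RingHom.comp_apply, expandRootInv]
      rw [RingHom.coe_coe, expand_X, map_pow, coe_eval₂RingHom, eval₂_X, root_pow]
  have h2 : (expandRootInv p R).comp (expandRoot p R) = RingHom.id _ := by
    apply AdjoinRoot.ringHom_ext
    · rw [RingHom.comp_assoc]
      have : (expandRoot p R).comp (AdjoinRoot.of _) = (expand R p : R[X] →+* R[X]) := by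
        refine RingHom.ext (fun x => ?_)
        simp [expandRoot]
      rw [this, h0, RingHom.id_comp]
    · simp [expandRoot, expandRootInv]
  rw [Function.bijective_iff_has_inverse]
  exact ⟨expandRootInv p R, fun x => RingHom.congr_fun h2 x, fun x => RingHom.congr_fun h1 x⟩

theorem tower_expand : Tower p 1 R[X] R[X] (expand R p : R[X] →+* R[X]) := by
  refine ⟨X, expandRoot p R, ?_, expandRoot_bijective p R⟩
  refine RingHom.ext (fun x => ?_)
  simp [expandRoot]

variable {R} in
/-- `R[X] → S[X]` is the pushout of `f : R → S` along `C : R → R[X]` -/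
theorem isPushout_mapRingHom {S : Type u} [CommRing S] (f : R →+* S) :
    IsPushout (CommRingCat.ofHom f) (CommRingCat.ofHom (C : R →+* R[X]))
      (CommRingCat.ofHom (C : S →+* S[X])) (CommRingCat.ofHom (mapRingHom f)) := by
  have w : CommRingCat.ofHom f ≫ CommRingCat.ofHom (C : S →+* S[X]) =
      CommRingCat.ofHom (C : R →+* R[X]) ≫ CommRingCat.ofHom (mapRingHom f) := by
    rw [← CommRingCat.ofHom_comp, ← CommRingCat.ofHom_comp]
    congr 1
    ext x
    simp
  refine ⟨⟨w⟩, ⟨PushoutCocone.IsColimit.mk w (fun s => ?_) (fun s => ?_) (fun s => ?_)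
    (fun s m h1 h2 => ?_)⟩⟩
  · exact CommRingCat.ofHom (eval₂RingHom s.inl.hom (s.inr.hom X))
  · apply CommRingCat.hom_ext
    ext x
    simp
  · apply CommRingCat.hom_ext
    apply Polynomial.ringHom_ext
    · intro a
      have := congrArg (fun φ => φ.hom a) s.condition
      simp only [CommRingCat.hom_comp, CommRingCat.hom_ofHom, RingHom.comp_apply] at this
      simp [this]
    · simp
  · apply CommRingCat.hom_ext
    apply Polynomial.ringHom_ext
    · intro a
      have := congrArg (fun φ => φ.hom a) h1
      simp only [CommRingCat.hom_comp, CommRingCat.hom_ofHom, RingHom.comp_apply] at this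
      simp [this]
    · have := congrArg (fun φ => φ.hom X) h2
      simp only [CommRingCat.hom_comp, CommRingCat.hom_ofHom, RingHom.comp_apply] at this
      simp [← this]

theorem tower_frobenius_polynomial [Fact p.Prime] [CharP R p] (n : ℕ)
    (h : Tower p n R R (frobenius R p)) : Tower p (n + 1) R[X] R[X] (frobenius R[X] p) := by
  have h1 := Tower.of_isPushout p n R R R[X] R[X] (frobenius R p) C C (mapRingHom (frobenius R p))
    (isPushout_mapRingHom (frobenius R p)) h
  have h2 := Tower.comp p 1 n R[X] R[X] R[X] _ _ (tower_expand p R) h1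
  have : (mapRingHom (frobenius R p)).comp (expand R p : R[X] →+* R[X]) = frobenius R[X] p := by
    refine RingHom.ext (fun f => ?_)
    simp only [RingHom.comp_apply, RingHom.coe_coe, coe_mapRingHom, frobenius_def]
    exact map_frobenius_expand p f
  rwa [this] at h2

end Poly

section Frob

variable (p : ℕ) [Fact p.Prime]

/-- transfer of "Frobenius is a tower" along a ring isomorphism -/
theorem tower_frobenius_of_ringEquiv {A B : Type u} [CommRing A] [CommRing B] [CharP A p]
    [CharP B p] (e : A ≃+* B) (n : ℕ) (h : Tower p n B B (frobenius B p)) :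
    Tower p n A A (frobenius A p) := by
  have h1 := Tower.comp_bijective_left p n A B B (e : A →+* B) e.bijective _ h
  have h2 := Tower.comp_bijective_right p n A B A _ (e.symm : B →+* A) e.symm.bijective h1
  have : (e.symm : B →+* A).comp ((frobenius B p).comp (e : A →+* B)) = frobenius A p := by
    refine RingHom.ext (fun x => ?_)
    simp [frobenius_def]
  rwa [this] at h2

theorem tower_frobenius_mvPolynomial (k : Type u) [Field k] [CharP k p] [PerfectRing k p] :
    ∀ n : ℕ, Tower p n (MvPolynomial (Fin n) k) (MvPolynomial (Fin n) k)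
      (frobenius (MvPolynomial (Fin n) k) p)
  | 0 => by
    have h0 : Tower p 0 k k (frobenius k p) := _root_.bijective_frobenius k p
    exact tower_frobenius_of_ringEquiv p (MvPolynomial.isEmptyAlgEquiv k (Fin 0)).toRingEquiv 0 h0
  | n + 1 => by
    have h1 := tower_frobenius_polynomial p (MvPolynomial (Fin n) k) n
      (tower_frobenius_mvPolynomial k n)
    exact tower_frobenius_of_ringEquiv p (MvPolynomial.finSuccEquiv k n).toRingEquiv (n + 1) h1

open TensorProduct in
/-- if Frobenius of `P` is a tower of `n` extractions, so is Frobenius of any étale `P`-algebra -/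
theorem tower_frobenius_of_etale (P B : Type u) [CommRing P] [CommRing B] [CharP P p] [CharP B p]
    [Algebra P B] [Algebra.Etale P B] (n : ℕ) (h : Tower p n P P (frobenius P p)) :
    Tower p n B B (frobenius B p) := by
  -- `P → Twist p P` is a tower
  have h1 : Tower p n P (FrobAlg.Twist p P) (algebraMap P (FrobAlg.Twist p P)) :=
    Tower.comp_bijective_right p n P P (FrobAlg.Twist p P) (frobenius P p)
      (FrobAlg.toTwist p P : P →+* FrobAlg.Twist p P) (FrobAlg.toTwist p P).bijective h
  -- its pushout along `P → B`
  have h2 := Tower.of_isPushout p n P (FrobAlg.Twist p P) B (B ⊗[P] FrobAlg.Twist p P)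
    (algebraMap P (FrobAlg.Twist p P)) (algebraMap P B)
    (Algebra.TensorProduct.includeRight : FrobAlg.Twist p P →ₐ[P] B ⊗[P] FrobAlg.Twist p P).toRingHom
    (Algebra.TensorProduct.includeLeft : B →ₐ[P] B ⊗[P] FrobAlg.Twist p P).toRingHom
    (CommRingCat.isPushout_tensorProduct P B (FrobAlg.Twist p P)).flip h1
  have h3 := Tower.comp_bijective_right p n B _ B _ (FrobAlg.relFrob p P B)
    (Groth.Agent.S3176.bijective_relFrob_of_etale p P B) h2
  have : (FrobAlg.relFrob p P B).comp
      (Algebra.TensorProduct.includeLeft : B →ₐ[P] B ⊗[P] FrobAlg.Twist p P).toRingHom =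
      frobenius B p := by
    refine RingHom.ext (fun b => ?_)
    show FrobAlg.relFrob p P B (b ⊗ₜ 1) = _
    rw [relFrob_tmul', map_one, map_one, mul_one, frobenius_def]
  rwa [this] at h3

/-- local structure of the Frobenius of a smooth algebra over a perfect field -/
theorem tower_of_frobenius_localization (k A : Type u) [Field k] [CharP k p] [PerfectRing k p]
    [CommRing A] [Algebra k A] [CharP A p] [Algebra.Smooth k A] (q : Ideal A) [q.IsPrime] :
    ∃ f : A, f ∉ q ∧ ∃ n : ℕ, ∀ (L L' : Type u) [CommRing L] [CommRing L'] [Algebra A L]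
      [Algebra A L'] [IsLocalization.Away f L] [IsLocalization.Away (f ^ p) L'] (φ : L →+* L'),
      φ.comp (algebraMap A L) = (algebraMap A L').comp (frobenius A p) → Tower p n L L' φ := by
  have hprime : p.Prime := Fact.out
  obtain ⟨f, hfq, n, alg, htower, hse⟩ :=
    Algebra.IsSmoothAt.exists_isStandardEtale_mvPolynomial (R := k) (p := q)
  letI := alg
  haveI := htower
  haveI := hse
  refine ⟨f, hfq, n, ?_⟩
  haveI : Nontrivial (Localization.Away f) := by
    rw [← not_subsingleton_iff_nontrivial,
      IsLocalization.subsingleton_iff (M := Submonoid.powers f) (S := Localization.Away f)]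
    rintro ⟨m, hm⟩
    exact hfq (‹q.IsPrime›.mem_of_pow_mem m (by simp only at hm; rw [hm]; exact q.zero_mem))
  haveI : CharP (Localization.Away f) p := (CharP.charP_iff_prime_eq_zero hprime).mpr (by
    rw [← map_natCast (algebraMap A (Localization.Away f)), CharP.cast_eq_zero, map_zero])
  have hT : Tower p n (Localization.Away f) (Localization.Away f)
      (frobenius (Localization.Away f) p) :=
    tower_frobenius_of_etale p (MvPolynomial (Fin n) k) (Localization.Away f) n
      (tower_frobenius_mvPolynomial p k n)
  intro L L' _ _ _ _ _ _ φ hφ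
  let θ : Localization.Away f ≃ₐ[A] L := IsLocalization.algEquiv (Submonoid.powers f) _ _
  haveI : Nontrivial L := θ.symm.toEquiv.nontrivial
  haveI : CharP L p := (CharP.charP_iff_prime_eq_zero hprime).mpr (by
    rw [← map_natCast (algebraMap A L), CharP.cast_eq_zero, map_zero])
  have hTL : Tower p n L L (frobenius L p) :=
    tower_frobenius_of_ringEquiv p θ.symm.toRingEquiv n hT
  haveI : IsLocalization (Submonoid.powers f) L' := by
    refine IsLocalization.of_le (Submonoid.powers (f ^ p)) (Submonoid.powers f) ?_ ?_
    · rintro _ ⟨m, rfl⟩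
      exact ⟨p * m, by simp only [pow_mul]⟩
    · rintro _ ⟨m, rfl⟩
      have hu : IsUnit (algebraMap A L' (f ^ p)) :=
        IsLocalization.map_units L' (⟨f ^ p, Submonoid.mem_powers _⟩ : Submonoid.powers (f ^ p))
      rw [map_pow] at hu ⊢
      exact ((isUnit_pow_iff hprime.ne_zero).mp hu).pow m
  let ι : L ≃ₐ[A] L' := IsLocalization.algEquiv (Submonoid.powers f) _ _
  have : φ = (ι : L →+* L').comp (frobenius L p) := by
    apply IsLocalization.ringHom_ext (Submonoid.powers f)
    rw [hφ]
    refine RingHom.ext (fun a => ?_)
    simp [frobenius_def]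
  rw [this]
  exact Tower.comp_bijective_right p n L L L' _ (ι : L →+* L') ι.bijective hTL

open TensorProduct in
/-- the Frobenius of a smooth algebra over a perfect field is faithfully flat -/
theorem faithfullyFlat_frobenius_of_smooth (k A : Type u) [Field k] [CharP k p] [PerfectRing k p]
    [CommRing A] [Algebra k A] [CharP A p] [Algebra.Smooth k A] :
    (frobenius A p).FaithfullyFlat := by
  rw [RingHom.FaithfullyFlat.iff_flat_and_comap_surjective]
  constructor
  · have h1 : Tower p 0 k (FrobAlg.Twist p k) (algebraMap k (FrobAlg.Twist p k)) :=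
      Tower.comp_bijective_right p 0 k k (FrobAlg.Twist p k) (frobenius k p)
        (FrobAlg.toTwist p k : k →+* FrobAlg.Twist p k) (FrobAlg.toTwist p k).bijective
        (_root_.bijective_frobenius k p)
    have h2 : Function.Bijective
        (Algebra.TensorProduct.includeLeft : A →ₐ[k] A ⊗[k] FrobAlg.Twist p k).toRingHom :=
      Tower.of_isPushout p 0 k (FrobAlg.Twist p k) A (A ⊗[k] FrobAlg.Twist p k)
        (algebraMap k (FrobAlg.Twist p k)) (algebraMap k A)
        (Algebra.TensorProduct.includeRight :
          FrobAlg.Twist p k →ₐ[k] A ⊗[k] FrobAlg.Twist p k).toRingHom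
        (Algebra.TensorProduct.includeLeft : A →ₐ[k] A ⊗[k] FrobAlg.Twist p k).toRingHom
        (CommRingCat.isPushout_tensorProduct k A (FrobAlg.Twist p k)).flip h1
    have h3 : (FrobAlg.relFrob p k A).comp
        (Algebra.TensorProduct.includeLeft : A →ₐ[k] A ⊗[k] FrobAlg.Twist p k).toRingHom =
        frobenius A p := by
      refine RingHom.ext (fun b => ?_)
      show FrobAlg.relFrob p k A (b ⊗ₜ 1) = _
      rw [relFrob_tmul', map_one, map_one, mul_one, frobenius_def]
    rw [← h3]
    exact RingHom.Flat.comp (RingHom.Flat.of_bijective h2)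
      (Groth.Agent.Lib.helper11.FrobSmooth.flat_relFrob_of_smooth p k A)
  · intro q
    refine ⟨q, PrimeSpectrum.ext ?_⟩
    ext a
    simp only [PrimeSpectrum.comap_asIdeal, Ideal.mem_comap, frobenius_def]
    exact q.2.pow_mem_iff_mem p (Fact.out : p.Prime).pos

end Frob

end Groth.Agent.Lib.helper8.QuietR
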