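import Mathlib
import Groth.Prelude.Def_W4c2gaugesfzipsQuiet
import Groth.Agent.Lib.Helper8.QuietRing1
import Groth.Agent.Lib.Helper8.QuietBC

/-!
# Lifting standard étale algebras and towers of `p`-th root extractions along nil-thickenings (helper8)

* `exists_pair_lift`: a `StandardEtalePair` over `R/I` (`I` nil) lifts to `R`.
* `exists_lift_standardEtale`: a standard étale `R/I`-algebra `A` is `R/I ⊗_R A'` for an étale `R`-algebra `A'`
  (as a pushout square in `CommRingCat`).
* `exists_lift_tower`: towers of `p`-th root extractions lift along surjections (as pushout squares).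
-/

set_option autoImplicit false
universe u
open Polynomial CategoryTheory CategoryTheory.Limits TensorProduct

namespace Groth.Agent.Lib.helper8.QuietR

/-- lifting a standard étale pair along a surjection with nil kernel -/
theorem exists_pair_lift {R R' : Type u} [CommRing R] [CommRing R'] (π : R →+* R')
    (hπ : Function.Surjective π) (hnil : RingHom.ker π ≤ nilradical R)
    (P' : StandardEtalePair R') : ∃ P : StandardEtalePair R, P.map π = P' := by
  obtain ⟨f', hf', g', hcond⟩ := P'
  obtain ⟨p₁', p₂', n, hc⟩ := hcond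
  obtain ⟨f, hf, -, hfm⟩ := Polynomial.lifts_and_natDegree_eq_and_monic
    (Polynomial.mem_lifts_of_surjective hπ f') hf'
  obtain ⟨g, hg⟩ := Polynomial.map_surjective π hπ g'
  obtain ⟨p₁, hp₁⟩ := Polynomial.map_surjective π hπ p₁'
  obtain ⟨p₂, hp₂⟩ := Polynomial.map_surjective π hπ p₂'
  have hδ : IsNilpotent (derivative f * p₁ + f * p₂ - g ^ n) := by
    rw [Polynomial.isNilpotent_iff]
    intro i
    have hmem : (derivative f * p₁ + f * p₂ - g ^ n).coeff i ∈ RingHom.ker π := by
      rw [RingHom.mem_ker, ← Polynomial.coeff_map]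
      rw [Polynomial.map_sub, Polynomial.map_add, Polynomial.map_mul, Polynomial.map_mul,
        Polynomial.map_pow, ← Polynomial.derivative_map, hf, hg, hp₁, hp₂, hc, sub_self,
        coeff_zero]
    exact mem_nilradical.mp (hnil hmem)
  obtain ⟨N, hN⟩ := hδ
  have hdvd : (derivative f * p₁ + f * p₂) ∣ g ^ (n * N) := by
    have h1 := sub_dvd_pow_sub_pow (g ^ n) (g ^ n - (derivative f * p₁ + f * p₂)) N
    have h2 : g ^ n - (g ^ n - (derivative f * p₁ + f * p₂)) = derivative f * p₁ + f * p₂ := by
      ring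
    have h3 : (g ^ n - (derivative f * p₁ + f * p₂)) ^ N = 0 := by
      have : g ^ n - (derivative f * p₁ + f * p₂) = -(derivative f * p₁ + f * p₂ - g ^ n) := by
        ring
      rw [this, neg_pow, hN, mul_zero]
    rw [h2, h3, sub_zero, ← pow_mul] at h1
    exact h1
  obtain ⟨c, hc'⟩ := hdvd
  refine ⟨⟨f, hfm, g, ⟨p₁ * c, p₂ * c, n * N, by rw [hc']; ring⟩⟩, ?_⟩
  subst hf hg
  rfl

/-- lifting a standard étale algebra along a surjection with nil kernel -/
theorem exists_lift_standardEtale {R R' : Type u} [CommRing R] [CommRing R'] (π : R →+* R')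
    (hπ : Function.Surjective π) (hnil : RingHom.ker π ≤ nilradical R)
    (A : Type u) [CommRing A] [Algebra R' A] [Algebra.IsStandardEtale R' A] :
    ∃ (A' : Type u) (_ : CommRing A') (φ : R →+* A') (π₂ : A' →+* A), φ.Etale ∧
      Function.Surjective π₂ ∧
      IsPushout (CommRingCat.ofHom φ) (CommRingCat.ofHom π) (CommRingCat.ofHom π₂)
        (CommRingCat.ofHom (algebraMap R' A)) := by
  obtain ⟨⟨P', x, hx, hbij⟩⟩ :=
    Algebra.IsStandardEtale.nonempty_standardEtalePresentation (R := R') (S := A)
  obtain ⟨P, hP⟩ := exists_pair_lift π hπ hnil P'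
  subst hP
  letI : Algebra R R' := π.toAlgebra
  let Q : StandardEtalePresentation R P.Ring :=
    ⟨P, P.X, P.hasMap_X, by simpa [StandardEtalePair.lift_X_left] using Function.bijective_id⟩
  let Q' : StandardEtalePresentation R' A := ⟨P.map π, x, hx, hbij⟩
  let e₁ : R' ⊗[R] P.Ring ≃ₐ[R'] (P.map π).Ring := (Q.baseChange (T := R')).equivRing
  let e₂ : A ≃ₐ[R'] (P.map π).Ring := Q'.equivRing
  let θ : R' ⊗[R] P.Ring ≃ₐ[R'] A := e₁.trans e₂.symm
  have hPO := (CommRingCat.isPushout_tensorProduct R R' P.Ring).flip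
  have hPO' : IsPushout (CommRingCat.ofHom (algebraMap R P.Ring)) (CommRingCat.ofHom π)
      (CommRingCat.ofHom ((θ : R' ⊗[R] P.Ring →+* A).comp
        (Algebra.TensorProduct.includeRight : P.Ring →ₐ[R] R' ⊗[R] P.Ring).toRingHom))
      (CommRingCat.ofHom (algebraMap R' A)) := by
    refine IsPushout.of_iso hPO (Iso.refl _) (Iso.refl _) (Iso.refl _)
      θ.toRingEquiv.toCommRingCatIso ?_ ?_ ?_ ?_
    · simp
    · simp
    · simp
    · apply CommRingCat.hom_ext
      ext r
      have := θ.commutes r
      simpa [Algebra.TensorProduct.algebraMap_apply] using this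
  refine ⟨P.Ring, inferInstance, algebraMap R P.Ring, _, ?_, ?_, hPO'⟩
  · rw [RingHom.etale_algebraMap]
    infer_instance
  · exact Groth.Agent.Lib.helper8.QuietS.prop_of_isPushout (P := fun f => Function.Surjective f)
      RingHom.surjective_isStableUnderBaseChange RingHom.surjective_respectsIso
      π (algebraMap R P.Ring) (algebraMap R' A) _ hPO'.flip hπ

/-- lifting a tower of `p`-th root extractions along a surjection -/
theorem exists_lift_tower (p : ℕ) : ∀ (n : ℕ) (A' A E : Type u) [CommRing A'] [CommRing A]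
    [CommRing E] (π₂ : A' →+* A) (_ : Function.Surjective π₂) (ψ : A →+* E),
    Tower p n A E ψ → ∃ (E' : Type u) (_ : CommRing E') (ψ' : A' →+* E') (π₃ : E' →+* E),
      Tower p n A' E' ψ' ∧
      IsPushout (CommRingCat.ofHom ψ') (CommRingCat.ofHom π₂) (CommRingCat.ofHom π₃)
        (CommRingCat.ofHom ψ)
  | 0, A', A, E, _, _, _, π₂, _, ψ => by
    intro hψ
    refine ⟨A', inferInstance, RingHom.id A', ψ.comp π₂, Function.bijective_id, ?_⟩
    haveI : IsIso (CommRingCat.ofHom ψ) :=
      (ConcreteCategory.isIso_iff_bijective (CommRingCat.ofHom ψ)).mpr hψ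
    haveI : IsIso (CommRingCat.ofHom (RingHom.id A')) := by
      change IsIso (𝟙 (CommRingCat.of A'))
      infer_instance
    exact IsPushout.of_horiz_isIso ⟨by rw [← CommRingCat.ofHom_comp, ← CommRingCat.ofHom_comp]⟩
  | n + 1, A', A, E, _, _, _, π₂, hπ₂, ψ => by
    rintro ⟨a, g, hg, hT⟩
    obtain ⟨a', ha'⟩ := hπ₂ a
    have hPO₁ := isPushout_rootMap p π₂ a' a ha'
    have hsurj : Function.Surjective (rootMap p π₂ a' a ha') :=
      Groth.Agent.Lib.helper8.QuietS.prop_of_isPushout (P := fun f => Function.Surjective f)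
        RingHom.surjective_isStableUnderBaseChange RingHom.surjective_respectsIso
        π₂ _ _ _ hPO₁.flip hπ₂
    obtain ⟨E', _, g', π₃, hT', hPO₂⟩ :=
      exists_lift_tower p n _ _ E (rootMap p π₂ a' a ha') hsurj g hT
    refine ⟨E', inferInstance, g'.comp (AdjoinRoot.of _), π₃, ⟨a', g', rfl, hT'⟩, ?_⟩
    have := hPO₁.paste_horiz hPO₂
    rw [← CommRingCat.ofHom_comp, ← CommRingCat.ofHom_comp, hg] at this
    exact this

end Groth.Agent.Lib.helper8.QuietR
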