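import Mathlib
import Groth.Prelude.Def_W4c2gaugesfzipsQuiet
import Groth.Prelude.Def_Frob
import Groth.Agent.Lib.Helper8.QuietRing1
import Groth.Agent.Lib.Helper8.QuietRing2

/-!
# Quasi-etale morphisms: affine-local form and composition (helper8)

* `QA p f y`: affine-local structure of a quasi-etale morphism at a point `y`: an affine open `V ∋ y`, an etale
  `e : Y' ⟶ X`, an affine open `U' ⊆ Y'` and a ring map `ψ : Γ(Y', U') ⟶ Γ(Y, V)` which is a tower of `p`-th root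
  extractions with `Spec ψ ≫ U' ↪ Y' ⟶ X = V ↪ Y ⟶ X`.
* `quiet_of_QA`, `QA_of_quiet`: `IsQuiet p f ↔ ∀ y, QA p f y`.
* `tower_away`, `tower_shrink`: towers localise.
* `isQuiet_comp`: quasi-etale morphisms compose (S15043), via the etale descent `exists_descent`.
-/

set_option autoImplicit false
universe u
open CategoryTheory CategoryTheory.Limits AlgebraicGeometry Opposite
open Groth.Agent.Lib.helper8.QuietR

namespace Groth.Agent.Lib.helper8.QuietS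

theorem tower_of_iso_comp (p n : ℕ) {A A' B B' : CommRingCat.{u}} (α : A' ⟶ A) [IsIso α]
    (ψ : A ⟶ B) (β : B ⟶ B') [IsIso β] (φ : A' ⟶ B') (h : φ = α ≫ ψ ≫ β)
    (hT : Tower p n A B ψ.hom) : Tower p n A' B' φ.hom := by
  subst h
  have h1 := Tower.comp_bijective_right p n A B B' ψ.hom β.hom
    (ConcreteCategory.bijective_of_isIso β) hT
  have h2 := Tower.comp_bijective_left p n A' A B' α.hom
    (ConcreteCategory.bijective_of_isIso α) _ h1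
  simpa [CommRingCat.hom_comp, RingHom.comp_assoc] using h2

/-- local structure of a quasi-etale morphism at a point, in terms of affine opens -/
def QA (p : ℕ) {Y X : Scheme.{u}} (f : Y ⟶ X) (y : Y) : Prop :=
  ∃ (V : Y.Opens) (hV : IsAffineOpen V) (Y' : Scheme.{u}) (e : Y' ⟶ X) (U' : Y'.Opens)
    (hU' : IsAffineOpen U') (ψ : Γ(Y', U') ⟶ Γ(Y, V)) (n : ℕ),
    y ∈ V ∧ Etale e ∧ Tower p n Γ(Y', U') Γ(Y, V) ψ.hom ∧
      Spec.map ψ ≫ hU'.fromSpec ≫ e = hV.fromSpec ≫ f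

theorem isPthRoot_of_tower (p n : ℕ) {Y : Scheme.{u}} [IsAffine Y] {A : CommRingCat.{u}}
    (r : Y ⟶ Spec A) (hT : Tower p n Γ(Spec A, ⊤) Γ(Y, ⊤) r.appTop.hom) :
    Quiet.IsPthRoot p r := by
  intro x
  refine ⟨⟨⊤, isAffineOpen_top _⟩, trivial, isAffineOpen_top _, ?_⟩
  letI := (r.app ⊤).hom.toAlgebra
  exact ⟨n, (tower_iff p n _ _).mpr hT⟩

theorem quiet_of_QA (p : ℕ) {Y X : Scheme.{u}} (f : Y ⟶ X) (h : ∀ y, QA p f y) :
    Quiet.IsQuiet p f := by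
  intro y
  obtain ⟨V, hV, Y', e, U', hU', ψ, n, hy, he, hT, hc⟩ := h y
  haveI : IsAffine V := hV
  refine ⟨V, Spec Γ(Y', U'), hV.isoSpec.hom ≫ Spec.map ψ, hU'.fromSpec ≫ e, hy, ?_, ?_, ?_⟩
  · apply isPthRoot_of_tower p n
    have h1 : (hV.isoSpec.hom ≫ Spec.map ψ).appTop =
        (Scheme.ΓSpecIso Γ(Y', U')).hom ≫ ψ ≫
          ((Scheme.ΓSpecIso Γ(Y, V)).inv ≫ hV.isoSpec.hom.appTop) := by
      rw [Scheme.Hom.comp_appTop, ← Scheme.ΓSpecIso_naturality_assoc]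
      simp
    haveI : IsIso hV.isoSpec.hom.appTop := by
      show IsIso (hV.isoSpec.hom.app ⊤)
      infer_instance
    exact tower_of_iso_comp p n _ ψ _ _ h1 hT
  · infer_instance
  · rw [Category.assoc, hc, IsAffineOpen.isoSpec_hom_fromSpec_assoc]

theorem fromSpec_ι {X : Scheme.{u}} (U : X.Opens) (W : U.toScheme.Opens) (hW : IsAffineOpen W)
    (hW' : IsAffineOpen (U.ι ''ᵁ W)) : hW.fromSpec ≫ U.ι = hW'.fromSpec := by
  have i : W ≤ U.ι ⁻¹ᵁ (U.ι ''ᵁ W) := by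
    rw [Scheme.Hom.preimage_image_eq]
  have h := IsAffineOpen.SpecMap_appLE_fromSpec U.ι hW' hW i
  rw [← h]
  have : U.ι.appLE (U.ι ''ᵁ W) W i = 𝟙 _ := by
    simp only [Scheme.Hom.appLE, Scheme.Opens.ι_app, Scheme.Opens.toScheme_presheaf_map]
    refine (X.presheaf.map_comp _ _).symm.trans ?_
    exact X.presheaf.map_id _
  rw [this]
  erw [Spec.map_id, Category.id_comp]

theorem QA_of_quiet (p : ℕ) {Y X : Scheme.{u}} (f : Y ⟶ X) (hf : Quiet.IsQuiet p f) (y : Y) :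
    QA p f y := by
  obtain ⟨V₀, Y', r, e, hy, hr, he, hc⟩ := hf y
  obtain ⟨⟨U', hU'⟩, hxU, hV₁, hT⟩ := hr (r ⟨y, hy⟩)
  obtain ⟨n, hn⟩ := hT
  have hV : IsAffineOpen (V₀.ι ''ᵁ (r ⁻¹ᵁ U')) := hV₁.image_of_isOpenImmersion V₀.ι
  refine ⟨V₀.ι ''ᵁ (r ⁻¹ᵁ U'), hV, Y', e, U', hU', r.app U', n, ⟨⟨y, hy⟩, hxU, rfl⟩, he, ?_, ?_⟩
  · letI := (r.app U').hom.toAlgebra
    exact (tower_iff p n _ _).mp hn
  · have h1 := IsAffineOpen.SpecMap_appLE_fromSpec r hU' hV₁ le_rfl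
    rw [← Scheme.Hom.app_eq_appLE] at h1
    have h2 := fromSpec_ι V₀ (r ⁻¹ᵁ U') hV₁ hV
    calc Spec.map (r.app U') ≫ hU'.fromSpec ≫ e
        = (hV₁.fromSpec ≫ r) ≫ e := by rw [← h1, Category.assoc]
      _ = hV₁.fromSpec ≫ V₀.ι ≫ f := by rw [Category.assoc, hc]
      _ = hV.fromSpec ≫ f := by rw [← Category.assoc, h2]; rfl

theorem tower_away (p n : ℕ) {A B : Type u} [CommRing A] [CommRing B] (f : A →+* B) (s : A)
    (A' B' : Type u) [CommRing A'] [CommRing B'] [Algebra A A'] [Algebra B B']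
    [IsLocalization.Away s A'] [IsLocalization.Away (f s) B'] (hT : Tower p n A B f) :
    Tower p n A' B' (IsLocalization.Away.map A' B' f s) := by
  haveI : IsLocalization ((Submonoid.powers s).map f) B' := by
    rw [Submonoid.map_powers]; infer_instance
  have H : (IsLocalization.Away.map A' B' f s).comp (algebraMap A A') =
      (algebraMap B B').comp f := IsLocalization.map_comp _
  exact Tower.of_isPushout p n A B A' B' f (algebraMap A A') (algebraMap B B') _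
    (CommRingCat.isPushout_of_isLocalization f _ H (Submonoid.powers s)) hT

/-- shrinking the affine data of a tower to basic opens -/
theorem tower_shrink (p n : ℕ) {Y Y' : Scheme.{u}} {V : Y.Opens} (hV : IsAffineOpen V)
    {U' : Y'.Opens} (hU' : IsAffineOpen U') (ψ : Γ(Y', U') ⟶ Γ(Y, V))
    (hT : Tower p n Γ(Y', U') Γ(Y, V) ψ.hom) (s : Γ(Y', U')) :
    ∃ γ : Γ(Y', Y'.basicOpen s) ⟶ Γ(Y, Y.basicOpen (ψ.hom s)),
      Tower p n Γ(Y', Y'.basicOpen s) Γ(Y, Y.basicOpen (ψ.hom s)) γ.hom ∧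
      Spec.map γ ≫ (hU'.basicOpen s).fromSpec =
        Spec.map (Y.presheaf.map (homOfLE (Y.basicOpen_le (ψ.hom s))).op) ≫
          Spec.map ψ ≫ hU'.fromSpec := by
  haveI := hU'.isLocalization_basicOpen s
  haveI := hV.isLocalization_basicOpen (ψ.hom s)
  refine ⟨CommRingCat.ofHom (IsLocalization.Away.map Γ(Y', Y'.basicOpen s)
    Γ(Y, Y.basicOpen (ψ.hom s)) ψ.hom s), tower_away p n ψ.hom s _ _ hT, ?_⟩
  have H : (IsLocalization.Away.map Γ(Y', Y'.basicOpen s)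
      Γ(Y, Y.basicOpen (ψ.hom s)) ψ.hom s).comp (algebraMap _ _) =
      (algebraMap _ _).comp ψ.hom := IsLocalization.map_comp _
  have H' : Y'.presheaf.map (homOfLE (Y'.basicOpen_le s)).op ≫
      CommRingCat.ofHom (IsLocalization.Away.map Γ(Y', Y'.basicOpen s)
        Γ(Y, Y.basicOpen (ψ.hom s)) ψ.hom s) =
      ψ ≫ Y.presheaf.map (homOfLE (Y.basicOpen_le (ψ.hom s))).op := by
    ext x
    exact RingHom.congr_fun H x
  rw [← hU'.map_fromSpec (hU'.basicOpen s) (homOfLE (Y'.basicOpen_le s)).op,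
    ← Spec.map_comp_assoc, H', Spec.map_comp_assoc]

theorem QA_comp (p : ℕ) [Fact p.Prime] {X Y Z : Scheme.{u}} [FrobSch.IsCharP X p]
    (f : Y ⟶ X) (g : Z ⟶ Y) (hf : ∀ y, QA p f y) (hg : ∀ z, QA p g z) (z : Z) :
    QA p (g ≫ f) z := by
  obtain ⟨V, hV, Y₁, e₁, U₁, hU₁, ψ₁, n₁, hz, he₁, hT₁, hc₁⟩ := hg z
  obtain ⟨W, hW, X₁, e₂, U₂, hU₂, ψ₂, n₂, hy, he₂, hT₂, hc₂⟩ := hf (g z)
  -- the point `w` of `Spec Γ(Z, V)` over `z`
  obtain ⟨w, hw⟩ : ∃ w, hV.fromSpec w = z := by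
    have : z ∈ Set.range hV.fromSpec := by rw [hV.range_fromSpec]; exact hz
    exact this
  set y₁ : Y₁ := hU₁.fromSpec (Spec.map ψ₁ w) with hy₁
  have hy₁U : y₁ ∈ U₁ := by
    have : y₁ ∈ Set.range hU₁.fromSpec := ⟨_, rfl⟩
    rwa [hU₁.range_fromSpec] at this
  have hey₁ : e₁ y₁ = g z := by
    have := congrArg (fun φ => φ w) hc₁
    simp only [Scheme.Hom.comp_apply] at this
    rw [hy₁, this, hw]
  have hy₁W : y₁ ∈ e₁ ⁻¹ᵁ W := by
    show e₁ y₁ ∈ W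
    rw [hey₁]; exact hy
  obtain ⟨s, hsW, hys⟩ := hU₁.exists_basicOpen_le (V := e₁ ⁻¹ᵁ W) ⟨y₁, hy₁W⟩ hy₁U
  have hD := hU₁.basicOpen s
  obtain ⟨γ, hγT, hγc⟩ := tower_shrink p n₁ hV hU₁ ψ₁ hT₁ s
  have hβ : (e₁.appLE W (Y₁.basicOpen s) hsW).hom.Etale :=
    HasRingHomProperty.appLE (P := @Etale) e₁ he₁ ⟨W, hW⟩ ⟨_, hD⟩ hsW
  have hβc := IsAffineOpen.SpecMap_appLE_fromSpec e₁ hW hD hsW
  haveI : FrobSch.IsCharP X₁ p := FrobSch.IsCharP.of_hom e₂ p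
  have hp0 : (p : Γ(X₁, U₂)) = 0 := FrobSch.natCast_eq_zero_app X₁ p U₂
  haveI : Nonempty (Y₁.basicOpen s) := ⟨⟨y₁, hys⟩⟩
  obtain ⟨C₀, _, φ₀, ψ, hφ₀, hψT, hψc⟩ := exists_descent p n₂ Γ(X₁, U₂) Γ(Y, W) ψ₂.hom
    Γ(Y₁, Y₁.basicOpen s) (e₁.appLE W (Y₁.basicOpen s) hsW).hom hp0 hT₂ hβ
  refine ⟨Z.basicOpen (ψ₁.hom s), hV.basicOpen _, Spec (CommRingCat.of C₀),
    Spec.map (CommRingCat.ofHom φ₀) ≫ hU₂.fromSpec ≫ e₂, ⊤, isAffineOpen_top _,
    (Scheme.ΓSpecIso (CommRingCat.of C₀)).hom ≫ CommRingCat.ofHom (γ.hom.comp ψ), n₁ + n₂,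
    ?_, ?_, ?_, ?_⟩
  · have h1 : Spec.map ψ₁ w ∈ hU₁.fromSpec ⁻¹ᵁ (Y₁.basicOpen s) := hys
    rw [hU₁.fromSpec_preimage_basicOpen] at h1
    have h2 : w ∈ PrimeSpectrum.basicOpen (ψ₁.hom s) := h1
    rw [← hV.fromSpec_preimage_basicOpen] at h2
    rw [← hw]
    exact h2
  · haveI : Etale (Spec.map (CommRingCat.ofHom φ₀)) :=
      (HasRingHomProperty.Spec_iff (P := @Etale)).mpr hφ₀
    infer_instance
  · have hT := Tower.comp p n₂ n₁ C₀ _ _ ψ γ.hom hψT hγT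
    exact tower_of_iso_comp p (n₁ + n₂) (Scheme.ΓSpecIso (CommRingCat.of C₀)).hom
      (CommRingCat.ofHom (γ.hom.comp ψ)) (𝟙 _) _ (by simp) hT
  · have hψc' : CommRingCat.ofHom φ₀ ≫ CommRingCat.ofHom ψ =
        ψ₂ ≫ e₁.appLE W (Y₁.basicOpen s) hsW := by
      ext x
      exact RingHom.congr_fun hψc x
    have h0 : Spec.map ((Scheme.ΓSpecIso (CommRingCat.of C₀)).hom ≫
        CommRingCat.ofHom (γ.hom.comp ψ)) ≫ (isAffineOpen_top (Spec (CommRingCat.of C₀))).fromSpec =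
        Spec.map γ ≫ Spec.map (CommRingCat.ofHom ψ) := by
      rw [IsAffineOpen.fromSpec_top, Scheme.isoSpec_Spec_inv, ← Spec.map_comp, ← Spec.map_comp]
      congr 1
      rw [Iso.inv_hom_id_assoc]
      rfl
    calc Spec.map ((Scheme.ΓSpecIso (CommRingCat.of C₀)).hom ≫
          CommRingCat.ofHom (γ.hom.comp ψ)) ≫
          (isAffineOpen_top (Spec (CommRingCat.of C₀))).fromSpec ≫
          Spec.map (CommRingCat.ofHom φ₀) ≫ hU₂.fromSpec ≫ e₂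
        = Spec.map γ ≫ (Spec.map (CommRingCat.ofHom ψ) ≫ Spec.map (CommRingCat.ofHom φ₀)) ≫
            hU₂.fromSpec ≫ e₂ := by
          rw [← Category.assoc, h0]; simp only [Category.assoc]
      _ = Spec.map γ ≫ Spec.map (e₁.appLE W (Y₁.basicOpen s) hsW) ≫
            (Spec.map ψ₂ ≫ hU₂.fromSpec ≫ e₂) := by
          rw [← Spec.map_comp, hψc', Spec.map_comp]; simp only [Category.assoc]
      _ = Spec.map γ ≫ (Spec.map (e₁.appLE W (Y₁.basicOpen s) hsW) ≫ hW.fromSpec) ≫ f := by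
          rw [hc₂]; simp only [Category.assoc]
      _ = (Spec.map γ ≫ hD.fromSpec) ≫ e₁ ≫ f := by
          rw [hβc]; simp only [Category.assoc]
      _ = Spec.map (Z.presheaf.map (homOfLE (Z.basicOpen_le (ψ₁.hom s))).op) ≫
            (Spec.map ψ₁ ≫ hU₁.fromSpec ≫ e₁) ≫ f := by
          rw [hγc]; simp only [Category.assoc]
      _ = (hV.basicOpen (ψ₁.hom s)).fromSpec ≫ g ≫ f := by
          rw [hc₁, ← hV.map_fromSpec (hV.basicOpen (ψ₁.hom s))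
            (homOfLE (Z.basicOpen_le (ψ₁.hom s))).op]
          simp only [Category.assoc]

/-- quasi-etale morphisms compose (in characteristic `p`) -/
theorem isQuiet_comp (p : ℕ) [Fact p.Prime] {X Y Z : Scheme.{u}} [FrobSch.IsCharP X p]
    (f : Y ⟶ X) (g : Z ⟶ Y) (hf : Quiet.IsQuiet p f) (hg : Quiet.IsQuiet p g) :
    Quiet.IsQuiet p (g ≫ f) :=
  quiet_of_QA p _ (fun z => QA_comp p f g (QA_of_quiet p f hf) (QA_of_quiet p g hg) z)

end Groth.Agent.Lib.helper8.QuietS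

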