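import Mathlib
import Groth.Prelude.Def_W4c2gaugesfzipsQuiet
import Groth.Prelude.Def_Frob
import Groth.Agent.Lib.Helper8.QuietRing1
import Groth.Agent.Lib.Helper8.QuietSch1

/-!
# Quasi-etale morphisms: all-`Spec` local form and base change (helper8)

* `QS p f y`: an open immersion `j : Spec E ⟶ Y` through `y`, an etale `e : Spec A ⟶ X` and a tower of `p`-th root
  extractions `ψ : A ⟶ E` with `Spec ψ ≫ e = j ≫ f`.  `quiet_of_QS`, `QS_of_QA`, `QS_of_quiet`.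
* `QS_baseChange`, `isQuiet_baseChange`: quasi-etale morphisms are stable under base change (S15042).
-/

set_option autoImplicit false
universe u
open CategoryTheory CategoryTheory.Limits AlgebraicGeometry Opposite
open Groth.Agent.Lib.helper8.QuietR

namespace Groth.Agent.Lib.helper8.QuietS

/-- local structure of a quasi-etale morphism at a point, all-`Spec` form -/
def QS (p : ℕ) {Y X : Scheme.{u}} (f : Y ⟶ X) (y : Y) : Prop :=
  ∃ (E A : CommRingCat.{u}) (j : Spec E ⟶ Y) (_ : IsOpenImmersion j) (e : Spec A ⟶ X)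
    (ψ : A ⟶ E) (n : ℕ),
    y ∈ Set.range j ∧ Etale e ∧ Tower p n A E ψ.hom ∧ Spec.map ψ ≫ e = j ≫ f

theorem QS_of_QA (p : ℕ) {Y X : Scheme.{u}} (f : Y ⟶ X) (y : Y) (h : QA p f y) : QS p f y := by
  obtain ⟨V, hV, Y', e, U', hU', ψ, n, hy, he, hT, hc⟩ := h
  refine ⟨Γ(Y, V), Γ(Y', U'), hV.fromSpec, inferInstance, hU'.fromSpec ≫ e, ψ, n, ?_,
    inferInstance, hT, hc⟩
  rw [hV.range_fromSpec]
  exact hy

theorem quiet_of_QS (p : ℕ) {Y X : Scheme.{u}} (f : Y ⟶ X) (h : ∀ y, QS p f y) :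
    Quiet.IsQuiet p f := by
  intro y
  obtain ⟨E, A, j, hj, e, ψ, n, hy, he, hT, hc⟩ := h y
  haveI : IsAffine j.opensRange := .of_isIso j.isoOpensRange.inv
  refine ⟨j.opensRange, Spec A, j.isoOpensRange.inv ≫ Spec.map ψ, e, hy, ?_, he, ?_⟩
  · apply isPthRoot_of_tower p n
    have h1 : (j.isoOpensRange.inv ≫ Spec.map ψ).appTop =
        (Scheme.ΓSpecIso A).hom ≫ ψ ≫
          ((Scheme.ΓSpecIso E).inv ≫ j.isoOpensRange.inv.appTop) := by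
      rw [Scheme.Hom.comp_appTop, ← Scheme.ΓSpecIso_naturality_assoc]
      simp
    haveI : IsIso j.isoOpensRange.inv.appTop := by
      show IsIso (j.isoOpensRange.inv.app ⊤)
      infer_instance
    exact tower_of_iso_comp p n _ ψ _ _ h1 hT
  · rw [Category.assoc, hc, Scheme.Hom.isoOpensRange_inv_comp_assoc]

theorem QS_baseChange (p : ℕ) {X Y X' Y' : Scheme.{u}} (f : Y ⟶ X) (g : X' ⟶ X) (f' : Y' ⟶ X')
    (g' : Y' ⟶ Y) (H : IsPullback g' f' f g) (y' : Y') (h : QS p f (g' y')) : QS p f' y' := by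
  obtain ⟨E, A, j, hj, e, ψ, n, ⟨w, hw⟩, he, hT, hc⟩ := h
  -- the pullbacks
  let π₁ := pullback.fst e g
  let π₂ := pullback.snd e g
  let ρ₁ := pullback.fst (Spec.map ψ) π₁
  let ρ₂ := pullback.snd (Spec.map ψ) π₁
  have S0 : IsPullback ρ₁ ρ₂ (Spec.map ψ) π₁ := IsPullback.of_hasPullback _ _
  have S1 : IsPullback ρ₁ (ρ₂ ≫ π₂) (Spec.map ψ ≫ e) g :=
    S0.paste_vert (IsPullback.of_hasPullback e g)
  rw [hc] at S1
  let jQ : pullback (Spec.map ψ) π₁ ⟶ Y' := H.lift (ρ₁ ≫ j) (ρ₂ ≫ π₂) (by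
    rw [Category.assoc, ← S1.w])
  have hjQ1 : jQ ≫ g' = ρ₁ ≫ j := H.lift_fst _ _ _
  have hjQ2 : jQ ≫ f' = ρ₂ ≫ π₂ := H.lift_snd _ _ _
  have S3 : IsPullback ρ₁ jQ j g' := by
    refine IsPullback.of_bot ?_ hjQ1.symm H
    rw [hjQ2]
    exact S1
  haveI : IsOpenImmersion jQ := MorphismProperty.of_isPullback (P := @IsOpenImmersion) S3 hj
  -- a point of the pullback over `y'`
  obtain ⟨q₁, hq₁a, hq₁b⟩ := Scheme.Pullback.exists_preimage_pullback (f := j) (g := g') w y' hw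
  have hq₀ : jQ (S3.isoPullback.inv q₁) = y' := by
    rw [← hq₁b, ← Scheme.Hom.comp_apply, S3.isoPullback_inv_snd]
  obtain ⟨U, hU, hxU, -⟩ := exists_isAffineOpen_mem_and_subset
    (x := ρ₂ (S3.isoPullback.inv q₁)) (U := ⊤) trivial
  haveI : IsAffineHom ρ₂ := MorphismProperty.pullback_snd _ _ inferInstance
  have hW : IsAffineOpen (ρ₂ ⁻¹ᵁ U) := hU.preimage ρ₂
  -- the pushout square of sections
  have hUST : (⊤ : (Spec E).Opens) ≤ (Spec.map ψ) ⁻¹ᵁ ⊤ := le_rfl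
  have hUSX : U ≤ π₁ ⁻¹ᵁ ⊤ := le_top
  have hUY : ρ₂ ⁻¹ᵁ U = ρ₂ ⁻¹ᵁ U ⊓ ρ₁ ⁻¹ᵁ ⊤ := by simp
  have hiso := isIso_pushoutSection_of_isAffineOpen S0.flip hUST hUSX hUY
    (isAffineOpen_top _) (isAffineOpen_top _) hU
  have hPO := (isIso_pushoutSection_iff S0.flip hUST hUSX hUY).mp hiso
  -- the tower
  have hT0 : Tower p n Γ(Spec A, ⊤) Γ(Spec E, ⊤) ((Spec.map ψ).appLE ⊤ ⊤ hUST).hom := by
    have h1 : (Spec.map ψ).appLE ⊤ ⊤ hUST =
        (Scheme.ΓSpecIso A).hom ≫ ψ ≫ (Scheme.ΓSpecIso E).inv := by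
      have : (Spec.map ψ).appLE ⊤ ⊤ hUST = (Spec.map ψ).appTop := by
        rw [Scheme.Hom.appTop, Scheme.Hom.app_eq_appLE]
        rfl
      rw [this, ← Scheme.ΓSpecIso_naturality_assoc, Iso.hom_inv_id, Category.comp_id]
    exact tower_of_iso_comp p n _ ψ _ _ h1 hT
  have hT1 := Tower.of_isPushout p n Γ(Spec A, ⊤) Γ(Spec E, ⊤) Γ(pullback e g, U)
    Γ(pullback (Spec.map ψ) π₁, ρ₂ ⁻¹ᵁ U) ((Spec.map ψ).appLE ⊤ ⊤ hUST).hom
    (π₁.appLE ⊤ U hUSX).hom (ρ₁.appLE ⊤ (ρ₂ ⁻¹ᵁ U) le_top).hom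
    (ρ₂.appLE U (ρ₂ ⁻¹ᵁ U) le_rfl).hom hPO.flip hT0
  refine ⟨Γ(pullback (Spec.map ψ) π₁, ρ₂ ⁻¹ᵁ U), Γ(pullback e g, U), hW.fromSpec ≫ jQ,
    inferInstance, hU.fromSpec ≫ π₂, ρ₂.appLE U (ρ₂ ⁻¹ᵁ U) le_rfl, n, ?_, inferInstance, hT1, ?_⟩
  · have : S3.isoPullback.inv q₁ ∈ Set.range hW.fromSpec := by
      rw [hW.range_fromSpec]; exact hxU
    obtain ⟨t, ht⟩ := this
    exact ⟨t, by rw [Scheme.Hom.comp_apply, ht, hq₀]⟩
  · have := IsAffineOpen.SpecMap_appLE_fromSpec ρ₂ hU hW le_rfl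
    rw [← Category.assoc, this, Category.assoc, Category.assoc, hjQ2]

theorem QS_of_quiet (p : ℕ) {Y X : Scheme.{u}} (f : Y ⟶ X) (hf : Quiet.IsQuiet p f) (y : Y) :
    QS p f y := QS_of_QA p f y (QA_of_quiet p f hf y)

/-- quasi-etale morphisms are stable under base change -/
theorem isQuiet_baseChange (p : ℕ) {X Y X' Y' : Scheme.{u}} (f : Y ⟶ X) (g : X' ⟶ X)
    (f' : Y' ⟶ X') (g' : Y' ⟶ Y) (H : IsPullback g' f' f g) (hf : Quiet.IsQuiet p f) :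
    Quiet.IsQuiet p f' :=
  quiet_of_QS p f' (fun y' => QS_baseChange p f g f' g' H y' (QS_of_quiet p f hf _))

end Groth.Agent.Lib.helper8.QuietS

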