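import Mathlib

/-!
# Commutative algebra for the relative normalization of a normal scheme (helper8)

* `isIntegrallyClosed_of_injective_of_closed`: a subring `R'` of a normal domain `S'` which is integrally
  closed in `S'` is a normal domain.
* `mem_range_of_isIntegral_away`: "integrally closed in" passes to localizations away from an element.
-/

set_option autoImplicit false
universe u

namespace Groth.Agent.Lib.helper8.RelNorm

open Polynomial

/-- If `ψ : R' → S'` is injective, `S'` is an integrally closed domain and every element of `S'` integral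
over `R'` lies in the range of `ψ`, then `R'` is an integrally closed domain. -/
theorem isDomain_of_injective {R' S' : Type*} [CommRing R'] [CommRing S'] [IsDomain S']
    (ψ : R' →+* S') (hinj : Function.Injective ψ) : IsDomain R' :=
  hinj.isDomain ψ

theorem isIntegrallyClosed_of_injective_of_closed_aux {R' S' : Type*} [CommRing R'] [CommRing S']
    [IsDomain S'] [IsIntegrallyClosed S'] [IsDomain R']
    (K L : Type*) [Field K] [Field L] [Algebra R' K] [IsFractionRing R' K] [Algebra S' L]
    [IsFractionRing S' L]
    (ψ : R' →+* S') (hinj : Function.Injective ψ)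
    (hcl : ∀ s : S', ψ.IsIntegralElem s → s ∈ ψ.range) :
    IsIntegrallyClosed R' := by
  letI : Algebra R' S' := ψ.toAlgebra
  letI : Algebra R' L := ((algebraMap S' L).comp ψ).toAlgebra
  haveI : IsScalarTower R' S' L := IsScalarTower.of_algebraMap_eq' rfl
  have hinjL : Function.Injective (algebraMap R' L) :=
    (IsFractionRing.injective S' L).comp hinj
  let ι : K →+* L := IsFractionRing.lift (K := K) hinjL
  letI : Algebra K L := ι.toAlgebra
  haveI : IsScalarTower R' K L := IsScalarTower.of_algebraMap_eq' (by
    ext r
    exact (IsFractionRing.lift_algebraMap hinjL r).symm)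
  refine (isIntegrallyClosed_iff K).mpr ?_
  intro x hx
  -- `ι x` is integral over `S'`
  have h1 : IsIntegral R' (algebraMap K L x) := hx.map (IsScalarTower.toAlgHom R' K L)
  have h2 : IsIntegral S' (algebraMap K L x) := h1.tower_top
  obtain ⟨s, hs⟩ := (isIntegrallyClosed_iff L).mp inferInstance h2
  -- `s` is integral over `R'`
  have h3 : IsIntegral R' s := by
    rw [← isIntegral_algebraMap_iff (IsFractionRing.injective S' L), hs]
    exact h1
  obtain ⟨r, hr⟩ := hcl s h3
  refine ⟨r, ?_⟩
  apply (algebraMap K L).injective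
  rw [← hs, ← hr, ← IsScalarTower.algebraMap_apply R' K L]
  rfl

theorem isIntegrallyClosed_of_injective_of_closed {R' S' : Type*} [CommRing R'] [CommRing S']
    [IsDomain S'] [IsIntegrallyClosed S']
    (ψ : R' →+* S') (hinj : Function.Injective ψ)
    (hcl : ∀ s : S', ψ.IsIntegralElem s → s ∈ ψ.range) :
    IsIntegrallyClosed R' := by
  haveI : IsDomain R' := hinj.isDomain ψ
  exact isIntegrallyClosed_of_injective_of_closed_aux (FractionRing R') (FractionRing S') ψ hinj hcl

/-- "Integrally closed in" passes to localizations away from an element. -/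
theorem mem_range_of_isIntegral_away {R S R' S' : Type*} [CommRing R] [CommRing S] [CommRing R']
    [CommRing S'] [Algebra R S] [Algebra R R'] [Algebra S S'] [Algebra R' S'] [Algebra R S']
    [IsScalarTower R S S'] [IsScalarTower R R' S'] (f : R) [IsLocalization.Away f R']
    [IsLocalization.Away (algebraMap R S f) S']
    (hcl : ∀ s : S, IsIntegral R s → s ∈ (algebraMap R S).range) (s' : S')
    (hs' : IsIntegral R' s') : s' ∈ (algebraMap R' S').range := by
  set M : Submonoid R := Submonoid.powers f with hM
  haveI : IsLocalization (Algebra.algebraMapSubmonoid S M) S' := by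
    have : Algebra.algebraMapSubmonoid S M = Submonoid.powers (algebraMap R S f) := by
      simp [Algebra.algebraMapSubmonoid, hM, Submonoid.map_powers]
    rw [this]; infer_instance
  obtain ⟨⟨x, _, m₁, hm₁, rfl⟩, e⟩ := IsLocalization.surj (Algebra.algebraMapSubmonoid S M) s'
  simp only [← IsScalarTower.algebraMap_apply] at e
  obtain ⟨⟨m₂, hm₂⟩, hm₂s⟩ := IsIntegral.exists_multiple_integral_of_isLocalization M _ hs'
  simp only [Submonoid.smul_def, Algebra.smul_def] at hm₂s
  obtain ⟨m₃, hm₃, hm₃s⟩ := IsLocalization.exists_isIntegral_smul_of_isIntegral_map (Sₘ := S')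
    M (x := m₂ • x) <| by
      simp only [Algebra.smul_def, map_mul, ← IsScalarTower.algebraMap_apply, ← e, ← mul_assoc]
      exact hm₂s.mul (.algebraMap (Algebra.IsIntegral.isIntegral (R := R) (A := R) _))
  obtain ⟨r, hr⟩ := hcl _ hm₃s
  -- `s' = r / (m₁ m₂ m₃)`
  have hunit : IsUnit (algebraMap R R' (m₁ * m₂ * m₃)) :=
    IsLocalization.map_units R' (⟨m₁ * m₂ * m₃, mul_mem (mul_mem hm₁ hm₂) hm₃⟩ : M)
  obtain ⟨u, hu⟩ := hunit
  refine ⟨algebraMap R R' r * ↑u⁻¹, ?_⟩
  have hu' : algebraMap R' S' (↑u) = algebraMap R S' (m₁ * m₂ * m₃) := by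
    rw [hu, ← IsScalarTower.algebraMap_apply]
  have hunit' : IsUnit (algebraMap R S' (m₁ * m₂ * m₃)) := by
    rw [← hu']; exact (Units.isUnit u).map _
  apply hunit'.mul_right_cancel
  rw [map_mul, mul_assoc, ← hu', ← map_mul, Units.inv_mul, map_one, mul_one,
    ← IsScalarTower.algebraMap_apply, IsScalarTower.algebraMap_apply R S S', hr, hu']
  simp only [Algebra.smul_def, map_mul, ← IsScalarTower.algebraMap_apply, ← e]
  ring

end Groth.Agent.Lib.helper8.RelNorm
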