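import Mathlib
import Groth.Agent.Lib.Helper11.HensGamma

/-!
# Idempotent sections cutting out clopen pieces of an open subset (helper8)
-/

set_option autoImplicit false
universe u
open CategoryTheory AlgebraicGeometry TopologicalSpace Opposite

namespace Groth.Agent.Lib.helper8.RelNorm

variable {X : Scheme.{u}}

/-- For disjoint opens `A`, `B` there is an idempotent section over `A ⊔ B` whose non-vanishing locus is
`A` and whose complement idempotent has non-vanishing locus `B`. -/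
theorem exists_idem_sup (A B : X.Opens) (hAB : A ⊓ B = ⊥) :
    ∃ e : Γ(X, A ⊔ B), IsIdempotentElem e ∧ X.basicOpen e = A ∧ X.basicOpen (1 - e) = B := by
  obtain ⟨e, he1, he0⟩ := Groth.Agent.Lib.helper11.HensGamma.exists_idem A B hAB
  have hidem : IsIdempotentElem e := by
    refine X.sheaf.eq_of_locally_eq₂ (homOfLE (le_sup_left : A ≤ A ⊔ B))
      (homOfLE (le_sup_right : B ≤ A ⊔ B)) le_rfl _ _ ?_ ?_
    · change X.presheaf.map _ (e * e) = X.presheaf.map _ e
      rw [map_mul, he1, mul_one]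
    · change X.presheaf.map _ (e * e) = X.presheaf.map _ e
      rw [map_mul, he0, mul_zero]
  have hle : X.basicOpen e ≤ A ⊔ B := X.basicOpen_le e
  have hle' : X.basicOpen (1 - e) ≤ A ⊔ B := X.basicOpen_le _
  have hA : A ⊓ X.basicOpen e = A := by
    have := X.basicOpen_res e (homOfLE (le_sup_left : A ≤ A ⊔ B)).op
    rw [he1, Scheme.basicOpen_of_isUnit _ isUnit_one] at this
    exact this.symm
  have hB : B ⊓ X.basicOpen e = ⊥ := by
    have := X.basicOpen_res e (homOfLE (le_sup_right : B ≤ A ⊔ B)).op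
    rw [he0, Scheme.basicOpen_zero] at this
    exact this.symm
  have hA' : A ⊓ X.basicOpen (1 - e) = ⊥ := by
    have := X.basicOpen_res (1 - e) (homOfLE (le_sup_left : A ≤ A ⊔ B)).op
    rw [map_sub, map_one, he1, sub_self, Scheme.basicOpen_zero] at this
    exact this.symm
  have hB' : B ⊓ X.basicOpen (1 - e) = B := by
    have := X.basicOpen_res (1 - e) (homOfLE (le_sup_right : B ≤ A ⊔ B)).op
    rw [map_sub, map_one, he0, sub_zero, Scheme.basicOpen_of_isUnit _ isUnit_one] at this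
    exact this.symm
  refine ⟨e, hidem, ?_, ?_⟩
  · calc X.basicOpen e = (A ⊔ B) ⊓ X.basicOpen e := (inf_eq_right.mpr hle).symm
      _ = (A ⊓ X.basicOpen e) ⊔ (B ⊓ X.basicOpen e) := inf_sup_right _ _ _
      _ = A := by rw [hA, hB, sup_bot_eq]
  · calc X.basicOpen (1 - e) = (A ⊔ B) ⊓ X.basicOpen (1 - e) := (inf_eq_right.mpr hle').symm
      _ = (A ⊓ X.basicOpen (1 - e)) ⊔ (B ⊓ X.basicOpen (1 - e)) := inf_sup_right _ _ _
      _ = B := by rw [hA', hB', bot_sup_eq]

/-- A clopen subset `Z` of `X` cuts an open `T` into two pieces, detected by an idempotent of `Γ(X, T)`. -/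
theorem exists_idem_of_isClopen (T : X.Opens) (Z : Set X) (hZ : IsClopen Z) :
    ∃ e : Γ(X, T), IsIdempotentElem e ∧ (X.basicOpen e : Set X) = (T : Set X) ∩ Z ∧
      (X.basicOpen (1 - e) : Set X) = (T : Set X) \ Z := by
  let A : X.Opens := T ⊓ ⟨Z, hZ.isOpen⟩
  let B : X.Opens := T ⊓ ⟨Zᶜ, hZ.compl.isOpen⟩
  have hAB : A ⊓ B = ⊥ := by
    ext x
    simp only [A, B, Opens.coe_inf, Opens.coe_mk, Opens.coe_bot, Set.mem_inter_iff,
      Set.mem_compl_iff, Set.mem_empty_iff_false, iff_false]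
    rintro ⟨⟨_, h1⟩, _, h2⟩
    exact h2 h1
  have hT : A ⊔ B = T := by
    ext x
    simp only [A, B, Opens.coe_sup, Opens.coe_inf, Opens.coe_mk, Set.mem_union, Set.mem_inter_iff,
      Set.mem_compl_iff]
    constructor
    · rintro (⟨h, _⟩ | ⟨h, _⟩) <;> exact h
    · intro h
      by_cases hx : x ∈ Z
      · exact Or.inl ⟨h, hx⟩
      · exact Or.inr ⟨h, hx⟩
  have hA : (A : Set X) = (T : Set X) ∩ Z := rfl
  have hB : (B : Set X) = (T : Set X) \ Z := rfl
  obtain ⟨e, he, h1, h2⟩ := exists_idem_sup A B hAB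
  clear_value A B
  subst hT
  refine ⟨e, he, ?_, ?_⟩
  · rw [h1]; exact hA
  · rw [h2]; exact hB

end Groth.Agent.Lib.helper8.RelNorm
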