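import Mathlib
import Groth.Agent.Lib.Helper8.RelNormA

/-!
# Sections of the relative normalization over preimages of affine opens (helper8)
-/

set_option autoImplicit false
universe u
open CategoryTheory AlgebraicGeometry TopologicalSpace Opposite Polynomial

namespace Groth.Agent.Lib.helper8.RelNorm

/-- abstract form: a ring map which is "iso ≫ inclusion of an integral closure ≫ iso". -/
theorem abs_closed {A B R B₂ : Type*} [CommRing A] [CommRing B] [CommRing R] [CommRing B₂]
    [Algebra A B] (ι : R ≃+* integralClosure A B) (ρ : B ≃+* B₂) (φ : R →+* B₂)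
    (hφ : ∀ r, φ r = ρ (ι r : B)) :
    Function.Injective φ ∧ (∀ s, φ.IsIntegralElem s → s ∈ φ.range) ∧
      (∀ b : B, IsIntegral A b → ρ b ∈ φ.range) := by
  have hb : ∀ b : B, IsIntegral A b → ρ b ∈ φ.range := by
    intro b hb
    refine ⟨ι.symm ⟨b, hb⟩, ?_⟩
    rw [hφ, RingEquiv.apply_symm_apply]
  refine ⟨?_, ?_, hb⟩
  · intro r₁ r₂ h
    rw [hφ, hφ] at h
    exact ι.injective (Subtype.ext (ρ.injective h))
  · rintro s ⟨p, hp, hps⟩
    have h1 : IsIntegral (integralClosure A B) (ρ.symm s) := by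
      refine ⟨p.map ι.toRingHom, hp.map _, ?_⟩
      rw [eval₂_map]
      have : (algebraMap (integralClosure A B) B).comp ι.toRingHom = ρ.symm.toRingHom.comp φ := by
        ext r
        simp only [RingHom.comp_apply, RingEquiv.toRingHom_eq_coe, RingHom.coe_coe, hφ,
          RingEquiv.symm_apply_apply]
        rfl
      rw [this]
      change eval₂ (ρ.symm.toRingHom.comp φ) (ρ.symm.toRingHom s) p = 0
      rw [← hom_eval₂, hps, map_zero]
    have h2 : IsIntegral A (ρ.symm s) := isIntegral_trans _ h1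
    have := hb _ h2
    rwa [RingEquiv.apply_symm_apply] at this

variable {X Y : Scheme.{u}} (f : X ⟶ Y) [QuasiCompact f] [QuasiSeparated f]

/-- The three basic facts about `Γ(N, N_U) ⟶ Γ(X, X_U)` for `U` affine. -/
theorem app_closed {U : Y.Opens} (hU : IsAffineOpen U) :
    Function.Injective (f.toNormalization.app (f.fromNormalization ⁻¹ᵁ U)).hom ∧
    (∀ s, (f.toNormalization.app (f.fromNormalization ⁻¹ᵁ U)).hom.IsIntegralElem s →
      s ∈ (f.toNormalization.app (f.fromNormalization ⁻¹ᵁ U)).hom.range) ∧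
    (∀ e : Γ(X, f.toNormalization ⁻¹ᵁ f.fromNormalization ⁻¹ᵁ U), IsIdempotentElem e →
      e ∈ (f.toNormalization.app (f.fromNormalization ⁻¹ᵁ U)).hom.range) := by
  letI := (f.app U).hom.toAlgebra
  have key := f.toNormalization_app_preimage ⟨U, hU⟩
  have hUU : f ⁻¹ᵁ U = f.toNormalization ⁻¹ᵁ f.fromNormalization ⁻¹ᵁ U := by
    simp [← Scheme.Hom.comp_preimage]
  let ρ : Γ(X, f ⁻¹ᵁ U) ≃+* Γ(X, f.toNormalization ⁻¹ᵁ f.fromNormalization ⁻¹ᵁ U) :=
    (X.presheaf.mapIso (eqToIso hUU.symm).op).commRingCatIsoToRingEquiv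
  obtain ⟨h1, h2, h3⟩ := abs_closed (A := Γ(Y, U)) (B := Γ(X, f ⁻¹ᵁ U))
    (f.normalizationObjIso hU).commRingCatIsoToRingEquiv ρ
    (f.toNormalization.app (f.fromNormalization ⁻¹ᵁ U)).hom (by
      intro r
      have := congr($key r)
      exact this)
  refine ⟨h1, h2, ?_⟩
  intro e he
  have he' : IsIdempotentElem (ρ.symm e) := he.map ρ.symm
  have hint : IsIntegral Γ(Y, U) (ρ.symm e) := by
    refine ⟨Polynomial.X ^ 2 - Polynomial.X, ?_, ?_⟩
    · exact monic_X_pow_sub (lt_of_le_of_lt degree_X_le (by norm_num))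
    · simp only [eval₂_sub, eval₂_pow, eval₂_X]
      rw [pow_two, he'.eq, sub_self]
  have := h3 _ hint
  rwa [RingEquiv.apply_symm_apply] at this

end Groth.Agent.Lib.helper8.RelNorm
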