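import Mathlib
import Groth.Agent.Lib.Helper8.RelNormA

/-!
# Passing "integrally closed in the direct image" to basic opens (helper8)
-/

set_option autoImplicit false
universe u
open CategoryTheory AlgebraicGeometry TopologicalSpace Opposite

namespace Groth.Agent.Lib.helper8.RelNorm

variable {X N : Scheme.{u}} (g : X ⟶ N) [QuasiCompact g] [QuasiSeparated g]

/-- Let `V ⊆ N` be affine open such that `Γ(N, V) → Γ(X, g⁻¹V)` is injective with integrally closed image.
Then the same holds over the basic open of any `e' ∈ Γ(N, V)`. -/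
theorem appLE_basicOpen_closed {V : N.Opens} (hV : IsAffineOpen V)
    (hinj : Function.Injective (g.app V).hom)
    (hcl : ∀ s, (g.app V).hom.IsIntegralElem s → s ∈ (g.app V).hom.range)
    (e' : Γ(N, V)) :
    Function.Injective (g.appLE (N.basicOpen e') (X.basicOpen ((g.app V).hom e'))
      (g.preimage_basicOpen e').ge).hom ∧
    ∀ s, (g.appLE (N.basicOpen e') (X.basicOpen ((g.app V).hom e'))
      (g.preimage_basicOpen e').ge).hom.IsIntegralElem s →
      s ∈ (g.appLE (N.basicOpen e') (X.basicOpen ((g.app V).hom e'))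
      (g.preimage_basicOpen e').ge).hom.range := by
  set e : Γ(X, g ⁻¹ᵁ V) := (g.app V).hom e' with he
  set ψ := g.appLE (N.basicOpen e') (X.basicOpen e) (g.preimage_basicOpen e').ge with hψ
  letI alg1 : Algebra Γ(N, V) Γ(X, g ⁻¹ᵁ V) := (g.app V).hom.toAlgebra
  letI alg2 : Algebra Γ(N, N.basicOpen e') Γ(X, X.basicOpen e) := ψ.hom.toAlgebra
  letI alg3 : Algebra Γ(N, V) Γ(X, X.basicOpen e) :=
    (g.appLE V (X.basicOpen e) (X.basicOpen_le e)).hom.toAlgebra
  haveI : IsScalarTower Γ(N, V) Γ(X, g ⁻¹ᵁ V) Γ(X, X.basicOpen e) :=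
    .of_algebraMap_eq' <| by
      simp only [RingHom.algebraMap_toAlgebra, ← CommRingCat.hom_comp, Scheme.Hom.app_eq_appLE,
        Scheme.Hom.appLE_map]
  haveI : IsScalarTower Γ(N, V) Γ(N, N.basicOpen e') Γ(X, X.basicOpen e) :=
    .of_algebraMap_eq' <| by
      simp only [RingHom.algebraMap_toAlgebra, ← CommRingCat.hom_comp, hψ, Scheme.Hom.map_appLE]
  haveI loc1 : IsLocalization.Away e' Γ(N, N.basicOpen e') := hV.isLocalization_basicOpen e'
  haveI loc2 : IsLocalization.Away (algebraMap Γ(N, V) Γ(X, g ⁻¹ᵁ V) e') Γ(X, X.basicOpen e) :=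
    isLocalization_basicOpen_of_qcqs (g.isCompact_preimage hV.isCompact)
      (g.isQuasiSeparated_preimage hV.isQuasiSeparated) e
  constructor
  · -- injectivity: localization of an injective map
    have h1 : Function.Injective (algebraMap Γ(N, V) Γ(X, g ⁻¹ᵁ V)) := hinj
    haveI : IsLocalization ((Submonoid.powers e').map (algebraMap Γ(N, V) Γ(X, g ⁻¹ᵁ V)))
        Γ(X, X.basicOpen e) := by
      rw [Submonoid.map_powers]; exact loc2
    have h2 := IsLocalization.map_injective_of_injective (M := Submonoid.powers e')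
      (S := Γ(N, N.basicOpen e')) h1 (Q := Γ(X, X.basicOpen e))
    have h3 : ψ.hom = IsLocalization.map (S := Γ(N, N.basicOpen e')) Γ(X, X.basicOpen e)
        (algebraMap Γ(N, V) Γ(X, g ⁻¹ᵁ V)) (Submonoid.powers e').le_comap_map := by
      apply IsLocalization.ringHom_ext (Submonoid.powers e')
      rw [IsLocalization.map_comp]
      ext r
      simp only [RingHom.comp_apply]
      rw [← IsScalarTower.algebraMap_apply Γ(N, V) Γ(X, g ⁻¹ᵁ V) Γ(X, X.basicOpen e)]
      exact (IsScalarTower.algebraMap_apply Γ(N, V) Γ(N, N.basicOpen e') Γ(X, X.basicOpen e) r).symm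
    rw [h3]
    exact h2
  · intro s hs
    exact mem_range_of_isIntegral_away (R := Γ(N, V)) (S := Γ(X, g ⁻¹ᵁ V))
      (R' := Γ(N, N.basicOpen e')) (S' := Γ(X, X.basicOpen e)) e' hcl s hs

end Groth.Agent.Lib.helper8.RelNorm
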