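import Mathlib
import Groth.Agent.Lib.Helper8.RelNormB
import Groth.Agent.Lib.Helper8.RelNormC
import Groth.Agent.Lib.Helper8.RelNormD
import Groth.Agent.Lib.Helper13.Normal11
import Groth.Agent.S9672

/-!
# The relative normalization of a normal scheme with locally finitely many components (helper8)

`f : X ⟶ Y` quasi-compact quasi-separated, `X` normal with locally finitely many irreducible
components; `N = f.normalization` (the normalization of `Y` in `X`).
-/

set_option autoImplicit false
universe u
open CategoryTheory AlgebraicGeometry TopologicalSpace Opposite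

namespace Groth.Agent.Lib.helper8.RelNorm

open Groth.Agent.Lib.helper13.Normal

section Topology

/-- irreducible components of an open subspace are traces of irreducible components meeting it
(copy of helper5 `IrrCover.irreducibleComponents_subset_image_of_isOpenEmbedding`). -/
theorem irreducibleComponents_subset_image_of_isOpenEmbedding {Y T : Type*} [TopologicalSpace Y]
    [TopologicalSpace T] (f : Y → T) (hf : Topology.IsOpenEmbedding f) :
    irreducibleComponents Y ⊆
      (fun Z => f ⁻¹' Z) '' {Z ∈ irreducibleComponents T | (Z ∩ Set.range f).Nonempty} := by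
  intro W hW
  obtain ⟨Z, hZ, hWZ⟩ := exists_mem_irreducibleComponents_subset_of_isIrreducible (f '' W)
    (hW.1.image f hf.continuous.continuousOn)
  have hne : (Z ∩ Set.range f).Nonempty := by
    obtain ⟨w, hw⟩ := hW.1.1
    exact ⟨f w, hWZ ⟨w, hw, rfl⟩, w, rfl⟩
  refine ⟨Z, ⟨hZ, hne⟩, ?_⟩
  have h1 : f ⁻¹' Z ∈ irreducibleComponents Y := preimage_mem_irreducibleComponents hZ hf hne
  have h2 : W ⊆ f ⁻¹' Z := fun w hw => hWZ ⟨w, hw, rfl⟩
  exact (h2.antisymm (hW.2 h1.1 h2)).symm

/-- locally finite irreducible components ⇒ quasi-compact opens have finitely many components. -/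
theorem finite_irreducibleComponents_of_locallyFinite {X : Scheme.{u}}
    (h : LocallyFinite (fun Z : ↥(irreducibleComponents ↥X) => (Z : Set ↥X)))
    (W : X.Opens) (hW : IsCompact (W : Set X)) : (irreducibleComponents ↥W).Finite := by
  have h1 : {Z : ↥(irreducibleComponents ↥X) | ((Z : Set ↥X) ∩ (W : Set X)).Nonempty}.Finite :=
    h.finite_nonempty_inter_compact hW
  have h2 : {Z ∈ irreducibleComponents ↥X |
      (Z ∩ Set.range (Subtype.val : ↥W → X)).Nonempty}.Finite := by
    refine (h1.image Subtype.val).subset ?_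
    rintro Z ⟨hZ, hne⟩
    refine ⟨⟨Z, hZ⟩, ?_, rfl⟩
    rw [Subtype.range_coe] at hne
    exact hne
  exact (h2.image _).subset
    (irreducibleComponents_subset_image_of_isOpenEmbedding (Subtype.val : ↥W → X)
      W.2.isOpenEmbedding_subtypeVal)

/-- A point with closure an irreducible component has no proper generalizations. -/
theorem eq_of_specializes_of_generic {T : Type*} [TopologicalSpace T] [T0Space T]
    {y w : T} (hy : closure {y} ∈ irreducibleComponents T) (h : w ⤳ y) : w = y := by
  have h1 : closure {y} ⊆ closure {w} := h.closure_subset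
  have h2 : closure {w} ⊆ closure {y} := hy.2 isIrreducible_singleton.closure h1
  exact (inseparable_iff_closure_eq.mpr (subset_antisymm h2 h1)).eq

/-- A point without proper generalizations is the generic point of an irreducible component. -/
theorem generic_of_forall_specializes {T : Type*} [TopologicalSpace T] [QuasiSober T]
    (η : T) (h : ∀ y : T, y ⤳ η → y = η) : closure {η} ∈ irreducibleComponents T := by
  obtain ⟨ζ, hζ⟩ := QuasiSober.sober (isIrreducible_irreducibleComponent (x := η))
    isClosed_irreducibleComponent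
  have hsp : ζ ⤳ η := by
    rw [specializes_iff_mem_closure, hζ.def]
    exact mem_irreducibleComponent
  rw [← h ζ hsp, hζ.def]
  exact irreducibleComponent_mem_irreducibleComponents η

/-- every point is a specialization of a generic point of an irreducible component. -/
theorem exists_generic_specializes {T : Type*} [TopologicalSpace T] [QuasiSober T] (t : T) :
    ∃ η : T, closure {η} ∈ irreducibleComponents T ∧ η ⤳ t := by
  obtain ⟨ζ, hζ⟩ := QuasiSober.sober (isIrreducible_irreducibleComponent (x := t))
    isClosed_irreducibleComponent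
  refine ⟨ζ, ?_, ?_⟩
  · rw [hζ.def]; exact irreducibleComponent_mem_irreducibleComponents t
  · rw [specializes_iff_mem_closure, hζ.def]; exact mem_irreducibleComponent

end Topology

section Main

variable {X Y : Scheme.{u}} (f : X ⟶ Y) [QuasiCompact f] [QuasiSeparated f]

/-- A clopen subset of `X` cuts `toN⁻¹(N_U)` into pieces which are preimages of complementary basic
opens of `N_U`. -/
theorem exists_section_of_isClopen {U : Y.Opens} (hU : IsAffineOpen U) (Z : Set X)
    (hZ : IsClopen Z) :
    ∃ e' : Γ(f.normalization, f.fromNormalization ⁻¹ᵁ U), e' * (1 - e') = 0 ∧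
      ((f.toNormalization ⁻¹ᵁ f.normalization.basicOpen e' : X.Opens) : Set X) =
        ((f.toNormalization ⁻¹ᵁ f.fromNormalization ⁻¹ᵁ U : X.Opens) : Set X) ∩ Z ∧
      ((f.toNormalization ⁻¹ᵁ f.normalization.basicOpen (1 - e') : X.Opens) : Set X) =
        ((f.toNormalization ⁻¹ᵁ f.fromNormalization ⁻¹ᵁ U : X.Opens) : Set X) \ Z := by
  obtain ⟨e, he, h1, h2⟩ :=
    exists_idem_of_isClopen (f.toNormalization ⁻¹ᵁ f.fromNormalization ⁻¹ᵁ U) Z hZ
  obtain ⟨hinj, -, hid⟩ := app_closed f hU
  obtain ⟨e', he'⟩ := hid e he
  refine ⟨e', ?_, ?_, ?_⟩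
  · apply hinj
    rw [map_mul, map_sub, map_one, he', map_zero, mul_sub, mul_one, he.eq, sub_self]
  · rw [f.toNormalization.preimage_basicOpen e']
    rw [← h1, ← he']
  · rw [f.toNormalization.preimage_basicOpen (1 - e')]
    rw [← h2, ← he']
    change (X.basicOpen ((f.toNormalization.app (f.fromNormalization ⁻¹ᵁ U)).hom (1 - e')) : Set X) = _
    rw [map_sub, map_one]

/-- Separation: distinct generic points of `X` have images in `N` which are not related by
specialization. -/
theorem eq_of_specializes_toNormalization (hX : Pi1.IsNormalScheme X)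
    (hfin : LocallyFinite (fun Z : ↥(irreducibleComponents ↥X) => (Z : Set ↥X)))
    {x₁ x₂ : X} (h₁ : closure {x₁} ∈ irreducibleComponents ↥X)
    (h₂ : closure {x₂} ∈ irreducibleComponents ↥X)
    (h : f.toNormalization x₂ ⤳ f.toNormalization x₁) : x₂ = x₁ := by
  obtain ⟨hopen, -⟩ := Groth.Agent.S9799.result X
    (finite_irreducibleComponents_of_locallyFinite hfin) hX
  have hZ : IsClopen (closure {x₁}) := ⟨isClosed_closure, hopen _ h₁⟩
  by_contra hne
  have hx₂ : x₂ ∉ closure {x₁} := by
    intro hmem
    have : x₁ ⤳ x₂ := specializes_iff_mem_closure.mpr hmem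
    exact hne (eq_of_specializes_of_generic h₂ this).symm
  obtain ⟨_, ⟨U, hU, rfl⟩, hxU, -⟩ := Y.isBasis_affineOpens.exists_subset_of_mem_open
    (Set.mem_univ (f.fromNormalization (f.toNormalization x₁))) isOpen_univ
  obtain ⟨e', he0, he1, he2⟩ := exists_section_of_isClopen f hU _ hZ
  have hx₁T : f.toNormalization x₁ ∈ f.fromNormalization ⁻¹ᵁ U := hxU
  have hx₂T : f.toNormalization x₂ ∈ f.fromNormalization ⁻¹ᵁ U :=
    h.mem_open (f.fromNormalization ⁻¹ᵁ U).2 hx₁T
  have m₁ : f.toNormalization x₁ ∈ f.normalization.basicOpen e' := by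
    have : x₁ ∈ ((f.toNormalization ⁻¹ᵁ f.normalization.basicOpen e' : X.Opens) : Set X) := by
      rw [he1]; exact ⟨hx₁T, subset_closure rfl⟩
    exact this
  have m₂ : f.toNormalization x₂ ∈ f.normalization.basicOpen (1 - e') := by
    have : x₂ ∈ ((f.toNormalization ⁻¹ᵁ f.normalization.basicOpen (1 - e') : X.Opens) : Set X) := by
      rw [he2]; exact ⟨hx₂T, hx₂⟩
    exact this
  have m₃ : f.toNormalization x₂ ∈ f.normalization.basicOpen e' :=
    h.mem_open (f.normalization.basicOpen e').2 m₁
  have : f.toNormalization x₂ ∈ f.normalization.basicOpen (e' * (1 - e')) := by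
    rw [Scheme.basicOpen_mul]; exact ⟨m₃, m₂⟩
  rw [he0, Scheme.basicOpen_zero] at this
  exact this

/-- generic points of `X` map to generic points of the relative normalization. -/
theorem generic_toNormalization (hX : Pi1.IsNormalScheme X)
    (hfin : LocallyFinite (fun Z : ↥(irreducibleComponents ↥X) => (Z : Set ↥X)))
    (x : X) (hx : closure {x} ∈ irreducibleComponents ↥X) :
    closure {f.toNormalization x} ∈ irreducibleComponents ↥f.normalization := by
  apply generic_of_forall_specializes
  intro y' hy'
  obtain ⟨z, hz, hzy⟩ := exists_generic_specializes y'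
  obtain ⟨x₂, hx₂, hx₂z⟩ := Groth.Agent.S9672.result f z hz
  have h1 : f.toNormalization x₂ ⤳ f.toNormalization x := by
    change f.toNormalization.base x₂ ⤳ _
    rw [hx₂z]; exact hzy.trans hy'
  have h2 : x₂ = x := eq_of_specializes_toNormalization f hX hfin hx hx₂ h1
  subst h2
  have h3 : f.toNormalization x₂ ⤳ y' := by
    change f.toNormalization.base x₂ ⤳ _
    rw [hx₂z]; exact hzy
  exact (hy'.antisymm h3).eq

/-- over a generic point of the relative normalization lies exactly one generic point of `X`. -/
theorem existsUnique_generic (hX : Pi1.IsNormalScheme X)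
    (hfin : LocallyFinite (fun Z : ↥(irreducibleComponents ↥X) => (Z : Set ↥X)))
    (x' : f.normalization) (hx' : closure {x'} ∈ irreducibleComponents ↥f.normalization) :
    ∃! x : X, closure {x} ∈ irreducibleComponents ↥X ∧ f.toNormalization.base x = x' := by
  obtain ⟨x, hx, hxx'⟩ := Groth.Agent.S9672.result f x' hx'
  refine ⟨x, ⟨hx, hxx'⟩, ?_⟩
  rintro x₂ ⟨hx₂, hx₂x'⟩
  apply eq_of_specializes_toNormalization f hX hfin hx hx₂
  change f.toNormalization.base x₂ ⤳ f.toNormalization.base x
  rw [hxx', hx₂x']

/-- the irreducible components of the relative normalization are locally finite. -/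
theorem locallyFinite_normalization
    (hfin : LocallyFinite (fun Z : ↥(irreducibleComponents ↥X) => (Z : Set ↥X))) :
    LocallyFinite (fun Z : ↥(irreducibleComponents ↥f.normalization) =>
      (Z : Set ↥f.normalization)) := by
  intro x'
  obtain ⟨_, ⟨U, hU, rfl⟩, hxU, -⟩ := Y.isBasis_affineOpens.exists_subset_of_mem_open
    (Set.mem_univ (f.fromNormalization x')) isOpen_univ
  refine ⟨(f.fromNormalization ⁻¹ᵁ U : f.normalization.Opens),
    (f.fromNormalization ⁻¹ᵁ U).2.mem_nhds hxU, ?_⟩
  have hT : IsCompact ((f.toNormalization ⁻¹ᵁ f.fromNormalization ⁻¹ᵁ U : X.Opens) : Set X) :=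
    f.toNormalization.isCompact_preimage (hU.preimage f.fromNormalization).isCompact
  have hfinX := hfin.finite_nonempty_inter_compact hT
  have hfin2 := (hfinX.image Subtype.val).image
    (fun Z : Set X => closure (f.toNormalization '' Z))
  refine Set.Finite.of_finite_image (f := Subtype.val) (hfin2.subset ?_)
    Subtype.val_injective.injOn
  rintro _ ⟨⟨Z', hZ'⟩, ⟨y, hyZ', hyU⟩, rfl⟩
  -- the generic point of `Z'`
  obtain ⟨ξ, hξ⟩ := QuasiSober.sober hZ'.1 (isClosed_of_mem_irreducibleComponents Z' hZ')
  have hξy : ξ ⤳ y := by rw [specializes_iff_mem_closure, hξ.def]; exact hyZ'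
  have hξU : ξ ∈ f.fromNormalization ⁻¹ᵁ U := hξy.mem_open (f.fromNormalization ⁻¹ᵁ U).2 hyU
  have hξg : closure {ξ} ∈ irreducibleComponents ↥f.normalization := by rw [hξ.def]; exact hZ'
  obtain ⟨x, hx, hxξ⟩ := Groth.Agent.S9672.result f ξ hξg
  refine ⟨closure {x}, ⟨⟨closure {x}, hx⟩, ⟨x, subset_closure rfl, ?_⟩, rfl⟩, ?_⟩
  · change f.toNormalization.base x ∈ f.fromNormalization ⁻¹ᵁ U
    rw [hxξ]; exact hξU
  · change closure (f.toNormalization '' closure {x}) = Z'
    rw [closure_image_closure f.toNormalization.continuous, Set.image_singleton]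
    change closure {f.toNormalization.base x} = Z'
    rw [hxξ, hξ.def]

/-- the relative normalization of `Y` in a normal scheme `X` with locally finitely many irreducible
components is normal. -/
theorem isNormalScheme_normalization (hX : Pi1.IsNormalScheme X)
    (hfin : LocallyFinite (fun Z : ↥(irreducibleComponents ↥X) => (Z : Set ↥X))) :
    Pi1.IsNormalScheme f.normalization := by
  intro x'
  obtain ⟨hopen, -⟩ := Groth.Agent.S9799.result X
    (finite_irreducibleComponents_of_locallyFinite hfin) hX
  obtain ⟨_, ⟨U, hU, rfl⟩, hxU, -⟩ := Y.isBasis_affineOpens.exists_subset_of_mem_open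
    (Set.mem_univ (f.fromNormalization x')) isOpen_univ
  have hNU : IsAffineOpen (f.fromNormalization ⁻¹ᵁ U) := hU.preimage f.fromNormalization
  -- a generic point `x` of `X` with `toN x ⤳ x'`
  have hd : DenseRange f.toNormalization := (inferInstance : IsDominant f.toNormalization).1
  obtain ⟨y₀, hy₀⟩ :=
    Groth.Agent.Lib.Helper4.GlueClosedPoint.exists_specializes_of_mem_closure_range
      f.toNormalization x' (hd x')
  obtain ⟨x, hx, hxy⟩ := exists_generic_specializes y₀
  have hsp : f.toNormalization x ⤳ x' := (hxy.map f.toNormalization.continuous).trans hy₀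
  have hZ : IsClopen (closure {x}) := ⟨isClosed_closure, hopen _ hx⟩
  obtain ⟨e', he0, he1, he2⟩ := exists_section_of_isClopen f hU _ hZ
  have hx'U : x' ∈ f.fromNormalization ⁻¹ᵁ U := hxU
  have hxT : f.toNormalization x ∈ f.fromNormalization ⁻¹ᵁ U :=
    hsp.mem_open (f.fromNormalization ⁻¹ᵁ U).2 hx'U
  -- `x'` lies in the basic open of `e'`
  have hx'W : x' ∈ f.normalization.basicOpen e' := by
    by_contra hcon
    have hx'1 : x' ∈ f.normalization.basicOpen (1 - e') := by
      have := f.normalization.basicOpen_add_le e' (1 - e')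
      rw [add_sub_cancel, Scheme.basicOpen_one] at this
      rcases this hx'U with h | h
      · exact absurd h hcon
      · exact h
    have h1 : f.toNormalization x ∈ f.normalization.basicOpen (1 - e') :=
      hsp.mem_open (f.normalization.basicOpen (1 - e')).2 hx'1
    have h2 : x ∈ ((f.toNormalization ⁻¹ᵁ f.normalization.basicOpen (1 - e') : X.Opens) : Set X) :=
      h1
    rw [he2] at h2
    exact h2.2 (subset_closure rfl)
  -- the sections of `X` over the preimage form a normal domain
  set A' : X.Opens := X.basicOpen ((f.toNormalization.app (f.fromNormalization ⁻¹ᵁ U)).hom e')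
    with hA'def
  have hA' : (A' : Set X) =
      ((f.toNormalization ⁻¹ᵁ f.fromNormalization ⁻¹ᵁ U : X.Opens) : Set X) ∩ closure {x} := by
    rw [← he1, f.toNormalization.preimage_basicOpen e']
  have hirr : IsIrreducible (A' : Set X) := by
    refine ⟨⟨x, ?_⟩, ?_⟩
    · rw [hA']; exact ⟨hxT, subset_closure rfl⟩
    · exact (isIrreducible_singleton.closure).2.open_subset A'.2 (hA' ▸ Set.inter_subset_right)
  haveI : IrreducibleSpace A'.toScheme := Subtype.irreducibleSpace hirr
  haveI : IsReduced X := isReduced hX
  haveI : IsIntegral A'.toScheme := isIntegral_of_irreducibleSpace_of_isReduced _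
  have hic := Groth.Agent.S2102.result A'.toScheme (opens hX A')
  haveI : IsDomain Γ(X, A') :=
    (A'.topIso.commRingCatIsoToRingEquiv.symm.toMulEquiv).isDomain _
  haveI : IsIntegrallyClosed Γ(X, A') :=
    IsIntegrallyClosed.of_equiv A'.topIso.commRingCatIsoToRingEquiv
  obtain ⟨hinj, hcl, -⟩ := app_closed f hU
  obtain ⟨hinj', hcl'⟩ := appLE_basicOpen_closed f.toNormalization hNU hinj hcl e'
  have hnd : IsNormalDomain Γ(f.normalization, f.normalization.basicOpen e') :=
    ⟨hinj'.isDomain _, isIntegrallyClosed_of_injective_of_closed _ hinj' hcl'⟩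
  exact isNormalDomain_stalk_of_isAffineOpen (hNU.basicOpen e') hnd x' hx'W

end Main

end Groth.Agent.Lib.helper8.RelNorm
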