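import Mathlib
import Groth.Agent.Lib.Helper8.NilLift

/-!
# Vanishing in the fibre `κ(p) ⊗ P` (helper8)

* `exists_smul_mem_of_one_tmul_eq_zero`: if `1 ⊗ y = 0` in `κ(p) ⊗[A] P` then `t • y ∈ p P` for
  some `t ∉ p`.
* `exists_smul_mem_of_forall_linearMap`: if every `A`-linear map `M → κ(p)` killing `N` kills `x`
  then `t • x ∈ p M + N` for some `t ∉ p`.
-/

set_option autoImplicit false
universe u

open TensorProduct

namespace Groth.Agent.Lib.helper8.ResTensor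

variable {A : Type u} [CommRing A] (p : Ideal A) [p.IsPrime]

theorem exists_smul_mem_of_one_tmul_eq_zero (P : Type u) [AddCommGroup P] [Module A P] (y : P)
    (h : ((1 : p.ResidueField) ⊗ₜ[A] y : p.ResidueField ⊗[A] P) = 0) :
    ∃ t : A, t ∉ p ∧ t • y ∈ p • (⊤ : Submodule A P) := by
  let S := Localization.AtPrime p
  let κ := p.ResidueField
  let Γ : κ ⊗[S] (S ⊗[A] P) ≃ₗ[κ] κ ⊗[A] P :=
    TensorProduct.AlgebraTensorModule.cancelBaseChange A S κ κ P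
  have h1 : ((1 : κ) ⊗ₜ[S] ((1 : S) ⊗ₜ[A] y) : κ ⊗[S] (S ⊗[A] P)) = 0 := by
    apply Γ.injective
    rw [TensorProduct.AlgebraTensorModule.cancelBaseChange_tmul, one_smul, map_zero]
    exact h
  have hsurj : Function.Surjective (algebraMap S κ) := IsLocalRing.residue_surjective
  have h2 := NilLift.mem_smul_top_of_one_tmul_eq_zero hsurj (S ⊗[A] P) _ h1
  have hker : RingHom.ker (algebraMap S κ) = IsLocalRing.maximalIdeal S :=
    IsLocalRing.ker_residue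
  rw [hker] at h2
  have combine : ∀ (s₁ s₂ : A) (z₁ z₂ : S ⊗[A] P) (w₁ w₂ : P),
      (algebraMap A S s₁) • z₁ = (1 : S) ⊗ₜ[A] w₁ → (algebraMap A S s₂) • z₂ = (1 : S) ⊗ₜ[A] w₂ →
      (algebraMap A S (s₁ * s₂)) • (z₁ + z₂) = (1 : S) ⊗ₜ[A] (s₂ • w₁ + s₁ • w₂) := by
    intro s₁ s₂ z₁ z₂ w₁ w₂ e₁ e₂
    have t1 : (algebraMap A S (s₁ * s₂)) • z₁ = (1 : S) ⊗ₜ[A] (s₂ • w₁) := by
      rw [map_mul, mul_comm, mul_smul, e₁, algebraMap_smul, ← TensorProduct.tmul_smul]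
    have t2 : (algebraMap A S (s₁ * s₂)) • z₂ = (1 : S) ⊗ₜ[A] (s₁ • w₂) := by
      rw [map_mul, mul_smul, e₂, algebraMap_smul, ← TensorProduct.tmul_smul]
    rw [smul_add, t1, t2, TensorProduct.tmul_add]
  -- elements of `m (S ⊗ P)` are of the form `(1/s) ⊗ w` with `w ∈ p P`
  have claim : ∀ z ∈ (IsLocalRing.maximalIdeal S) • (⊤ : Submodule S (S ⊗[A] P)),
      ∃ s : A, s ∉ p ∧ ∃ w ∈ p • (⊤ : Submodule A P),
        (algebraMap A S s) • z = (1 : S) ⊗ₜ[A] w := by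
    intro z hz
    refine Submodule.smul_induction_on hz ?_ ?_
    · rintro a ha u -
      induction u using TensorProduct.induction_on with
      | zero => exact ⟨1, fun h => Ideal.IsPrime.ne_top ‹_› ((Ideal.eq_top_iff_one _).mpr h),
          0, zero_mem _, by simp⟩
      | tmul σ y' =>
        have haσ : a * σ ∈ IsLocalRing.maximalIdeal S := Ideal.mul_mem_right _ _ ha
        obtain ⟨⟨a'', s''⟩, hmk⟩ := IsLocalization.mk'_surjective p.primeCompl (a * σ)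
        change IsLocalization.mk' S a'' s'' = a * σ at hmk
        rw [← hmk, IsLocalization.AtPrime.mk'_mem_maximal_iff S p] at haσ
        refine ⟨s'', s''.2, a'' • y', Submodule.smul_mem_smul haσ trivial, ?_⟩
        rw [TensorProduct.smul_tmul', TensorProduct.smul_tmul', smul_eq_mul, smul_eq_mul, ← hmk,
          IsLocalization.mk'_spec'_mk, Algebra.algebraMap_eq_smul_one, TensorProduct.smul_tmul]
      | add u₁ u₂ h₁ h₂ =>
        obtain ⟨s₁, hs₁, w₁, hw₁, e₁⟩ := h₁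
        obtain ⟨s₂, hs₂, w₂, hw₂, e₂⟩ := h₂
        refine ⟨s₁ * s₂, fun h => (Ideal.IsPrime.mem_or_mem ‹_› h).elim hs₁ hs₂,
          s₂ • w₁ + s₁ • w₂, add_mem (Submodule.smul_mem _ _ hw₁) (Submodule.smul_mem _ _ hw₂), ?_⟩
        rw [smul_add]
        exact combine s₁ s₂ _ _ w₁ w₂ e₁ e₂
    · rintro z₁ z₂ ⟨s₁, hs₁, w₁, hw₁, e₁⟩ ⟨s₂, hs₂, w₂, hw₂, e₂⟩
      refine ⟨s₁ * s₂, fun h => (Ideal.IsPrime.mem_or_mem ‹_› h).elim hs₁ hs₂,
        s₂ • w₁ + s₁ • w₂, add_mem (Submodule.smul_mem _ _ hw₁) (Submodule.smul_mem _ _ hw₂), ?_⟩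
      exact combine s₁ s₂ _ _ w₁ w₂ e₁ e₂
  obtain ⟨s, hs, w, hw, e⟩ := claim _ h2
  have h3 : TensorProduct.mk A S P 1 (s • y - w) = 0 := by
    rw [map_sub, sub_eq_zero]
    show (1 : S) ⊗ₜ[A] (s • y) = (1 : S) ⊗ₜ[A] w
    rw [← e, TensorProduct.tmul_smul, algebraMap_smul]
  obtain ⟨t, ht⟩ := (IsLocalizedModule.eq_zero_iff p.primeCompl (TensorProduct.mk A S P 1)).mp h3
  refine ⟨t * s, fun h => (Ideal.IsPrime.mem_or_mem ‹_› h).elim t.2 hs, ?_⟩
  rw [Submonoid.smul_def, smul_sub, sub_eq_zero] at ht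
  rw [mul_smul, ht]
  exact Submodule.smul_mem _ _ hw

theorem exists_smul_mem_of_forall_linearMap (M : Type u) [AddCommGroup M] [Module A M]
    (N : Submodule A M) (x : M)
    (h : ∀ ℓ : M →ₗ[A] p.ResidueField, (∀ n ∈ N, ℓ n = 0) → ℓ x = 0) :
    ∃ t : A, t ∉ p ∧ t • x ∈ p • (⊤ : Submodule A M) ⊔ N := by
  let κ := p.ResidueField
  have h0 : ((1 : κ) ⊗ₜ[A] (N.mkQ x) : κ ⊗[A] (M ⧸ N)) = 0 := by
    rw [← Module.forall_dual_apply_eq_zero_iff κ]
    intro φ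
    let ℓ : M →ₗ[A] κ := (φ.restrictScalars A) ∘ₗ (TensorProduct.mk A κ (M ⧸ N) 1) ∘ₗ N.mkQ
    have := h ℓ (by
      intro n hn
      simp only [ℓ, LinearMap.comp_apply, Submodule.mkQ_apply]
      rw [(Submodule.Quotient.mk_eq_zero N).mpr hn, map_zero, map_zero])
    exact this
  obtain ⟨t, ht, hmem⟩ := exists_smul_mem_of_one_tmul_eq_zero p (M ⧸ N) _ h0
  refine ⟨t, ht, ?_⟩
  rw [← map_smul] at hmem
  have h1 : (p • (⊤ : Submodule A (M ⧸ N))) = Submodule.map N.mkQ (p • (⊤ : Submodule A M)) := by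
    rw [Submodule.map_smul'', Submodule.map_top, Submodule.range_mkQ]
  rw [h1] at hmem
  obtain ⟨z, hz, hzx⟩ := hmem
  have h2 : t • x - z ∈ N := by
    rw [← Submodule.Quotient.mk_eq_zero, Submodule.Quotient.mk_sub, sub_eq_zero]
    exact hzx.symm
  have : t • x = z + (t • x - z) := by abel
  rw [this]
  exact Submodule.add_mem_sup hz h2

end Groth.Agent.Lib.helper8.ResTensor
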