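import Mathlib
import Groth.Agent.Lib.Helper8.Rigidity

/-!
# Pointed morphisms from an abelian variety are homomorphisms (helper8)

`isMonHom_of_comp_one`: if `A` is a proper geometrically integral group scheme over a field `k`, `B` a
separated group scheme over `k` and `g : A ⟶ B` a `k`-morphism with `g(e) = e`, then `g` is a homomorphism.
(Consequence of the rigidity lemma `Rigidity.rigidity_over`.)
-/

set_option autoImplicit false
universe u
open CategoryTheory CategoryTheory.Limits AlgebraicGeometry Opposite TopologicalSpace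
open MonoidalCategory CartesianMonoidalCategory MonObj GrpObj

namespace Groth.Agent.Lib.helper8.Rigidity

variable {k : Type u} [Field k]

theorem isMonHom_of_comp_one (A B : Over (Spec (CommRingCat.of k))) [GrpObj A] [IsProper A.hom]
    [GeometricallyIntegral A.hom] [GrpObj B] [IsSeparated B.hom] (g : A ⟶ B)
    (hg : η[A] ≫ g = η[B]) : IsMonHom g := by
  haveI : IsIntegral A.left := GeometricallyIntegral.isIntegral_of_subsingleton A.hom
  haveI : IsLocallyNoetherian A.left := LocallyOfFiniteType.isLocallyNoetherian A.hom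
  haveI : IsIntegral (A ⊗ A).left := by
    rw [Over.tensorObj_left]
    infer_instance
  have hAΓ := bijective_appTop_of_point A η[A]
  let pt : (𝟙_ (Over (Spec (CommRingCat.of k)))).left := IsLocalRing.closedPoint k
  haveI : Subsingleton ↥(𝟙_ (Over (Spec (CommRingCat.of k)))).left :=
    inferInstanceAs (Subsingleton ↥(Spec (CommRingCat.of k)))
  obtain ⟨_, ⟨U', hU', rfl⟩, hzU', -⟩ :=
    B.left.isBasis_affineOpens.exists_subset_of_mem_open (Set.mem_univ (η[B].left.base pt))
      isOpen_univ
  -- the defect map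
  let m : A ⊗ A ⟶ B := (fst A A ≫ g)⁻¹ * (μ[A] ≫ g) * (snd A A ≫ g)⁻¹
  have hη1 : (η[A] : 𝟙_ _ ⟶ A) = 1 := MonObj.one_eq_one (M := A)
  have hη2 : (η[B] : 𝟙_ _ ⟶ B) = 1 := MonObj.one_eq_one (M := B)
  have hg1 : ∀ T : Over (Spec (CommRingCat.of k)), (1 : T ⟶ A) ≫ g = 1 := by
    intro T
    rw [Hom.one_def, Category.assoc, hg]
    rfl
  have hi : lift (𝟙 A) (toUnit A ≫ η[A]) ≫ m = 1 := by
    simp only [m, MonObj.comp_mul, GrpObj.comp_inv, lift_fst_assoc, lift_snd_assoc,
      Category.id_comp, Category.assoc, hg]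
    rw [← Category.assoc (lift (𝟙 A) (toUnit A ≫ η[A])), MonObj.lift_comp_one_right,
      Category.id_comp, inv_mul_cancel, _root_.one_mul, ← Hom.one_def, inv_one]
  have hj : lift (toUnit A ≫ η[A]) (𝟙 A) ≫ m = 1 := by
    simp only [m, MonObj.comp_mul, GrpObj.comp_inv, lift_fst_assoc, lift_snd_assoc,
      Category.id_comp, Category.assoc, hg]
    rw [← Category.assoc (lift (toUnit A ≫ η[A]) (𝟙 A)), MonObj.lift_comp_one_left,
      Category.id_comp, ← Hom.one_def, inv_one, _root_.one_mul, mul_inv_cancel]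
  have hy : ∀ w : (A ⊗ A).left, (snd A A).left.base w = η[A].left.base pt →
      m.left.base w ∈ U' := by
    intro w hw
    obtain ⟨v, rfl⟩ := mem_range_lift A A η[A] w ⟨pt, hw.symm⟩
    have h1 : m.left.base ((lift (𝟙 A) (toUnit A ≫ η[A])).left.base v) =
        (toUnit A ≫ η[B]).left.base v := by
      have : lift (𝟙 A) (toUnit A ≫ η[A]) ≫ m = toUnit A ≫ η[B] := hi
      rw [← this]
      rfl
    rw [h1]
    have h2 : (toUnit A ≫ η[B]).left.base v = η[B].left.base pt := by
      show η[B].left.base ((toUnit A).left.base v) = η[B].left.base pt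
      congr 1
      exact Subsingleton.elim _ _
    rw [h2]
    exact hzU'
  have key := rigidity_over A A B hAΓ η[A] m (η[A].left.base pt) U' hU' hy
  rw [hj, MonObj.comp_one] at key
  have hmul : μ[A] ≫ g = (fst A A ≫ g) * (snd A A ≫ g) := by
    have h3 : (fst A A ≫ g)⁻¹ * (μ[A] ≫ g) * (snd A A ≫ g)⁻¹ = 1 := key
    have h4 : (fst A A ≫ g)⁻¹ * (μ[A] ≫ g) = snd A A ≫ g := by
      rw [mul_inv_eq_one] at h3
      exact h3
    rw [← h4, mul_inv_cancel_left]
  refine ⟨hg, ?_⟩
  rw [hmul, Hom.mul_def]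
  congr 1

end Groth.Agent.Lib.helper8.Rigidity
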