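import Mathlib
import Groth.Prelude.Def_Coh
import Groth.Agent.Lib.Helper21.RpushQCohAffine
import Groth.Agent.Lib.Helper21.ModOpenBC2
import Groth.Agent.Lib.Helper7.CohKer
import Groth.Agent.Lib.Helper7.QCohProd

set_option autoImplicit false
universe u
open CategoryTheory CategoryTheory.Limits Opposite TopologicalSpace AlgebraicGeometry

namespace Groth.Agent.Lib.helper8.RpushQCoh

open Groth.Agent.Lib.helper21 Groth.Agent.Lib.helper7

variable {X Y : Scheme.{u}} (f : X ⟶ Y) [QuasiCompact f] [QuasiSeparated f]
  [HasInjectiveResolutions X.Modules] (F : X.Modules) [F.IsQuasicoherent] (p : ℕ)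

theorem isQuasicoherent_restrict_rpush {V : Y.Opens} (hV : IsAffineOpen V) :
    (((Coh.Rpush f p).obj F).restrict V.ι).IsQuasicoherent := by
  haveI : IsAffine ↑V := hV
  haveI : QuasiCompact (f ∣_ V) :=
    MorphismProperty.of_isPullback (isPullback_morphismRestrict f V).flip inferInstance
  haveI : QuasiSeparated (f ∣_ V) :=
    MorphismProperty.of_isPullback (isPullback_morphismRestrict f V).flip inferInstance
  obtain ⟨iso1⟩ := ModOpenBC.nonempty_restrict_rpush_iso f V F p
  exact QCohProd.isQuasicoherent_of_iso iso1.symm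
    (RpushQCohAffine.isQuasicoherent_rpush (f ∣_ V) (F.restrict (f ⁻¹ᵁ V).ι) p)

/-- **`R^p f_* F` is quasi-coherent** for `f` quasi-compact quasi-separated and `F` quasi-coherent. -/
theorem isQuasicoherent_rpush : ((Coh.Rpush f p).obj F).IsQuasicoherent := by
  refine CohKer.isQuasicoherent_of_presentations _ (fun V : Y.affineOpens => V.1)
    (iSup_affineOpens_eq_top Y) (fun V => Nonempty.some ?_)
  refine CohKer.exists_presentation_restrict _ V.2 ?_
  haveI := isQuasicoherent_restrict_rpush f F p V.2
  have e : ((Coh.Rpush f p).obj F).restrict V.2.fromSpec ≅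
      (((Coh.Rpush f p).obj F).restrict V.1.ι).restrict V.2.isoSpec.inv :=
    (Scheme.Modules.restrictFunctorComp V.2.isoSpec.inv V.1.ι).app _
  exact QCohProd.isQuasicoherent_of_iso e.symm inferInstance

end Groth.Agent.Lib.helper8.RpushQCoh
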