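import Mathlib
import Groth.Prelude.Def_SpSeq
import Groth.Agent.Lib.Helper21.SSWeakSerre
import Groth.Agent.Lib.Helper21.SSDegen

/-!
# Weak Serre classes and spectral sequences, position by position (helper8)

A refinement of helper21's `SSWeakSerre.prop_abutment`: the terms of the first page are only
required to lie in the weak Serre class `P` at a set `𝒜` of positions, to be subobjects of objects
of `P` at a set `ℬ` of positions and to vanish at a set `𝒵` of positions, provided the differentials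
of all pages respect these sets (`𝒜 → 𝒜 ∪ ℬ ∪ 𝒵`, `𝒜 ∪ 𝒵 → 𝒜`, `𝒜 ∪ 𝒵 → ℬ`).

* `SubP P M`: `M` is a subobject of an object of `P`;
* `mono_cokernel_map_of_mono`: `coker f ⟶ coker (f ≫ m)` is a monomorphism for `m` a monomorphism;
* `prop_homology_of_subP`, `subP_homology`: homology of short complexes;
* `prop_page_refined`: the pages; `prop_abutment_refined`: the abutment.
-/

set_option autoImplicit false
universe v u

open CategoryTheory CategoryTheory.Limits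

namespace Groth.Agent.Lib.helper8.SSRefined

open Groth.Agent.Lib.helper21.SSWeakSerre Groth.Agent.Lib.helper21.SSDegen

variable {C : Type u} [Category.{v} C] [Abelian C]

/-- `M` is a subobject of an object of `P` -/
def SubP (P : C → Prop) (M : C) : Prop := ∃ (K : C) (m : M ⟶ K), Mono m ∧ P K

lemma subP_of_prop {P : C → Prop} {M : C} (h : P M) : SubP P M :=
  ⟨M, 𝟙 M, inferInstance, h⟩

lemma subP_of_iso {P : C → Prop} {M N : C} (e : M ≅ N) (h : SubP P M) : SubP P N := by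
  obtain ⟨K, m, hm, hK⟩ := h
  exact ⟨K, e.inv ≫ m, mono_comp _ _, hK⟩

lemma subP_of_mono {P : C → Prop} {M N : C} (i : M ⟶ N) [Mono i] (h : SubP P N) : SubP P M := by
  obtain ⟨K, m, hm, hK⟩ := h
  exact ⟨K, i ≫ m, mono_comp _ _, hK⟩

/-- `coker f ⟶ coker (f ≫ m)` is a monomorphism when `m` is -/
lemma mono_cokernel_desc_of_mono {A B K : C} (f : A ⟶ B) (m : B ⟶ K) [Mono m] :
    Mono (cokernel.desc f (m ≫ cokernel.π (f ≫ m))
      (by rw [← Category.assoc, cokernel.condition])) := by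
  refine Preadditive.mono_of_cancel_zero _ (fun {T} g hg => ?_)
  obtain ⟨T', π', hπ', g', hg'⟩ := surjective_up_to_refinements_of_epi (cokernel.π f) g
  have h1 : (g' ≫ m) ≫ cokernel.π (f ≫ m) = 0 := by
    have := congrArg (fun t => π' ≫ t) hg
    simp only [comp_zero] at this
    rw [← Category.assoc, hg', Category.assoc, cokernel.π_desc] at this
    rw [Category.assoc]
    exact this
  obtain ⟨T'', π'', hπ'', y, hy⟩ :=
    (Limits.CokernelCofork.IsColimit.comp_π_eq_zero_iff_up_to_refinements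
      (cokernelIsCokernel (f ≫ m)) (g' ≫ m)).1 h1
  have h2 : π'' ≫ g' = y ≫ f := by
    rw [← cancel_mono m, Category.assoc, Category.assoc]
    exact hy
  have h3 : (π'' ≫ π') ≫ g = 0 := by
    rw [Category.assoc, hg', ← Category.assoc, h2, Category.assoc, cokernel.condition, comp_zero]
  haveI : Epi (π'' ≫ π') := epi_comp _ _
  exact (cancel_epi (π'' ≫ π')).1 (h3.trans comp_zero.symm)

variable {P : C → Prop} (hP : WeakSerre P)
include hP

/-- homology of `X₁ ⟶ X₂ ⟶ X₃` with `X₁, X₂` in `P` and `X₃` a subobject of an object of `P` -/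
lemma prop_homology_of_subP (S : ShortComplex C) (h1 : P S.X₁) (h2 : P S.X₂)
    (h3 : SubP P S.X₃) : P S.homology := by
  obtain ⟨K, m, hm, hK⟩ := h3
  let S' : ShortComplex C := ShortComplex.mk S.f (S.g ≫ m)
    (by rw [← Category.assoc, S.zero, zero_comp])
  let φ : S ⟶ S' :=
    { τ₁ := 𝟙 _, τ₂ := 𝟙 _, τ₃ := m
      comm₁₂ := by simp [S']
      comm₂₃ := by simp [S'] }
  haveI : Epi φ.τ₁ := inferInstanceAs (Epi (𝟙 S.X₁))
  haveI : IsIso φ.τ₂ := inferInstanceAs (IsIso (𝟙 S.X₂))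
  haveI : Mono φ.τ₃ := hm
  haveI : ShortComplex.QuasiIso φ := ShortComplex.quasiIso_of_epi_of_isIso_of_mono φ
  have e : S.homology ≅ S'.homology := asIso (ShortComplex.homologyMap φ)
  exact hP.iso e.symm (prop_homology hP S' h1 h2 hK)

/-- homology of `X₁ ⟶ X₂ ⟶ X₃` with `X₁` in `P` and `X₂` a subobject of an object of `P` -/
lemma subP_homology (S : ShortComplex C) (h1 : P S.X₁) (h2 : SubP P S.X₂) :
    SubP P S.homology := by
  obtain ⟨K, m, hm, hK⟩ := h2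
  have hQ : P (cokernel (S.f ≫ m)) := hP.coker _ h1 hK
  -- `S.opcycles` is a cokernel of `S.f`
  let e : (CokernelCofork.ofπ S.pOpcycles S.f_pOpcycles).pt ≅
      (CokernelCofork.ofπ (cokernel.π S.f) (cokernel.condition S.f)).pt :=
    IsColimit.coconePointUniqueUpToIso S.opcyclesIsCokernel (cokernelIsCokernel S.f)
  haveI := mono_cokernel_desc_of_mono S.f m
  refine ⟨cokernel (S.f ≫ m), S.homologyι ≫ e.hom ≫ cokernel.desc S.f (m ≫ cokernel.π (S.f ≫ m))
      (by rw [← Category.assoc, cokernel.condition]), ?_, hQ⟩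
  haveI : Mono (e.hom ≫ cokernel.desc S.f (m ≫ cokernel.π (S.f ≫ m))
      (by rw [← Category.assoc, cokernel.condition])) := mono_comp _ _
  exact mono_comp _ _

/-- **the pages**, position by position -/
theorem prop_page_refined {r₀ : ℤ} (E : CohomologicalSpectralSequence C r₀)
    (𝒜 ℬ 𝒵 : ℤ × ℤ → Prop)
    (hz : ∀ pq, 𝒵 pq → IsZero ((E.page r₀ le_rfl).X pq))
    (ha : ∀ pq, 𝒜 pq → P ((E.page r₀ le_rfl).X pq))
    (hb : ∀ pq, ℬ pq → SubP P ((E.page r₀ le_rfl).X pq))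
    (hAp : ∀ r, r₀ ≤ r → ∀ pq, 𝒜 pq → 𝒜 (pq - (r, 1 - r)) ∨ 𝒵 (pq - (r, 1 - r)))
    (hAn : ∀ r, r₀ ≤ r → ∀ pq, 𝒜 pq →
      𝒜 (pq + (r, 1 - r)) ∨ ℬ (pq + (r, 1 - r)) ∨ 𝒵 (pq + (r, 1 - r)))
    (hBp : ∀ r, r₀ ≤ r → ∀ pq, ℬ pq → 𝒜 (pq - (r, 1 - r)) ∨ 𝒵 (pq - (r, 1 - r))) :
    ∀ (r : ℤ) (hr : r₀ ≤ r), (∀ pq, 𝒜 pq → P ((E.page r hr).X pq)) ∧
      (∀ pq, ℬ pq → SubP P ((E.page r hr).X pq)) := by
  intro r hr
  induction r, hr using Int.leInduction with
  | base => exact ⟨ha, hb⟩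
  | succ r hr ih =>
    obtain ⟨ihA, ihB⟩ := ih
    have hZ : ∀ pq, 𝒵 pq → P ((E.page r hr).X pq) := fun pq h =>
      hP.zero _ (isZero_page E pq (hz pq h) r hr)
    have hprev : ∀ pq, 𝒜 pq ∨ 𝒵 pq → P ((E.page r hr).X pq) := by
      rintro pq (h | h)
      · exact ihA pq h
      · exact hZ pq h
    constructor
    · intro pq hpq
      refine hP.iso (E.iso r (r + 1) pq rfl hr) ?_
      refine prop_homology_of_subP hP ((E.page r hr).sc pq) ?_ (ihA pq hpq) ?_
      · show P ((E.page r hr).X ((ComplexShape.up' (⟨r, 1 - r⟩ : ℤ × ℤ)).prev pq))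
        rw [prev_eq]
        exact hprev _ (hAp r hr pq hpq)
      · show SubP P ((E.page r hr).X ((ComplexShape.up' (⟨r, 1 - r⟩ : ℤ × ℤ)).next pq))
        rw [next_eq]
        rcases hAn r hr pq hpq with h | h | h
        · exact subP_of_prop (ihA _ h)
        · exact ihB _ h
        · exact subP_of_prop (hZ _ h)
    · intro pq hpq
      refine subP_of_iso (E.iso r (r + 1) pq rfl hr) ?_
      refine subP_homology hP ((E.page r hr).sc pq) ?_ (ihB pq hpq)
      show P ((E.page r hr).X ((ComplexShape.up' (⟨r, 1 - r⟩ : ℤ × ℤ)).prev pq))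
      rw [prev_eq]
      exact hprev _ (hBp r hr pq hpq)

/-- **the abutment**: if all positions of total degree `n` are in `𝒜 ∪ 𝒵`, then `H n` is in `P` -/
theorem prop_abutment_refined {r₀ : ℤ} (E : CohomologicalSpectralSequence C r₀) {H : ℤ → C}
    (a : SpSeq.Abutment E H) (n : ℤ) (hfin : a.IsFinite n)
    (𝒜 ℬ 𝒵 : ℤ × ℤ → Prop)
    (hz : ∀ pq, 𝒵 pq → IsZero ((E.page r₀ le_rfl).X pq))
    (ha : ∀ pq, 𝒜 pq → P ((E.page r₀ le_rfl).X pq))
    (hb : ∀ pq, ℬ pq → SubP P ((E.page r₀ le_rfl).X pq))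
    (hAp : ∀ r, r₀ ≤ r → ∀ pq, 𝒜 pq → 𝒜 (pq - (r, 1 - r)) ∨ 𝒵 (pq - (r, 1 - r)))
    (hAn : ∀ r, r₀ ≤ r → ∀ pq, 𝒜 pq →
      𝒜 (pq + (r, 1 - r)) ∨ ℬ (pq + (r, 1 - r)) ∨ 𝒵 (pq + (r, 1 - r)))
    (hBp : ∀ r, r₀ ≤ r → ∀ pq, ℬ pq → 𝒜 (pq - (r, 1 - r)) ∨ 𝒵 (pq - (r, 1 - r)))
    (hn : ∀ p : ℤ, 𝒜 (p, n - p) ∨ 𝒵 (p, n - p)) : P (H n) := by
  obtain ⟨⟨a₀, ha₀⟩, ⟨b₀, hb₀⟩⟩ := hfin
  refine prop_of_filtration hP (a.fil n) (a.anti n) a₀ b₀ ha₀ hb₀ (fun p => ?_)
  have h1 : P ((E.page (a.rk (p, n - p)) (a.stat (p, n - p)).1).X (p, n - p)) := by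
    rcases hn p with h | h
    · exact (prop_page_refined hP E 𝒜 ℬ 𝒵 hz ha hb hAp hAn hBp (a.rk (p, n - p))
        (a.stat (p, n - p)).1).1 _ h
    · exact hP.zero _ (isZero_page E _ (hz _ h) _ _)
  have h2 := hP.iso (a.β (p, n - p)) h1
  have e : p + (n - p) = n := by ring
  have h3 : ∀ (m : ℤ), m = n → P (SpSeq.grPiece (a.fil m) (a.anti m) p) →
      P (SpSeq.grPiece (a.fil n) (a.anti n) p) := by
    intro m hm hq
    subst hm
    exact hq
  exact h3 _ e h2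

end Groth.Agent.Lib.helper8.SSRefined
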