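import Mathlib
import Groth.Agent.Lib.Helper8.MilnorFlat

/-!
# The prime spectrum of a Milnor square is a pushout (helper8)
-/

set_option autoImplicit false
set_option linter.unusedSectionVars false
universe u

namespace Groth.Agent.Lib.helper8.SpecPO

open Groth.Agent.Lib.helper12 Groth.Agent.Lib.helper8.Mil PrimeSpectrum

variable {B' B A' A : Type u} [CommRing B'] [CommRing B] [CommRing A'] [CommRing A]
  [Algebra B' B] [Algebra B' A'] [Algebra B A] [Algebra A' A] [Algebra B' A]
  [IsScalarTower B' B A] [IsScalarTower B' A' A]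

theorem ker_mul_ker (hsq : EtMil.IsFibreSquare B' B A' A) {x y : B'}
    (hx : algebraMap B' A' x = 0) (hy : algebraMap B' B y = 0) : x * y = 0 :=
  milnor_ext hsq (by simp [hy]) (by simp [hx])

theorem comm_apply (x : B') :
    algebraMap B A (algebraMap B' B x) = algebraMap A' A (algebraMap B' A' x) := by
  rw [← IsScalarTower.algebraMap_apply, ← IsScalarTower.algebraMap_apply]

/-- `B'_i ≅ A'_{φ i}` for `i ∈ ker (B' → B)`. -/
theorem isLocalization_away (hsq : EtMil.IsFibreSquare B' B A' A) (i : B')
    (hi : algebraMap B' B i = 0) :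
    @IsLocalization.Away B' _ i (Localization.Away (algebraMap B' A' i)) _
      (((algebraMap A' (Localization.Away (algebraMap B' A' i))).comp
        (algebraMap B' A')).toAlgebra) := by
  letI : Algebra B' (Localization.Away (algebraMap B' A' i)) :=
    ((algebraMap A' (Localization.Away (algebraMap B' A' i))).comp (algebraMap B' A')).toAlgebra
  have halg : ∀ x : B', algebraMap B' (Localization.Away (algebraMap B' A' i)) x =
      algebraMap A' _ (algebraMap B' A' x) := fun x => rfl
  have hjker : algebraMap B' A' i ∈ RingHom.ker (algebraMap A' A) :=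
    algebraMap_mem_ker_of_mem_ker hi
  refine ⟨?_, ?_, ?_⟩
  · rintro ⟨_, n, rfl⟩
    rw [halg, map_pow, map_pow]
    exact (IsLocalization.Away.algebraMap_isUnit (algebraMap B' A' i)).pow n
  · intro z
    obtain ⟨⟨a', ⟨_, n, rfl⟩⟩, hz⟩ :=
      IsLocalization.surj (Submonoid.powers (algebraMap B' A' i)) z
    -- z * j^n = a'
    have hmem : algebraMap B' A' i * a' ∈ RingHom.ker (algebraMap A' A) :=
      Ideal.mul_mem_right _ _ hjker
    obtain ⟨c, _, hc⟩ := exists_mem_ker_algebraMap_eq hsq hmem
    refine ⟨(c, ⟨i ^ (n + 1), n + 1, rfl⟩), ?_⟩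
    simp only at hz ⊢
    rw [halg, halg, hc, map_pow, pow_succ, map_mul, map_mul, ← mul_assoc, hz]
    ring
  · intro x y hxy
    rw [halg, halg] at hxy
    obtain ⟨⟨_, n, rfl⟩, hn⟩ :=
      (IsLocalization.eq_iff_exists (Submonoid.powers (algebraMap B' A' i)) _).mp hxy
    simp only at hn
    -- j^n * φ x = j^n * φ y
    refine ⟨⟨i ^ (n + 1), n + 1, rfl⟩, ?_⟩
    simp only
    have h0 : algebraMap B' A' (i ^ n * (x - y)) = 0 := by
      rw [map_mul, map_pow, map_sub, mul_sub, hn, sub_self]
    have := ker_mul_ker hsq h0 hi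
    have h2 : i ^ (n + 1) * x - i ^ (n + 1) * y = 0 := by
      rw [← this]; ring
    exact sub_eq_zero.mp h2


theorem comapComp_injective (hsq : EtMil.IsFibreSquare B' B A' A) (i : B')
    (hi : algebraMap B' B i = 0) :
    Function.Injective (fun P : PrimeSpectrum (Localization.Away (algebraMap B' A' i)) =>
      comap (algebraMap B' A') (comap (algebraMap A' _) P)) := by
  letI : Algebra B' (Localization.Away (algebraMap B' A' i)) :=
    ((algebraMap A' (Localization.Away (algebraMap B' A' i))).comp (algebraMap B' A')).toAlgebra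
  haveI : IsLocalization.Away i (Localization.Away (algebraMap B' A' i)) :=
    isLocalization_away hsq i hi
  exact localization_comap_injective (Localization.Away (algebraMap B' A' i))
    (Submonoid.powers i)

theorem range_comapComp (hsq : EtMil.IsFibreSquare B' B A' A) (i : B')
    (hi : algebraMap B' B i = 0) :
    Set.range (fun P : PrimeSpectrum (Localization.Away (algebraMap B' A' i)) =>
      comap (algebraMap B' A') (comap (algebraMap A' _) P)) = basicOpen i := by
  letI : Algebra B' (Localization.Away (algebraMap B' A' i)) :=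
    ((algebraMap A' (Localization.Away (algebraMap B' A' i))).comp (algebraMap B' A')).toAlgebra
  haveI : IsLocalization.Away i (Localization.Away (algebraMap B' A' i)) :=
    isLocalization_away hsq i hi
  exact localization_away_comap_range (Localization.Away (algebraMap B' A' i)) i

/-- Every prime of `B'` comes from `B` or from `A'`. -/
theorem exists_comap_eq (hsq : EtMil.IsFibreSquare B' B A' A) (p : PrimeSpectrum B') :
    (∃ q : PrimeSpectrum B, comap (algebraMap B' B) q = p) ∨
      ∃ q : PrimeSpectrum A', comap (algebraMap B' A') q = p := by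
  by_cases h : RingHom.ker (algebraMap B' B) ≤ p.asIdeal
  · left
    have : p ∈ Set.range (comap (algebraMap B' B)) := by
      rw [range_comap_of_surjective _ _ (milnor_surjective hsq)]
      exact h
    exact this
  · right
    obtain ⟨i, hi, hip⟩ := SetLike.not_le_iff_exists.mp h
    have hp : p ∈ (basicOpen i : Set (PrimeSpectrum B')) := hip
    rw [← range_comapComp hsq i hi] at hp
    obtain ⟨P, rfl⟩ := hp
    exact ⟨_, rfl⟩

/-- `Spec A' → Spec B'` is injective away from `Spec A`. -/
theorem comap_injOn (hsq : EtMil.IsFibreSquare B' B A' A) (x y : PrimeSpectrum A')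
    (hx : x ∉ Set.range (comap (algebraMap A' A)))
    (hxy : comap (algebraMap B' A') x = comap (algebraMap B' A') y) : x = y := by
  rw [range_comap_of_surjective _ _ hsq.1] at hx
  have hx' : ¬ RingHom.ker (algebraMap A' A) ≤ x.asIdeal := hx
  obtain ⟨j, hj, hjx⟩ := SetLike.not_le_iff_exists.mp hx'
  obtain ⟨i, hi, rfl⟩ := exists_mem_ker_algebraMap_eq hsq hj
  have hjy : algebraMap B' A' i ∉ y.asIdeal := by
    intro h
    have : i ∈ (comap (algebraMap B' A') y).asIdeal := h
    rw [← hxy] at this
    exact hjx this
  have hxr : x ∈ Set.range (comap (algebraMap A' (Localization.Away (algebraMap B' A' i)))) := by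
    rw [localization_away_comap_range _ (algebraMap B' A' i)]
    exact hjx
  have hyr : y ∈ Set.range (comap (algebraMap A' (Localization.Away (algebraMap B' A' i)))) := by
    rw [localization_away_comap_range _ (algebraMap B' A' i)]
    exact hjy
  obtain ⟨X, rfl⟩ := hxr
  obtain ⟨Y, rfl⟩ := hyr
  rw [comapComp_injective hsq i (RingHom.mem_ker.mp hi) hxy]

/-- The square of spectra is a pullback of sets. -/
theorem exists_comap_of_eq (hsq : EtMil.IsFibreSquare B' B A' A) (q : PrimeSpectrum B)
    (p : PrimeSpectrum A') (h : comap (algebraMap B' B) q = comap (algebraMap B' A') p) :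
    ∃ r : PrimeSpectrum A, comap (algebraMap B A) r = q ∧ comap (algebraMap A' A) r = p := by
  have hp : p ∈ Set.range (comap (algebraMap A' A)) := by
    rw [range_comap_of_surjective _ _ hsq.1]
    intro j hj
    obtain ⟨i, hi, rfl⟩ := exists_mem_ker_algebraMap_eq hsq hj
    have : i ∈ (comap (algebraMap B' B) q).asIdeal := by
      change algebraMap B' B i ∈ q.asIdeal
      rw [RingHom.mem_ker.mp hi]; exact zero_mem _
    rw [h] at this
    exact this
  obtain ⟨r, rfl⟩ := hp
  refine ⟨r, ?_, rfl⟩
  apply comap_injective_of_surjective _ (milnor_surjective hsq)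
  rw [h]
  apply PrimeSpectrum.ext
  ext x
  change algebraMap B A (algebraMap B' B x) ∈ r.asIdeal ↔ algebraMap A' A (algebraMap B' A' x) ∈ r.asIdeal
  rw [comm_apply (B := B) (A' := A') x]


/-- A subset of `Spec B'` whose preimages in `Spec B` and `Spec A'` are closed is closed. -/
theorem isClosed_of_preimages (hsq : EtMil.IsFibreSquare B' B A' A) (Z : Set (PrimeSpectrum B'))
    (h1 : IsClosed (comap (algebraMap B' B) ⁻¹' Z))
    (h2 : IsClosed (comap (algebraMap B' A') ⁻¹' Z)) : IsClosed Z := by
  obtain ⟨𝔟, h𝔟⟩ := (isClosed_iff_zeroLocus_ideal _).mp h1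
  obtain ⟨𝔞, h𝔞⟩ := (isClosed_iff_zeroLocus_ideal _).mp h2
  have hsurj := milnor_surjective hsq
  rw [isClosed_iff_zeroLocus_ideal]
  refine ⟨𝔟.comap (algebraMap B' B) ⊓ 𝔞.comap (algebraMap B' A'), ?_⟩
  apply Set.Subset.antisymm
  · intro z hz
    rcases exists_comap_eq hsq z with ⟨q, rfl⟩ | ⟨q, rfl⟩
    · have hq : q ∈ zeroLocus (𝔟 : Set B) := by rw [← h𝔟]; exact hz
      rw [mem_zeroLocus] at hq ⊢
      intro x hx
      exact hq hx.1
    · have hq : q ∈ zeroLocus (𝔞 : Set A') := by rw [← h𝔞]; exact hz
      rw [mem_zeroLocus] at hq ⊢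
      intro x hx
      exact hq hx.2
  · intro p hp
    rw [mem_zeroLocus, SetLike.coe_subset_coe] at hp
    -- the case where `p` comes from `q ∈ Spec B` with `ker ψ ≤ p`
    have caseB : RingHom.ker (algebraMap B' B) ≤ p.asIdeal →
        (∀ x ∈ 𝔟, ∀ b' : B', algebraMap B' B b' = x → b' ∈ p.asIdeal) → p ∈ Z := by
      intro hker hb
      have hpr : p ∈ Set.range (comap (algebraMap B' B)) := by
        rw [range_comap_of_surjective _ _ hsurj]; exact hker
      obtain ⟨q, rfl⟩ := hpr
      have hq : q ∈ zeroLocus (𝔟 : Set B) := by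
        rw [mem_zeroLocus]
        intro x hx
        obtain ⟨b', rfl⟩ := hsurj x
        exact hb _ hx b' rfl
      rw [← h𝔟] at hq
      exact hq
    by_cases hker : RingHom.ker (algebraMap B' B) ≤ p.asIdeal
    · rcases (Ideal.IsPrime.inf_le p.isPrime).mp hp with hcase | hcase
      · exact caseB hker fun x hx b' hb' => hcase (by rw [Ideal.mem_comap, hb']; exact hx)
      · refine caseB hker fun x hx b' hb' => ?_
        -- radical argument in `Spec A`
        have hA : zeroLocus ((𝔟.map (algebraMap B A) : Ideal A) : Set A) =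
            zeroLocus ((𝔞.map (algebraMap A' A) : Ideal A) : Set A) := by
          rw [Ideal.map, Ideal.map, zeroLocus_span, zeroLocus_span,
            ← preimage_comap_zeroLocus, ← preimage_comap_zeroLocus, ← h𝔟, ← h𝔞]
          ext r
          simp only [Set.mem_preimage]
          have : comap (algebraMap B' B) (comap (algebraMap B A) r) =
              comap (algebraMap B' A') (comap (algebraMap A' A) r) := by
            apply PrimeSpectrum.ext
            ext y
            change algebraMap B A (algebraMap B' B y) ∈ r.asIdeal ↔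
              algebraMap A' A (algebraMap B' A' y) ∈ r.asIdeal
            rw [comm_apply (B := B) (A' := A') y]
          rw [this]
        have hrad : 𝔟.map (algebraMap B A) ≤ (𝔞.map (algebraMap A' A)).radical := by
          rw [← zeroLocus_subset_zeroLocus_iff, hA]
        obtain ⟨n, hn⟩ := hrad (Ideal.mem_map_of_mem _ hx)
        obtain ⟨a', ha', ha'n⟩ := (Ideal.mem_map_iff_of_surjective _ hsq.1).mp hn
        obtain ⟨c, ⟨hc1, hc2⟩, -⟩ := hsq.2 (x ^ n) a' (by rw [map_pow, ha'n])
        have hcp : c ∈ p.asIdeal := hcase (by rw [Ideal.mem_comap, hc2]; exact ha')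
        have hdiff : b' ^ n - c ∈ p.asIdeal := hker (by
          rw [RingHom.mem_ker, map_sub, map_pow, hb', hc1, sub_self])
        have : b' ^ n ∈ p.asIdeal := by
          have := add_mem hdiff hcp
          rwa [sub_add_cancel] at this
        exact p.isPrime.mem_of_pow_mem n this
    · obtain ⟨i, hi, hip⟩ := SetLike.not_le_iff_exists.mp hker
      rcases (Ideal.IsPrime.inf_le p.isPrime).mp hp with hcase | hcase
      · exact absurd (le_trans (fun y hy => by
          rw [Ideal.mem_comap, RingHom.mem_ker.mp hy]; exact zero_mem _) hcase) hker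
      · have hp' : p ∈ (basicOpen i : Set (PrimeSpectrum B')) := hip
        rw [← range_comapComp hsq i (RingHom.mem_ker.mp hi)] at hp'
        obtain ⟨P, rfl⟩ := hp'
        set p' := comap (algebraMap A' (Localization.Away (algebraMap B' A' i))) P with hp'def
        have hjp : algebraMap B' A' i ∉ p'.asIdeal := hip
        have hq : p' ∈ zeroLocus (𝔞 : Set A') := by
          rw [mem_zeroLocus]
          intro a' ha'
          have hmem : algebraMap B' A' i * a' ∈ RingHom.ker (algebraMap A' A) :=
            Ideal.mul_mem_right _ _ (algebraMap_mem_ker_of_mem_ker (RingHom.mem_ker.mp hi))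
          obtain ⟨c, _, hc⟩ := exists_mem_ker_algebraMap_eq hsq hmem
          have hc𝔞 : c ∈ 𝔞.comap (algebraMap B' A') := by
            rw [Ideal.mem_comap, hc]; exact Ideal.mul_mem_left _ _ ha'
          have : algebraMap B' A' c ∈ p'.asIdeal := hcase hc𝔞
          rw [hc] at this
          exact (p'.isPrime.mem_or_mem this).resolve_left hjp
        rw [← h𝔞] at hq
        exact hq

end Groth.Agent.Lib.helper8.SpecPO
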