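import Mathlib

/-!
# Local finiteness of the irreducible components of a subset of a locally noetherian space (helper8)
-/

set_option autoImplicit false

namespace Groth.Agent.Lib.helper8.StalkLen

/-- In a space in which every point has a noetherian open neighbourhood, the irreducible components
of any subspace form a locally finite family. -/
theorem locallyFinite_irreducibleComponents_image {X : Type*} [TopologicalSpace X]
    (hX : ∀ x : X, ∃ U : Set X, IsOpen U ∧ x ∈ U ∧ TopologicalSpace.NoetherianSpace U)
    (S : Set X) :
    LocallyFinite (fun Z : irreducibleComponents S => ((↑) '' (Z : Set S) : Set X)) := by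
  intro x
  obtain ⟨U, hUo, hxU, hUn⟩ := hX x
  refine ⟨U, hUo.mem_nhds hxU, ?_⟩
  let V : Set S := Subtype.val ⁻¹' U
  have hVo : IsOpen V := hUo.preimage continuous_subtype_val
  let f : V → S := Subtype.val
  have hf : Topology.IsOpenEmbedding f := hVo.isOpenEmbedding_subtypeVal
  haveI : TopologicalSpace.NoetherianSpace V := by
    let j : V → U := fun v => ⟨v.1.1, v.2⟩
    have hj : Topology.IsInducing j := by
      have h1 : Topology.IsInducing ((Subtype.val : U → X) ∘ j) :=
        (Topology.IsInducing.subtypeVal.comp Topology.IsInducing.subtypeVal :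
          Topology.IsInducing ((Subtype.val : S → X) ∘ (Subtype.val : V → S)))
      refine Topology.IsInducing.of_comp ?_ continuous_subtype_val h1
      exact Continuous.subtype_mk (continuous_subtype_val.comp continuous_subtype_val) _
    exact hj.noetherianSpace
  have hfin : (irreducibleComponents V).Finite :=
    TopologicalSpace.NoetherianSpace.finite_irreducibleComponents
  have hne : ∀ Z : irreducibleComponents S, (((↑) '' (Z : Set S) : Set X) ∩ U).Nonempty →
      ((Z : Set S) ∩ Set.range f).Nonempty := by
    rintro Z ⟨y, ⟨s, hs, rfl⟩, hyU⟩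
    exact ⟨s, hs, ⟨⟨s, hyU⟩, rfl⟩⟩
  apply Set.Finite.of_finite_image (f := fun Z : irreducibleComponents S => f ⁻¹' (Z : Set S))
  · apply hfin.subset
    rintro _ ⟨Z, hZ, rfl⟩
    exact preimage_mem_irreducibleComponents Z.2 hf (hne Z hZ)
  · intro Z1 hZ1 Z2 hZ2 h12
    have key : ∀ Z : irreducibleComponents S, (((↑) '' (Z : Set S) : Set X) ∩ U).Nonempty →
        closure (f '' (f ⁻¹' (Z : Set S))) = (Z : Set S) := by
      intro Z hZ
      obtain ⟨s, hs, ⟨v, rfl⟩⟩ := hne Z hZ
      exact closure_image_preimage_of_isPreirreducible f hf.isOpenMap (Z : Set S) ⟨v, hs⟩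
        Z.2.1.2 (isClosed_of_mem_irreducibleComponents _ Z.2)
    apply Subtype.ext
    rw [← key Z1 hZ1, ← key Z2 hZ2]
    exact congrArg (fun W => closure (f '' W)) h12

end Groth.Agent.Lib.helper8.StalkLen
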