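import Mathlib
import Groth.Prelude.Def_ega3
import Groth.Agent.Lib.Helper8.SteinRad2
import Groth.Agent.Lib.Helper8.ZConn6

/-!
# `R(Y)` algebraically closed in `R(X)` and a normal point ⇒ fibration near the point (helper8)
-/

set_option autoImplicit false
universe u
open CategoryTheory CategoryTheory.Limits AlgebraicGeometry Opposite TopologicalSpace

namespace Groth.Agent.Lib.helper8.SteinAC

open CohIII Groth.Agent.Lib.helper8.SteinRad

variable {X Y : Scheme.{u}} [IsIntegral X] [IsIntegral Y] (f : X ⟶ Y)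
  (hdom : f.base (genericPoint X) ⤳ genericPoint Y)

include hdom in
theorem app_injective (V : Y.Opens) (hV : genericPoint Y ∈ V) :
    Function.Injective (f.app V).hom := by
  intro a a' h
  have h1 := stalkToFunctionField_germ f (genericPoint Y) hdom V hV a
  have h2 := stalkToFunctionField_germ f (genericPoint Y) hdom V hV a'
  have h3 : stalkToFunctionField f (genericPoint Y) hdom (Y.presheaf.germ V _ hV a) =
      stalkToFunctionField f (genericPoint Y) hdom (Y.presheaf.germ V _ hV a') := by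
    rw [h1, h2]
    exact congrArg _ h
  have h4 := RingHom.injective (stalkToFunctionField f (genericPoint Y) hdom :
    Y.functionField →+* X.functionField) h3
  exact germ_injective_of_isIntegral Y _ hV h4

include hdom in
theorem app_injective' (V : Y.Opens) : Function.Injective (f.app V).hom := by
  by_cases hV : genericPoint Y ∈ V
  · exact app_injective f hdom V hV
  · have hbot : V = ⊥ := by
      by_contra hne
      apply hV
      have hne' : (V : Set Y).Nonempty := by
        rw [Set.nonempty_iff_ne_empty]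
        intro h
        apply hne
        ext x
        simp [h]
      exact ((genericPoint_spec Y).mem_open_set_iff V.isOpen).mpr (by simpa using hne')
    subst hbot
    intro a a' _
    exact Subsingleton.elim a a'

include hdom in
theorem exists_mul_eq [UniversallyClosed f]
    (halg : ∀ x : X.functionField,
      (∃ q : Polynomial Y.functionField, q ≠ 0 ∧
        Polynomial.eval₂ (stalkToFunctionField f (genericPoint Y) hdom) x q = 0) →
      x ∈ Set.range (stalkToFunctionField f (genericPoint Y) hdom))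
    (y : Y) (hy : IsIntegrallyClosed (Y.presheaf.stalk y)) (U : Y.Opens) (hU : IsAffineOpen U)
    (hyU : y ∈ U) (b : Γ(X, f ⁻¹ᵁ U)) :
    ∃ (s a' : Γ(Y, U)), y ∈ Y.basicOpen s ∧ (f.app U).hom s * b = (f.app U).hom a' := by
  have hηU : genericPoint Y ∈ U := (genericPoint_specializes y).mem_open U.isOpen hyU
  have hint : (f.app U).hom.IsIntegral := Groth.Agent.Lib.Lead.SteinUC.isIntegral_app f U hU
  obtain ⟨P, hPmonic, hP⟩ := hint b
  let σ := stalkToFunctionField f (genericPoint Y) hdom
  let ρ : Γ(Y, U) →+* Y.functionField := (Y.presheaf.germ U (genericPoint Y) hηU).hom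
  have hηX : genericPoint X ∈ f ⁻¹ᵁ U := mem_preimage_of_specializes f _ hdom U hηU
  let gX : Γ(X, f ⁻¹ᵁ U) →+* X.functionField :=
    (X.presheaf.germ (f ⁻¹ᵁ U) (genericPoint X) hηX).hom
  have hcomp : gX.comp (f.app U).hom = σ.comp ρ := by
    ext a
    exact (stalkToFunctionField_germ f _ hdom U hηU a).symm
  have h0 : Polynomial.eval₂ σ (gX b) (P.map ρ) = 0 := by
    rw [Polynomial.eval₂_map, ← hcomp, ← Polynomial.hom_eval₂, hP, map_zero]
  obtain ⟨c, hc⟩ := halg (gX b) ⟨P.map ρ, (hPmonic.map ρ).ne_zero, h0⟩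
  have hσinj : Function.Injective σ :=
    RingHom.injective (σ : Y.functionField →+* X.functionField)
  have h1 : Polynomial.eval c (P.map ρ) = 0 := by
    apply hσinj
    rw [map_zero, ← Polynomial.eval₂_at_apply, hc]
    exact h0
  -- `c` is integral over the stalk at `y`
  let gy : Γ(Y, U) →+* Y.presheaf.stalk y := (Y.presheaf.germ U y hyU).hom
  have hρ : (algebraMap (Y.presheaf.stalk y) Y.functionField).comp gy = ρ := by
    ext a
    simp only [RingHom.coe_comp, Function.comp_apply, gy, ρ]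
    haveI : Nonempty U := ⟨⟨y, hyU⟩⟩
    exact Scheme.algebraMap_germ_eq_germToFunctionField Y hyU a
  have hcint : IsIntegral (Y.presheaf.stalk y) c := by
    refine ⟨P.map gy, hPmonic.map gy, ?_⟩
    rw [Polynomial.eval₂_map, hρ, ← Polynomial.eval_map]
    exact h1
  obtain ⟨cy, hcy⟩ := (IsIntegrallyClosed.isIntegral_iff (R := Y.presheaf.stalk y)
    (K := Y.functionField)).mp hcint
  letI := TopCat.Presheaf.algebra_section_stalk Y.presheaf (⟨y, hyU⟩ : U)
  haveI := hU.isLocalization_stalk ⟨y, hyU⟩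
  obtain ⟨⟨a', s⟩, hs⟩ := IsLocalization.surj (hU.primeIdealOf ⟨y, hyU⟩).asIdeal.primeCompl cy
  have hs' : cy * gy s.1 = gy a' := hs
  refine ⟨s.1, a', ?_, ?_⟩
  · rw [Scheme.mem_basicOpen _ _ _ hyU]
    exact IsLocalization.map_units (Y.presheaf.stalk y) s
  · apply germ_injective_of_isIntegral X (genericPoint X) hηX
    show gX ((f.app U).hom s.1 * b) = gX ((f.app U).hom a')
    have e1 : ∀ a, gX ((f.app U).hom a) = σ (ρ a) := fun a => congr($hcomp a)
    rw [map_mul, e1, e1, ← hc, ← hρ]
    simp only [RingHom.coe_comp, Function.comp_apply]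
    rw [← hs', map_mul, map_mul, hcy]
    ring

include hdom in
theorem exists_basicOpen [IsProper f] [IsLocallyNoetherian Y]
    (halg : ∀ x : X.functionField,
      (∃ q : Polynomial Y.functionField, q ≠ 0 ∧
        Polynomial.eval₂ (stalkToFunctionField f (genericPoint Y) hdom) x q = 0) →
      x ∈ Set.range (stalkToFunctionField f (genericPoint Y) hdom))
    (y : Y) (hy : IsIntegrallyClosed (Y.presheaf.stalk y)) (U : Y.Opens) (hU : IsAffineOpen U)
    (hyU : y ∈ U) :
    ∃ s : Γ(Y, U), y ∈ Y.basicOpen s ∧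
      ∀ b : Γ(X, f ⁻¹ᵁ U), ∃ a' : Γ(Y, U), (f.app U).hom s * b = (f.app U).hom a' := by
  have hfin : (f.app U).hom.Finite := Groth.Agent.Lib.helper8.ZConn.finite_app_of_isProper f U hU
  algebraize [(f.app U).hom]
  obtain ⟨n, v, hv⟩ := Module.Finite.exists_fin (R := Γ(Y, U)) (M := Γ(X, f ⁻¹ᵁ U))
  choose sF aF hsF hmul using fun i => exists_mul_eq f hdom halg y hy U hU hyU (v i)
  refine ⟨∏ i, sF i, ?_, ?_⟩
  · rw [Scheme.mem_basicOpen _ _ _ hyU, map_prod]
    refine Finset.prod_induction _ IsUnit (fun _ _ => IsUnit.mul) isUnit_one (fun i _ => ?_)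
    exact (Scheme.mem_basicOpen _ _ _ hyU).mp (hsF i)
  · intro b
    have hb : b ∈ Submodule.span Γ(Y, U) (Set.range v) := by
      rw [hv]; exact Submodule.mem_top
    induction hb using Submodule.span_induction with
    | mem x hx =>
      obtain ⟨i, rfl⟩ := hx
      refine ⟨(∏ j ∈ Finset.univ.erase i, sF j) * aF i, ?_⟩
      rw [← Finset.mul_prod_erase Finset.univ sF (Finset.mem_univ i), map_mul, map_mul, ← hmul i]
      ring
    | zero => exact ⟨0, by simp⟩
    | add x y _ _ hx hy =>
      obtain ⟨a1, h1⟩ := hx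
      obtain ⟨a2, h2⟩ := hy
      exact ⟨a1 + a2, by rw [mul_add, h1, h2, map_add]⟩
    | smul r x _ hx =>
      obtain ⟨a1, h1⟩ := hx
      refine ⟨r * a1, ?_⟩
      rw [Algebra.smul_def, RingHom.algebraMap_toAlgebra, map_mul, ← h1]
      ring

include hdom in
theorem bijective_app_basicOpen [QuasiCompact f] [QuasiSeparated f] (U : Y.Opens)
    (hU : IsAffineOpen U) (s : Γ(Y, U)) (hηs : genericPoint Y ∈ Y.basicOpen s)
    (hs : ∀ b : Γ(X, f ⁻¹ᵁ U), ∃ a' : Γ(Y, U), (f.app U).hom s * b = (f.app U).hom a') :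
    Function.Bijective (f.app (Y.basicOpen s)).hom := by
  refine ⟨app_injective f hdom _ hηs, ?_⟩
  intro y
  have hpre : f ⁻¹ᵁ Y.basicOpen s = X.basicOpen ((f.app U).hom s) := Scheme.preimage_basicOpen f s
  have hc : IsCompact ((f ⁻¹ᵁ U : X.Opens) : Set X) :=
    QuasiCompact.isCompact_preimage (f := f) _ U.isOpen hU.isCompact
  have hq : IsQuasiSeparated ((f ⁻¹ᵁ U : X.Opens) : Set X) :=
    f.isQuasiSeparated_preimage hU.isQuasiSeparated
  obtain ⟨n, z, hz⟩ := Groth.Agent.Lib.Lead.SteinUC.exists_res_eq_pow_mul (f ⁻¹ᵁ U) hc hq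
    ((f.app U).hom s) _ hpre y
  have hunitX := Groth.Agent.Lib.Lead.SteinUC.isUnit_res_of_eq_basicOpen (f ⁻¹ᵁ U)
    ((f.app U).hom s) _ hpre
  have hunitY : IsUnit ((Y.presheaf.map (homOfLE (Y.basicOpen_le s)).op).hom s) :=
    RingedSpace.isUnit_res_basicOpen _ s
  obtain ⟨a', ha'⟩ := hs z
  have hnat : ∀ a : Γ(Y, U), (f.app (Y.basicOpen s)).hom
      ((Y.presheaf.map (homOfLE (Y.basicOpen_le s)).op).hom a) =
      (X.presheaf.map (homOfLE (hpre.le.trans (X.basicOpen_le _))).op).hom ((f.app U).hom a) := by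
    intro a
    have n1 := f.naturality (homOfLE (Y.basicOpen_le s)).op
    have := congrArg (fun k => k.hom a) n1
    exact this
  obtain ⟨u, hu⟩ := hunitY
  refine ⟨(Y.presheaf.map (homOfLE (Y.basicOpen_le s)).op).hom a' * ((u⁻¹ : _ˣ) : _) ^ (n + 1), ?_⟩
  apply (hunitX.pow (n + 1)).mul_right_injective
  show _ ^ (n + 1) * _ = _ ^ (n + 1) * y
  have hT : (X.presheaf.map (homOfLE (hpre.le.trans (X.basicOpen_le _))).op).hom
      ((f.app U).hom s) = (f.app (Y.basicOpen s)).hom (u : Γ(Y, Y.basicOpen s)) := by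
    rw [hu, hnat s]
  rw [map_mul, map_pow, hnat a', ← ha', map_mul, hz, hT]
  have hone : (f.app (Y.basicOpen s)).hom (u : Γ(Y, Y.basicOpen s)) *
      (f.app (Y.basicOpen s)).hom ((u⁻¹ : _ˣ) : Γ(Y, Y.basicOpen s)) = 1 := by
    rw [← map_mul]
    simp
  calc (f.app (Y.basicOpen s)).hom ↑u ^ (n + 1) *
        ((f.app (Y.basicOpen s)).hom ↑u * ((f.app (Y.basicOpen s)).hom ↑u ^ n * y) *
          (f.app (Y.basicOpen s)).hom ↑u⁻¹ ^ (n + 1))
      = (f.app (Y.basicOpen s)).hom ↑u ^ (n + 1) * y *
          ((f.app (Y.basicOpen s)).hom ↑u * (f.app (Y.basicOpen s)).hom ↑u⁻¹) ^ (n + 1) := by ring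
    _ = (f.app (Y.basicOpen s)).hom ↑u ^ (n + 1) * y := by rw [hone, one_pow, mul_one]

/-- local-to-global principle for `O_Y → g_* O_X` on one open `V` (proof copied from
`Lead.SteinUC.isIso_app_of_locally_surjective`, which only uses the local hypothesis on `V`). -/
theorem isIso_app_of_locally_surjective_at {X Y : Scheme.{u}} (g : X ⟶ Y)
    (hinj : ∀ U : Y.Opens, Function.Injective (g.app U).hom) (V : Y.Opens)
    (hloc : ∀ (x : Y), x ∈ V →
      ∃ B : Y.Opens, x ∈ B ∧ B ≤ V ∧ Function.Surjective (g.app B).hom) : IsIso (g.app V) := by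
  have hsurj : Function.Surjective (g.app V).hom := by
    intro s
    have hcov : ∀ x : V, ∃ B : Y.Opens, x.1 ∈ B ∧ B ≤ V ∧ Function.Surjective (g.app B).hom :=
      fun x => hloc x.1 x.2
    choose W hxW hWV hW using hcov
    have hlocs : ∀ x : V, ∃ t : Γ(Y, W x), (g.app (W x)).hom t =
        (X.presheaf.map (homOfLE (g.preimage_mono (hWV x))).op).hom s := fun x => hW x _
    choose sf hsf using hlocs
    have hcompat : TopCat.Presheaf.IsCompatible Y.sheaf.1 W sf := by
      intro x y
      apply hinj (W x ⊓ W y)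
      have n1 := g.naturality (Opens.infLELeft (W x) (W y)).op
      have n2 := g.naturality (Opens.infLERight (W x) (W y)).op
      have l1 : (g.app (W x ⊓ W y)).hom
          ((Y.presheaf.map (Opens.infLELeft (W x) (W y)).op).hom (sf x)) =
          (X.presheaf.map ((Opens.map g.base).map
            (Opens.infLELeft (W x) (W y))).op).hom ((g.app (W x)).hom (sf x)) := by
        have := congrArg (fun k => k.hom (sf x)) n1
        exact this
      have l2 : (g.app (W x ⊓ W y)).hom
          ((Y.presheaf.map (Opens.infLERight (W x) (W y)).op).hom (sf y)) =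
          (X.presheaf.map ((Opens.map g.base).map
            (Opens.infLERight (W x) (W y))).op).hom ((g.app (W y)).hom (sf y)) := by
        have := congrArg (fun k => k.hom (sf y)) n2
        exact this
      refine l1.trans (Eq.trans ?_ l2.symm)
      rw [hsf x, hsf y, ← CommRingCat.comp_apply, ← CommRingCat.comp_apply, ← Functor.map_comp,
        ← Functor.map_comp]
      rfl
    obtain ⟨t, ht, -⟩ := Y.sheaf.existsUnique_gluing' W V (fun x => homOfLE (hWV x))
      (by
        intro y hy
        exact Opens.mem_iSup.mpr ⟨⟨y, hy⟩, hxW _⟩) sf hcompat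
    refine ⟨t, ?_⟩
    refine X.sheaf.eq_of_locally_eq' (fun x : V => g ⁻¹ᵁ W x) (g ⁻¹ᵁ V)
      (fun x => homOfLE (g.preimage_mono (hWV x))) ?_ _ _ ?_
    · intro y hy
      exact Opens.mem_iSup.mpr ⟨⟨g y, hy⟩, hxW _⟩
    · intro x
      have n1 := g.naturality (homOfLE (hWV x)).op
      have l1 : (g.app (W x)).hom ((Y.presheaf.map (homOfLE (hWV x)).op).hom t) =
          (X.presheaf.map ((Opens.map g.base).map (homOfLE (hWV x))).op).hom
            ((g.app V).hom t) := by
        have := congrArg (fun k => k.hom t) n1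
        exact this
      have h2 : (Y.presheaf.map (homOfLE (hWV x)).op).hom t = sf x := ht x
      rw [h2, hsf x] at l1
      exact l1.symm
  exact (ConcreteCategory.isIso_iff_bijective (g.app V)).mpr ⟨hinj V, hsurj⟩

include hdom in
theorem isIso_app_of_le_basicOpen [QuasiCompact f] [QuasiSeparated f] (U : Y.Opens)
    (hU : IsAffineOpen U) (s : Γ(Y, U))
    (hs : ∀ b : Γ(X, f ⁻¹ᵁ U), ∃ a' : Γ(Y, U), (f.app U).hom s * b = (f.app U).hom a')
    (V : Y.Opens) (hV : V ≤ Y.basicOpen s) : IsIso (f.app V) := by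
  have hU'U : Y.basicOpen s ≤ U := Y.basicOpen_le s
  refine isIso_app_of_locally_surjective_at f (app_injective' f hdom) V (fun x hx => ?_)
  obtain ⟨r, hrV, hxr⟩ := hU.exists_basicOpen_le (V := V) ⟨x, hx⟩ (hU'U (hV hx))
  have hsr : Y.basicOpen (s * r) = Y.basicOpen s ⊓ Y.basicOpen r := Y.basicOpen_mul s r
  have hxsr : x ∈ Y.basicOpen (s * r) := by
    rw [hsr]; exact ⟨hV hx, hxr⟩
  have hηsr : genericPoint Y ∈ Y.basicOpen (s * r) :=
    (genericPoint_specializes x).mem_open (Y.basicOpen (s * r)).isOpen hxsr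
  have hbij := bijective_app_basicOpen f hdom U hU (s * r) hηsr (fun b => by
    obtain ⟨a', ha'⟩ := hs b
    exact ⟨r * a', by rw [map_mul, map_mul, ← ha']; ring⟩)
  refine ⟨Y.basicOpen (s * r), hxsr, ?_, hbij.2⟩
  rw [hsr]
  exact inf_le_right.trans hrV

include hdom in
theorem exists_nhd_isIso_app [IsProper f] [IsLocallyNoetherian Y]
    (halg : ∀ x : X.functionField,
      (∃ q : Polynomial Y.functionField, q ≠ 0 ∧
        Polynomial.eval₂ (stalkToFunctionField f (genericPoint Y) hdom) x q = 0) →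
      x ∈ Set.range (stalkToFunctionField f (genericPoint Y) hdom))
    (y : Y) (hy : IsIntegrallyClosed (Y.presheaf.stalk y)) :
    ∃ U' : Y.Opens, y ∈ U' ∧ ∀ V : Y.Opens, V ≤ U' → IsIso (f.app V) := by
  obtain ⟨_, ⟨U, hU, rfl⟩, hyU, -⟩ :=
    Y.isBasis_affineOpens.exists_subset_of_mem_open (Set.mem_univ y) isOpen_univ
  have hU : IsAffineOpen U := hU
  have hyU : y ∈ U := hyU
  obtain ⟨s, hys, hs⟩ := exists_basicOpen f hdom halg y hy U hU hyU
  exact ⟨Y.basicOpen s, hys, fun V hV => isIso_app_of_le_basicOpen f hdom U hU s hs V hV⟩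

end Groth.Agent.Lib.helper8.SteinAC

namespace Groth.Agent.Lib.helper8.SteinAC

variable {X Y : Scheme.{u}}

/-- a fibration over a neighbourhood of `y` has a geometrically connected fibre at `y`. -/
theorem geometricallyConnected_fiber_of_nhd (f : X ⟶ Y) [IsProper f] [IsLocallyNoetherian Y]
    (y : Y) (U' : Y.Opens) (hyU' : y ∈ U') (h : ∀ V : Y.Opens, V ≤ U' → IsIso (f.app V)) :
    GeometricallyConnected (f.fiberToSpecResidueField y) := by
  haveI : IsProper (f ∣_ U') :=
    MorphismProperty.of_isPullback (isPullback_morphismRestrict f U').flip inferInstance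
  have hf₀ : ∀ W : U'.toScheme.Opens, IsIso ((f ∣_ U').app W) := by
    intro W
    rw [morphismRestrict_app]
    have h1 := h (U'.ι ''ᵁ W) (by
      rintro _ ⟨w, -, rfl⟩
      exact w.2)
    refine IsIso.comp_isIso' h1 ?_
    exact Functor.map_isIso _ _
  haveI GC₀ : GeometricallyConnected (f ∣_ U') :=
    Groth.Agent.Lib.helper8.ZConn.geometricallyConnected (f ∣_ U') hf₀
  -- the fibre square factors through the restriction
  have hr : Set.range (Y.fromSpecResidueField y).base ⊆ Set.range U'.ι.base := by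
    rintro _ ⟨z, rfl⟩
    rw [Scheme.Opens.range_ι]
    have : (Y.fromSpecResidueField y).base z = y := by
      rw [Subsingleton.elim z (IsLocalRing.closedPoint _)]
      exact Scheme.fromSpecResidueField_apply _ _
    rw [this]
    exact hyU'
  let b₁ : Spec (Y.residueField y) ⟶ U'.toScheme :=
    IsOpenImmersion.lift U'.ι (Y.fromSpecResidueField y) hr
  have hb₁ : b₁ ≫ U'.ι = Y.fromSpecResidueField y := IsOpenImmersion.lift_fac _ _ _
  have hr' : Set.range (f.fiberι y).base ⊆ Set.range (f ⁻¹ᵁ U').ι.base := by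
    rintro _ ⟨z, rfl⟩
    rw [Scheme.Opens.range_ι]
    show f.base ((f.fiberι y).base z) ∈ U'
    have : f.base ((f.fiberι y).base z) = y := by
      have h1 := congr($(pullback.condition (f := f) (g := Y.fromSpecResidueField y)).base z)
      simp only [Scheme.Hom.comp_base, TopCat.hom_comp, ContinuousMap.comp_apply] at h1
      refine h1.trans ?_
      rw [Subsingleton.elim ((pullback.snd f (Y.fromSpecResidueField y)).base z)
        (IsLocalRing.closedPoint _)]
      exact Scheme.fromSpecResidueField_apply _ _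
    rw [this]
    exact hyU'
  let t₁ : f.fiber y ⟶ (f ⁻¹ᵁ U').toScheme :=
    IsOpenImmersion.lift (f ⁻¹ᵁ U').ι (f.fiberι y) hr'
  have ht₁ : t₁ ≫ (f ⁻¹ᵁ U').ι = f.fiberι y := IsOpenImmersion.lift_fac _ _ _
  have hbig : IsPullback (t₁ ≫ (f ⁻¹ᵁ U').ι) (f.fiberToSpecResidueField y) f (b₁ ≫ U'.ι) := by
    rw [ht₁, hb₁]
    exact IsPullback.of_hasPullback _ _
  have hcomm : t₁ ≫ (f ∣_ U') = f.fiberToSpecResidueField y ≫ b₁ := by
    rw [← cancel_mono U'.ι, Category.assoc, Category.assoc, morphismRestrict_ι, ← Category.assoc,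
      ht₁, hb₁]
    exact pullback.condition
  have hsq : IsPullback t₁ (f.fiberToSpecResidueField y) (f ∣_ U') b₁ :=
    IsPullback.of_right hbig hcomm (isPullback_morphismRestrict f U').flip
  exact MorphismProperty.of_isPullback hsq GC₀

end Groth.Agent.Lib.helper8.SteinAC
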