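import Mathlib
import Groth.Prelude.Def_ega3
import Groth.Agent.Lib.Helper8.SteinRad2

/-!
# Fibrations from a normal scheme: `R(Y)` is algebraically closed in `R(X)` (helper8)
-/

set_option autoImplicit false
universe u
open CategoryTheory CategoryTheory.Limits AlgebraicGeometry Opposite TopologicalSpace

namespace Groth.Agent.Lib.helper8.SteinAC

open CohIII Groth.Agent.Lib.helper8.SteinRad

variable {X Y : Scheme.{u}} [IsIntegral X] [IsIntegral Y] (f : X ⟶ Y)
  (hdom : f.base (genericPoint X) ⤳ genericPoint Y)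

/-- an element of the function field lying in all the local rings over an open `V` is a section. -/
theorem exists_section_of_forall_mem_stalk (V : X.Opens) (hηV : genericPoint X ∈ V)
    (z : X.functionField)
    (hz : ∀ ξ : X, ξ ∈ V → ∃ r : X.presheaf.stalk ξ, algebraMap (X.presheaf.stalk ξ) X.functionField r = z) :
    ∃ b : Γ(X, V), X.presheaf.germ V (genericPoint X) hηV b = z := by
  have hloc : ∀ ξ : V, ∃ (W : X.Opens) (hW : W ≤ V) (_ : ξ.1 ∈ W) (hηW : genericPoint X ∈ W)
      (s : Γ(X, W)), X.presheaf.germ W (genericPoint X) hηW s = z := by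
    intro ξ
    obtain ⟨r, hr⟩ := hz ξ.1 ξ.2
    obtain ⟨W, hξW, s, rfl⟩ := X.presheaf.exists_germ_eq r
    have hηW' : genericPoint X ∈ W ⊓ V := ⟨(genericPoint_specializes ξ.1).mem_open W.isOpen hξW, hηV⟩
    refine ⟨W ⊓ V, inf_le_right, ⟨hξW, ξ.2⟩, hηW', (X.presheaf.map (homOfLE inf_le_left).op).hom s, ?_⟩
    rw [TopCat.Presheaf.germ_res_apply]
    rw [← hr]
    haveI : Nonempty W := ⟨⟨ξ.1, hξW⟩⟩
    exact (Scheme.algebraMap_germ_eq_germToFunctionField X hξW s).symm
  choose W hWV hξW hηW sf hsf using hloc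
  have hcompat : TopCat.Presheaf.IsCompatible X.sheaf.1 W sf := by
    intro ξ ξ'
    have hη : genericPoint X ∈ W ξ ⊓ W ξ' := ⟨hηW ξ, hηW ξ'⟩
    apply germ_injective_of_isIntegral X (genericPoint X) hη
    have e1 := TopCat.Presheaf.germ_res_apply X.presheaf (Opens.infLELeft (W ξ) (W ξ'))
      (genericPoint X) hη (sf ξ)
    have e2 := TopCat.Presheaf.germ_res_apply X.presheaf (Opens.infLERight (W ξ) (W ξ'))
      (genericPoint X) hη (sf ξ')
    exact e1.trans ((hsf ξ).trans ((hsf ξ').symm.trans e2.symm))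
  obtain ⟨b, hb, -⟩ := X.sheaf.existsUnique_gluing' W V (fun ξ => homOfLE (hWV ξ))
    (by
      intro y hy
      exact Opens.mem_iSup.mpr ⟨⟨y, hy⟩, hξW _⟩) sf hcompat
  refine ⟨b, ?_⟩
  have h1 := hb ⟨genericPoint X, hηV⟩
  have e1 := TopCat.Presheaf.germ_res_apply X.presheaf (homOfLE (hWV ⟨genericPoint X, hηV⟩))
      (genericPoint X) (hηW _) b
  rw [← e1]
  refine Eq.trans ?_ (hsf ⟨genericPoint X, hηV⟩)
  exact congrArg _ h1

include hdom in
theorem mem_range_of_isIntegralElem_of_fibration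
    (hX : ∀ ξ : X, IsIntegrallyClosed (X.presheaf.stalk ξ)) (hfib : ∀ U : Y.Opens, IsIso (f.app U))
    (x : X.functionField)
    (hx : (stalkToFunctionField f (genericPoint Y) hdom).IsIntegralElem x) :
    x ∈ (stalkToFunctionField f (genericPoint Y) hdom).range := by
  obtain ⟨_, ⟨U, hU, rfl⟩, hηU, -⟩ :=
    Y.isBasis_affineOpens.exists_subset_of_mem_open (Set.mem_univ (genericPoint Y)) isOpen_univ
  have hηU : genericPoint Y ∈ U := hηU
  have hU : IsAffineOpen U := hU
  haveI : Nonempty U := ⟨⟨_, hηU⟩⟩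
  haveI := functionField_isFractionRing_of_isAffineOpen Y U hU
  let σ := stalkToFunctionField f (genericPoint Y) hdom
  let ρ : Γ(Y, U) →+* Y.functionField := algebraMap Γ(Y, U) Y.functionField
  letI algK : Algebra Y.functionField X.functionField := σ.toAlgebra
  letI algA : Algebra Γ(Y, U) X.functionField := (σ.comp ρ).toAlgebra
  haveI : IsScalarTower Γ(Y, U) Y.functionField X.functionField :=
    IsScalarTower.of_algebraMap_eq' rfl
  have hxint : IsIntegral Y.functionField x := hx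
  obtain ⟨⟨m, hm⟩, hmx⟩ := IsIntegral.exists_multiple_integral_of_isLocalization
    (nonZeroDivisors Γ(Y, U)) x hxint
  have hmx' : IsIntegral Γ(Y, U) (σ (ρ m) * x) := hmx
  obtain ⟨P, hPmonic, hP⟩ := hmx'
  have hP' : Polynomial.eval₂ (σ.comp ρ) (σ (ρ m) * x) P = 0 := hP
  have hηX : genericPoint X ∈ f ⁻¹ᵁ U := mem_preimage_of_specializes f _ hdom U hηU
  have hσρ : ∀ a : Γ(Y, U), σ (ρ a) =
      X.presheaf.germ (f ⁻¹ᵁ U) (genericPoint X) hηX ((f.app U).hom a) :=
    fun a => stalkToFunctionField_germ f (genericPoint Y) hdom U hηU a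
  obtain ⟨b, hb⟩ := exists_section_of_forall_mem_stalk (f ⁻¹ᵁ U) hηX (σ (ρ m) * x) (by
    intro ξ hξ
    let gξ : Γ(Y, U) →+* X.presheaf.stalk ξ :=
      (X.presheaf.germ (f ⁻¹ᵁ U) ξ hξ).hom.comp (f.app U).hom
    have hcomp : (algebraMap (X.presheaf.stalk ξ) X.functionField).comp gξ = σ.comp ρ := by
      ext a
      simp only [RingHom.coe_comp, Function.comp_apply, gξ]
      rw [hσρ]
      haveI : Nonempty (f ⁻¹ᵁ U) := ⟨⟨ξ, hξ⟩⟩
      exact Scheme.algebraMap_germ_eq_germToFunctionField X hξ _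
    have hint : IsIntegral (X.presheaf.stalk ξ) (σ (ρ m) * x) := by
      refine ⟨P.map gξ, hPmonic.map gξ, ?_⟩
      rw [Polynomial.eval₂_map, hcomp]
      exact hP'
    haveI := hX ξ
    exact (IsIntegrallyClosed.isIntegral_iff (R := X.presheaf.stalk ξ)
      (K := X.functionField)).mp hint)
  obtain ⟨a₁, ha₁⟩ := ((ConcreteCategory.isIso_iff_bijective (f.app U)).mp (hfib U)).2 b
  have h1 : σ (ρ a₁) = σ (ρ m) * x := by
    rw [hσρ]
    rw [← hb]
    exact congrArg _ ha₁
  have hm0 : ρ m ≠ 0 := by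
    intro h0
    have : m = 0 := IsFractionRing.injective Γ(Y, U) Y.functionField (h0.trans (map_zero _).symm)
    exact (nonZeroDivisors.ne_zero hm) this
  have hσm0 : σ (ρ m) ≠ 0 := by
    intro h0
    exact hm0 (RingHom.injective (σ : Y.functionField →+* X.functionField) (h0.trans (map_zero _).symm))
  refine ⟨ρ a₁ / ρ m, ?_⟩
  rw [map_div₀, h1]
  exact mul_div_cancel_left₀ x hσm0

end Groth.Agent.Lib.helper8.SteinAC
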