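import Mathlib
import Groth.Prelude.Def_ega3
import Groth.Prelude.Def_CAlg2
import Groth.Agent.Lib.Helper8.SteinRad2
import Groth.Agent.Lib.Helper8.SteinCountAlg

/-!
# Bridges for the Stein counting rows (helper8)

* `isLocalRing_integralClosure_of_normRed` : for a domain `A` with fraction field `K`, if the prelude's
  `CAlg2.normRed A` is local then so is `integralClosure A K`.
* `stalkToFunctionField_algebraMap` : `O_{Y,y} → R(X)` factors through `O_{Y,y} → R(Y) → R(X)`.
* `surjective_of_specializes` : a closed map hitting a point specializing to the generic point is onto.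
-/

set_option autoImplicit false
universe u
open CategoryTheory CategoryTheory.Limits AlgebraicGeometry Opposite TopologicalSpace

namespace Groth.Agent.Lib.helper8.SteinCount

open CohIII Groth.Agent.Lib.helper8.SteinRad

section NormRed

variable {A : Type u} [CommRing A] [IsDomain A] {K : Type*} [Field K] [Algebra A K]
  [IsFractionRing A K]

theorem isLocalRing_integralClosure_of_normRed (h : IsLocalRing (CAlg2.normRed A)) :
    IsLocalRing (integralClosure A K) := by
  have hnil : nilradical A = ⊥ := nilradical_eq_zero A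
  let e₀ : CAlg2.red A ≃+* A := (Ideal.quotEquivOfEq hnil).trans (RingEquiv.quotientBot A)
  haveI : IsDomain (CAlg2.red A) := e₀.toMulEquiv.isDomain
  let F := FractionRing (CAlg2.red A)
  let Φ : F ≃+* K := IsFractionRing.ringEquivOfRingEquiv e₀
  have hΦ : ∀ a, Φ (algebraMap (CAlg2.red A) F a) = algebraMap A K (e₀ a) :=
    fun a => IsFractionRing.ringEquivOfRingEquiv_algebraMap e₀ a
  have hΦ' : ∀ a, Φ.symm (algebraMap A K a) = algebraMap (CAlg2.red A) F (e₀.symm a) := by
    intro a
    rw [RingEquiv.symm_apply_eq, hΦ, RingEquiv.apply_symm_apply]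
  have h1 : ∀ x : F, IsIntegral (CAlg2.red A) x → IsIntegral A (Φ x) := fun x hx =>
    IsIntegral.map_of_comp_eq e₀.toRingHom Φ.toRingHom
      (RingHom.ext fun a => (hΦ a).symm) hx
  have h2 : ∀ y : K, IsIntegral A y → IsIntegral (CAlg2.red A) (Φ.symm y) := fun y hy =>
    IsIntegral.map_of_comp_eq e₀.symm.toRingHom Φ.symm.toRingHom
      (RingHom.ext fun a => (hΦ' a).symm) hy
  let E : CAlg2.normRed A ≃+* integralClosure A K :=
    { toFun := fun x => ⟨Φ x.1, h1 _ x.2⟩
      invFun := fun y => ⟨Φ.symm y.1, h2 _ y.2⟩
      left_inv := fun x => Subtype.ext (Φ.symm_apply_apply x.1)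
      right_inv := fun y => Subtype.ext (Φ.apply_symm_apply y.1)
      map_mul' := fun x y => Subtype.ext (map_mul Φ x.1 y.1)
      map_add' := fun x y => Subtype.ext (map_add Φ x.1 y.1) }
  haveI := h
  exact E.isLocalRing

end NormRed

section Tower

variable {X Y : Scheme.{u}} [IsIntegral X] [IsIntegral Y] (f : X ⟶ Y)

theorem stalkToFunctionField_algebraMap (hdom : f.base (genericPoint X) ⤳ genericPoint Y) (y : Y)
    (h : f.base (genericPoint X) ⤳ y) (a : Y.presheaf.stalk y) :
    stalkToFunctionField f (genericPoint Y) hdom (algebraMap (Y.presheaf.stalk y) Y.functionField a) =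
      stalkToFunctionField f y h a := by
  obtain ⟨U, hU, a, rfl⟩ := Y.presheaf.exists_germ_eq a
  have hηU : genericPoint Y ∈ U := (genericPoint_spec Y).specializes trivial |>.mem_open U.isOpen hU
  have h1 : algebraMap (Y.presheaf.stalk y) Y.functionField (Y.presheaf.germ U y hU a) =
      Y.presheaf.germ U (genericPoint Y) hηU a := by
    rw [RingHom.algebraMap_toAlgebra]
    exact TopCat.Presheaf.germ_stalkSpecializes_apply _ _ _ _
  rw [h1, stalkToFunctionField_germ, stalkToFunctionField_germ]

end Tower

theorem surjective_of_specializes {X Y : Scheme.{u}} [IrreducibleSpace Y] (f : X ⟶ Y)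
    (hcl : IsClosedMap f.base) (x : X) (hx : f.base x ⤳ genericPoint Y) :
    Function.Surjective f.base := by
  intro y
  have hr : IsClosed (Set.range f.base) := hcl.isClosed_range
  have h1 : genericPoint Y ∈ Set.range f.base := hx.mem_closed hr ⟨x, rfl⟩
  exact ((genericPoint_spec Y).specializes trivial : genericPoint Y ⤳ y).mem_closed hr h1

end Groth.Agent.Lib.helper8.SteinCount
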