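import Mathlib

/-!
# Universally injective finite parts of Stein factorisations (helper8), part 1: scheme-theoretic lemmas

* `geometricallyConnected_comp_of_universallyInjective`: `t` geometrically connected, `g` universally
  injective and surjective ⇒ `t ≫ g` geometrically connected.
* `eq_genericPoint_of_finite`: the generic fibre of a finite morphism of integral schemes is one point.
* `eq_of_comp_eq_of_isPurelyInseparable`: two field-valued points with the same image point and the same
  composite agree when the residue field extension is purely inseparable.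
* `surjective_diagonal_of_components`: a finite morphism of integral schemes, purely inseparable at the
  generic point, such that all irreducible components of `Y' ×_Y Y'` dominate `Y'`, is universally
  injective.
* `dense_image_snd_of_components`: transfer of the "components dominate" property along a proper surjection.
-/

set_option autoImplicit false
universe u
open CategoryTheory CategoryTheory.Limits AlgebraicGeometry Opposite TopologicalSpace

namespace Groth.Agent.Lib.helper8.SteinRad

theorem geometricallyConnected_comp_of_universallyInjective {X Y' Y : Scheme.{u}} (t : X ⟶ Y')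
    (g : Y' ⟶ Y) [GeometricallyConnected t] [UniversallyInjective g] [Surjective g] :
    GeometricallyConnected (t ≫ g) := by
  refine ⟨geometrically_iff_of_isClosedUnderIsomorphisms.mpr fun K _ x ↦ ?_⟩
  rw [← (pullbackRightPullbackFstIso g x t).hom.homeomorph.connectedSpace_iff]
  haveI : UniversallyInjective (pullback.snd g x) :=
    MorphismProperty.pullback_snd _ _ inferInstance
  haveI : Subsingleton ↥(pullback g x) :=
    (pullback.snd g x).injective.subsingleton
  haveI : Nonempty ↥(pullback g x) := by
    obtain ⟨z, -⟩ := (pullback.snd g x).surjective (IsLocalRing.closedPoint K)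
    exact ⟨z⟩
  exact GeometricallyConnected.connectedSpace_of_subsingleton
    (f := pullback.snd t (pullback.fst g x))

theorem eq_genericPoint_of_finite {Y' Y : Scheme.{u}} [IsIntegral Y'] (g : Y' ⟶ Y) [IsFinite g]
    (y' : Y') (hy' : g y' = g (genericPoint Y')) : y' = genericPoint Y' := by
  have hdisc := g.isDiscrete_preimage_singleton (g (genericPoint Y'))
  have h1 : y' ∈ g ⁻¹' {g (genericPoint Y')} := hy'
  have h2 : genericPoint Y' ∈ g ⁻¹' {g (genericPoint Y')} := rfl
  have hspec : genericPoint Y' ⤳ y' := genericPoint_specializes y'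
  -- `{y'}` is open in the discrete fibre
  have hopen : IsOpen ({⟨y', h1⟩} : Set (g ⁻¹' {g (genericPoint Y')})) := by
    haveI := hdisc.to_subtype
    exact isOpen_discrete _
  obtain ⟨U, hU, hUeq⟩ := isOpen_induced_iff.mp hopen
  have hyU : y' ∈ U := by
    have : (⟨y', h1⟩ : g ⁻¹' {g (genericPoint Y')}) ∈ Subtype.val ⁻¹' U := by
      rw [hUeq]; rfl
    exact this
  have hgU : genericPoint Y' ∈ U := hspec.mem_open hU hyU
  have : (⟨genericPoint Y', h2⟩ : g ⁻¹' {g (genericPoint Y')}) ∈
      ({⟨y', h1⟩} : Set (g ⁻¹' {g (genericPoint Y')})) := by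
    rw [← hUeq]; exact hgU
  exact (congrArg Subtype.val (Set.mem_singleton_iff.mp this)).symm

set_option backward.isDefEq.respectTransparency.types false in
set_option backward.defeqAttrib.useBackward true in
theorem eq_of_comp_eq_of_isPurelyInseparable {Y' Y : Scheme.{u}} (g : Y' ⟶ Y) (K : Type u) [Field K]
    (a b : Spec (.of K) ⟶ Y') (hab : a ≫ g = b ≫ g)
    (hpt : a (IsLocalRing.closedPoint K) = b (IsLocalRing.closedPoint K))
    (hpi : (g.residueFieldMap (a (IsLocalRing.closedPoint K))).hom.IsPurelyInseparable) : a = b := by
  obtain ⟨e, h⟩ := Scheme.SpecToEquivOfField_eq_iff.mp congr((Y.SpecToEquivOfField K) $(hab))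
  apply (Y'.SpecToEquivOfField K).injective
  dsimp at e h
  simp only [Scheme.descResidueField_stalkClosedPointTo_comp] at e h
  rw [← g.residueFieldMap_congr'_assoc hpt, CommRingCat.hom_ext_iff] at h
  rw [Scheme.SpecToEquivOfField_eq_iff]
  let x := a (IsLocalRing.closedPoint K)
  have hfx := hpi
  algebraize [(g.residueFieldMap (a (IsLocalRing.closedPoint K))).hom]
  refine ⟨hpt, CommRingCat.hom_ext ?_⟩
  exact IsPurelyInseparable.injective_comp_algebraMap
    (Y.residueField (g x)) (Y'.residueField x) _ h

theorem universallyInjective_of_components {Y' Y : Scheme.{u}} [IsIntegral Y'] (g : Y' ⟶ Y)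
    [IsFinite g]
    (hcomp : ∀ Z ∈ irreducibleComponents ↥(pullback g g), Dense ((pullback.snd g g) '' Z))
    (hpi : (g.residueFieldMap (genericPoint Y')).hom.IsPurelyInseparable) :
    UniversallyInjective g := by
  rw [UniversallyInjective.iff_diagonal]
  refine ⟨fun w => ?_⟩
  have hZmem := irreducibleComponent_mem_irreducibleComponents w
  have hZcl : IsClosed (irreducibleComponent w) := isClosed_irreducibleComponent
  have hZirr : IsIrreducible (irreducibleComponent w) := isIrreducible_irreducibleComponent
  obtain ⟨ζ, hζ⟩ := QuasiSober.sober hZirr hZcl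
  have hdense := hcomp _ hZmem
  have hclosedimg : IsClosed ((pullback.snd g g) '' (irreducibleComponent w)) :=
    (pullback.snd g g).isClosedMap _ hZcl
  have himg : (pullback.snd g g) '' (irreducibleComponent w) = Set.univ := by
    rw [← hclosedimg.closure_eq]
    exact hdense.closure_eq
  obtain ⟨z, hzZ, hz⟩ : genericPoint Y' ∈ (pullback.snd g g) '' (irreducibleComponent w) := by
    rw [himg]; trivial
  have hζz : ζ ⤳ z := hζ.specializes hzZ
  have h2 : (pullback.snd g g) ζ ⤳ genericPoint Y' := by
    rw [← hz]
    exact hζz.map (pullback.snd g g).continuous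
  have h2' : (pullback.snd g g) ζ = genericPoint Y' :=
    (h2.antisymm (genericPoint_specializes _)).eq
  have h1' : (pullback.fst g g) ζ = genericPoint Y' := by
    apply eq_genericPoint_of_finite g
    rw [← h2', ← Scheme.Hom.comp_apply, ← Scheme.Hom.comp_apply, pullback.condition]
  let φ := (pullback g g).fromSpecResidueField ζ
  have hφpt : φ (IsLocalRing.closedPoint _) = ζ := Scheme.fromSpecResidueField_apply _ _
  have hab : (φ ≫ pullback.fst g g) ≫ g = (φ ≫ pullback.snd g g) ≫ g := by
    simp only [Category.assoc, pullback.condition]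
  have hapt : (φ ≫ pullback.fst g g) (IsLocalRing.closedPoint _) = genericPoint Y' := by
    rw [Scheme.Hom.comp_apply, hφpt, h1']
  have hbpt : (φ ≫ pullback.snd g g) (IsLocalRing.closedPoint _) = genericPoint Y' := by
    rw [Scheme.Hom.comp_apply, hφpt, h2']
  have hpi' : (g.residueFieldMap ((φ ≫ pullback.fst g g) (IsLocalRing.closedPoint _))).hom.IsPurelyInseparable := by
    rw [hapt]
    exact hpi
  have heq : φ ≫ pullback.fst g g = φ ≫ pullback.snd g g :=
    eq_of_comp_eq_of_isPurelyInseparable g _ _ _ hab (hapt.trans hbpt.symm) hpi'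
  have hφ : φ = (φ ≫ pullback.fst g g) ≫ pullback.diagonal g := by
    apply pullback.hom_ext
    · simp
    · simp [heq]
  have hζr : ζ ∈ Set.range (pullback.diagonal g) := by
    refine ⟨(φ ≫ pullback.fst g g) (IsLocalRing.closedPoint _), ?_⟩
    rw [← Scheme.Hom.comp_apply, ← hφ, hφpt]
  have hrcl : IsClosed (Set.range (pullback.diagonal g)) :=
    (pullback.diagonal g).isClosedEmbedding.isClosed_range
  have hw : w ∈ closure ({ζ} : Set ↥(pullback g g)) := by
    rw [hζ.def]
    exact mem_irreducibleComponent
  exact (hrcl.closure_subset_iff.mpr (Set.singleton_subset_iff.mpr hζr)) hw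

theorem dense_image_snd_of_components {X Y' Y : Scheme.{u}} (t : X ⟶ Y') (g : Y' ⟶ Y) [IsProper t]
    [Surjective t]
    (hopen : ∀ Z ∈ irreducibleComponents ↥(pullback (t ≫ g) g),
      Dense ((pullback.snd (t ≫ g) g) '' Z)) :
    ∀ Z' ∈ irreducibleComponents ↥(pullback g g), Dense ((pullback.snd g g) '' Z') := by
  intro Z' hZ'
  let m : pullback (t ≫ g) g ⟶ pullback g g :=
    pullback.map (t ≫ g) g g g t (𝟙 Y') (𝟙 Y) ((Category.comp_id _).trans rfl)
      ((Category.comp_id _).trans (Category.id_comp g).symm)
  have hmP : IsProper m :=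
    MorphismProperty.pullbackMap (P := @IsProper) (inferInstance : IsProper t)
      (inferInstance : IsProper (𝟙 Y')) rfl (Category.id_comp g).symm
  have hmS : Surjective m :=
    MorphismProperty.pullbackMap (P := @Surjective) (inferInstance : Surjective t)
      (inferInstance : Surjective (𝟙 Y')) rfl (Category.id_comp g).symm
  have hm2 : m ≫ pullback.snd g g = pullback.snd (t ≫ g) g := by
    simp only [m, pullback.map, pullback.lift_snd, Category.comp_id]
  have hZ'cl := isClosed_of_mem_irreducibleComponents _ hZ'
  have hZ'irr : IsIrreducible Z' := hZ'.1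
  obtain ⟨ζ', hζ'⟩ := QuasiSober.sober hZ'irr hZ'cl
  obtain ⟨z, hz⟩ := m.surjective ζ'
  have hmZcl : IsClosed (m '' (irreducibleComponent z)) :=
    m.isClosedMap _ isClosed_irreducibleComponent
  have hmZirr : IsIrreducible (m '' (irreducibleComponent z)) :=
    isIrreducible_irreducibleComponent.image m m.continuous.continuousOn
  have hsub : Z' ⊆ m '' (irreducibleComponent z) := by
    rw [← hζ'.def]
    apply hmZcl.closure_subset_iff.mpr
    rw [Set.singleton_subset_iff]
    exact ⟨z, mem_irreducibleComponent, hz⟩
  have heq : m '' (irreducibleComponent z) = Z' :=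
    le_antisymm (hZ'.2 hmZirr hsub) hsub
  have hd := hopen _ (irreducibleComponent_mem_irreducibleComponents z)
  rw [← heq, ← Set.image_comp]
  have hfun : (⇑(pullback.snd g g) ∘ ⇑m) = ⇑(pullback.snd (t ≫ g) g) := by
    funext a
    rw [← hm2]
    rfl
  rw [hfun]
  exact hd

end Groth.Agent.Lib.helper8.SteinRad
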