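import Mathlib

/-!
# Closed points avoiding countably many proper closed subsets over an uncountable field (helper8)

* `exists_eval_ne_zero`: countably many nonzero polynomials in finitely many variables over an
  uncountable field have a common non-root.
* `core`: for a finite type algebra `B` over an uncountable field, a prime `P` and countably many
  ideals `J n ⊄ P`, there is a maximal ideal containing no `J n`.
* `core2`: the same for closed subsets of an irreducible `PrimeSpectrum B`.
* `main`: for an irreducible scheme locally of finite type over an uncountable field, countably many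
  closed subsets `≠ X` and a nonempty affine open `U`, there is a closed point of `X` in `U`
  lying in none of them.
-/

open CategoryTheory AlgebraicGeometry

universe u

namespace Groth.Agent.Lib.Helper8.UncountableAvoid

/-- Countably many nonzero polynomials in finitely many variables over an uncountable field have a
common non-root. -/
theorem exists_eval_ne_zero (k : Type u) [Field k] [Uncountable k] :
    ∀ (s : ℕ) (f : ℕ → MvPolynomial (Fin s) k), (∀ n, f n ≠ 0) →
      ∃ a : Fin s → k, ∀ n, MvPolynomial.eval a (f n) ≠ 0 := by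
  intro s
  induction s with
  | zero =>
    intro f hf
    refine ⟨Fin.elim0, fun n h => hf n ?_⟩
    rw [(f n).eq_C_of_isEmpty] at h ⊢
    rw [MvPolynomial.eval_C] at h
    rw [h, map_zero]
  | succ s ih =>
    intro f hf
    set p : ℕ → Polynomial (MvPolynomial (Fin s) k) :=
      fun n => MvPolynomial.finSuccEquiv k s (f n) with hp
    have hp0 : ∀ n, p n ≠ 0 := fun n h => hf n (by simpa [hp] using h)
    obtain ⟨a', ha'⟩ := ih (fun n => (p n).leadingCoeff)
      (fun n => Polynomial.leadingCoeff_ne_zero.mpr (hp0 n))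
    set q : ℕ → Polynomial k := fun n => (p n).map (MvPolynomial.eval a') with hq
    have hq0 : ∀ n, q n ≠ 0 := by
      intro n h
      apply ha' n
      have := congrArg (fun r => Polynomial.coeff r (p n).natDegree) h
      simpa [hq, Polynomial.coeff_map] using this
    have hcount : (⋃ n, {t : k | (q n).IsRoot t}).Countable :=
      Set.countable_iUnion fun n => (Polynomial.finite_setOfPred_isRoot (hq0 n)).countable
    obtain ⟨t, ht⟩ : ∃ t, t ∉ ⋃ n, {t : k | (q n).IsRoot t} := by
      by_contra hcon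
      push Not at hcon
      exact Set.not_countable_univ (hcount.mono fun x _ => hcon x)
    refine ⟨Fin.cons t a', fun n h => ht ?_⟩
    rw [MvPolynomial.eval_eq_eval_mv_eval'] at h
    exact Set.mem_iUnion.mpr ⟨n, h⟩

/-- For a finite type algebra `B` over an uncountable field, a prime `P` and countably many ideals
`J n ⊄ P`, there is a maximal ideal of `B` containing no `J n`. -/
theorem core' (k B : Type u) [Field k] [Uncountable k] [CommRing B] [Algebra k B]
    [Algebra.FiniteType k B] (P : Ideal B) [P.IsPrime] (J : ℕ → Ideal B)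
    (hJ : ∀ n, ¬ J n ≤ P) :
    ∃ M : Ideal B, M.IsMaximal ∧ P ≤ M ∧ ∀ n, ¬ J n ≤ M := by
  obtain ⟨s, g, hg, hgf⟩ := exists_finite_inj_algHom_of_fg k (B ⧸ P)
  letI : Algebra (MvPolynomial (Fin s) k) (B ⧸ P) := g.toRingHom.toAlgebra
  haveI : Module.Finite (MvPolynomial (Fin s) k) (B ⧸ P) := hgf
  haveI : Algebra.IsIntegral (MvPolynomial (Fin s) k) (B ⧸ P) := Algebra.IsIntegral.of_finite _ _
  have hinj : Function.Injective (algebraMap (MvPolynomial (Fin s) k) (B ⧸ P)) := hg
  have hex : ∀ n, ∃ f : MvPolynomial (Fin s) k, f ≠ 0 ∧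
      algebraMap (MvPolynomial (Fin s) k) (B ⧸ P) f ∈ (J n).map (Ideal.Quotient.mk P) := by
    intro n
    obtain ⟨b, hbJ, hbP⟩ := SetLike.not_le_iff_exists.mp (hJ n)
    have hx0 : Ideal.Quotient.mk P b ≠ 0 := fun h => hbP (Ideal.Quotient.eq_zero_iff_mem.mp h)
    have hxm : Ideal.Quotient.mk P b ∈ (J n).map (Ideal.Quotient.mk P) :=
      Ideal.mem_map_of_mem _ hbJ
    have hne := Ideal.comap_ne_bot_of_integral_mem (R := MvPolynomial (Fin s) k) hx0 hxm
      (Algebra.IsIntegral.isIntegral _)
    obtain ⟨f, hf, hf0⟩ := Submodule.exists_mem_ne_zero_of_ne_bot hne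
    exact ⟨f, hf0, hf⟩
  choose f hf0 hfmem using hex
  obtain ⟨a, ha⟩ := exists_eval_ne_zero k s f hf0
  have hsurj : Function.Surjective (MvPolynomial.eval a : MvPolynomial (Fin s) k →+* k) :=
    fun c => ⟨MvPolynomial.C c, MvPolynomial.eval_C _⟩
  haveI hmax : (RingHom.ker (MvPolynomial.eval a : MvPolynomial (Fin s) k →+* k)).IsMaximal :=
    RingHom.ker_isMaximal_of_surjective _ hsurj
  obtain ⟨Q, hQmax, hQ⟩ := Ideal.exists_ideal_over_maximal_of_isIntegral
    (S := B ⧸ P) (RingHom.ker (MvPolynomial.eval a : MvPolynomial (Fin s) k →+* k))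
    (by rw [(RingHom.injective_iff_ker_eq_bot _).mp hinj]; exact bot_le)
  refine ⟨Q.comap (Ideal.Quotient.mk P),
    Ideal.comap_isMaximal_of_surjective _ Ideal.Quotient.mk_surjective, ?_, fun n hn => ha n ?_⟩
  · intro b hb
    rw [Ideal.mem_comap, Ideal.Quotient.eq_zero_iff_mem.mpr hb]
    exact Q.zero_mem
  have h1 : (J n).map (Ideal.Quotient.mk P) ≤ Q := Ideal.map_le_iff_le_comap.mpr hn
  have h2 : f n ∈ Q.comap (algebraMap (MvPolynomial (Fin s) k) (B ⧸ P)) := h1 (hfmem n)
  rw [hQ] at h2
  exact h2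

/-- For a finite type algebra `B` over an uncountable field, a prime `P` and countably many ideals
`J n ⊄ P`, there is a maximal ideal of `B` containing no `J n`. -/
theorem core (k B : Type u) [Field k] [Uncountable k] [CommRing B] [Algebra k B]
    [Algebra.FiniteType k B] (P : Ideal B) [P.IsPrime] (J : ℕ → Ideal B)
    (hJ : ∀ n, ¬ J n ≤ P) :
    ∃ M : Ideal B, M.IsMaximal ∧ ∀ n, ¬ J n ≤ M := by
  obtain ⟨M, hM, -, hMJ⟩ := core' k B P J hJ
  exact ⟨M, hM, hMJ⟩

/-- For a finite type algebra `B` over an uncountable field with irreducible spectrum and countably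
many closed subsets of the spectrum different from the whole space, there is a closed point lying in
none of them. -/
theorem core2 (k B : Type u) [Field k] [Uncountable k] [CommRing B] [Algebra k B]
    [Algebra.FiniteType k B] [IrreducibleSpace (PrimeSpectrum B)]
    (Z : ℕ → Set (PrimeSpectrum B)) (hZc : ∀ n, IsClosed (Z n)) (hZ : ∀ n, Z n ≠ Set.univ) :
    ∃ x : PrimeSpectrum B, x.asIdeal.IsMaximal ∧ ∀ n, x ∉ Z n := by
  have hη : ∀ n, genericPoint (PrimeSpectrum B) ∉ Z n := by
    intro n h
    apply hZ n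
    have h1 : closure {genericPoint (PrimeSpectrum B)} ⊆ Z n :=
      (hZc n).closure_subset_iff.mpr (Set.singleton_subset_iff.mpr h)
    rw [(genericPoint_spec (PrimeSpectrum B)).def] at h1
    exact Set.eq_univ_of_univ_subset h1
  obtain ⟨M, hM, hMJ⟩ := core k B (genericPoint (PrimeSpectrum B)).asIdeal
    (fun n => PrimeSpectrum.vanishingIdeal (Z n)) (by
      intro n h
      apply hη n
      rw [← (hZc n).closure_eq, ← PrimeSpectrum.zeroLocus_vanishingIdeal_eq_closure]
      exact h)
  refine ⟨⟨M, hM.isPrime⟩, hM, fun n h => hMJ n ?_⟩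
  intro f hf
  exact (PrimeSpectrum.mem_vanishingIdeal _ _).mp hf _ h

/-- For an irreducible scheme locally of finite type over an uncountable field, countably many
closed subsets different from the whole space and a nonempty affine open `U`, there is a closed
point of `X` lying in `U` and in none of the closed subsets. -/
theorem main (k : Type u) [Field k] [Uncountable k] (X : Scheme.{u})
    (sX : X ⟶ Spec (CommRingCat.of k)) [IrreducibleSpace X] [LocallyOfFiniteType sX]
    (Z : ℕ → TopologicalSpace.Closeds X) (hZ : ∀ n, (Z n : Set X) ≠ Set.univ)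
    (U : X.Opens) (hU : IsAffineOpen U) (hne : (U : Set X).Nonempty) :
    ∃ x : X, x ∈ U ∧ IsClosed ({x} : Set X) ∧ ∀ n, x ∉ Z n := by
  have hrange : Set.range hU.fromSpec = (U : Set X) := hU.range_fromSpec
  have hg : LocallyOfFiniteType (hU.fromSpec ≫ sX) := inferInstance
  have hψ : (Spec.preimage (hU.fromSpec ≫ sX)).hom.FiniteType :=
    (HasRingHomProperty.Spec_iff (P := @LocallyOfFiniteType)).mp
      (by rw [Spec.map_preimage]; exact hg)
  letI : Algebra k Γ(X, U) := (Spec.preimage (hU.fromSpec ≫ sX)).hom.toAlgebra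
  haveI : Algebra.FiniteType k Γ(X, U) := hψ
  haveI : IrreducibleSpace (PrimeSpectrum Γ(X, U)) := by
    have h1 : IsPreirreducible (hU.fromSpec ⁻¹' (Set.univ : Set X)) :=
      (PreirreducibleSpace.isPreirreducible_univ).preimage hU.fromSpec.isOpenEmbedding
    rw [Set.preimage_univ] at h1
    obtain ⟨x, hx⟩ := hne
    rw [← hrange] at hx
    obtain ⟨y, -⟩ := hx
    exact { isPreirreducible_univ := h1, toNonempty := ⟨y⟩ }
  have hdense : Dense (U : Set X) := U.isOpen.dense hne
  obtain ⟨y, hy, hyZ⟩ := core2 k Γ(X, U) (fun n => hU.fromSpec ⁻¹' (Z n : Set X))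
    (fun n => (Z n).isClosed.preimage hU.fromSpec.continuous) (by
      intro n h
      apply hZ n
      have h1 : (U : Set X) ⊆ Z n := by
        rw [← hrange]
        rintro _ ⟨y, rfl⟩
        exact Set.eq_univ_iff_forall.mp h y
      have h2 : closure (U : Set X) ⊆ Z n := (Z n).isClosed.closure_subset_iff.mpr h1
      rw [hdense.closure_eq] at h2
      exact Set.eq_univ_of_univ_subset h2)
  haveI : JacobsonSpace X := LocallyOfFiniteType.jacobsonSpace sX
  refine ⟨hU.fromSpec y, ?_, ?_, fun n h => hyZ n h⟩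
  · have : hU.fromSpec y ∈ Set.range hU.fromSpec := ⟨y, rfl⟩
    rw [hrange] at this
    exact this
  · apply isClosed_singleton_of_isLocallyClosed_singleton
    rw [← Set.image_singleton]
    refine IsLocallyClosed.image ?_ hU.fromSpec.isOpenEmbedding.isInducing
      hU.fromSpec.isOpenEmbedding.isOpen_range.isLocallyClosed
    exact ((PrimeSpectrum.isClosed_singleton_iff_isMaximal y).mpr hy).isLocallyClosed

/-- For a scheme locally of finite type over an uncountable field, an irreducible closed subset `T`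
and countably many closed subsets `W n ⊉ T`, there is a closed point of `X` lying in `T` and in no
`W n`. -/
theorem main' (k : Type u) [Field k] [Uncountable k] (X : Scheme.{u})
    (sX : X ⟶ Spec (CommRingCat.of k)) [LocallyOfFiniteType sX]
    (T : TopologicalSpace.Closeds X) (hT : IsIrreducible (T : Set X))
    (W : ℕ → TopologicalSpace.Closeds X) (hW : ∀ n, ¬ T ≤ W n) :
    ∃ x : X, x ∈ T ∧ IsClosed ({x} : Set X) ∧ ∀ n, x ∉ W n := by
  obtain ⟨x₀, hx₀⟩ := hT.nonempty
  obtain ⟨U, hU, hxU, -⟩ := exists_isAffineOpen_mem_and_subset (U := ⊤) (x := x₀) (by simp)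
  have hrange : Set.range hU.fromSpec = (U : Set X) := hU.range_fromSpec
  have hg : LocallyOfFiniteType (hU.fromSpec ≫ sX) := inferInstance
  have hψ : (Spec.preimage (hU.fromSpec ≫ sX)).hom.FiniteType :=
    (HasRingHomProperty.Spec_iff (P := @LocallyOfFiniteType)).mp
      (by rw [Spec.map_preimage]; exact hg)
  letI : Algebra k Γ(X, U) := (Spec.preimage (hU.fromSpec ≫ sX)).hom.toAlgebra
  haveI : Algebra.FiniteType k Γ(X, U) := hψ
  -- the preimage of `T` in `Spec Γ(X, U)` is irreducible and closed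
  have hT'irr : IsIrreducible (hU.fromSpec ⁻¹' (T : Set X) : Set (PrimeSpectrum Γ(X, U))) := by
    refine ⟨?_, hT.isPreirreducible.preimage hU.fromSpec.isOpenEmbedding⟩
    have : x₀ ∈ Set.range hU.fromSpec := by rw [hrange]; exact hxU
    obtain ⟨y, hy⟩ := this
    exact ⟨y, by show hU.fromSpec y ∈ (T : Set X); rw [hy]; exact hx₀⟩
  have hT'cl : IsClosed (hU.fromSpec ⁻¹' (T : Set X) : Set (PrimeSpectrum Γ(X, U))) :=
    T.isClosed.preimage hU.fromSpec.continuous
  haveI hP : (PrimeSpectrum.vanishingIdeal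
      (hU.fromSpec ⁻¹' (T : Set X) : Set (PrimeSpectrum Γ(X, U)))).IsPrime :=
    PrimeSpectrum.isIrreducible_iff_vanishingIdeal_isPrime.mp hT'irr
  have hTU : (T : Set X) ⊆ closure ((T : Set X) ∩ U) :=
    subset_closure_inter_of_isPreirreducible_of_isOpen hT.isPreirreducible U.isOpen
      ⟨x₀, hx₀, hxU⟩
  obtain ⟨M, hM, hPM, hMJ⟩ := core' k Γ(X, U)
    (PrimeSpectrum.vanishingIdeal (hU.fromSpec ⁻¹' (T : Set X) : Set (PrimeSpectrum Γ(X, U))))
    (fun n => PrimeSpectrum.vanishingIdeal
      (hU.fromSpec ⁻¹' (W n : Set X) : Set (PrimeSpectrum Γ(X, U)))) (by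
      intro n h
      apply hW n
      have h1 : (hU.fromSpec ⁻¹' (T : Set X) : Set (PrimeSpectrum Γ(X, U))) ⊆
          hU.fromSpec ⁻¹' (W n : Set X) := by
        have h2 := PrimeSpectrum.zeroLocus_anti_mono_ideal h
        have hW'cl : IsClosed
            (hU.fromSpec ⁻¹' (W n : Set X) : Set (PrimeSpectrum Γ(X, U))) :=
          (W n).isClosed.preimage hU.fromSpec.continuous
        intro y hy
        have h4 := h2 (PrimeSpectrum.subset_zeroLocus_vanishingIdeal _ hy)
        rw [PrimeSpectrum.zeroLocus_vanishingIdeal_eq_closure, hW'cl.closure_eq] at h4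
        exact h4
      have h3 : (T : Set X) ∩ U ⊆ W n := by
        rintro x ⟨hxT, hxU'⟩
        have : x ∈ Set.range hU.fromSpec := by rw [hrange]; exact hxU'
        obtain ⟨y, rfl⟩ := this
        exact h1 hxT
      exact fun x hx => ((W n).isClosed.closure_subset_iff.mpr h3) (hTU hx))
  haveI : JacobsonSpace X := LocallyOfFiniteType.jacobsonSpace sX
  have hyT : (⟨M, hM.isPrime⟩ : PrimeSpectrum Γ(X, U)) ∈
      (hU.fromSpec ⁻¹' (T : Set X) : Set (PrimeSpectrum Γ(X, U))) := by
    rw [← hT'cl.closure_eq, ← PrimeSpectrum.zeroLocus_vanishingIdeal_eq_closure]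
    exact hPM
  refine ⟨hU.fromSpec (⟨M, hM.isPrime⟩ : PrimeSpectrum Γ(X, U)), hyT, ?_, fun n h => hMJ n ?_⟩
  · apply isClosed_singleton_of_isLocallyClosed_singleton
    rw [← Set.image_singleton]
    refine IsLocallyClosed.image ?_ hU.fromSpec.isOpenEmbedding.isInducing
      hU.fromSpec.isOpenEmbedding.isOpen_range.isLocallyClosed
    exact ((PrimeSpectrum.isClosed_singleton_iff_isMaximal _).mpr hM).isLocallyClosed
  · intro f hf
    exact (PrimeSpectrum.mem_vanishingIdeal _ _).mp hf _ h

/-- In a locally Noetherian scheme, every member of a family of irreducible closed subsets is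
contained in a maximal member of the family. -/
theorem exists_max (X : Scheme.{u}) [IsLocallyNoetherian X]
    (C : Set (TopologicalSpace.Closeds X)) (hC : ∀ T ∈ C, IsIrreducible (T : Set X))
    (T : TopologicalSpace.Closeds X) (hT : T ∈ C) :
    ∃ T' ∈ C, T ≤ T' ∧ ∀ T'' ∈ C, T' ≤ T'' → T'' = T' := by
  obtain ⟨η, hη⟩ := QuasiSober.sober (hC T hT) T.isClosed
  obtain ⟨U, hU, hηU, -⟩ := exists_isAffineOpen_mem_and_subset (U := ⊤) (x := η) (by simp)
  have hrange : Set.range hU.fromSpec = (U : Set X) := hU.range_fromSpec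
  haveI : IsNoetherianRing Γ(X, U) := IsLocallyNoetherian.component_noetherian ⟨U, hU⟩
  let PT : Set (PrimeSpectrum Γ(X, U)) :=
    {y | ∃ T' ∈ C, T ≤ T' ∧ closure {hU.fromSpec y} = (T' : Set X)}
  have hne : PT.Nonempty := by
    have : η ∈ Set.range hU.fromSpec := by rw [hrange]; exact hηU
    obtain ⟨y, hy⟩ := this
    exact ⟨y, T, hT, le_rfl, by rw [hy]; exact hη.def⟩
  obtain ⟨y₀, hy₀, hmin⟩ := (InvImage.wf (fun y : PrimeSpectrum Γ(X, U) => y.asIdeal.height)
    wellFounded_lt).has_min PT hne
  obtain ⟨T₀, hT₀C, hTT₀, hT₀⟩ := hy₀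
  refine ⟨T₀, hT₀C, hTT₀, fun T'' hT''C hle => ?_⟩
  obtain ⟨η'', hη''⟩ := QuasiSober.sober (hC T'' hT''C) T''.isClosed
  have hspec : η'' ⤳ hU.fromSpec y₀ := by
    rw [specializes_iff_mem_closure, hη''.def]
    apply hle
    show hU.fromSpec y₀ ∈ (T₀ : Set X)
    rw [← hT₀]
    exact subset_closure rfl
  have hη''U : η'' ∈ Set.range hU.fromSpec := by
    rw [hrange]
    exact hspec.mem_open U.isOpen (by rw [← hrange]; exact ⟨y₀, rfl⟩)
  obtain ⟨y'', rfl⟩ := hη''U
  have hy''PT : y'' ∈ PT := ⟨T'', hT''C, hTT₀.trans hle, hη''.def⟩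
  have hspec' : y'' ⤳ y₀ := hU.fromSpec.isOpenEmbedding.isInducing.specializes_iff.mp hspec
  have hle' : y''.asIdeal ≤ y₀.asIdeal := (PrimeSpectrum.le_iff_specializes y'' y₀).mpr hspec'
  have heq : y'' = y₀ := by
    by_contra hne'
    have hlt : y''.asIdeal < y₀.asIdeal :=
      lt_of_le_of_ne hle' (fun h => hne' (PrimeSpectrum.ext h))
    exact hmin y'' hy''PT (Ideal.height_strict_mono_of_isPrime hlt)
  apply SetLike.coe_injective
  rw [← hη''.def, heq, hT₀]

end Groth.Agent.Lib.Helper8.UncountableAvoid
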