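import Groth.Agent.Lib.Helper8.UnivOpenAt

/-!
More helper lemmas about `EGA43.IsOpenAt` / `EGA43.IsUnivOpenAt` (helper8): finite closed covers.
-/

set_option autoImplicit false
universe u w

open CategoryTheory CategoryTheory.Limits AlgebraicGeometry

namespace Groth.Agent.Lib.helper8

variable {X Y : Scheme.{u}}

/-- openness at a point descends along a finite jointly surjective family of closed maps. -/
theorem isOpenAt_of_baseChange_finite_closed_cover {ι : Type w} [Finite ι] (T : ι → Scheme.{u})
    (v : ∀ i, T i ⟶ Y)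
    (hv : ∀ i, IsClosedMap (v i).base) (hsurj : ∀ y : Y, ∃ i, ∃ y₁ : T i, (v i).base y₁ = y)
    (f : X ⟶ Y) (x : X)
    (h : ∀ i, ∀ x₁ : ↥(pullback f (v i)), (pullback.fst f (v i)).base x₁ = x →
      EGA43.IsOpenAt (pullback.snd f (v i)).base x₁) :
    EGA43.IsOpenAt f.base x := by
  intro U hU
  have hcomm : ∀ i, ∀ z : ↥(pullback f (v i)), (v i).base ((pullback.snd f (v i)).base z) =
      f.base ((pullback.fst f (v i)).base z) := by
    intro i z
    have := congrArg (fun φ => φ.base z) (pullback.condition (f := f) (g := v i))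
    exact this.symm
  let N : ∀ i, Set (T i) := fun i =>
    (fun z => (pullback.snd f (v i)).base z) '' ((fun z => (pullback.fst f (v i)).base z) ⁻¹' U)
  have hN1 : ∀ i, N i ⊆ (fun y => (v i).base y) ⁻¹' ((fun z => f.base z) '' U) := by
    rintro i _ ⟨z, hz, rfl⟩
    exact ⟨(pullback.fst f (v i)).base z, hz, (hcomm i z).symm⟩
  have hN2 : ∀ i, ∀ y₁ : T i, (v i).base y₁ = f.base x → N i ∈ nhds y₁ := by
    intro i y₁ hy₁
    obtain ⟨x₁, hx₁, hx₁'⟩ :=
      Scheme.Pullback.exists_preimage_pullback (f := f) (g := v i) x y₁ hy₁.symm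
    have hcont : (fun z => (pullback.fst f (v i)).base z) ⁻¹' U ∈ nhds x₁ := by
      apply (pullback.fst f (v i)).continuous.continuousAt
      have : (pullback.fst f (v i)).base x₁ = x := hx₁
      rw [this]; exact hU
    have h3 := h i x₁ hx₁ _ hcont
    have h4 : (pullback.snd f (v i)).base x₁ = y₁ := hx₁'
    rw [h4] at h3
    exact h3
  let W : ∀ i, Set (T i) := fun i => interior (N i)
  have hW : ∀ i, IsOpen (W i) := fun i => isOpen_interior
  have hWsub : ∀ i, ∀ y₁ : T i, (v i).base y₁ = f.base x → y₁ ∈ W i := fun i y₁ hy₁ =>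
    mem_interior_iff_mem_nhds.mpr (hN2 i y₁ hy₁)
  have hC : ∀ i, IsClosed ((fun y => (v i).base y) '' (W i)ᶜ) := fun i => hv i _ (hW i).isClosed_compl
  have hfx : ∀ i, f.base x ∈ ((fun y => (v i).base y) '' (W i)ᶜ)ᶜ := by
    rintro i ⟨y₁, hy₁, hy₁'⟩
    exact hy₁ (hWsub i y₁ hy₁')
  have hO : IsOpen (⋂ i, ((fun y => (v i).base y) '' (W i)ᶜ)ᶜ) :=
    isOpen_iInter_of_finite fun i => (hC i).isOpen_compl
  refine Filter.mem_of_superset (hO.mem_nhds (Set.mem_iInter.mpr hfx)) ?_
  intro y hy
  obtain ⟨i, y₁, rfl⟩ := hsurj y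
  have hy₁W : y₁ ∈ W i := by
    by_contra hnot
    exact (Set.mem_iInter.mp hy i) ⟨y₁, hnot, rfl⟩
  exact hN1 i (interior_subset hy₁W)

/-- If the base change of `f` along `v` is universally open at all points over `x`, then for any
`g : Y' ⟶ Y` the base change of `pullback.snd f g` along `pullback.snd v g` is open at all points
over points over `x`. -/
theorem isOpenAt_snd_snd_of_isUnivOpenAt {Y₁ : Scheme.{u}} (v : Y₁ ⟶ Y) (f : X ⟶ Y) (x : X)
    (h : ∀ x₁ : ↥(pullback f v), (pullback.fst f v).base x₁ = x →
      EGA43.IsUnivOpenAt (pullback.snd f v) x₁)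
    {Y' : Scheme.{u}} (g : Y' ⟶ Y) (x' : ↥(pullback f g)) (hx' : (pullback.fst f g).base x' = x)
    (z : ↥(pullback (pullback.snd f g) (pullback.snd v g)))
    (hz : (pullback.fst (pullback.snd f g) (pullback.snd v g)).base z = x') :
    EGA43.IsOpenAt (pullback.snd (pullback.snd f g) (pullback.snd v g)).base z := by
  let a : pullback (pullback.snd f g) (pullback.snd v g) ⟶ pullback f v :=
    pullback.lift (pullback.fst (pullback.snd f g) (pullback.snd v g) ≫ pullback.fst f g)
      (pullback.snd (pullback.snd f g) (pullback.snd v g) ≫ pullback.fst v g)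
      (by
        rw [Category.assoc, Category.assoc, pullback.condition, pullback.condition,
          ← Category.assoc, ← Category.assoc, pullback.condition])
  have ha1 : a ≫ pullback.fst f v =
      pullback.fst (pullback.snd f g) (pullback.snd v g) ≫ pullback.fst f g := pullback.lift_fst _ _ _
  have ha2 : a ≫ pullback.snd f v =
      pullback.snd (pullback.snd f g) (pullback.snd v g) ≫ pullback.fst v g := pullback.lift_snd _ _ _
  have outer : IsPullback
      (pullback.fst (pullback.snd f g) (pullback.snd v g) ≫ pullback.fst f g)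
      (pullback.snd (pullback.snd f g) (pullback.snd v g)) f (pullback.snd v g ≫ g) :=
    ((IsPullback.of_hasPullback (pullback.snd f g) (pullback.snd v g)).flip.paste_vert
      (IsPullback.of_hasPullback f g).flip).flip
  have hvg : pullback.snd v g ≫ g = pullback.fst v g ≫ v := pullback.condition.symm
  rw [hvg, ← ha1] at outer
  have sq : IsPullback a (pullback.snd (pullback.snd f g) (pullback.snd v g))
      (pullback.snd f v) (pullback.fst v g) :=
    IsPullback.of_right outer ha2 (IsPullback.of_hasPullback f v)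
  have hax : (pullback.fst f v).base (a.base z) = x := by
    have : (pullback.fst f v).base (a.base z) = (a ≫ pullback.fst f v).base z := rfl
    rw [this, ha1]
    change (pullback.fst f g).base ((pullback.fst (pullback.snd f g) (pullback.snd v g)).base z) = x
    rw [hz, hx']
  exact isOpenAt_snd_of_isPullback (h (a.base z) hax) sq z rfl

end Groth.Agent.Lib.helper8
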